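import Groth.Agent.BruhatLib.Cover

/-!
# Section points over geometric points
-/

set_option autoImplicit false
set_option linter.style.haveILetI false
set_option linter.unusedSectionVars false
set_option backward.isDefEq.respectTransparency false
set_option maxHeartbeats 1000000
set_option synthInstance.maxHeartbeats 400000

universe u

open CategoryTheory CategoryTheory.Limits MonoidalCategory CartesianMonoidalCategory AlgebraicGeometry
open Groth.Agent.GaPts
open Groth.Agent
open scoped MonObj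

noncomputable section

attribute [-instance] CategoryTheory.Hom.commGroup

namespace Bruhat

open SplitCell SplitFib RootSubgrp

variable {S : Scheme.{u}} {G : Over S} [GrpObj G] (D : Red.SplitRed G) {K : Type u} [Field K] [IsAlgClosed K]
  (ξ : Spec (CommRingCat.of K) ⟶ S)

theorem exists_el_of_section (k : D.idx) (x : 𝟙_ (Over S) ⟶ Red.Ga S) :
    ∃ r : K, (toUnit (aP ξ K) ≫ x ≫ D.u k) = el ξ (D.u k) r ∧ (IsUnit (Red.gaFn x) → r ≠ 0) := by
  obtain ⟨r, hr⟩ := ga_cases ξ (toUnit (aP ξ K) ≫ x)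
  refine ⟨r, by rw [← Category.assoc, hr]; rfl, fun hu h0 => ?_⟩
  have h1 := congrArg Red.gaFn hr
  rw [gaFn_comp, gaFn_ptOf, h0, map_zero] at h1
  haveI : Nontrivial Γ((aP ξ K).left, ⊤) := inferInstanceAs (Nontrivial Γ(Spec (CommRingCat.of K), ⊤))
  exact (hu.map (toUnit (aP ξ K)).left.appTop.hom).ne_zero h1

variable {D} (σ : Sides D.P) {n m : ℕ} {eneg : Fin n → D.idx} {epos : Fin m → D.idx}

/-- Membership in a translate of the big cell. -/
theorem mem_range_translate (hneg : RedSub.Enumerates σ.neg eneg) (hpos : RedSub.Enumerates σ.pos epos)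
    {g : aP ξ K ⟶ G} {x : G.left} (hg : ∀ z, g.left z = x) (w : 𝟙_ (Over S) ⟶ G)
    (h : (toUnit (aP ξ K) ≫ w)⁻¹ * g ∈ Omega D σ (aP ξ K)) :
    x ∈ Set.range ((toUnit _ ≫ w) * RedSub.cellMap D eneg epos).left.base := by
  obtain ⟨q, hq⟩ := exists_cell_pt hneg hpos h
  refine mem_range_of_geom ξ _ hg q ?_
  rw [MonObj.comp_mul, hq, ← Category.assoc, Subsingleton.elim (q ≫ toUnit _) (toUnit (aP ξ K)), mul_inv_cancel_left]

theorem mem_range_cell (hneg : RedSub.Enumerates σ.neg eneg) (hpos : RedSub.Enumerates σ.pos epos)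
    {g : aP ξ K ⟶ G} {x : G.left} (hg : ∀ z, g.left z = x) (h : g ∈ Omega D σ (aP ξ K)) :
    x ∈ Set.range (RedSub.cellMap D eneg epos).left.base := by
  obtain ⟨q, hq⟩ := exists_cell_pt hneg hpos h
  exact mem_range_of_geom ξ _ hg q hq

end Bruhat

end
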