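import Groth.Agent.BruhatLib.Plane

/-!
# Pairs of pinned simple roots of type B₂
-/

set_option autoImplicit false
set_option linter.style.haveILetI false
set_option linter.unusedSectionVars false
set_option backward.isDefEq.respectTransparency false
set_option maxHeartbeats 1000000
set_option synthInstance.maxHeartbeats 400000

universe u

open CategoryTheory CategoryTheory.Limits MonoidalCategory CartesianMonoidalCategory AlgebraicGeometry
open Groth.Agent.GaPts
open Groth.Agent
open Groth.Agent.RankOne (eq_ptOf eq_ptOfUnit comp_ptOf ptOf_add)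
open scoped MonObj

noncomputable section

attribute [-instance] CategoryTheory.Hom.commGroup

namespace Bruhat

open SplitCell SplitFib RootSubgrp

variable {S : Scheme.{u}} {G : Over S} [GrpObj G]

/-- A pair of pinned simple roots of type B₂, the first one short. -/
structure PairB2 (D : Red.SplitRed G) (b : D.P.Base) (p q : D.idx) (avp avq : Red.Gm S ⟶ D.T)
    (wp wq : 𝟙_ (Over S) ⟶ G) : Prop where
  base : SimplePair D b p q
  hpq : D.P.pairing p q = -1
  hqp : D.P.pairing q p = -2
  P : Pin D p avp wp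
  Q : Pin D q avq wq

/-- Pairwise commuting factors are rearranged. -/
theorem rearr {H : Type*} [Group H] {Y U R V K T : H} (h1 : Commute U R) (h2 : Commute K T) (h3 : Commute V T)
    (h4 : Commute V K) (h5 : Commute U T) : Y * (U * R) * (V * K * T) = (Y * R * T) * (U * K) * V := by
  calc Y * (U * R) * (V * K * T) = Y * (R * U) * (V * K * T) := by rw [h1.eq]
    _ = Y * R * U * (K * V * T) := by rw [h4.eq]; group
    _ = Y * R * (U * K) * (T * V) := by rw [← h3.eq]; group
    _ = Y * R * ((U * K) * T) * V := by group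
    _ = (Y * R * T) * (U * K) * V := by rw [(h5.mul_left h2).eq]; group

section Calc

variable [Nonempty S] {D : Red.SplitRed G} {b : D.P.Base} {p q : D.idx} {avp avq : Red.Gm S ⟶ D.T}
  {wp wq : 𝟙_ (Over S) ⟶ G}

variable (h : PairB2 D b p q avp avq wp wq)
include h

theorem PairB2.comb_ab : IsComb D p q (D.P.reflectionPerm q p) 1 1 := by
  have := h.base.refl_B2_right h.hpq h.hqp (isComb_left (D := D) (p := p) (q := q))
  simpa using this

theorem PairB2.comb_aab : IsComb D p q (D.P.reflectionPerm p q) 2 1 := by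
  have := h.base.refl_B2_left h.hpq h.hqp (isComb_right (D := D) (p := p) (q := q))
  simpa using this

theorem PairB2.no {c : D.idx} {i j : ℤ} (e : IsComb D p q c i j) :
    ((i = 1 ∨ i = -1) ∧ j = 0) ∨ (i = 0 ∧ (j = 1 ∨ j = -1)) ∨ (i = 1 ∧ j = 1) ∨ (i = 2 ∧ j = 1) ∨
      (i = -1 ∧ j = -1) ∨ (i = -2 ∧ j = -1) :=
  h.base.not_root_B2 h.hpq h.hqp e

theorem PairB2.comm {d e : D.idx} {i j k l : ℤ} (hd : IsComb D p q d i j) (he : IsComb D p q e k l)
    (hno : (i + k = 3 ∧ j + l = 1) ∨ (i + k = 1 ∧ j + l = 2) ∨ (i + k = 2 ∧ j + l = 2) ∨ (i + k = 3 ∧ j + l = 2) ∨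
      (i + k = 1 ∧ j + l = -1) ∨ (i + k = -1 ∧ j + l = 1) ∨ (i + k = 2 ∧ j + l = 0) ∨ (i + k = -2 ∧ j + l = 0))
    {X : Over S} (r s : Γ(X.left, ⊤)) : Commute (ep D d r) (ep D e s) :=
  h.base.commute hd he (by omega) (fun c ec => by have := h.no ec; omega) _ _

/-- Three root elements of the plane on one side determine their coordinates. -/
theorem PairB2.inj3 {d : D.idx} {i j : ℤ} (hd : IsComb D p q d i j) (hi : 0 ≤ i) (hj : 0 ≤ j)
    (hd1 : ¬ (i = 1 ∧ j = 1)) (hd2 : ¬ (i = 2 ∧ j = 1)) {X : Over S} {r s t r' s' t' : Γ(X.left, ⊤)}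
    (e : ep D d r * ep D (D.P.reflectionPerm q p) s * ep D (D.P.reflectionPerm p q) t =
      ep D d r' * ep D (D.P.reflectionPerm q p) s' * ep D (D.P.reflectionPerm p q) t') :
    r = r' ∧ s = s' ∧ t = t' := by
  have hinj : Function.Injective ![d, D.P.reflectionPerm q p, D.P.reflectionPerm p q] := by
    intro u v huv
    fin_cases u <;> fin_cases v <;> simp only [Fin.zero_eta, Fin.mk_one, Fin.reduceFinMk, Matrix.cons_val_zero,
      Matrix.cons_val_one, Matrix.cons_val] at huv ⊢
    · exact absurd (h.base.comb_ext (huv ▸ hd) h.comb_ab) hd1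
    · exact absurd (h.base.comb_ext (huv ▸ hd) h.comb_aab) hd2
    · exact absurd (h.base.comb_ext (huv.symm ▸ hd) h.comb_ab) hd1
    · exact absurd (h.base.comb_ext (huv ▸ h.comb_ab) h.comb_aab).1 (by norm_num)
    · exact absurd (h.base.comb_ext (huv.symm ▸ hd) h.comb_aab) hd2
    · exact absurd (h.base.comb_ext (huv ▸ h.comb_aab) h.comb_ab).1 (by norm_num)
  have hmem : ∀ k, ![d, D.P.reflectionPerm q p, D.P.reflectionPerm p q] k ∈ (sidesOfBase D.P b).pos := by
    intro k
    fin_cases k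
    · exact h.base.mem_pos hd hi hj
    · exact h.base.mem_pos h.comb_ab (by norm_num) (by norm_num)
    · exact h.base.mem_pos h.comb_aab (by norm_num) (by norm_num)
  have hz := prod_injective D (sidesOfBase D.P b) hinj hmem (z := ![ptOf r, ptOf s, ptOf t])
    (z' := ![ptOf r', ptOf s', ptOf t']) (by simpa [List.ofFn_succ, _root_.mul_assoc] using e)
  have e0 := congrArg Red.gaFn (congrFun hz 0)
  have e1 := congrArg Red.gaFn (congrFun hz 1)
  have e2 := congrArg Red.gaFn (congrFun hz 2)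
  simp only [Matrix.cons_val_zero, Matrix.cons_val_one, Matrix.cons_val, gaFn_ptOf] at e0 e1 e2
  exact ⟨e0, e1, e2⟩

/-- The elementary commutation formulas of the plane. -/
structure RelB2 (D : Red.SplitRed G) (p q : D.idx) (A B C k : Γ(S, ⊤)) : Prop where
  r1 : ∀ (X : Over S) (x y : Γ(X.left, ⊤)), ep D q y * ep D p x = ep D p x * ep D q y *
    ep D (D.P.reflectionPerm q p) (X.hom.appTop A * x * y) *
    ep D (D.P.reflectionPerm p q) (X.hom.appTop B * x ^ 2 * y)
  r2 : ∀ (X : Over S) (x z : Γ(X.left, ⊤)), ep D (D.P.reflectionPerm q p) z * ep D p x =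
    ep D p x * ep D (D.P.reflectionPerm q p) z * ep D (D.P.reflectionPerm p q) (X.hom.appTop C * x * z)
  r3 : ∀ (X : Over S) (v z : Γ(X.left, ⊤)), ∃ r : Γ(X.left, ⊤),
    ep D (D.P.reflectionPerm p p) v * ep D (D.P.reflectionPerm q p) z * (ep D (D.P.reflectionPerm p p) v)⁻¹ =
      ep D (D.P.reflectionPerm q p) z * ep D q r
  r4 : ∀ (X : Over S) (v t : Γ(X.left, ⊤)), ∃ r : Γ(X.left, ⊤),
    ep D (D.P.reflectionPerm p p) v * ep D (D.P.reflectionPerm p q) t * (ep D (D.P.reflectionPerm p p) v)⁻¹ =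
      ep D (D.P.reflectionPerm p q) t * ep D (D.P.reflectionPerm q p) (X.hom.appTop k * v * t) * ep D q r
  r5 : ∀ (X : Over S) (v z : Γ(X.left, ⊤)), ∃ r s : Γ(X.left, ⊤),
    ep D (D.P.reflectionPerm q q) v * ep D (D.P.reflectionPerm q p) z * (ep D (D.P.reflectionPerm q q) v)⁻¹ =
      ep D (D.P.reflectionPerm q p) z * ep D p r * ep D (D.P.reflectionPerm p q) s

theorem PairB2.exists_rel : ∃ A B C k : Γ(S, ⊤), RelB2 D p q A B C k := by
  have cp : IsComb D p q p 1 0 := isComb_left
  have cq : IsComb D p q q 0 1 := isComb_right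
  have hab := h.comb_ab
  have haab := h.comb_aab
  set ab := D.P.reflectionPerm q p
  set aab := D.P.reflectionPerm p q
  have hne : ab ≠ aab := fun e => absurd (h.base.comb_ext (e ▸ hab) haab).1 (by norm_num)
  obtain ⟨σ1, hq1, hp1⟩ := h.base.exists_sides cq cp (by norm_num)
  obtain ⟨C1, hC1, -⟩ := existsUnique_coefficients D σ1 hq1 hp1 ![ab, aab] ![1, 1] ![1, 2]
    (by
      intro u v e
      fin_cases u <;> fin_cases v <;> simp at e ⊢
      · exact hne e
      · exact hne e.symm)
    (fun k => by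
      fin_cases k <;> refine ⟨by simp, by simp, ?_⟩ <;>
        simp only [Fin.zero_eta, Fin.mk_one, Matrix.cons_val_zero, Matrix.cons_val_one, Nat.cast_one, Nat.cast_ofNat]
      · rw [hab]; module
      · rw [haab]; module)
    fun c m n hm hn hc => by
      have e : IsComb D p q c n m := by rw [IsComb, hc]; module
      have := h.no e
      rcases (show (n = 1 ∧ m = 1) ∨ (n = 2 ∧ m = 1) by omega) with ⟨rfl, rfl⟩ | ⟨rfl, rfl⟩
      · exact ⟨0, D.P.root.injective (by rw [Matrix.cons_val_zero, hab, hc]; module)⟩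
      · exact ⟨1, D.P.root.injective (by rw [Matrix.cons_val_one, Matrix.cons_val_zero, haab, hc]; module)⟩
  obtain ⟨σ2, hab2, hp2⟩ := h.base.exists_sides hab cp (by norm_num)
  obtain ⟨C2, hC2, -⟩ := existsUnique_coefficients D σ2 hab2 hp2 ![aab] (fun _ => 1) (fun _ => 1)
    (Function.injective_of_subsingleton _)
    (fun k => by
      fin_cases k
      refine ⟨le_rfl, le_rfl, ?_⟩
      simp only [Fin.zero_eta, Matrix.cons_val_zero, Nat.cast_one]
      rw [haab, hab]; module)
    fun c m n hm hn hc => by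
      have e : IsComb D p q c (m + n) m := by rw [IsComb, hc, hab]; module
      have := h.no e
      obtain ⟨rfl, rfl⟩ : m = 1 ∧ n = 1 := by omega
      exact ⟨0, D.P.root.injective (by rw [Matrix.cons_val_zero, haab, hc, hab]; module)⟩
  obtain ⟨σ3, hp3, hab3⟩ := h.base.exists_sides cp.neg hab (by norm_num)
  obtain ⟨C3, hC3, -⟩ := existsUnique_coefficients D σ3 hp3 hab3 ![q] (fun _ => 1) (fun _ => 1)
    (Function.injective_of_subsingleton _)
    (fun k => by
      fin_cases k
      refine ⟨le_rfl, le_rfl, ?_⟩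
      simp only [Fin.zero_eta, Matrix.cons_val_zero, Nat.cast_one]
      rw [root_neg, hab]; module)
    fun c m n hm hn hc => by
      have e : IsComb D p q c ((n : ℤ) - m) n := by rw [IsComb, hc, hab, root_neg]; module
      have := h.no e
      obtain ⟨rfl, rfl⟩ : m = 1 ∧ n = 1 := by omega
      exact ⟨0, D.P.root.injective (by rw [Matrix.cons_val_zero, hc, hab, root_neg]; module)⟩
  obtain ⟨σ4, hp4, haab4⟩ := h.base.exists_sides cp.neg haab (by norm_num)
  have hnq : ab ≠ q := fun e => absurd (h.base.comb_ext (e ▸ hab) cq).1 (by norm_num)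
  obtain ⟨C4, hC4, -⟩ := existsUnique_coefficients D σ4 hp4 haab4 ![ab, q] ![1, 2] ![1, 1]
    (by
      intro u v e
      fin_cases u <;> fin_cases v <;> simp at e ⊢
      · exact hnq e
      · exact hnq e.symm)
    (fun k => by
      fin_cases k <;> refine ⟨by simp, by simp, ?_⟩ <;>
        simp only [Fin.zero_eta, Fin.mk_one, Matrix.cons_val_zero, Matrix.cons_val_one, Nat.cast_one, Nat.cast_ofNat]
      · rw [root_neg, hab, haab]; module
      · rw [root_neg, haab]; module)
    fun c m n hm hn hc => by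
      have e : IsComb D p q c (2 * (n : ℤ) - m) n := by rw [IsComb, hc, haab, root_neg]; module
      have := h.no e
      rcases (show (n = 1 ∧ m = 1) ∨ (n = 1 ∧ m = 2) by omega) with ⟨rfl, rfl⟩ | ⟨rfl, rfl⟩
      · exact ⟨0, D.P.root.injective (by rw [Matrix.cons_val_zero, hab, hc, haab, root_neg]; module)⟩
      · exact ⟨1, D.P.root.injective (by rw [Matrix.cons_val_one, Matrix.cons_val_zero, hc, haab, root_neg]; module)⟩
  obtain ⟨σ5, hq5, hab5⟩ := h.base.exists_sides cq.neg hab (by norm_num)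
  have hnp : p ≠ aab := fun e => absurd (h.base.comb_ext cp (e.symm ▸ haab)).1 (by norm_num)
  obtain ⟨C5, hC5, -⟩ := existsUnique_coefficients D σ5 hq5 hab5 ![p, aab] ![1, 1] ![1, 2]
    (by
      intro u v e
      fin_cases u <;> fin_cases v <;> simp at e ⊢
      · exact hnp e
      · exact hnp e.symm)
    (fun k => by
      fin_cases k <;> refine ⟨by simp, by simp, ?_⟩ <;>
        simp only [Fin.zero_eta, Fin.mk_one, Matrix.cons_val_zero, Matrix.cons_val_one, Nat.cast_one, Nat.cast_ofNat]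
      · rw [root_neg, hab]; module
      · rw [root_neg, hab, haab]; module)
    fun c m n hm hn hc => by
      have e : IsComb D p q c n ((n : ℤ) - m) := by rw [IsComb, hc, hab, root_neg]; module
      have := h.no e
      rcases (show (n = 1 ∧ m = 1) ∨ (n = 2 ∧ m = 1) by omega) with ⟨rfl, rfl⟩ | ⟨rfl, rfl⟩
      · exact ⟨0, D.P.root.injective (by rw [Matrix.cons_val_zero, hc, hab, root_neg]; module)⟩
      · exact ⟨1, D.P.root.injective (by rw [Matrix.cons_val_one, Matrix.cons_val_zero, haab, hc, hab, root_neg]; module)⟩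
  refine ⟨C1 0, C1 1, C2 0, C4 0, ⟨fun X x y => ?_, fun X x z => ?_, fun X v z => ?_, fun X v t => ?_, fun X v z => ?_⟩⟩
  · have e := hC1 X (ptOf y) (ptOf x) ![ptOf (X.hom.appTop (C1 0) * y * x), ptOf (X.hom.appTop (C1 1) * y * x ^ 2)]
      fun k => by fin_cases k <;> simp [gaFn_ptOf]
    simp only [List.ofFn_succ, List.ofFn_zero, List.prod_cons, List.prod_nil, _root_.mul_one, gcm, Matrix.cons_val_zero,
      Matrix.cons_val_succ] at e
    change _ = ep D ab _ * ep D aab _ at e
    rw [show X.hom.appTop (C1 0) * x * y = X.hom.appTop (C1 0) * y * x by ring,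
      show X.hom.appTop (C1 1) * x ^ 2 * y = X.hom.appTop (C1 1) * y * x ^ 2 by ring]
    set U := ep D ab (X.hom.appTop (C1 0) * y * x) * ep D aab (X.hom.appTop (C1 1) * y * x ^ 2) with hU
    have c1 : Commute (ep D q y) U := (h.comm cq hab (by omega) _ _).mul_right (h.comm cq haab (by omega) _ _)
    rw [_root_.mul_assoc (ep D p x * ep D q y), ← hU, _root_.mul_assoc (ep D p x), c1.eq, ← e]
    simp only [ep]
    group
  · have e := hC2 X (ptOf z) (ptOf x) (fun _ => ptOf (X.hom.appTop (C2 0) * x * z))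
      fun k => by fin_cases k; simp [gaFn_ptOf]; ring
    simp only [List.ofFn_succ, List.ofFn_zero, List.prod_cons, List.prod_nil, _root_.mul_one, gcm, Matrix.cons_val_zero] at e
    change _ = ep D aab _ at e
    rw [_root_.mul_assoc (ep D p x), (h.comm hab haab (by omega) _ _).eq, ← e]
    simp only [ep, ab]
    group
  · have e := hC3 X (ptOf v) (ptOf z) (fun _ => ptOf (X.hom.appTop (C3 0) * v * z))
      fun k => by fin_cases k; simp [gaFn_ptOf]
    simp only [List.ofFn_succ, List.ofFn_zero, List.prod_cons, List.prod_nil, _root_.mul_one, gcm, Matrix.cons_val_zero] at e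
    refine ⟨X.hom.appTop (C3 0) * v * z, ?_⟩
    simp only [ep, ab] at e ⊢
    rw [← e]
    group
  · have e := hC4 X (ptOf v) (ptOf t) ![ptOf (X.hom.appTop (C4 0) * v * t), ptOf (X.hom.appTop (C4 1) * v ^ 2 * t)]
      fun k => by fin_cases k <;> simp [gaFn_ptOf]
    simp only [List.ofFn_succ, List.ofFn_zero, List.prod_cons, List.prod_nil, _root_.mul_one, gcm, Matrix.cons_val_zero,
      Matrix.cons_val_succ] at e
    refine ⟨X.hom.appTop (C4 1) * v ^ 2 * t, ?_⟩
    simp only [ep]
    rw [_root_.mul_assoc (ptOf t ≫ D.u aab), ← e]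
    simp only [aab]
    group
  · have e := hC5 X (ptOf v) (ptOf z) ![ptOf (X.hom.appTop (C5 0) * v * z), ptOf (X.hom.appTop (C5 1) * v * z ^ 2)]
      fun k => by fin_cases k <;> simp [gaFn_ptOf]
    simp only [List.ofFn_succ, List.ofFn_zero, List.prod_cons, List.prod_nil, _root_.mul_one, gcm, Matrix.cons_val_zero,
      Matrix.cons_val_succ] at e
    refine ⟨X.hom.appTop (C5 0) * v * z, X.hom.appTop (C5 1) * v * z ^ 2, ?_⟩
    simp only [ep]
    rw [_root_.mul_assoc (ptOf z ≫ D.u ab), ← e]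
    simp only [ab]
    group

variable {A B C k : Γ(S, ⊤)} (hR : RelB2 D p q A B C k)
include hR

omit h in
/-- The relation between the coefficients. -/
theorem RelB2.two_mul (hh : PairB2 D b p q avp avq wp wq) (X : Over S) :
    X.hom.appTop C * X.hom.appTop A = 2 * X.hom.appTop B := by
  set α := X.hom.appTop A with hα
  set β := X.hom.appTop B with hβ
  set c := X.hom.appTop C with hc
  set x := ep D p (1 : Γ(X.left, ⊤)) with hx
  set y := ep D q (1 : Γ(X.left, ⊤)) with hy
  set U : Γ(X.left, ⊤) → (X ⟶ G) := fun r => ep D (D.P.reflectionPerm q p) r with hU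
  set V : Γ(X.left, ⊤) → (X ⟶ G) := fun r => ep D (D.P.reflectionPerm p q) r with hV
  have h1 : y * x = x * y * U α * V β := by
    have e := hR.r1 X 1 1
    simp only [_root_.mul_one, one_pow] at e
    exact e
  have h2 : U α * x = x * U α * V (c * α) := by
    have e := hR.r2 X 1 α
    simp only [_root_.mul_one] at e
    exact e
  have c1 : Commute (V β) x := hh.comm hh.comb_aab isComb_left (by omega) _ _
  have c2 : Commute (V β) (U α) := hh.comm hh.comb_aab hh.comb_ab (by omega) _ _
  have e : y * (x * x) = x * x * y * U (α + α) * V (β + (c * α + β)) := by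
    calc y * (x * x) = (y * x) * x := by group
      _ = x * y * U α * (V β * x) := by rw [h1]; group
      _ = x * y * (U α * x) * V β := by rw [c1.eq]; group
      _ = x * (y * x) * U α * V (c * α) * V β := by rw [h2]; group
      _ = x * x * y * U α * (V β * U α) * (V (c * α) * V β) := by rw [h1]; group
      _ = x * x * y * (U α * U α) * (V β * (V (c * α) * V β)) := by rw [c2.eq]; group
      _ = x * x * y * U (α + α) * V (β + (c * α + β)) := by simp only [U, V, ep_add]
  have e0 : y * (x * x) = x * x * y * U (α * (1 + 1)) * V (β * (1 + 1) ^ 2) := by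
    have e' := hR.r1 X (1 + 1) 1
    simp only [_root_.mul_one] at e'
    rwa [ep_add p] at e'
  rw [e0, _root_.mul_assoc _ (U (α + α)), _root_.mul_assoc _ (U (α * (1 + 1)))] at e
  have e' := congrArg (fun f => ep D p (0 : Γ(X.left, ⊤)) * f) (mul_left_cancel e)
  simp only [U, V, ← _root_.mul_assoc] at e'
  have := (hh.inj3 (d := p) isComb_left (by norm_num) le_rfl (by norm_num) (by norm_num) e').2.2
  linear_combination -this

omit h in
/-- Conjugation of the short root group by the long root element. -/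
theorem RelB2.conj_long (hh : PairB2 D b p q avp avq wp wq) {X : Over S} (r : Γ(X.left, ⊤)) :
    ep D q 1 * ep D p r * (ep D q (1 : Γ(X.left, ⊤)))⁻¹ = ep D p r *
      ep D (D.P.reflectionPerm q p) (X.hom.appTop A * r) * ep D (D.P.reflectionPerm p q) (X.hom.appTop B * r ^ 2) := by
  set Q := ep D q (1 : Γ(X.left, ⊤))
  set U := ep D (D.P.reflectionPerm q p) (X.hom.appTop A * r)
  set V := ep D (D.P.reflectionPerm p q) (X.hom.appTop B * r ^ 2)
  have c : Commute Q (U * V) := (hh.comm isComb_right hh.comb_ab (by omega) _ _).mul_right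
    (hh.comm isComb_right hh.comb_aab (by omega) _ _)
  have e : Q * ep D p r = ep D p r * Q * U * V := by
    have e' := hR.r1 X r 1
    simp only [_root_.mul_one] at e'
    exact e'
  calc Q * ep D p r * Q⁻¹ = ep D p r * (Q * (U * V)) * Q⁻¹ := by rw [e]; group
    _ = ep D p r * U * V := by rw [c.eq]; group

omit h in
/-- Conjugation of the middle root group by the short root element. -/
theorem RelB2.conj_short_mid (hh : PairB2 D b p q avp avq wp wq) {X : Over S} (z : Γ(X.left, ⊤)) :
    ep D p 1 * ep D (D.P.reflectionPerm q p) z * (ep D p (1 : Γ(X.left, ⊤)))⁻¹ =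
      ep D (D.P.reflectionPerm q p) z * ep D (D.P.reflectionPerm p q) (-(X.hom.appTop C * z)) := by
  set P := ep D p (1 : Γ(X.left, ⊤))
  set U := ep D (D.P.reflectionPerm q p) z
  set V := ep D (D.P.reflectionPerm p q) (X.hom.appTop C * z) with hV
  have c : Commute P V := hh.comm isComb_left hh.comb_aab (by omega) _ _
  have e : U * P = P * U * V := by
    have e' := hR.r2 X 1 z
    simp only [_root_.mul_one] at e'
    exact e'
  rw [ep_neg, ← hV]
  calc P * U * P⁻¹ = (P * U * V) * (V * P)⁻¹ := by rw [← c.eq]; group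
    _ = U * V⁻¹ := by rw [← e]; group

omit h in
/-- Conjugation of the long root group by the short root element. -/
theorem RelB2.conj_short (hh : PairB2 D b p q avp avq wp wq) {X : Over S} (r : Γ(X.left, ⊤)) :
    ep D p 1 * ep D q r * (ep D p (1 : Γ(X.left, ⊤)))⁻¹ = ep D q r *
      ep D (D.P.reflectionPerm q p) (-(X.hom.appTop A * r)) * ep D (D.P.reflectionPerm p q) (X.hom.appTop B * r) := by
  set P := ep D p (1 : Γ(X.left, ⊤))
  set Y := ep D q r
  set U := ep D (D.P.reflectionPerm q p) (X.hom.appTop A * r) with hU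
  set V := ep D (D.P.reflectionPerm p q) (X.hom.appTop B * r) with hV
  have c : Commute P V := hh.comm isComb_left hh.comb_aab (by omega) _ _
  have e : Y * P = P * Y * U * V := by
    have e' := hR.r1 X 1 r
    simp only [_root_.mul_one, one_pow] at e'
    exact e'
  have hm := hR.conj_short_mid hh (X := X) (-(X.hom.appTop A * r))
  rw [show -(X.hom.appTop C * -(X.hom.appTop A * r)) = X.hom.appTop B * r + X.hom.appTop B * r by
    linear_combination r * hR.two_mul hh X, ep_add, ← hV] at hm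
  have cUV : Commute (ep D (D.P.reflectionPerm q p) (-(X.hom.appTop A * r))) V :=
    hh.comm hh.comb_ab hh.comb_aab (by omega) _ _
  calc P * Y * P⁻¹ = (P * Y * U * V) * (V⁻¹ * U⁻¹) * P⁻¹ := by group
    _ = Y * (P * (V⁻¹ * U⁻¹) * P⁻¹) := by rw [← e]; group
    _ = Y * ((P * V⁻¹ * P⁻¹) * (P * ep D (D.P.reflectionPerm q p) (-(X.hom.appTop A * r)) * P⁻¹)) := by
      rw [ep_neg, ← hU]; group
    _ = Y * (V⁻¹ * ep D (D.P.reflectionPerm q p) (-(X.hom.appTop A * r)) * (V * V)) := by
      rw [c.inv_right.eq, hm]; group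
    _ = Y * ep D (D.P.reflectionPerm q p) (-(X.hom.appTop A * r)) * V := by
      rw [cUV.inv_right.symm.eq]; group

/-- The image of the short root group under the long Weyl element. -/
theorem PairB2.conj_q {X : Over S} (x : Γ(X.left, ⊤)) :
    (toUnit X ≫ wq) * ep D p x * (toUnit X ≫ wq)⁻¹ = ep D (D.P.reflectionPerm q p) (X.hom.appTop A * x) := by
  obtain ⟨z', hz'⟩ := h.Q.isRefl.conj_u p (ptOf x) (X := X)
  rw [ep_of _ z'] at hz'
  set Q := ep D q (1 : Γ(X.left, ⊤)) with hQ
  set N := ep D (D.P.reflectionPerm q q) (-1 : Γ(X.left, ⊤)) with hN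
  set U : Γ(X.left, ⊤) → (X ⟶ G) := fun r => ep D (D.P.reflectionPerm q p) r with hU
  set V : Γ(X.left, ⊤) → (X ⟶ G) := fun r => ep D (D.P.reflectionPerm p q) r with hV
  have hw : toUnit X ≫ wq = Q * N * Q := by
    refine (congrArg (toUnit X ≫ ·) h.Q.hw).trans ?_
    simp only [Q, N, ep_neg, ep, MonObj.comp_mul, GrpObj.comp_inv, ← Category.assoc, comp_ptOf, map_one]
  set a := X.hom.appTop A * x with ha
  set β := X.hom.appTop B
  have cNp : Commute N (ep D p x) := h.comm isComb_right.neg isComb_left (by omega) _ _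
  have cNV : Commute N (V (β * x ^ 2)) := h.comm isComb_right.neg h.comb_aab (by omega) _ _
  have cQU : Commute Q (U a) := h.comm isComb_right h.comb_ab (by omega) _ _
  obtain ⟨r, s, hr⟩ := hR.r5 X (-1) a
  set t := X.hom.appTop C * r * a + s + β * x ^ 2 with ht
  have cQV : Commute Q (V t) := h.comm isComb_right h.comb_aab (by omega) _ _
  have s1 : Q * ep D p x * Q⁻¹ = ep D p x * U a * V (β * x ^ 2) := hR.conj_long h x
  have s2 : N * (Q * ep D p x * Q⁻¹) * N⁻¹ = ep D p (x + r) * U a * V t := by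
    calc N * (Q * ep D p x * Q⁻¹) * N⁻¹
        = (N * ep D p x * N⁻¹) * (N * U a * N⁻¹) * (N * V (β * x ^ 2) * N⁻¹) := by rw [s1]; group
      _ = ep D p x * (U a * ep D p r * V s) * V (β * x ^ 2) := by
        rw [cNp.eq, cNV.eq, mul_inv_cancel_right, mul_inv_cancel_right, hr]
      _ = ep D p x * (U a * ep D p r) * (V s * V (β * x ^ 2)) := by group
      _ = ep D p (x + r) * U a * V t := by
        rw [hR.r2 X r a, ht]; simp only [U, V, ep_add]; group
  have cUV : Commute (V (β * (x + r) ^ 2)) (U a) := h.comm h.comb_aab h.comb_ab (by omega) _ _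
  have tot : ep D p (x + r) * U (X.hom.appTop A * (x + r) + a) * V (β * (x + r) ^ 2 + t) =
      ep D p 0 * U (Red.gaFn z') * V 0 := by
    calc ep D p (x + r) * U (X.hom.appTop A * (x + r) + a) * V (β * (x + r) ^ 2 + t)
        = ep D p (x + r) * U (X.hom.appTop A * (x + r)) * (U a * V (β * (x + r) ^ 2)) * V t := by
          simp only [U, V, ep_add]; group
      _ = (ep D p (x + r) * U (X.hom.appTop A * (x + r)) * V (β * (x + r) ^ 2)) *
            (Q * U a * Q⁻¹) * (Q * V t * Q⁻¹) := by
          rw [← cUV.eq, cQU.eq, cQV.eq]; group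
      _ = (Q * ep D p (x + r) * Q⁻¹) * (Q * U a * Q⁻¹) * (Q * V t * Q⁻¹) := by rw [hR.conj_long h (x + r)]
      _ = Q * (N * (Q * ep D p x * Q⁻¹) * N⁻¹) * Q⁻¹ := by rw [s2]; group
      _ = (toUnit X ≫ wq) * ep D p x * (toUnit X ≫ wq)⁻¹ := by rw [hw]; group
      _ = _ := by rw [hz']; simp only [U, V, ep_zero, _root_.one_mul, _root_.mul_one]
  obtain ⟨e1, e2, -⟩ := h.inj3 (d := p) isComb_left (by norm_num) le_rfl (by norm_num) (by norm_num) tot
  rw [hz', ← e2, e1, MulZeroClass.mul_zero, zero_add]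

/-- The image of the long root group under the short Weyl element, with a relation of coefficients. -/
theorem PairB2.conj_p {X : Over S} (y : Γ(X.left, ⊤)) :
    (toUnit X ≫ wp) * ep D q y * (toUnit X ≫ wp)⁻¹ = ep D (D.P.reflectionPerm p q) (X.hom.appTop B * y) ∧
      X.hom.appTop k * (X.hom.appTop B * y) * (-1) = X.hom.appTop A * y := by
  obtain ⟨z', hz'⟩ := h.P.isRefl.conj_u q (ptOf y) (X := X)
  rw [ep_of _ z'] at hz'
  set a := X.hom.appTop A with ha
  set β := X.hom.appTop B with hβ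
  set P := ep D p (1 : Γ(X.left, ⊤)) with hP
  set M := ep D (D.P.reflectionPerm p p) (-1 : Γ(X.left, ⊤)) with hM
  set U : Γ(X.left, ⊤) → (X ⟶ G) := fun r => ep D (D.P.reflectionPerm q p) r with hU
  set V : Γ(X.left, ⊤) → (X ⟶ G) := fun r => ep D (D.P.reflectionPerm p q) r with hV
  set W : Γ(X.left, ⊤) → (X ⟶ G) := fun r => ep D q r with hW
  have hw : toUnit X ≫ wp = P * M * P := by
    refine (congrArg (toUnit X ≫ ·) h.P.hw).trans ?_
    simp only [P, M, ep_neg, ep, MonObj.comp_mul, GrpObj.comp_inv, ← Category.assoc, comp_ptOf, map_one]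
  have cWU : ∀ r s, Commute (W r) (U s) := fun r s => h.comm isComb_right h.comb_ab (by omega) _ _
  have cWV : ∀ r s, Commute (W r) (V s) := fun r s => h.comm isComb_right h.comb_aab (by omega) _ _
  have cUV : ∀ r s, Commute (U r) (V s) := fun r s => h.comm h.comb_ab h.comb_aab (by omega) _ _
  have cPV : ∀ s, Commute P (V s) := fun s => h.comm isComb_left h.comb_aab (by omega) _ _
  have cMW : Commute M (W y) := h.comm isComb_left.neg isComb_right (by omega) _ _
  obtain ⟨r, hr⟩ := hR.r3 X (-1) (-(a * y))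
  obtain ⟨t, ht⟩ := hR.r4 X (-1) (β * y)
  set K := X.hom.appTop k * (-1) * (β * y) with hK
  have s1 : P * W y * P⁻¹ = W y * U (-(a * y)) * V (β * y) := hR.conj_short h y
  have s2 : M * (P * W y * P⁻¹) * M⁻¹ = W (y + r + t) * U (-(a * y) + K) * V (β * y) := by
    calc M * (P * W y * P⁻¹) * M⁻¹
        = (M * W y * M⁻¹) * (M * U (-(a * y)) * M⁻¹) * (M * V (β * y) * M⁻¹) := by rw [s1]; group
      _ = W y * (U (-(a * y)) * W r) * (V (β * y) * U K * W t) := by
        rw [cMW.eq, mul_inv_cancel_right, hr, ht]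
      _ = (W y * W r * W t) * (U (-(a * y)) * U K) * V (β * y) :=
        (rearr (cWU _ _).symm (cWU _ _).symm (cWV _ _).symm (cUV _ _).symm (cWU _ _).symm)
      _ = _ := by simp only [W, U, ep_add]
  set y'' := y + r + t
  set z := -(a * y) + K with hz
  set c := X.hom.appTop C
  have tot : W y'' * U (-(a * y'') + z) * V (β * y'' + (-(c * z) + β * y)) = W 0 * U 0 * V (Red.gaFn z') := by
    calc W y'' * U (-(a * y'') + z) * V (β * y'' + (-(c * z) + β * y))
        = W y'' * U (-(a * y'')) * (U z * V (β * y'')) * (V (-(c * z)) * V (β * y)) := by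
          simp only [U, V, ep_add]; group
      _ = (W y'' * U (-(a * y'')) * V (β * y'')) * (U z * V (-(c * z))) * (P * V (β * y) * P⁻¹) := by
          rw [(cUV _ _).eq, (cPV _).eq]; group
      _ = (P * W y'' * P⁻¹) * (P * U z * P⁻¹) * (P * V (β * y) * P⁻¹) := by
          rw [hR.conj_short h y'', hR.conj_short_mid h z]
      _ = P * (M * (P * W y * P⁻¹) * M⁻¹) * P⁻¹ := by rw [s2]; group
      _ = (toUnit X ≫ wp) * W y * (toUnit X ≫ wp)⁻¹ := by rw [hw]; group
      _ = _ := by rw [hz']; simp only [W, U, V, ep_zero, _root_.one_mul]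
  obtain ⟨e1, e2, e3⟩ := h.inj3 (d := q) isComb_right le_rfl (by norm_num) (by norm_num) (by norm_num) tot
  rw [e1] at e2 e3
  have e2' : z = 0 := by linear_combination e2
  refine ⟨?_, ?_⟩
  · rw [hz', ← e3, e2']
    congr 1
    ring
  · rw [hz, hK] at e2'
    linear_combination e2'

/-- The short Weyl element inverts the middle root group. -/
theorem PairB2.conj_p_mid {X : Over S} (x : Γ(X.left, ⊤)) :
    (toUnit X ≫ wp) * ep D (D.P.reflectionPerm q p) (X.hom.appTop A * x) * (toUnit X ≫ wp)⁻¹ =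
      ep D (D.P.reflectionPerm q p) (-(X.hom.appTop A * x)) := by
  have hperm : D.P.reflectionPerm p (D.P.reflectionPerm q p) = D.P.reflectionPerm q p := by
    refine D.P.root.injective ?_
    have e := h.base.refl_B2_left h.hpq h.hqp h.comb_ab
    rw [e, h.comb_ab]
    norm_num
  set a := X.hom.appTop A * x with ha
  obtain ⟨z', hz'⟩ := h.P.isRefl.conj_u (D.P.reflectionPerm q p) (ptOf a) (X := X)
  rw [ep_of _ z', hperm] at hz'
  have hCA := hR.two_mul h X
  have hkB := (h.conj_p hR (X := X) 1).2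
  set β := X.hom.appTop B with hβ
  set c := X.hom.appTop C with hc
  set P := ep D p (1 : Γ(X.left, ⊤)) with hP
  set M := ep D (D.P.reflectionPerm p p) (-1 : Γ(X.left, ⊤)) with hM
  set U : Γ(X.left, ⊤) → (X ⟶ G) := fun r => ep D (D.P.reflectionPerm q p) r with hU
  set V : Γ(X.left, ⊤) → (X ⟶ G) := fun r => ep D (D.P.reflectionPerm p q) r with hV
  set W : Γ(X.left, ⊤) → (X ⟶ G) := fun r => ep D q r with hW
  have hw : toUnit X ≫ wp = P * M * P := by
    refine (congrArg (toUnit X ≫ ·) h.P.hw).trans ?_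
    simp only [P, M, ep_neg, ep, MonObj.comp_mul, GrpObj.comp_inv, ← Category.assoc, comp_ptOf, map_one]
  have cWU : ∀ r s, Commute (W r) (U s) := fun r s => h.comm isComb_right h.comb_ab (by omega) _ _
  have cWV : ∀ r s, Commute (W r) (V s) := fun r s => h.comm isComb_right h.comb_aab (by omega) _ _
  have cUV : ∀ r s, Commute (U r) (V s) := fun r s => h.comm h.comb_ab h.comb_aab (by omega) _ _
  have cPV : ∀ s, Commute P (V s) := fun s => h.comm isComb_left h.comb_aab (by omega) _ _
  obtain ⟨r, hr⟩ := hR.r3 X (-1) a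
  obtain ⟨t, ht⟩ := hR.r4 X (-1) (-(c * a))
  set K := X.hom.appTop k * (-1) * (-(c * a)) with hK
  have s1 : P * U a * P⁻¹ = U a * V (-(c * a)) := hR.conj_short_mid h a
  have s2 : M * (P * U a * P⁻¹) * M⁻¹ = W (r + t) * U (a + K) * V (-(c * a)) := by
    calc M * (P * U a * P⁻¹) * M⁻¹ = (M * U a * M⁻¹) * (M * V (-(c * a)) * M⁻¹) := by rw [s1]; group
      _ = 1 * (U a * W r) * (V (-(c * a)) * U K * W t) := by rw [_root_.one_mul, hr, ht]
      _ = (1 * W r * W t) * (U a * U K) * V (-(c * a)) :=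
        (rearr (cWU _ _).symm (cWU _ _).symm (cWV _ _).symm (cUV _ _).symm (cWU _ _).symm)
      _ = _ := by simp only [W, U, ep_add, _root_.one_mul]
  set y'' := r + t
  set z := a + K with hz
  set al := X.hom.appTop A
  have tot : W y'' * U (-(al * y'') + z) * V (β * y'' + (-(c * z) + -(c * a))) = W 0 * U (Red.gaFn z') * V 0 := by
    calc W y'' * U (-(al * y'') + z) * V (β * y'' + (-(c * z) + -(c * a)))
        = W y'' * U (-(al * y'')) * (U z * V (β * y'')) * (V (-(c * z)) * V (-(c * a))) := by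
          simp only [U, V, ep_add]; group
      _ = (W y'' * U (-(al * y'')) * V (β * y'')) * (U z * V (-(c * z))) * (P * V (-(c * a)) * P⁻¹) := by
          rw [(cUV _ _).eq, (cPV _).eq]; group
      _ = (P * W y'' * P⁻¹) * (P * U z * P⁻¹) * (P * V (-(c * a)) * P⁻¹) := by
          rw [hR.conj_short h y'', hR.conj_short_mid h z]
      _ = P * (M * (P * U a * P⁻¹) * M⁻¹) * P⁻¹ := by rw [s2]; group
      _ = (toUnit X ≫ wp) * U a * (toUnit X ≫ wp)⁻¹ := by rw [hw]; group
      _ = _ := by rw [hz']; simp only [W, U, V, ep_zero, _root_.one_mul, _root_.mul_one]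
  obtain ⟨e1, e2, -⟩ := h.inj3 (d := q) isComb_right le_rfl (by norm_num) (by norm_num) (by norm_num) tot
  rw [hz', ← e2]
  congr 1
  rw [e1, hz, hK, ha]
  linear_combination (X.hom.appTop k * x) * hCA - 2 * x * hkB

end Calc

section Consequences

variable [Nonempty S] {D : Red.SplitRed G} {b : D.P.Base} {p q : D.idx} {avp avq : Red.Gm S ⟶ D.T}
  {wp wq : 𝟙_ (Over S) ⟶ G} (h : PairB2 D b p q avp avq wp wq)
include h

theorem PairB2.fix_top : Moves D wq (D.P.reflectionPerm p q) (D.P.reflectionPerm p q) 1 :=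
  h.base.moves_fix h.Q isComb_right h.comb_aab (by omega) (by omega)
    (fun c ec => by have := h.no ec; omega) fun c ec => by have := h.no ec; omega

/-- Conjugation of the image of the short root group by the short Weyl element inverts it. -/
theorem PairB2.conj_mid {X : Over S} (x : X ⟶ Red.Ga S) :
    (toUnit X ≫ wp) * ((toUnit X ≫ wq) * (x ≫ D.u p) * (toUnit X ≫ wq)⁻¹) * (toUnit X ≫ wp)⁻¹ =
      ((toUnit X ≫ wq) * (x ≫ D.u p) * (toUnit X ≫ wq)⁻¹)⁻¹ := by
  obtain ⟨A, B, C, k, hR⟩ := h.exists_rel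
  rw [ep_of, h.conj_q hR, h.conj_p_mid hR, ep_neg]

/-- The long root group is fixed by the three-letter word around it. -/
theorem PairB2.moves_long : Moves D (wp * wq * wp) q q 1 := by
  intro X x
  have e := h.P.moves_sq q X x
  rw [h.hqp] at e
  norm_num at e
  obtain ⟨z, hz⟩ := h.P.isRefl.conj_u q x (X := X)
  have f := h.fix_top X z
  rw [zpow_one] at f ⊢
  rw [MonObj.comp_mul] at e
  rw [MonObj.comp_mul, MonObj.comp_mul]
  calc _ = (toUnit X ≫ wp) * ((toUnit X ≫ wq) * ((toUnit X ≫ wp) * (x ≫ D.u q) * (toUnit X ≫ wp)⁻¹) *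
        (toUnit X ≫ wq)⁻¹) * (toUnit X ≫ wp)⁻¹ := by group
    _ = (toUnit X ≫ wp) * ((toUnit X ≫ wp) * (x ≫ D.u q) * (toUnit X ≫ wp)⁻¹) * (toUnit X ≫ wp)⁻¹ := by rw [hz, f]
    _ = (toUnit X ≫ wp) * (toUnit X ≫ wp) * (x ≫ D.u q) * ((toUnit X ≫ wp) * (toUnit X ≫ wp))⁻¹ := by
      simp only [_root_.mul_inv_rev, _root_.mul_assoc]
    _ = _ := e

/-- The short root group is fixed by the three-letter word around it. -/
theorem PairB2.moves_short : Moves D (wq * wp * wq) p p 1 := by
  intro X x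
  have e := h.Q.moves_sq p X x
  rw [h.hpq] at e
  norm_num at e
  have f := h.conj_mid x
  rw [zpow_one]
  rw [MonObj.comp_mul] at e
  rw [MonObj.comp_mul, MonObj.comp_mul]
  calc _ = (toUnit X ≫ wq) * ((toUnit X ≫ wp) * ((toUnit X ≫ wq) * (x ≫ D.u p) * (toUnit X ≫ wq)⁻¹) *
        (toUnit X ≫ wp)⁻¹) * (toUnit X ≫ wq)⁻¹ := by group
    _ = ((toUnit X ≫ wq) * (toUnit X ≫ wq) * (x ≫ D.u p) * ((toUnit X ≫ wq) * (toUnit X ≫ wq))⁻¹)⁻¹ := by
      rw [f]; simp only [_root_.mul_inv_rev, inv_inv, _root_.mul_assoc]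
    _ = _ := by rw [e, inv_inv]

/-- **The braid relation.** -/
theorem PairB2.braid : wp * wq * (wp * wq) = wq * wp * (wq * wp) := by
  have hperm : (D.P.reflectionPerm p * D.P.reflectionPerm q * D.P.reflectionPerm p) q = q := by
    refine D.P.root.injective ?_
    have e := h.base.refl_B2_left h.hpq h.hqp (h.base.refl_B2_right h.hpq h.hqp h.comb_aab)
    rw [Equiv.Perm.mul_apply, Equiv.Perm.mul_apply, e]
    module
  have e := h.moves_long.conj_weyl h.Q h.Q ((h.P.perms.mul h.Q.perms).mul h.P.perms) (Or.inl rfl) hperm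
  rw [zpow_one, mul_inv_eq_iff_eq_mul] at e
  rw [← _root_.mul_assoc, e]
  group

/-- **The Coxeter relation.** -/
theorem PairB2.pow_four : (wp * wq) ^ 4 = wp * wp ∧ (wq * wp) ^ 4 = wp * wp := by
  have hb := h.braid
  have hc := h.P.conj_sq h.Q
  rw [h.hpq] at hc
  norm_num at hc
  have e4 : (wp * wq) ^ 4 = wp * wp := by
    calc (wp * wq) ^ 4 = (wp * wq * (wp * wq)) * (wp * wq * (wp * wq)) := by
          simp only [pow_succ, pow_zero, _root_.one_mul, _root_.mul_assoc]
      _ = (wp * wq * (wp * wq)) * (wq * wp * (wq * wp)) := by nth_rewrite 2 [hb]; rfl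
      _ = wp * wq * (wp * (wq * wq) * wp⁻¹) * (wp * wp) * wq * wp := by group
      _ = wp * wq * (wq * wq) * (wp * wp * (wp * wp)) * wq * wp := by rw [hc]; group
      _ = wp * (wq * wq * (wq * wq)) * wp := by rw [h.P.sq_sq]; group
      _ = _ := by rw [h.Q.sq_sq, _root_.mul_one]
  refine ⟨e4, ?_⟩
  rw [← e4, show (4 : ℕ) = 2 * 2 from rfl, pow_mul, pow_mul, pow_two (wq * wp), pow_two (wp * wq), hb]

/-- The images of the simple root groups carry the commutation formulas with coefficients one and two. -/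
theorem PairB2.formulas {X : Over S} (x y : Γ(X.left, ⊤)) :
    ep D q y * ep D p x = ep D p x * ep D q y *
        ((toUnit X ≫ wq) * ep D p (x * y) * (toUnit X ≫ wq)⁻¹) *
        ((toUnit X ≫ wp) * ep D q (x ^ 2 * y) * (toUnit X ≫ wp)⁻¹) ∧
      ((toUnit X ≫ wq) * ep D p y * (toUnit X ≫ wq)⁻¹) * ep D p x =
        ep D p x * ((toUnit X ≫ wq) * ep D p y * (toUnit X ≫ wq)⁻¹) *
          ((toUnit X ≫ wp) * ep D q (2 * x * y) * (toUnit X ≫ wp)⁻¹) := by
  obtain ⟨A, B, C, k, hR⟩ := h.exists_rel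
  rw [h.conj_q hR, h.conj_q hR, (h.conj_p hR (x ^ 2 * y)).1, (h.conj_p hR (2 * x * y)).1]
  refine ⟨?_, ?_⟩
  · rw [hR.r1 X x y, _root_.mul_assoc (X.hom.appTop A) x y, _root_.mul_assoc (X.hom.appTop B) (x ^ 2) y]
  · rw [hR.r2 X x (X.hom.appTop A * y)]
    congr 2
    linear_combination (x * y) * hR.two_mul h X

end Consequences

end Bruhat

end
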