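import Mathlib.LinearAlgebra.RootSystem.BaseExists
import Mathlib.LinearAlgebra.RootSystem.Finite.Lemmas
import Mathlib.LinearAlgebra.RootSystem.Finite.Nondegenerate

/-!
# Bases of root data over ℤ from regular functionals
-/

set_option autoImplicit false

open Function IsAddIndecomposable Module Set

namespace Bruhat.BaseZ

variable {ι M N : Type*} [Finite ι] [AddCommGroup M] [AddCommGroup N] {P : RootPairing ι ℤ M N} [P.IsReduced]
  (f : M →ₗ[ℤ] ℤ) (hf : ∀ i, f (P.root i) ≠ 0)

omit [P.IsReduced] in
theorem pairingIn_eq (i j : ι) : P.pairingIn ℤ i j = P.pairing i j := by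
  have := P.algebraMap_pairingIn ℤ i j
  simpa using this

omit [Finite ι] [P.IsReduced] in
theorem root_neg (i : ι) : P.root (P.reflectionPerm i i) = -P.root i := by
  rw [P.root_reflectionPerm, RootPairing.reflection_apply_self]

include hf

omit [P.IsReduced] in
theorem linearIndepOn_root : LinearIndepOn ℤ P.root (baseOf P.root (f : M →+ ℤ)) :=
  P.linearIndepOn_root_baseOf' (S := ℤ) f hf

omit [P.IsReduced] in
theorem root_mem_or_neg_mem (i : ι) :
    P.root i ∈ AddSubmonoid.closure (P.root '' baseOf P.root (f : M →+ ℤ)) ∨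
      -P.root i ∈ AddSubmonoid.closure (P.root '' baseOf P.root (f : M →+ ℤ)) := by
  let _i := P.indexNeg
  exact mem_or_neg_mem_closure_baseOf P.root (f : M →+ ℤ) i (hf i) (by simp)

/-- A root on the positive side is a non-negative combination of the indecomposable ones. -/
theorem exists_coeff {i : ι} (hi : 0 < f (P.root i)) [Fintype (baseOf P.root (f : M →+ ℤ))] :
    ∃ c : baseOf P.root (f : M →+ ℤ) → ℕ, ∑ k, c k • P.root k = P.root i := by
  have h : P.root i ∈ AddSubmonoid.closure (P.root '' baseOf P.root (f : M →+ ℤ)) := by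
    rw [AddSubmonoid.closure_image_isAddIndecomposable_baseOf]
    exact AddSubmonoid.subset_closure ⟨i, hi, rfl⟩
  rw [← Submodule.span_nat_eq_addSubmonoidClosure, Submodule.mem_toAddSubmonoid, Set.image_eq_range,
    Submodule.mem_span_range_iff_exists_fun] at h
  exact h

/-- Some indecomposable root pairs positively with a positive root. -/
theorem exists_pairing_pos {i : ι} (hi : 0 < f (P.root i)) :
    ∃ k ∈ baseOf P.root (f : M →+ ℤ), 0 < P.pairing i k := by
  classical
  haveI := Fintype.ofFinite (baseOf P.root (f : M →+ ℤ))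
  obtain ⟨c, hc⟩ := exists_coeff f hf hi
  have h2 := congrArg (P.coroot' i) hc
  simp only [map_sum, map_nsmul, RootPairing.root_coroot'_eq_pairing, P.pairing_same, nsmul_eq_mul] at h2
  obtain ⟨k, -, hk⟩ : ∃ k ∈ Finset.univ, 0 < ((c k : ℕ) : ℤ) * P.pairing (k : ι) i := by
    by_contra hc'
    push Not at hc'
    have := Finset.sum_nonpos hc'
    rw [h2] at this
    norm_num at this
  refine ⟨k, k.2, ?_⟩
  have h3 : 0 < P.pairing (k : ι) i := pos_of_mul_pos_right hk (Int.natCast_nonneg _)
  rw [← pairingIn_eq] at h3 ⊢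
  exact (P.zero_lt_pairingIn_iff' ℤ).1 h3

/-- The reflection in an indecomposable root keeps the other positive roots positive. -/
theorem pos_reflect {i k : ι} (hi : 0 < f (P.root i)) (hk : k ∈ baseOf P.root (f : M →+ ℤ)) (hik : i ≠ k) :
    0 < f (P.root (P.reflectionPerm k i)) := by
  classical
  haveI := Fintype.ofFinite (baseOf P.root (f : M →+ ℤ))
  let _i := P.indexNeg
  by_contra hneg
  have hneg' : 0 < f (P.root (P.reflectionPerm (P.reflectionPerm k i) (P.reflectionPerm k i))) := by
    rw [root_neg, map_neg]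
    exact neg_pos.2 (lt_of_le_of_ne (not_lt.1 hneg) (hf _))
  obtain ⟨c, hc⟩ := exists_coeff f hf hi
  obtain ⟨d, hd⟩ := exists_coeff f hf hneg'
  rw [root_neg, P.root_reflectionPerm, RootPairing.reflection_apply_root] at hd
  let k' : baseOf P.root (f : M →+ ℤ) := ⟨k, hk⟩
  have key : ∑ j, ((c j : ℤ) + (d j : ℤ) - if j = k' then P.pairing i k else 0) • P.root (j : ι) = 0 := by
    simp only [sub_smul, add_smul, natCast_zsmul, Finset.sum_sub_distrib, Finset.sum_add_distrib, hc, hd, ite_smul,
      zero_smul, Finset.sum_ite_eq', Finset.mem_univ, if_true]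
    abel
  have hz := Fintype.linearIndependent_iff.1 (linearIndepOn_root f hf) _ key
  have h0 : ∀ j, j ≠ k' → c j = 0 := fun j hj => by
    have := hz j
    rw [if_neg hj] at this
    omega
  rw [Fintype.sum_eq_single k' (fun j hj => by rw [h0 j hj, zero_smul])] at hc
  have hm : ¬ LinearIndependent ℤ ![P.root i, P.root k] := by
    rw [LinearIndependent.pair_iff]
    intro h
    exact absurd (h 1 (-(c k' : ℤ)) (by rw [one_smul, neg_smul, natCast_zsmul, hc, add_neg_cancel])).1 one_ne_zero
  rcases RootPairing.IsReduced.eq_or_eq_neg i k hm with e | e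
  · exact hik (P.root.injective e)
  · have h1 : 0 < f (P.root k) := hk.1
    rw [e, map_neg] at hi
    omega

/-- The coroot of a positive root is a non-negative combination of the coroots of the indecomposable ones. -/
theorem coroot_mem {i : ι} (hi : 0 < f (P.root i)) :
    P.coroot i ∈ AddSubmonoid.closure (P.coroot '' baseOf P.root (f : M →+ ℤ)) := by
  suffices ∀ (n : ℕ) (i : ι), 0 < f (P.root i) → f (P.root i) ≤ n →
      P.coroot i ∈ AddSubmonoid.closure (P.coroot '' baseOf P.root (f : M →+ ℤ)) from
    this _ i hi (Int.self_le_toNat _)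
  intro n
  induction n with
  | zero => intro i h1 h2; omega
  | succ n ih =>
    intro i h1 h2
    obtain ⟨k, hk, hpos⟩ := exists_pairing_pos f hf h1
    rcases eq_or_ne i k with rfl | hik
    · exact AddSubmonoid.subset_closure ⟨i, hk, rfl⟩
    have h3 := pos_reflect f hf h1 hk hik
    have h4 : f (P.root (P.reflectionPerm k i)) = f (P.root i) - P.pairing i k * f (P.root k) := by
      rw [P.root_reflectionPerm, RootPairing.reflection_apply_root, map_sub, map_zsmul, smul_eq_mul]
    have h5 : 0 < f (P.root k) := hk.1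
    have h6 := ih _ h3 (by have := mul_pos hpos h5; omega)
    have h7 : 0 < P.pairing k i := by
      rw [← pairingIn_eq] at hpos ⊢
      exact (P.zero_lt_pairingIn_iff' ℤ).1 hpos
    have h8 : P.coroot i = P.coroot (P.reflectionPerm k i) + (P.pairing k i).toNat • P.coroot k := by
      rw [P.coroot_reflectionPerm, RootPairing.coreflection_apply_coroot, ← natCast_zsmul,
        Int.toNat_of_nonneg h7.le, sub_add_cancel]
    rw [h8]
    exact add_mem h6 (nsmul_mem (AddSubmonoid.subset_closure (by exact ⟨k, hk, rfl⟩)) _)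

omit [P.IsReduced] in
theorem linearIndepOn_coroot : LinearIndepOn ℤ P.coroot (baseOf P.root (f : M →+ ℤ)) := by
  haveI := Fintype.ofFinite ι
  haveI := Fintype.ofFinite (baseOf P.root (f : M →+ ℤ))
  refine Fintype.linearIndependent_iff.2 fun g hg j => ?_
  have h2 := congrArg (fun v => (2 : ℕ) • P.CoPolarization v) hg
  simp only [map_sum, map_zsmul, map_zero, smul_zero, Finset.smul_sum, smul_comm (2 : ℕ),
    ← P.corootForm_self_smul_root, smul_smul] at h2
  have := Fintype.linearIndependent_iff.1 (linearIndepOn_root f hf) _ h2 j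
  exact (mul_eq_zero.1 this).resolve_right (RootPairing.IsAnisotropic.corootForm_coroot_ne_zero _)

/-- The base of the indecomposable roots of a regular functional. -/
noncomputable def base : P.Base where
  support := (Set.toFinite (baseOf P.root (f : M →+ ℤ))).toFinset
  linearIndepOn_root := by simpa using linearIndepOn_root f hf
  linearIndepOn_coroot := by simpa using linearIndepOn_coroot f hf
  root_mem_or_neg_mem i := by simpa using root_mem_or_neg_mem f hf i
  coroot_mem_or_neg_mem i := by
    let _i := P.indexNeg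
    rcases lt_or_gt_of_ne (hf i) with h | h
    · refine Or.inr ?_
      have := coroot_mem f hf (i := P.reflectionPerm i i) (by rw [root_neg, map_neg]; omega)
      simpa [P.coroot_reflectionPerm] using this
    · exact Or.inl (by simpa using coroot_mem f hf h)

omit [P.IsReduced] in
theorem mem_baseOf_iff {i : ι} : i ∈ baseOf P.root (f : M →+ ℤ) ↔
    0 < f (P.root i) ∧ ∀ j k, 0 < f (P.root j) → 0 < f (P.root k) → P.root i ≠ P.root j + P.root k := by
  refine ⟨fun h => ⟨h.1, fun j k hj hk e => ?_⟩, fun h => ⟨h.1, fun j hj k hk e => absurd e (h.2 j k hj hk)⟩⟩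
  rcases h.2 j hj k hk e with e' | e'
  all_goals simp_all

theorem mem_base_iff {i : ι} : i ∈ (base f hf).support ↔
    0 < f (P.root i) ∧ ∀ j k, 0 < f (P.root j) → 0 < f (P.root k) → P.root i ≠ P.root j + P.root k := by
  rw [← mem_baseOf_iff f hf]
  exact Set.Finite.mem_toFinset _

end Bruhat.BaseZ
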