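import Groth.Agent.BruhatLib.ChevPlane

/-!
# The commutator table of a Chevalley system
-/

set_option autoImplicit false
set_option linter.style.haveILetI false
set_option linter.unusedSectionVars false
set_option backward.isDefEq.respectTransparency false
set_option maxHeartbeats 1000000
set_option synthInstance.maxHeartbeats 400000

universe u

open CategoryTheory CategoryTheory.Limits MonoidalCategory CartesianMonoidalCategory AlgebraicGeometry
open Groth.Agent.GaPts
open Groth.Agent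
open Groth.Agent.RankOne (eq_ptOf eq_ptOfUnit comp_ptOf ptOf_add)
open scoped MonObj

noncomputable section

attribute [-instance] CategoryTheory.Hom.commGroup

namespace Bruhat

open SplitCell SplitFib RootSubgrp

variable {S : Scheme.{u}} {G : Over S} [GrpObj G] [Nonempty S] {D : Red.SplitRed G}
  {avc : D.idx → (Red.Gm S ⟶ D.T)} {v vd : D.idx → (Red.Ga S ⟶ G)} {n : D.idx → (𝟙_ (Over S) ⟶ G)}

omit [Nonempty S] in
/-- The system of a statement. -/
theorem chevSys_mk {e₁ : 𝟙_ (Over S) ⟶ Red.Ga S} (he₁ : Red.gaFn e₁ = 1)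
    (havc : ∀ a, avc a = Red.DSmap S (D.P.coroot a).toAddMonoidHom ≫ D.split.inv.hom.hom)
    (hv : ∀ c, Red.IsRootHom D.i (D.split.hom.hom.hom ≫ Red.chi S (D.P.root c)) (v c))
    (hvd : ∀ c, IsMonHom (vd c) ∧ ∀ (X : Over S) (x y : X ⟶ Red.Ga S), IsUnit (1 + Red.gaFn x * Red.gaFn y) →
        ∃ (x' y' : X ⟶ Red.Ga S) (z : X ⟶ Red.Gm S), Red.gmFn z = 1 + Red.gaFn x * Red.gaFn y ∧
          Red.gaFn x' * Red.gmFn z = Red.gaFn x ∧ Red.gaFn y' * Red.gmFn z = Red.gaFn y ∧
          (x ≫ v c) * (y ≫ vd c) = (y' ≫ vd c) * (z ≫ avc c ≫ D.i) * (x' ≫ v c))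
    (hn : ∀ c, n c = (e₁ ≫ v c) * (e₁ ≫ vd c)⁻¹ * (e₁ ≫ v c))
    (hSC : ∀ c b, ∃ ε : ℤ, (ε = 1 ∨ ε = -1) ∧ ∀ (X : Over S) (x y : X ⟶ Red.Ga S),
      Red.gaFn y = (ε : Γ(X.left, ⊤)) * Red.gaFn x →
        (toUnit X ≫ n c) * (x ≫ v b) * (toUnit X ≫ n c)⁻¹ = y ≫ v (D.P.reflectionPerm c b)) :
    ChevSys D avc v vd n := by
  refine ⟨havc, hv, hvd, fun c => by rw [hn, eq_ptOf e₁ he₁], fun c b => ?_⟩
  obtain ⟨ε, hε, e⟩ := hSC c b
  exact ⟨ε, hε, fun X r => e X (ptOf r) _ (by rw [gaFn_ptOf, gaFn_ptOf])⟩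

theorem pairing_abs_le (i j : D.idx) : -3 ≤ D.P.pairing i j ∧ D.P.pairing i j ≤ 3 := by
  have := pairing_pair_mem (D := D) i j
  simp only [pairList, List.mem_cons, Prod.mk.injEq, List.not_mem_nil, or_false] at this
  omega

theorem pairing_pair_mem' {a b : D.idx} (hind : ∀ r s : ℤ, r • D.P.root a + s • D.P.root b = 0 → r = 0 ∧ s = 0) :
    (D.P.pairing a b, D.P.pairing b a) ∈ ([(0, 0), (1, 1), (-1, -1), (1, 2), (2, 1), (-1, -2), (-2, -1), (1, 3),
      (3, 1), (-1, -3), (-3, -1)] : List (ℤ × ℤ)) := by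
  haveI := isReduced_root D
  have h1 : D.P.root a ≠ D.P.root b := fun e => one_ne_zero (hind 1 (-1) (by rw [e]; module)).1
  have h2 : D.P.root a ≠ -D.P.root b := fun e => one_ne_zero (hind 1 1 (by rw [e]; module)).1
  have h := D.P.pairingIn_pairingIn_mem_set_of_isCrystal_of_isRed' a b h1 h2
  rw [BaseZ.pairingIn_eq, BaseZ.pairingIn_eq] at h
  simpa using h

omit [Nonempty S] in
theorem pairing_comb {a b d : D.idx} {i j : ℤ} (hd : D.P.root d = i • D.P.root a + j • D.P.root b) (c : D.idx) :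
    D.P.pairing d c = i * D.P.pairing a c + j * D.P.pairing b c :=
  IsComb.pairing hd c

omit [Nonempty S] in
theorem mem_range_refl {a b d : D.idx} {i j : ℤ} (hd : D.P.root d = i • D.P.root a + j • D.P.root b) {k : ℤ}
    (hk : k = i - (2 * i + j * D.P.pairing b a)) :
    k • D.P.root a + j • D.P.root b ∈ Set.range D.P.root := by
  refine ⟨D.P.reflectionPerm a d, ?_⟩
  rw [RootPairing.root_reflectionPerm, reflection_root, pairing_comb hd, D.P.pairing_same, hd, hk]
  module

omit [Nonempty S] in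
theorem ev_sign {k : D.idx} {ε : ℤ} (hε : ε = 1 ∨ ε = -1) {X : Over S} (r : Γ(X.left, ⊤)) :
    ev v k r = ev v k ((ε : Γ(X.left, ⊤)) * ((ε : Γ(X.left, ⊤)) * r)) := by
  rcases hε with rfl | rfl <;> simp

omit [Nonempty S] in
theorem pts_ev (k : D.idx) {X : Over S} (z : X ⟶ Red.Ga S) : z ≫ v k = ev v k (Red.gaFn z) := by
  rw [ev, ← eq_ptOf z rfl]

variable (h : ChevSys D avc v vd n) {a b : D.idx}
  (hind : ∀ r s : ℤ, r • D.P.root a + s • D.P.root b = 0 → r = 0 ∧ s = 0)
  (hlen : |D.P.pairing a b| ≤ |D.P.pairing b a|)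
include h hind hlen

/-- The strings of type (1, 2). -/
theorem ChevSys.case_one_two (hm : D.P.root b - D.P.root a ∉ Set.range D.P.root) (c₁ c₂ : D.idx)
    (hc₁ : D.P.root c₁ = D.P.root a + D.P.root b) (hc₂ : D.P.root c₂ = (2 : ℤ) • D.P.root a + D.P.root b)
    (hq : D.P.root b + (3 : ℤ) • D.P.root a ∉ Set.range D.P.root) :
    ∃ ε₁ ε₂ : ℤ, (ε₁ = 1 ∨ ε₁ = -1) ∧ (ε₂ = 1 ∨ ε₂ = -1) ∧ ∀ (X : Over S) (x y : Γ(X.left, ⊤)),
      ev v b y * ev v a x * (ev v b y)⁻¹ * (ev v a x)⁻¹ =
        ev v c₁ ((ε₁ : Γ(X.left, ⊤)) * x * y) * ev v c₂ ((ε₂ : Γ(X.left, ⊤)) * x ^ 2 * y) := by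
  have hmem := pairing_pair_mem' hind
  have h1 := mem_range_refl (a := a) (b := b) (d := c₁) (i := 1) (j := 1) (by rw [hc₁]; module) rfl
  have h2 := mem_range_refl (a := a) (b := b) (d := c₂) (i := 2) (j := 1) (by rw [hc₂]; module) rfl
  have h0 := mem_range_refl (a := a) (b := b) (d := b) (i := 0) (j := 1) (by module) rfl
  have hx : D.P.pairing a b = -1 ∧ D.P.pairing b a = -2 := by
    simp only [List.mem_cons, Prod.mk.injEq, List.not_mem_nil, or_false] at hmem
    have n1 : D.P.pairing b a ≠ 0 := fun e => hm (by rw [e] at h1; convert h1 using 1; module)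
    have n2 : D.P.pairing b a ≠ -1 := fun e => hm (by rw [e] at h2; convert h2 using 1; module)
    have n3 : D.P.pairing b a ≠ -3 := fun e => hq (by rw [e] at h0; convert h0 using 1; module)
    have n4 : D.P.pairing b a ≠ 1 := fun e => hm (by rw [e] at h0; convert h0 using 1; module)
    have n5 := pairing_abs_le (D := D) c₂ a
    rw [pairing_comb (a := a) (b := b) (i := 2) (j := 1) (by rw [hc₂]; module), D.P.pairing_same] at n5
    rw [Int.abs_eq_natAbs, Int.abs_eq_natAbs] at hlen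
    omega
  obtain ⟨cA, cB, εA, εB, hεA, hεB, R⟩ := h.rels_B2 hx.1 hx.2
  obtain rfl : c₁ = D.P.reflectionPerm b a := D.P.root.injective (by rw [hc₁, cA]; module)
  obtain rfl : c₂ = D.P.reflectionPerm a b := D.P.root.injective (by rw [hc₂, cB]; module)
  refine ⟨εA, -εB, hεA, by omega, fun X x y => ?_⟩
  rw [(R X).comm_PQ x y]
  simp only [Int.cast_neg, neg_mul, mul_neg, _root_.mul_assoc]

/-- The strings of type (1, 3). -/
theorem ChevSys.case_one_three (hm : D.P.root b - D.P.root a ∉ Set.range D.P.root) (c₁ c₂ c₃ c₄ : D.idx)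
    (hc₁ : D.P.root c₁ = D.P.root a + D.P.root b) (hc₂ : D.P.root c₂ = (2 : ℤ) • D.P.root a + D.P.root b)
    (hc₃ : D.P.root c₃ = (3 : ℤ) • D.P.root a + D.P.root b)
    (hc₄ : D.P.root c₄ = (3 : ℤ) • D.P.root a + (2 : ℤ) • D.P.root b) :
    ∃ ε : Fin 4 → ℤ, (∀ j, ε j = 1 ∨ ε j = -1) ∧ ∀ (X : Over S) (x y : Γ(X.left, ⊤)),
      ev v b y * ev v a x * (ev v b y)⁻¹ * (ev v a x)⁻¹ =
        ev v c₁ ((ε 0 : Γ(X.left, ⊤)) * x * y) * ev v c₂ ((ε 1 : Γ(X.left, ⊤)) * x ^ 2 * y) *
          ev v c₃ ((ε 2 : Γ(X.left, ⊤)) * x ^ 3 * y) * ev v c₄ ((ε 3 : Γ(X.left, ⊤)) * x ^ 3 * y ^ 2) := by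
  have hmem := pairing_pair_mem' hind
  have h1 := mem_range_refl (a := a) (b := b) (d := c₁) (i := 1) (j := 1) (by rw [hc₁]; module) rfl
  have h2 := mem_range_refl (a := a) (b := b) (d := c₂) (i := 2) (j := 1) (by rw [hc₂]; module) rfl
  have h3 := mem_range_refl (a := a) (b := b) (d := c₃) (i := 3) (j := 1) (by rw [hc₃]; module) rfl
  have h0 := mem_range_refl (a := a) (b := b) (d := b) (i := 0) (j := 1) (by module) rfl
  have hx : D.P.pairing a b = -1 ∧ D.P.pairing b a = -3 := by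
    simp only [List.mem_cons, Prod.mk.injEq, List.not_mem_nil, or_false] at hmem
    have n1 : D.P.pairing b a ≠ 0 := fun e => hm (by rw [e] at h1; convert h1 using 1; module)
    have n2 : D.P.pairing b a ≠ -1 := fun e => hm (by rw [e] at h2; convert h2 using 1; module)
    have n3 : D.P.pairing b a ≠ -2 := fun e => hm (by rw [e] at h3; convert h3 using 1; module)
    have n5 := pairing_abs_le (D := D) c₃ a
    rw [pairing_comb (a := a) (b := b) (i := 3) (j := 1) (by rw [hc₃]; module), D.P.pairing_same] at n5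
    rw [Int.abs_eq_natAbs, Int.abs_eq_natAbs] at hlen
    omega
  obtain ⟨cA, cB, cC, cE, εA, εB, εC, εE, hεA, hεB, hεC, hεE, R⟩ := h.rels_G2 hx.1 hx.2
  obtain rfl : c₁ = D.P.reflectionPerm b a := D.P.root.injective (by rw [hc₁, cA]; module)
  obtain rfl : c₂ = D.P.reflectionPerm a (D.P.reflectionPerm b a) := D.P.root.injective (by rw [hc₂, cB]; module)
  obtain rfl : c₃ = D.P.reflectionPerm a b := D.P.root.injective (by rw [hc₃, cC]; module)
  obtain rfl : c₄ = D.P.reflectionPerm b (D.P.reflectionPerm a b) := D.P.root.injective (by rw [hc₄, cE])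
  refine ⟨![εA, -εB, εC, -εE], fun j => by fin_cases j <;> simp <;> omega, fun X x y => ?_⟩
  rw [(R X).comm_PQ x y]
  simp [_root_.mul_assoc]

/-- The strings of type (2, 2). -/
theorem ChevSys.case_two_two (hm1 : D.P.root b - D.P.root a ∈ Set.range D.P.root)
    (hm2 : D.P.root b - (2 : ℤ) • D.P.root a ∉ Set.range D.P.root) (c₁ c₂ c₃ : D.idx)
    (hc₁ : D.P.root c₁ = D.P.root a + D.P.root b) (hc₂ : D.P.root c₂ = (2 : ℤ) • D.P.root a + D.P.root b)
    (hq : D.P.root b + (3 : ℤ) • D.P.root a ∉ Set.range D.P.root)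
    (hc₃ : D.P.root c₃ = D.P.root a + (2 : ℤ) • D.P.root b) :
    ∃ ε₁ ε₂ ε₃ : ℤ, (ε₁ = 1 ∨ ε₁ = -1) ∧ (ε₂ = 1 ∨ ε₂ = -1) ∧ (ε₃ = 1 ∨ ε₃ = -1) ∧
      ∀ (X : Over S) (x y : Γ(X.left, ⊤)), ev v b y * ev v a x * (ev v b y)⁻¹ * (ev v a x)⁻¹ =
        ev v c₁ (2 * (ε₁ : Γ(X.left, ⊤)) * x * y) * ev v c₂ (3 * (ε₂ : Γ(X.left, ⊤)) * x ^ 2 * y) *
          ev v c₃ (3 * (ε₃ : Γ(X.left, ⊤)) * x * y ^ 2) := by
  obtain ⟨Q, hQ⟩ := hm1
  have hmem := pairing_pair_mem' hind
  have h1 := mem_range_refl (a := a) (b := b) (d := c₁) (i := 1) (j := 1) (by rw [hc₁]; module) rfl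
  have h2 := mem_range_refl (a := a) (b := b) (d := c₂) (i := 2) (j := 1) (by rw [hc₂]; module) rfl
  have hQ1 := mem_range_refl (a := a) (b := b) (d := Q) (i := -1) (j := 1) (by rw [hQ]; module) rfl
  have h0 := mem_range_refl (a := a) (b := b) (d := b) (i := 0) (j := 1) (by module) rfl
  have hx : D.P.pairing b a = -1 := by
    simp only [List.mem_cons, Prod.mk.injEq, List.not_mem_nil, or_false] at hmem
    have n1 : D.P.pairing b a ≠ 0 := fun e => hm2 (by rw [e] at h2; convert h2 using 1; module)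
    have n2 : D.P.pairing b a ≠ 1 := fun e => hm2 (by rw [e] at h1; convert h1 using 1; module)
    have n3 : D.P.pairing b a ≠ -3 := fun e => hq (by rw [e] at h0; convert h0 using 1; module)
    have n4 : D.P.pairing b a ≠ -2 := fun e => hq (by rw [e] at hQ1; convert hQ1 using 1; module)
    have n5 := pairing_abs_le (D := D) c₂ a
    rw [pairing_comb (a := a) (b := b) (i := 2) (j := 1) (by rw [hc₂]; module), D.P.pairing_same] at n5
    omega
  have hQa : D.P.pairing Q a = -3 := by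
    rw [pairing_comb (a := a) (b := b) (i := -1) (j := 1) (by rw [hQ]; module), D.P.pairing_same, hx]
    norm_num
  have hQm := pairing_pair_mem (D := D) a Q
  have haQ : D.P.pairing a Q = -1 := by
    simp only [pairList, List.mem_cons, Prod.mk.injEq, List.not_mem_nil, or_false] at hQm
    omega
  obtain ⟨cA, cB, cC, cE, εA, εB, εC, εE, hεA, hεB, hεC, hεE, R⟩ := h.rels_G2 haQ hQa
  obtain rfl : b = D.P.reflectionPerm Q a := D.P.root.injective (by rw [cA, hQ]; module)
  obtain rfl : c₁ = D.P.reflectionPerm a (D.P.reflectionPerm Q a) := D.P.root.injective (by rw [hc₁, cB, hQ]; module)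
  obtain rfl : c₂ = D.P.reflectionPerm a Q := D.P.root.injective (by rw [hc₂, cC, hQ]; module)
  obtain rfl : c₃ = D.P.reflectionPerm Q (D.P.reflectionPerm a Q) := D.P.root.injective (by rw [hc₃, cE, hQ]; module)
  refine ⟨εB * εA, -(εC * εA), -εE, ?_, ?_, by omega, fun X x y => ?_⟩
  · rcases hεA with rfl | rfl <;> rcases hεB with rfl | rfl <;> norm_num
  · rcases hεA with rfl | rfl <;> rcases hεC with rfl | rfl <;> norm_num
  rw [ev_sign (k := D.P.reflectionPerm Q a) hεA y, (R X).comm_PA x _]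
  have hsq : ((εA : Γ(X.left, ⊤))) ^ 2 = 1 := by rcases hεA with rfl | rfl <;> norm_num
  refine congrArg₂ (· * ·) (congrArg₂ (· * ·) (congrArg (ev v _) ?_) (congrArg (ev v _) ?_))
    (congrArg (ev v _) ?_)
  · push_cast; ring
  · push_cast; ring
  · push_cast; linear_combination -3 * (εE : Γ(X.left, ⊤)) * x * y ^ 2 * hsq

/-- The strings ending one step above. -/
theorem ChevSys.case_q_one (c : D.idx) (hc : D.P.root c = D.P.root a + D.P.root b)
    (hq : D.P.root b + (2 : ℤ) • D.P.root a ∉ Set.range D.P.root) (p : ℕ) (hp1 : 1 ≤ p)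
    (hpk : ∀ k : ℕ, k < p → D.P.root b - (k : ℤ) • D.P.root a ∈ Set.range D.P.root)
    (hp : D.P.root b - (p : ℤ) • D.P.root a ∉ Set.range D.P.root) :
    ∃ ε : ℤ, (ε = 1 ∨ ε = -1) ∧ ∀ (X : Over S) (x y : Γ(X.left, ⊤)),
      ev v b y * ev v a x * (ev v b y)⁻¹ * (ev v a x)⁻¹ =
        ev v c ((ε : Γ(X.left, ⊤)) * (p : Γ(X.left, ⊤)) * x * y) := by
  have hmem := pairing_pair_mem' hind
  simp only [List.mem_cons, Prod.mk.injEq, List.not_mem_nil, or_false] at hmem
  rw [Int.abs_eq_natAbs, Int.abs_eq_natAbs] at hlen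
  have h1 := mem_range_refl (a := a) (b := b) (d := c) (i := 1) (j := 1) (by rw [hc]; module) rfl
  have h0 := mem_range_refl (a := a) (b := b) (d := b) (i := 0) (j := 1) (by module) rfl
  have n2 : D.P.pairing b a ≠ -2 := fun e => hq (by rw [e] at h0; convert h0 using 1; module)
  have n3 : D.P.pairing b a ≠ -3 := fun e => hq (by rw [e] at h1; convert h1 using 1; module)
  have n5 := pairing_abs_le (D := D) c a
  rw [pairing_comb (a := a) (b := b) (i := 1) (j := 1) (by rw [hc]; module), D.P.pairing_same] at n5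
  have hstring : ∀ k : ℤ, D.P.root b - k • D.P.root a ∈ Set.range D.P.root →
      D.P.root b + (k - D.P.pairing b a) • D.P.root a ∈ Set.range D.P.root := fun k ⟨d, hd⟩ => by
    have := mem_range_refl (a := a) (b := b) (d := d) (i := -k) (j := 1) (by rw [hd]; module) rfl
    convert this using 1
    module
  rcases (show D.P.pairing b a = -1 ∨ D.P.pairing b a = 0 ∨ D.P.pairing b a = 1 by omega) with hx | hx | hx
  · have hp' : p = 1 := by
      by_contra hne
      refine hq ?_
      have := hstring 1 (by simpa using hpk 1 (by omega))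
      rwa [hx] at this
    subst hp'
    have hy : D.P.pairing a b = -1 := by omega
    by_cases h3 : ∃ e, (3 : ℤ) • D.P.root e = D.P.root b - D.P.root a
    · obtain ⟨e, he⟩ := h3
      have e1 := congrArg (D.P.coroot' a) he
      have e2 := congrArg (D.P.coroot' e) he
      simp only [map_sub, map_zsmul, coroot'_root D, smul_eq_mul, D.P.pairing_same, hx] at e1 e2
      have := pairing_abs_le (D := D) a e
      have := pairing_abs_le (D := D) b e
      obtain ⟨cA, cB, cC, cE, εA, εB, εC, εE, hεA, hεB, hεC, hεE, R⟩ :=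
        h.rels_G2 (p := e) (q := a) (by omega) (by omega)
      obtain rfl : b = D.P.reflectionPerm e a := D.P.root.injective (by rw [cC, he]; module)
      obtain rfl : c = D.P.reflectionPerm a (D.P.reflectionPerm e a) :=
        D.P.root.injective (by rw [hc, cE, he]; module)
      refine ⟨-(εE * εC), ?_, fun X x y => ?_⟩
      · rcases hεE with rfl | rfl <;> rcases hεC with rfl | rfl <;> norm_num
      rw [ev_sign (k := D.P.reflectionPerm e a) hεC y, (R X).comm_QC x _]
      refine congrArg (ev v _) ?_; push_cast; ring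
    · obtain ⟨cA, ε, hε, R⟩ := h.rels_A2 hy hx (fun e he => h3 ⟨e, he⟩)
        (fun e he => hq ⟨e, by rw [he]; module⟩)
      obtain rfl : c = D.P.reflectionPerm b a := D.P.root.injective (by rw [hc, cA]; module)
      refine ⟨ε, hε, fun X x y => ?_⟩
      rw [R X x y]
      refine congrArg (ev v _) ?_; push_cast; ring
  · have hp' : p = 2 := by
      have k1 : D.P.root b - (1 : ℤ) • D.P.root a ∈ Set.range D.P.root := by
        rw [hx] at h1; convert h1 using 1; module
      have k2 : p ≠ 1 := fun e => hp (by rw [e]; exact_mod_cast k1)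
      by_contra hne
      refine hq ?_
      have := hstring 2 (by simpa using hpk 2 (by omega))
      rwa [hx] at this
    subst hp'
    obtain ⟨Q, hQ⟩ := hpk 1 (by omega)
    replace hQ : D.P.root Q = (-1 : ℤ) • D.P.root a + (1 : ℤ) • D.P.root b := by rw [hQ]; push_cast; module
    have hQa : D.P.pairing Q a = -2 := by rw [pairing_comb hQ, D.P.pairing_same, hx]; norm_num
    have hQm := pairing_pair_mem' (D := D) (a := a) (b := Q) fun r s e => by
      rw [hQ] at e
      obtain ⟨e1, e2⟩ := hind (r - s) s (by rw [← e]; module)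
      omega
    simp only [List.mem_cons, Prod.mk.injEq, List.not_mem_nil, or_false] at hQm
    obtain ⟨cA, cB, εA, εB, hεA, hεB, R⟩ := h.rels_B2 (p := a) (q := Q) (by omega) hQa
    obtain rfl : b = D.P.reflectionPerm Q a := D.P.root.injective (by rw [cA, hQ]; module)
    obtain rfl : c = D.P.reflectionPerm a Q := D.P.root.injective (by rw [hc, cB, hQ]; module)
    refine ⟨εB * εA, ?_, fun X x y => ?_⟩
    · rcases hεA with rfl | rfl <;> rcases hεB with rfl | rfl <;> norm_num
    rw [ev_sign (k := D.P.reflectionPerm Q a) hεA y, commutator_of_rule ((R X).r2 x _),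
      ((R X).cAB _ _).eq, mul_inv_cancel_right, ((R X).cPB _ _).eq, mul_inv_cancel_right]
    refine congrArg (ev v _) ?_; push_cast; ring
  · have k1 : D.P.root b - (1 : ℤ) • D.P.root a ∈ Set.range D.P.root := by
      rw [hx] at h0; convert h0 using 1; module
    have k2 : D.P.root b - (2 : ℤ) • D.P.root a ∈ Set.range D.P.root := by
      rw [hx] at h1; convert h1 using 1; module
    have hp' : p = 3 := by
      have : p ≠ 1 := fun e => hp (by rw [e]; exact_mod_cast k1)
      have : p ≠ 2 := fun e => hp (by rw [e]; exact_mod_cast k2)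
      by_contra hne
      refine hq ?_
      have := hstring 3 (by simpa using hpk 3 (by omega))
      rwa [hx] at this
    subst hp'
    obtain ⟨Q, hQ⟩ := k2
    replace hQ : D.P.root Q = (-2 : ℤ) • D.P.root a + (1 : ℤ) • D.P.root b := by rw [hQ]; module
    have hQa : D.P.pairing Q a = -3 := by rw [pairing_comb hQ, D.P.pairing_same, hx]; norm_num
    have hQm := pairing_pair_mem (D := D) a Q
    simp only [pairList, List.mem_cons, Prod.mk.injEq, List.not_mem_nil, or_false] at hQm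
    obtain ⟨cA, cB, cC, cE, εA, εB, εC, εE, hεA, hεB, hεC, hεE, R⟩ := h.rels_G2 (p := a) (q := Q) (by omega) hQa
    obtain rfl : b = D.P.reflectionPerm a (D.P.reflectionPerm Q a) := D.P.root.injective (by rw [cB, hQ]; module)
    obtain rfl : c = D.P.reflectionPerm a Q := D.P.root.injective (by rw [hc, cC, hQ]; module)
    refine ⟨εC * εB, ?_, fun X x y => ?_⟩
    · rcases hεB with rfl | rfl <;> rcases hεC with rfl | rfl <;> norm_num
    rw [ev_sign (k := D.P.reflectionPerm a (D.P.reflectionPerm Q a)) hεB y, (R X).comm_PB x _]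
    refine congrArg (ev v _) ?_; push_cast; ring

end Bruhat

end
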