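import Groth.Agent.BruhatLib.G2Rel

/-!
# The commutation coefficients of a pinned pair of type G₂
-/

set_option autoImplicit false
set_option linter.style.haveILetI false
set_option linter.unusedSectionVars false
set_option backward.isDefEq.respectTransparency false
set_option maxHeartbeats 1000000
set_option synthInstance.maxHeartbeats 400000

universe u

open CategoryTheory CategoryTheory.Limits MonoidalCategory CartesianMonoidalCategory AlgebraicGeometry
open Groth.Agent.GaPts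
open Groth.Agent
open Groth.Agent.RankOne (eq_ptOf eq_ptOfUnit comp_ptOf ptOf_add)
open scoped MonObj

noncomputable section

attribute [-instance] CategoryTheory.Hom.commGroup

namespace Bruhat

open SplitCell SplitFib RootSubgrp

section Assoc

variable {S : Scheme.{u}} {X Y : Over S} [GrpObj Y] (f g k : X ⟶ Y)

theorem hom_assoc : f * g * k = f * (g * k) := _root_.mul_assoc _ _ _

theorem hom_cancel : f * (f⁻¹ * g) = g := mul_inv_cancel_left _ _

theorem hom_cancel' : f⁻¹ * (f * g) = g := inv_mul_cancel_left _ _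

theorem hom_inv : f * f⁻¹ = 1 := mul_inv_cancel _

theorem hom_inv' : f⁻¹ * f = 1 := inv_mul_cancel _

theorem hom_one : f * 1 = f := _root_.mul_one _

theorem hom_one' : 1 * f = f := _root_.one_mul _

theorem hom_mul_inv : (f * g)⁻¹ = g⁻¹ * f⁻¹ := _root_.mul_inv_rev _ _

theorem hom_inv_inv : f⁻¹⁻¹ = f := _root_.inv_inv _

end Assoc

/-- Reassociate and cancel in a group of points, leaving the coordinates untouched. -/
local macro "gassoc" : tactic => `(tactic| ((try simp only [hom_assoc, hom_cancel, hom_cancel', hom_inv, hom_inv',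
  hom_one, hom_one', hom_mul_inv, hom_inv_inv]) <;> rfl))

variable {S : Scheme.{u}} {G : Over S} [GrpObj G]

section Collect

variable {M : Type*} [Group M]

/-- Collection of the square of the long root element past the short one. -/
theorem collect_sq {x y U V K E δ ε : M} (e1 : y * x = x * y * (U * (V * (K * E))))
    (cyE : Commute y E) (hKy : K * y = y * K * δ) (cyV : Commute y V) (cyU : Commute y U)
    (cUδ : Commute U (δ * E)) (cUK : Commute U K) (hVU : V * U = U * V * ε)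
    (cVδ : Commute V (δ * E)) (cVK : Commute V K) (cKε : Commute K ε) (cKδ : Commute K (δ * E))
    (cεV : Commute ε V) (cεδ : Commute ε (δ * E)) :
    y * y * x = x * (y * y) * (U * U * (V * V * (K * K * (δ * E * ε * E)))) := by
  have hVV : δ * E * (V * (K * E)) = V * (K * (δ * E * E)) := by
    rw [← mul_assoc, ← cVδ.eq, mul_assoc, ← mul_assoc (δ * E), ← cKδ.eq]
    simp only [mul_assoc]
  calc y * y * x = y * (y * x) := mul_assoc _ _ _
    _ = y * (x * y * (U * (V * (K * E)))) := congrArg (y * ·) e1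
    _ = y * x * y * (U * (V * (K * E))) := by simp only [mul_assoc]
    _ = x * y * U * V * K * (E * y) * (U * (V * (K * E))) := by rw [e1]; simp only [mul_assoc]
    _ = x * y * U * V * (K * y) * E * (U * (V * (K * E))) := by rw [← cyE.eq]; simp only [mul_assoc]
    _ = x * y * U * (V * y) * K * (δ * E) * (U * (V * (K * E))) := by rw [hKy]; simp only [mul_assoc]
    _ = x * y * (U * y) * V * K * (δ * E) * (U * (V * (K * E))) := by rw [← cyV.eq]; simp only [mul_assoc]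
    _ = x * (y * y) * U * V * K * ((δ * E) * U) * (V * (K * E)) := by rw [← cyU.eq]; simp only [mul_assoc]
    _ = x * (y * y) * U * V * (K * U) * (δ * E) * (V * (K * E)) := by rw [← cUδ.eq]; simp only [mul_assoc]
    _ = x * (y * y) * U * (V * U) * K * (δ * E) * (V * (K * E)) := by rw [← cUK.eq]; simp only [mul_assoc]
    _ = x * (y * y) * U * U * V * ε * K * (δ * E * (V * (K * E))) := by rw [hVU]; simp only [mul_assoc]
    _ = x * (y * y) * U * U * V * ε * (K * V) * (K * (δ * E * E)) := by rw [hVV]; simp only [mul_assoc]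
    _ = x * (y * y) * U * U * V * (ε * V) * K * (K * (δ * E * E)) := by rw [← cVK.eq]; simp only [mul_assoc]
    _ = x * (y * y) * U * U * (V * V) * (ε * (K * K)) * (δ * E * E) := by rw [cεV.eq]; simp only [mul_assoc]
    _ = x * (y * y) * U * U * (V * V) * (K * K) * (ε * (δ * E)) * E := by
      rw [← (cKε.mul_left cKε).eq]; simp only [mul_assoc]
    _ = _ := by rw [cεδ.eq]; simp only [mul_assoc]

end Collect

section Notation

variable (D : Red.SplitRed G) (p q : D.idx) {X : Over S}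

/-- A normal form with the long root gassoc, up to the top root gassoc. -/
def NQ (g : X ⟶ G) (r s t v : Γ(X.left, ⊤)) : Prop :=
  ∃ e, g = ep D q r * (gA D p q s * (gB D p q t * (gC D p q v * gE D p q e)))

/-- A product of the three highest root groups. -/
def NV (g : X ⟶ G) : Prop := ∃ t v e, g = gB D p q t * (gC D p q v * gE D p q e)

/-- A normal form with the short root gassoc, up to the three highest root groups. -/
def NP (g : X ⟶ G) (r s : Γ(X.left, ⊤)) : Prop := ∃ T, NV D p q T ∧ g = ep D p r * (gA D p q s * T)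

end Notation

theorem commute_ep {D : Red.SplitRed G} {X : Over S} (k : D.idx) (r s : Γ(X.left, ⊤)) :
    Commute (ep D k r) (ep D k s) := by
  rw [Commute, SemiconjBy, ← ep_add, ← ep_add, add_comm]

variable [Nonempty S] {D : Red.SplitRed G} {b : D.P.Base} {p q : D.idx} {avp avq : Red.Gm S ⟶ D.T}
  {wp wq : 𝟙_ (Over S) ⟶ G}

variable (h : PairG2 D b p q avp avq wp wq)
include h

theorem PairG2.comm {d e : D.idx} {i j k l : ℤ} (hd : IsComb D p q d i j) (he : IsComb D p q e k l)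
    (h0 : i + k ≠ 0 ∨ j + l ≠ 0)
    (hno : ¬ (((i + k = 1 ∨ i + k = -1) ∧ j + l = 0) ∨ (i + k = 0 ∧ (j + l = 1 ∨ j + l = -1)) ∨
      (1 ≤ i + k ∧ i + k ≤ 3 ∧ j + l = 1) ∨ (i + k = 3 ∧ j + l = 2) ∨
      (1 ≤ -(i + k) ∧ -(i + k) ≤ 3 ∧ j + l = -1) ∨ (i + k = -3 ∧ j + l = -2)))
    {X : Over S} (r s : Γ(X.left, ⊤)) : Commute (ep D d r) (ep D e s) :=
  h.base.commute hd he h0 (fun c ec => hno (h.no ec)) _ _

variable {X : Over S}

theorem PairG2.cqA (r s : Γ(X.left, ⊤)) : Commute (ep D q r) (gA D p q s) :=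
  h.comm isComb_right h.comb11 (by omega) (by omega) r s

theorem PairG2.cqB (r s : Γ(X.left, ⊤)) : Commute (ep D q r) (gB D p q s) :=
  h.comm isComb_right h.comb21 (by omega) (by omega) r s

theorem PairG2.cqE (r s : Γ(X.left, ⊤)) : Commute (ep D q r) (gE D p q s) :=
  h.comm isComb_right h.comb32 (by omega) (by omega) r s

theorem PairG2.cpC (r s : Γ(X.left, ⊤)) : Commute (ep D p r) (gC D p q s) :=
  h.comm isComb_left h.comb31 (by omega) (by omega) r s

theorem PairG2.cpE (r s : Γ(X.left, ⊤)) : Commute (ep D p r) (gE D p q s) :=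
  h.comm isComb_left h.comb32 (by omega) (by omega) r s

theorem PairG2.cAC (r s : Γ(X.left, ⊤)) : Commute (gA D p q r) (gC D p q s) :=
  h.comm h.comb11 h.comb31 (by omega) (by omega) r s

theorem PairG2.cAE (r s : Γ(X.left, ⊤)) : Commute (gA D p q r) (gE D p q s) :=
  h.comm h.comb11 h.comb32 (by omega) (by omega) r s

theorem PairG2.cBC (r s : Γ(X.left, ⊤)) : Commute (gB D p q r) (gC D p q s) :=
  h.comm h.comb21 h.comb31 (by omega) (by omega) r s

theorem PairG2.cBE (r s : Γ(X.left, ⊤)) : Commute (gB D p q r) (gE D p q s) :=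
  h.comm h.comb21 h.comb32 (by omega) (by omega) r s

theorem PairG2.cCE (r s : Γ(X.left, ⊤)) : Commute (gC D p q r) (gE D p q s) :=
  h.comm h.comb31 h.comb32 (by omega) (by omega) r s

/-- Five root elements of the plane with the first simple one determine their coordinates. -/
theorem PairG2.inj5 {d : D.idx} (hd : d = p ∨ d = q) {r s t v e r' s' t' v' e' : Γ(X.left, ⊤)}
    (he : ep D d r * (gA D p q s * (gB D p q t * (gC D p q v * gE D p q e))) =
      ep D d r' * (gA D p q s' * (gB D p q t' * (gC D p q v' * gE D p q e')))) :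
    r = r' ∧ s = s' ∧ t = t' ∧ v = v' ∧ e = e' := by
  have hcd : ∃ i j : ℤ, IsComb D p q d i j ∧ ((i = 1 ∧ j = 0) ∨ (i = 0 ∧ j = 1)) := by
    rcases hd with rfl | rfl
    · exact ⟨1, 0, isComb_left, Or.inl ⟨rfl, rfl⟩⟩
    · exact ⟨0, 1, isComb_right, Or.inr ⟨rfl, rfl⟩⟩
  obtain ⟨i, j, hcd, hij⟩ := hcd
  let L : Fin 5 → D.idx := ![d, D.P.reflectionPerm q p, D.P.reflectionPerm p (D.P.reflectionPerm q p),
    D.P.reflectionPerm p q, D.P.reflectionPerm q (D.P.reflectionPerm p q)]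
  let I : Fin 5 → ℤ := ![i, 1, 2, 3, 3]
  let J : Fin 5 → ℤ := ![j, 1, 1, 1, 2]
  have hL : ∀ k, IsComb D p q (L k) (I k) (J k) := by
    intro k
    fin_cases k
    · exact hcd
    · exact h.comb11
    · exact h.comb21
    · exact h.comb31
    · exact h.comb32
  have hinj : Function.Injective L := by
    intro k l hkl
    obtain ⟨u1, u2⟩ := h.base.comb_ext (hL k) (hkl ▸ hL l)
    fin_cases k <;> fin_cases l <;> simp [I, J] at u1 u2 ⊢ <;> omega
  have hmem : ∀ k, L k ∈ (sidesOfBase D.P b).pos := fun k => h.base.mem_pos (hL k)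
    (by fin_cases k <;> simp [I] <;> omega) (by fin_cases k <;> simp [J] <;> omega)
  have hz := prod_injective D (sidesOfBase D.P b) hinj hmem
    (z := ![ptOf r, ptOf s, ptOf t, ptOf v, ptOf e]) (z' := ![ptOf r', ptOf s', ptOf t', ptOf v', ptOf e'])
    (by simpa [L, List.ofFn_succ, _root_.mul_assoc] using he)
  have e0 := congrArg Red.gaFn (congrFun hz 0)
  have e1 := congrArg Red.gaFn (congrFun hz 1)
  have e2 := congrArg Red.gaFn (congrFun hz 2)
  have e3 := congrArg Red.gaFn (congrFun hz 3)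
  have e4 := congrArg Red.gaFn (congrFun hz 4)
  simp only [Matrix.cons_val_zero, Matrix.cons_val_one, Matrix.cons_val, gaFn_ptOf] at e0 e1 e2 e3 e4
  exact ⟨e0, e1, e2, e3, e4⟩

theorem PairG2.nq_inj {g : X ⟶ G} {r s t v r' s' t' v' : Γ(X.left, ⊤)} (h1 : NQ D p q g r s t v)
    (h2 : NQ D p q g r' s' t' v') : r = r' ∧ s = s' ∧ t = t' ∧ v = v' := by
  obtain ⟨e, he⟩ := h1
  obtain ⟨e', he'⟩ := h2
  obtain ⟨u1, u2, u3, u4, -⟩ := h.inj5 (Or.inr rfl) (he.symm.trans he')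
  exact ⟨u1, u2, u3, u4⟩

theorem PairG2.np_inj {g : X ⟶ G} {r s r' s' : Γ(X.left, ⊤)} (h1 : NP D p q g r s) (h2 : NP D p q g r' s') :
    r = r' ∧ s = s' := by
  obtain ⟨T, ⟨t, v, e, rfl⟩, he⟩ := h1
  obtain ⟨T', ⟨t', v', e', rfl⟩, he'⟩ := h2
  obtain ⟨u1, u2, -⟩ := h.inj5 (Or.inl rfl) (he.symm.trans he')
  exact ⟨u1, u2⟩

theorem PairG2.nq_W (r : Γ(X.left, ⊤)) : NQ D p q (ep D q r) r 0 0 0 :=
  ⟨0, by simp only [gA, gB, gC, gE, ep_zero, _root_.mul_one]⟩

theorem PairG2.nq_A (s : Γ(X.left, ⊤)) : NQ D p q (gA D p q s) 0 s 0 0 :=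
  ⟨0, by simp only [gA, gB, gC, gE, ep_zero, _root_.mul_one, _root_.one_mul]⟩

theorem PairG2.nq_B (t : Γ(X.left, ⊤)) : NQ D p q (gB D p q t) 0 0 t 0 :=
  ⟨0, by simp only [gA, gB, gC, gE, ep_zero, _root_.mul_one, _root_.one_mul]⟩

theorem PairG2.nq_C (v : Γ(X.left, ⊤)) : NQ D p q (gC D p q v) 0 0 0 v :=
  ⟨0, by simp only [gA, gB, gC, gE, ep_zero, _root_.mul_one, _root_.one_mul]⟩

theorem PairG2.nq_E (e : Γ(X.left, ⊤)) : NQ D p q (gE D p q e) 0 0 0 0 :=
  ⟨e, by simp only [gA, gB, gC, gE, ep_zero, _root_.mul_one, _root_.one_mul]⟩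

theorem PairG2.nv_one : NV D p q (1 : X ⟶ G) :=
  ⟨0, 0, 0, by simp only [gA, gB, gC, gE, ep_zero, _root_.mul_one]⟩

theorem PairG2.nv_B (t : Γ(X.left, ⊤)) : NV D p q (gB D p q t) :=
  ⟨t, 0, 0, by simp only [gA, gB, gC, gE, ep_zero, _root_.mul_one]⟩

theorem PairG2.nv_C (v : Γ(X.left, ⊤)) : NV D p q (gC D p q v) :=
  ⟨0, v, 0, by simp only [gA, gB, gC, gE, ep_zero, _root_.mul_one, _root_.one_mul]⟩

theorem PairG2.nv_E (e : Γ(X.left, ⊤)) : NV D p q (gE D p q e) :=
  ⟨0, 0, e, by simp only [gA, gB, gC, gE, ep_zero, _root_.mul_one, _root_.one_mul]⟩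

theorem PairG2.nv_add (t v e t' v' e' : Γ(X.left, ⊤)) :
    gB D p q t * (gC D p q v * gE D p q e) * (gB D p q t' * (gC D p q v' * gE D p q e')) =
      gB D p q (t + t') * (gC D p q (v + v') * gE D p q (e + e')) := by
  calc gB D p q t * (gC D p q v * gE D p q e) * (gB D p q t' * (gC D p q v' * gE D p q e'))
      = gB D p q t * gC D p q v * (gE D p q e * gB D p q t') * (gC D p q v' * gE D p q e') := by gassoc
    _ = gB D p q t * (gC D p q v * gB D p q t') * (gE D p q e * gC D p q v') * gE D p q e' := by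
      rw [← (h.cBE _ _).eq]; gassoc
    _ = gB D p q t * gB D p q t' * (gC D p q v * gC D p q v') * (gE D p q e * gE D p q e') := by
      rw [← (h.cBC _ _).eq, ← (h.cCE _ _).eq]; gassoc
    _ = _ := by simp only [gA, gB, gC, gE, ep_add, hom_assoc]

theorem PairG2.nv_mul {T T' : X ⟶ G} (h1 : NV D p q T) (h2 : NV D p q T') : NV D p q (T * T') := by
  obtain ⟨t, v, e, rfl⟩ := h1
  obtain ⟨t', v', e', rfl⟩ := h2
  exact ⟨t + t', v + v', e + e', h.nv_add t v e t' v' e'⟩

theorem PairG2.np_p (r : Γ(X.left, ⊤)) : NP D p q (ep D p r) r 0 :=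
  ⟨1, h.nv_one, by simp only [gA, gB, gC, gE, ep_zero, _root_.mul_one]⟩

theorem PairG2.np_A (s : Γ(X.left, ⊤)) : NP D p q (gA D p q s) 0 s :=
  ⟨1, h.nv_one, by simp only [gA, gB, gC, gE, ep_zero, _root_.mul_one, _root_.one_mul]⟩

theorem PairG2.np_V {T : X ⟶ G} (hT : NV D p q T) : NP D p q T 0 0 :=
  ⟨T, hT, by simp only [gA, gB, gC, gE, ep_zero, _root_.one_mul]⟩

variable {a : Fin 4 → Γ(S, ⊤)} {bb : Fin 3 → Γ(S, ⊤)} {c d e₀ : Γ(S, ⊤)} (hR : RelG2 D p q a bb c d e₀)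
include hR

theorem PairG2.nq_mul {g g' : X ⟶ G} {r s t v r' s' t' v' : Γ(X.left, ⊤)} (h1 : NQ D p q g r s t v)
    (h2 : NQ D p q g' r' s' t' v') : NQ D p q (g * g') (r + r') (s + s') (t + t') (v + v') := by
  obtain ⟨e, rfl⟩ := h1
  obtain ⟨e', rfl⟩ := h2
  set δ := X.hom.appTop d * r' * v with hδ
  set ε := X.hom.appTop e₀ * s' * t with hε
  refine ⟨e + δ + ε + e', ?_⟩
  calc ep D q r * (gA D p q s * (gB D p q t * (gC D p q v * gE D p q e))) *
        (ep D q r' * (gA D p q s' * (gB D p q t' * (gC D p q v' * gE D p q e'))))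
      = ep D q r * gA D p q s * gB D p q t * gC D p q v * (gE D p q e * ep D q r') *
          (gA D p q s' * (gB D p q t' * (gC D p q v' * gE D p q e'))) := by gassoc
    _ = ep D q r * gA D p q s * gB D p q t * (gC D p q v * ep D q r') * gE D p q e *
          (gA D p q s' * (gB D p q t' * (gC D p q v' * gE D p q e'))) := by
      rw [← (h.cqE _ _).eq]; gassoc
    _ = ep D q r * gA D p q s * (gB D p q t * ep D q r') * gC D p q v * (gE D p q δ * gE D p q e) *
          (gA D p q s' * (gB D p q t' * (gC D p q v' * gE D p q e'))) := by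
      rw [hR.r4 X r' v, ← hδ]; gassoc
    _ = ep D q r * (gA D p q s * ep D q r') * gB D p q t * gC D p q v * (gE D p q (δ + e) * gA D p q s') *
          (gB D p q t' * (gC D p q v' * gE D p q e')) := by
      rw [← (h.cqB _ _).eq]; simp only [gE, ep_add]; gassoc
    _ = ep D q (r + r') * gA D p q s * gB D p q t * (gC D p q v * gA D p q s') * (gE D p q (δ + e) * gB D p q t') *
          (gC D p q v' * gE D p q e') := by
      rw [← (h.cqA _ _).eq, ← (h.cAE _ _).eq, ep_add]; gassoc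
    _ = ep D q (r + r') * gA D p q s * (gB D p q t * gA D p q s') * (gC D p q v * gB D p q t') *
          (gE D p q (δ + e) * gC D p q v') * gE D p q e' := by
      rw [← (h.cAC _ _).eq, ← (h.cBE _ _).eq]; gassoc
    _ = ep D q (r + r') * gA D p q s * gA D p q s' * gB D p q t * (gE D p q ε * gB D p q t') * gC D p q v *
          gC D p q v' * gE D p q (δ + e) * gE D p q e' := by
      rw [hR.r5 X s' t, ← hε, ← (h.cBC _ _).eq, ← (h.cCE _ _).eq]; gassoc
    _ = ep D q (r + r') * gA D p q s * gA D p q s' * gB D p q t * gB D p q t' * (gE D p q ε * gC D p q v) *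
          gC D p q v' * gE D p q (δ + e) * gE D p q e' := by
      rw [← (h.cBE _ _).eq]; gassoc
    _ = ep D q (r + r') * gA D p q s * gA D p q s' * gB D p q t * gB D p q t' * gC D p q v *
          (gE D p q ε * gC D p q v') * gE D p q (δ + e) * gE D p q e' := by
      rw [← (h.cCE _ _).eq]; gassoc
    _ = ep D q (r + r') * gA D p q s * gA D p q s' * gB D p q t * gB D p q t' * gC D p q v * gC D p q v' *
          gE D p q (ε + (δ + e) + e') := by
      rw [← (h.cCE _ _).eq]; simp only [gE, ep_add]; gassoc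
    _ = _ := by
      rw [show ε + (δ + e) + e' = e + δ + ε + e' by ring]
      simp only [gA, gB, gC, ep_add, _root_.mul_assoc]

theorem PairG2.np_mul {g g' : X ⟶ G} {r s r' s' : Γ(X.left, ⊤)} (h1 : NP D p q g r s) (h2 : NP D p q g' r' s') :
    NP D p q (g * g') (r + r') (s + s') := by
  obtain ⟨T, ⟨t, v, e, rfl⟩, rfl⟩ := h1
  obtain ⟨T', hT', rfl⟩ := h2
  set κ := gC D p q (X.hom.appTop c * r' * t)
  have hA := hR.r2 X r' s
  set B0 := gB D p q (X.hom.appTop (bb 0) * r' * s)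
  set C0 := gC D p q (X.hom.appTop (bb 1) * r' ^ 2 * s)
  set E0 := gE D p q (X.hom.appTop (bb 2) * r' * s ^ 2)
  set ε := gE D p q (X.hom.appTop e₀ * s' * t)
  set ε₀ := gE D p q (X.hom.appTop e₀ * s' * (X.hom.appTop (bb 0) * r' * s))
  refine ⟨B0 * (ε₀ * (C0 * E0)) * (gB D p q t * ε * (κ * (gC D p q v * gE D p q e))) * T', ?_, ?_⟩
  · exact h.nv_mul (h.nv_mul (h.nv_mul (h.nv_B _) (h.nv_mul (h.nv_E _) (h.nv_mul (h.nv_C _) (h.nv_E _))))
      (h.nv_mul (h.nv_mul (h.nv_B _) (h.nv_E _)) (h.nv_mul (h.nv_C _) (h.nv_mul (h.nv_C _) (h.nv_E _))))) hT'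
  calc ep D p r * (gA D p q s * (gB D p q t * (gC D p q v * gE D p q e))) * (ep D p r' * (gA D p q s' * T'))
      = ep D p r * gA D p q s * gB D p q t * gC D p q v * (gE D p q e * ep D p r') * gA D p q s' * T' := by gassoc
    _ = ep D p r * gA D p q s * gB D p q t * (gC D p q v * ep D p r') * gE D p q e * gA D p q s' * T' := by
      rw [← (h.cpE _ _).eq]; gassoc
    _ = ep D p r * gA D p q s * (gB D p q t * ep D p r') * gC D p q v * (gE D p q e * gA D p q s') * T' := by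
      rw [← (h.cpC _ _).eq]; gassoc
    _ = ep D p r * (gA D p q s * ep D p r') * gB D p q t * κ * (gC D p q v * gA D p q s') * gE D p q e * T' := by
      rw [hR.r3 X r' t, ← (h.cAE _ _).eq]; gassoc
    _ = ep D p (r + r') * gA D p q s * B0 * C0 * E0 * gB D p q t * (κ * gA D p q s') * gC D p q v * gE D p q e * T' := by
      rw [hA, ← (h.cAC _ _).eq, ep_add]; gassoc
    _ = ep D p (r + r') * gA D p q s * B0 * C0 * E0 * (gB D p q t * gA D p q s') * κ * gC D p q v * gE D p q e * T' := by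
      rw [← (h.cAC _ _).eq]; gassoc
    _ = ep D p (r + r') * gA D p q s * B0 * C0 * (E0 * gA D p q s') * gB D p q t * ε * κ * gC D p q v * gE D p q e * T' := by
      rw [hR.r5 X s' t]; gassoc
    _ = ep D p (r + r') * gA D p q s * B0 * (C0 * gA D p q s') * E0 * gB D p q t * ε * κ * gC D p q v * gE D p q e * T' := by
      rw [← (h.cAE _ _).eq]; gassoc
    _ = ep D p (r + r') * gA D p q s * (B0 * gA D p q s') * C0 * E0 * gB D p q t * ε * κ * gC D p q v * gE D p q e * T' := by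
      rw [← (h.cAC _ _).eq]; gassoc
    _ = _ := by
      rw [hR.r5 X s' (X.hom.appTop (bb 0) * r' * s)]
      simp only [gA, ep_add, hom_assoc]
      rfl

/-- Conjugation of the long root gassoc by the short root element. -/
theorem PairG2.conjP_q (y : Γ(X.left, ⊤)) : ep D p 1 * ep D q y * (ep D p (1 : Γ(X.left, ⊤)))⁻¹ =
    ep D q y * (gA D p q (-(X.hom.appTop (a 0) * y)) * (gB D p q (X.hom.appTop (a 1) * y) *
      (gC D p q (-(X.hom.appTop (a 2) * y)) * gE D p q (-(X.hom.appTop (a 3) * y ^ 2))))) := by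
  have e := hR.r1 X (-1) y
  rw [ep_neg, show X.hom.appTop (a 0) * -1 * y = -(X.hom.appTop (a 0) * y) by ring,
    show X.hom.appTop (a 1) * (-1) ^ 2 * y = X.hom.appTop (a 1) * y by ring,
    show X.hom.appTop (a 2) * (-1) ^ 3 * y = -(X.hom.appTop (a 2) * y) by ring,
    show X.hom.appTop (a 3) * (-1) ^ 3 * y ^ 2 = -(X.hom.appTop (a 3) * y ^ 2) by ring] at e
  rw [_root_.mul_assoc (ep D p 1), e]
  gassoc

theorem PairG2.conjP_A (z : Γ(X.left, ⊤)) : ep D p 1 * gA D p q z * (ep D p (1 : Γ(X.left, ⊤)))⁻¹ =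
    gA D p q z * (gB D p q (-(X.hom.appTop (bb 0) * z)) * (gC D p q (X.hom.appTop (bb 1) * z) *
      gE D p q (-(X.hom.appTop (bb 2) * z ^ 2)))) := by
  have e := hR.r2 X (-1) z
  rw [ep_neg, show X.hom.appTop (bb 0) * -1 * z = -(X.hom.appTop (bb 0) * z) by ring,
    show X.hom.appTop (bb 1) * (-1) ^ 2 * z = X.hom.appTop (bb 1) * z by ring,
    show X.hom.appTop (bb 2) * -1 * z ^ 2 = -(X.hom.appTop (bb 2) * z ^ 2) by ring] at e
  rw [_root_.mul_assoc (ep D p 1), gA, e]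
  gassoc

theorem PairG2.conjP_B (w : Γ(X.left, ⊤)) : ep D p 1 * gB D p q w * (ep D p (1 : Γ(X.left, ⊤)))⁻¹ =
    gB D p q w * gC D p q (-(X.hom.appTop c * w)) := by
  have e := hR.r3 X (-1) w
  rw [ep_neg, show X.hom.appTop c * -1 * w = -(X.hom.appTop c * w) by ring] at e
  rw [_root_.mul_assoc (ep D p 1), gB, e]
  gassoc

/-- The short root element on the long normal forms. -/
theorem PairG2.nq_conjP {g : X ⟶ G} {r s t v : Γ(X.left, ⊤)} (hg : NQ D p q g r s t v) :
    NQ D p q (ep D p 1 * g * (ep D p (1 : Γ(X.left, ⊤)))⁻¹) r (s - X.hom.appTop (a 0) * r)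
      (t + X.hom.appTop (a 1) * r - X.hom.appTop (bb 0) * s)
      (v - X.hom.appTop (a 2) * r + X.hom.appTop (bb 1) * s - X.hom.appTop c * t) := by
  obtain ⟨e, rfl⟩ := hg
  set P := ep D p (1 : Γ(X.left, ⊤))
  have k1 : NQ D p q (P * ep D q r * P⁻¹) r (-(X.hom.appTop (a 0) * r)) (X.hom.appTop (a 1) * r)
      (-(X.hom.appTop (a 2) * r)) := ⟨_, h.conjP_q hR r⟩
  have k2 : NQ D p q (P * gA D p q s * P⁻¹) 0 s (-(X.hom.appTop (bb 0) * s)) (X.hom.appTop (bb 1) * s) :=
    ⟨_, by rw [h.conjP_A hR s, ep_zero, _root_.one_mul]⟩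
  have k3 : NQ D p q (P * gB D p q t * P⁻¹) 0 0 t (-(X.hom.appTop c * t)) :=
    ⟨0, by rw [h.conjP_B hR t]; simp only [gA, gB, gC, gE, ep_zero, _root_.mul_one, _root_.one_mul]⟩
  have k4 : NQ D p q (P * gC D p q v * P⁻¹) 0 0 0 v := by
    rw [(h.cpC 1 v).eq, mul_inv_cancel_right]; exact h.nq_C v
  have k5 : NQ D p q (P * gE D p q e * P⁻¹) 0 0 0 0 := by
    rw [(h.cpE 1 e).eq, mul_inv_cancel_right]; exact h.nq_E e
  have k := h.nq_mul hR k1 (h.nq_mul hR k2 (h.nq_mul hR k3 (h.nq_mul hR k4 k5)))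
  rw [conj_mul, conj_mul, conj_mul, conj_mul] at k
  convert k using 1 <;> ring

variable {m : Γ(S, ⊤)} (hN : NegRelG2 D p q m)
include hN

/-- The opposite short root element on the long normal forms. -/
theorem PairG2.nq_conjM {g : X ⟶ G} {r s t v : Γ(X.left, ⊤)} (hg : NQ D p q g r s t v) :
    ∃ r' s', NQ D p q (ep D (D.P.reflectionPerm p p) (-1) * g * (ep D (D.P.reflectionPerm p p) (-1 : Γ(X.left, ⊤)))⁻¹)
      r' s' (t - X.hom.appTop m * v) v := by
  obtain ⟨e, rfl⟩ := hg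
  set M := ep D (D.P.reflectionPerm p p) (-1 : Γ(X.left, ⊤))
  have k1 : NQ D p q (M * ep D q r * M⁻¹) r 0 0 0 := by
    rw [(h.comm isComb_left.neg isComb_right (by omega) (by omega) (-1) r).eq, mul_inv_cancel_right]
    exact h.nq_W r
  obtain ⟨r2, e2⟩ := hN.m11 X (-1) s
  have k2 : NQ D p q (M * gA D p q s * M⁻¹) (0 + r2) (s + 0) (0 + 0) (0 + 0) := by
    rw [e2]; exact h.nq_mul hR (h.nq_A s) (h.nq_W r2)
  obtain ⟨r3, s3, t3, e3⟩ := hN.m21 X (-1) t
  have k3 : NQ D p q (M * gB D p q t * M⁻¹) (0 + (0 + (s3 + 0))) (0 + (r3 + (0 + 0))) (t + (0 + (0 + 0)))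
      (0 + (0 + (0 + 0))) := by
    rw [e3]; exact h.nq_mul hR (h.nq_B t) (h.nq_mul hR (h.nq_A r3) (h.nq_mul hR (h.nq_W s3) (h.nq_E t3)))
  obtain ⟨r4, s4, t4, e4⟩ := hN.m31 X (-1) v
  have k4 : NQ D p q (M * gC D p q v * M⁻¹) (0 + (0 + (0 + (s4 + 0)))) (0 + (0 + (r4 + (0 + 0))))
      (0 + (X.hom.appTop m * -1 * v + (0 + (0 + 0)))) (v + (0 + (0 + (0 + 0)))) := by
    rw [e4]
    exact h.nq_mul hR (h.nq_C v) (h.nq_mul hR (h.nq_B _) (h.nq_mul hR (h.nq_A r4)
      (h.nq_mul hR (h.nq_W s4) (h.nq_E t4))))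
  have k5 : NQ D p q (M * gE D p q e * M⁻¹) 0 0 0 0 := by
    rw [(h.comm isComb_left.neg h.comb32 (by omega) (by omega) (-1) e).eq, mul_inv_cancel_right]
    exact h.nq_E e
  have k := h.nq_mul hR k1 (h.nq_mul hR k2 (h.nq_mul hR k3 (h.nq_mul hR k4 k5)))
  rw [conj_mul, conj_mul, conj_mul, conj_mul] at k
  exact ⟨r + (r2 + (s3 + s4)), s + (r3 + r4), by convert k using 1 <;> ring⟩

/-- The image of the long root gassoc under the short Weyl element and a relation of coefficients. -/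
theorem PairG2.conj_p (y : Γ(X.left, ⊤)) :
    (toUnit X ≫ wp) * ep D q y * (toUnit X ≫ wp)⁻¹ = gC D p q (-(X.hom.appTop (a 2) * y)) ∧
      X.hom.appTop (a 1) * y + X.hom.appTop m * (X.hom.appTop (a 2) * y) = 0 := by
  obtain ⟨z', hz'⟩ := h.P.isRefl.conj_u q (ptOf y) (X := X)
  rw [ep_of _ z'] at hz'
  set P := ep D p (1 : Γ(X.left, ⊤))
  set M := ep D (D.P.reflectionPerm p p) (-1 : Γ(X.left, ⊤))
  have hw : toUnit X ≫ wp = P * M * P := by
    refine (congrArg (toUnit X ≫ ·) h.P.hw).trans ?_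
    simp only [P, M, ep_neg, ep, MonObj.comp_mul, GrpObj.comp_inv, ← Category.assoc, comp_ptOf, map_one]
  obtain ⟨r', s', k⟩ := h.nq_conjM hR hN (h.nq_conjP hR (h.nq_W y))
  have k' := h.nq_conjP hR k
  rw [show P * (M * (P * ep D q y * P⁻¹) * M⁻¹) * P⁻¹ = P * M * P * ep D q y * (P * M * P)⁻¹ by gassoc, ← hw, hz']
    at k'
  obtain ⟨e1, e2, e3, e4⟩ := h.nq_inj k' (h.nq_C (Red.gaFn z'))
  subst e1
  rw [MulZeroClass.mul_zero, sub_zero] at e2
  subst e2
  simp only [MulZeroClass.mul_zero, add_zero, sub_zero, zero_add, zero_sub] at e3 e4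
  refine ⟨?_, by linear_combination e3⟩
  rw [hz', gC, ← e4]
  congr 1
  linear_combination -(X.hom.appTop c) * e3

/-- The image of the root gassoc of the sum under the short Weyl element. -/
theorem PairG2.conj_p_mid (z : Γ(X.left, ⊤)) :
    (toUnit X ≫ wp) * gA D p q z * (toUnit X ≫ wp)⁻¹ =
      gB D p q (-(X.hom.appTop (bb 0) * z) - X.hom.appTop m * (X.hom.appTop (bb 1) * z)) := by
  obtain ⟨z', hz'⟩ := h.P.isRefl.conj_u (D.P.reflectionPerm q p) (ptOf z) (X := X)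
  rw [ep_of _ z'] at hz'
  set P := ep D p (1 : Γ(X.left, ⊤))
  set M := ep D (D.P.reflectionPerm p p) (-1 : Γ(X.left, ⊤))
  have hw : toUnit X ≫ wp = P * M * P := by
    refine (congrArg (toUnit X ≫ ·) h.P.hw).trans ?_
    simp only [P, M, ep_neg, ep, MonObj.comp_mul, GrpObj.comp_inv, ← Category.assoc, comp_ptOf, map_one]
  obtain ⟨r', s', k⟩ := h.nq_conjM hR hN (h.nq_conjP hR (h.nq_A z))
  have k' := h.nq_conjP hR k
  rw [show P * (M * (P * gA D p q z * P⁻¹) * M⁻¹) * P⁻¹ = P * M * P * gA D p q z * (P * M * P)⁻¹ by gassoc, ← hw]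
    at k'
  rw [show (toUnit X ≫ wp) * gA D p q z * (toUnit X ≫ wp)⁻¹ = gB D p q (Red.gaFn z') from hz'] at k' ⊢
  obtain ⟨e1, e2, e3, e4⟩ := h.nq_inj k' (h.nq_B (Red.gaFn z'))
  subst e1
  rw [MulZeroClass.mul_zero, sub_zero] at e2
  subst e2
  rw [← e3]
  congr 1
  ring

omit hN in
theorem PairG2.conjQ_p (x : Γ(X.left, ⊤)) :
    NP D p q (ep D q 1 * ep D p x * (ep D q (1 : Γ(X.left, ⊤)))⁻¹) x (X.hom.appTop (a 0) * x) := by
  set Q := ep D q (1 : Γ(X.left, ⊤))
  set A := gA D p q (X.hom.appTop (a 0) * x)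
  set B := gB D p q (X.hom.appTop (a 1) * x ^ 2)
  set C := gC D p q (X.hom.appTop (a 2) * x ^ 3)
  set E := gE D p q (X.hom.appTop (a 3) * x ^ 3)
  have e : Q * ep D p x = ep D p x * Q * (A * (B * (C * E))) := by
    have e' := hR.r1 X x 1
    simp only [_root_.mul_one, one_pow] at e'
    exact e'
  have e4 := hR.r4 X (-1) (X.hom.appTop (a 2) * x ^ 3)
  rw [ep_neg] at e4
  set E' := gE D p q (X.hom.appTop d * -1 * (X.hom.appTop (a 2) * x ^ 3))
  refine ⟨B * (C * E' * E), h.nv_mul (h.nv_B _) (h.nv_mul (h.nv_mul (h.nv_C _) (h.nv_E _)) (h.nv_E _)), ?_⟩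
  calc Q * ep D p x * Q⁻¹ = ep D p x * (Q * (A * B) * Q⁻¹) * ((Q * C * Q⁻¹) * (Q * E * Q⁻¹)) := by rw [e]; gassoc
    _ = ep D p x * (A * B) * ((Q * C * Q⁻¹) * E) := by
      rw [((h.cqA _ _).mul_right (h.cqB _ _)).eq, mul_inv_cancel_right, (h.cqE _ _).eq, mul_inv_cancel_right]
    _ = ep D p x * (A * B) * ((C * E') * E) := by
      rw [_root_.mul_assoc Q, show C * Q⁻¹ = Q⁻¹ * C * E' from e4]; gassoc
    _ = _ := by gassoc

omit hN in
/-- The long root element on the short normal forms. -/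
theorem PairG2.np_conjQ {g : X ⟶ G} {r s : Γ(X.left, ⊤)} (hg : NP D p q g r s) :
    NP D p q (ep D q 1 * g * (ep D q (1 : Γ(X.left, ⊤)))⁻¹) r (s + X.hom.appTop (a 0) * r) := by
  obtain ⟨T, ⟨t, v, e, rfl⟩, rfl⟩ := hg
  set Q := ep D q (1 : Γ(X.left, ⊤))
  have k2 : NP D p q (Q * gA D p q s * Q⁻¹) 0 s := by
    rw [(h.cqA _ _).eq, mul_inv_cancel_right]; exact h.np_A s
  have k3 : NP D p q (Q * gB D p q t * Q⁻¹) 0 0 := by
    rw [(h.cqB _ _).eq, mul_inv_cancel_right]; exact h.np_V (h.nv_B t)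
  have k4 : NP D p q (Q * gC D p q v * Q⁻¹) 0 0 := by
    have e4 := hR.r4 X (-1) v
    rw [ep_neg] at e4
    rw [_root_.mul_assoc Q, show gC D p q v * Q⁻¹ = Q⁻¹ * gC D p q v * gE D p q (X.hom.appTop d * -1 * v) from e4]
    simp only [← _root_.mul_assoc, mul_inv_cancel, _root_.one_mul]
    exact h.np_V (h.nv_mul (h.nv_C v) (h.nv_E _))
  have k5 : NP D p q (Q * gE D p q e * Q⁻¹) 0 0 := by
    rw [(h.cqE _ _).eq, mul_inv_cancel_right]; exact h.np_V (h.nv_E e)
  have k := h.np_mul hR (h.conjQ_p hR r) (h.np_mul hR k2 (h.np_mul hR k3 (h.np_mul hR k4 k5)))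
  rw [conj_mul, conj_mul, conj_mul, conj_mul] at k
  convert k using 1 <;> ring

/-- The image of the short root gassoc under the long Weyl element. -/
theorem PairG2.conj_q (x : Γ(X.left, ⊤)) :
    (toUnit X ≫ wq) * ep D p x * (toUnit X ≫ wq)⁻¹ = gA D p q (X.hom.appTop (a 0) * x) := by
  obtain ⟨z', hz'⟩ := h.Q.isRefl.conj_u p (ptOf x) (X := X)
  rw [ep_of _ z'] at hz'
  set Q := ep D q (1 : Γ(X.left, ⊤))
  set N := ep D (D.P.reflectionPerm q q) (-1 : Γ(X.left, ⊤))
  have hw : toUnit X ≫ wq = Q * N * Q := by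
    refine (congrArg (toUnit X ≫ ·) h.Q.hw).trans ?_
    simp only [Q, N, ep_neg, ep, MonObj.comp_mul, GrpObj.comp_inv, ← Category.assoc, comp_ptOf, map_one]
  obtain ⟨T, ⟨t, v, e, rfl⟩, hT⟩ := h.conjQ_p hR x
  have k1 : NP D p q (N * ep D p x * N⁻¹) x 0 := by
    rw [(h.comm isComb_right.neg isComb_left (by omega) (by omega) (-1) x).eq, mul_inv_cancel_right]
    exact h.np_p x
  obtain ⟨r2, s2, t2, u2, e2⟩ := hN.n11 X (-1) (X.hom.appTop (a 0) * x)
  have k2 : NP D p q (N * gA D p q (X.hom.appTop (a 0) * x) * N⁻¹) (0 + (r2 + (0 + (0 + 0))))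
      (X.hom.appTop (a 0) * x + (0 + (0 + (0 + 0)))) := by
    rw [e2]
    exact h.np_mul hR (h.np_A _) (h.np_mul hR (h.np_p r2)
      (h.np_mul hR (h.np_V (h.nv_B s2)) (h.np_mul hR (h.np_V (h.nv_C t2)) (h.np_V (h.nv_E u2)))))
  have k3 : NP D p q (N * gB D p q t * N⁻¹) 0 0 := by
    rw [(h.comm isComb_right.neg h.comb21 (by omega) (by omega) (-1) t).eq, mul_inv_cancel_right]
    exact h.np_V (h.nv_B t)
  have k4 : NP D p q (N * gC D p q v * N⁻¹) 0 0 := by
    rw [(h.comm isComb_right.neg h.comb31 (by omega) (by omega) (-1) v).eq, mul_inv_cancel_right]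
    exact h.np_V (h.nv_C v)
  obtain ⟨r5, e5⟩ := hN.n32 X (-1) e
  have k5 : NP D p q (N * gE D p q e * N⁻¹) 0 0 := by
    rw [e5]; exact h.np_V (h.nv_mul (h.nv_E e) (h.nv_C r5))
  have k := h.np_conjQ hR (h.np_mul hR k1 (h.np_mul hR k2 (h.np_mul hR k3 (h.np_mul hR k4 k5))))
  rw [conj_mul, conj_mul, conj_mul, conj_mul, ← hT,
    show Q * (N * (Q * ep D p x * Q⁻¹) * N⁻¹) * Q⁻¹ = Q * N * Q * ep D p x * (Q * N * Q)⁻¹ by gassoc, ← hw, hz'] at k
  obtain ⟨e1, e2'⟩ := h.np_inj k (h.np_A (Red.gaFn z'))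
  rw [hz', gA, ← e2']
  congr 1
  simp only [add_zero, zero_add] at e1 ⊢
  rw [e1, MulZeroClass.mul_zero, add_zero]

/-- The image of the three short plus one long root gassoc under the long Weyl element. -/
theorem PairG2.conj_q_top (t : Γ(X.left, ⊤)) :
    (toUnit X ≫ wq) * gC D p q t * (toUnit X ≫ wq)⁻¹ = gE D p q (-(X.hom.appTop d * t)) := by
  obtain ⟨z', hz'⟩ := h.Q.isRefl.conj_u (D.P.reflectionPerm p q) (ptOf t) (X := X)
  rw [ep_of _ z'] at hz'
  set Q := ep D q (1 : Γ(X.left, ⊤))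
  set N := ep D (D.P.reflectionPerm q q) (-1 : Γ(X.left, ⊤))
  have hw : toUnit X ≫ wq = Q * N * Q := by
    refine (congrArg (toUnit X ≫ ·) h.Q.hw).trans ?_
    simp only [Q, N, ep_neg, ep, MonObj.comp_mul, GrpObj.comp_inv, ← Category.assoc, comp_ptOf, map_one]
  have sC : ∀ v, Q * gC D p q v * Q⁻¹ = gC D p q v * gE D p q (-(X.hom.appTop d * v)) := fun v => by
    have e := hR.r4 X (-1) v
    rw [ep_neg, show X.hom.appTop d * -1 * v = -(X.hom.appTop d * v) by ring] at e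
    rw [_root_.mul_assoc Q, e]
    simp only [Q]
    gassoc
  obtain ⟨r, hr⟩ := hN.n32 X (-1) (-(X.hom.appTop d * t))
  set f := -(X.hom.appTop d * t)
  have tot : gC D p q (t + r) * gE D p q (-(X.hom.appTop d * (t + r)) + f) = gE D p q (Red.gaFn z') := by
    calc gC D p q (t + r) * gE D p q (-(X.hom.appTop d * (t + r)) + f)
        = (Q * gC D p q (t + r) * Q⁻¹) * (Q * gE D p q f * Q⁻¹) := by
          rw [sC, (h.cqE _ _).eq, mul_inv_cancel_right]; simp only [gE, ep_add]; gassoc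
      _ = Q * ((gC D p q t) * (gC D p q r * gE D p q f)) * Q⁻¹ := by simp only [gC, ep_add]; gassoc
      _ = Q * ((N * gC D p q t * N⁻¹) * (N * gE D p q f * N⁻¹)) * Q⁻¹ := by
          rw [(h.comm isComb_right.neg h.comb31 (by omega) (by omega) (-1) t).eq, mul_inv_cancel_right,
            (h.cCE r f).eq, hr]
      _ = Q * N * (gC D p q t * gE D p q f) * (Q * N)⁻¹ := by gassoc
      _ = Q * N * (Q * gC D p q t * Q⁻¹) * (Q * N)⁻¹ := by rw [sC]
      _ = (toUnit X ≫ wq) * gC D p q t * (toUnit X ≫ wq)⁻¹ := by rw [hw]; gassoc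
      _ = _ := hz'
  obtain ⟨-, -, -, e1, e2⟩ := h.inj5 (d := q) (Or.inr rfl) (r := 0) (s := 0) (t := 0) (r' := 0) (s' := 0) (t' := 0)
    (v' := 0) (by simp only [gA, gB, gC, gE, ep_zero, _root_.one_mul] at tot ⊢; exact tot)
  rw [show (toUnit X ≫ wq) * gC D p q t * (toUnit X ≫ wq)⁻¹ = gE D p q (Red.gaFn z') from hz', ← e2, e1]
  congr 1
  ring

omit hN in
/-- The additivity relations in the short variable. -/
theorem PairG2.add_x (s : Γ(X.left, ⊤)) :
    (X.hom.appTop (bb 0) * X.hom.appTop (a 0)) * s = 2 * X.hom.appTop (a 1) * s ∧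
      X.hom.appTop (bb 1) * X.hom.appTop (a 0) * s ^ 2 + X.hom.appTop c * X.hom.appTop (a 1) * s =
        3 * X.hom.appTop (a 2) * (s ^ 2 + s) ∧
      X.hom.appTop e₀ * X.hom.appTop (a 0) * X.hom.appTop (a 1) * s ^ 2 +
          X.hom.appTop (bb 2) * X.hom.appTop (a 0) ^ 2 * s = 3 * X.hom.appTop (a 3) * (s ^ 2 + s) := by
  set α₀ := X.hom.appTop (a 0)
  set α₁ := X.hom.appTop (a 1)
  set α₂ := X.hom.appTop (a 2)
  set α₃ := X.hom.appTop (a 3)
  set x := ep D p (1 : Γ(X.left, ⊤))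
  set x' := ep D p s
  set y := ep D q (1 : Γ(X.left, ⊤))
  have e1 : y * x = x * y * (gA D p q α₀ * (gB D p q α₁ * (gC D p q α₂ * gE D p q α₃))) := by
    have e := hR.r1 X 1 1
    simp only [_root_.mul_one, one_pow] at e
    exact e
  have e2 : y * x' = x' * y * (gA D p q (α₀ * s) * (gB D p q (α₁ * s ^ 2) *
      (gC D p q (α₂ * s ^ 3) * gE D p q (α₃ * s ^ 3)))) := by
    have e := hR.r1 X s 1
    simp only [_root_.mul_one, one_pow] at e
    exact e
  have eA := hR.r2 X s α₀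
  have eB := hR.r3 X s α₁
  set U' := gA D p q (α₀ * s)
  set V' := gB D p q (α₁ * s ^ 2)
  set K' := gC D p q (α₂ * s ^ 3)
  set E' := gE D p q (α₃ * s ^ 3)
  set B0 := gB D p q (X.hom.appTop (bb 0) * s * α₀)
  set C0 := gC D p q (X.hom.appTop (bb 1) * s ^ 2 * α₀)
  set E0 := gE D p q (X.hom.appTop (bb 2) * s * α₀ ^ 2)
  set κ := gC D p q (X.hom.appTop c * s * α₁)
  set ε := gE D p q (X.hom.appTop e₀ * α₀ * (α₁ * s ^ 2))
  have key : y * (x * x') = x * x' * y * (U' * gA D p q α₀ * (V' * ε * (K' * E') *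
      (B0 * (C0 * E0)) * (gB D p q α₁ * κ * (gC D p q α₂ * gE D p q α₃)))) := by
    calc y * (x * x') = (y * x) * x' := by gassoc
      _ = x * y * gA D p q α₀ * gB D p q α₁ * gC D p q α₂ * (gE D p q α₃ * x') := by rw [e1]; gassoc
      _ = x * y * gA D p q α₀ * gB D p q α₁ * (gC D p q α₂ * x') * gE D p q α₃ := by
        rw [← (h.cpE s α₃).eq]; gassoc
      _ = x * y * gA D p q α₀ * (gB D p q α₁ * x') * gC D p q α₂ * gE D p q α₃ := by
        rw [← (h.cpC s α₂).eq]; gassoc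
      _ = x * y * (gA D p q α₀ * x') * gB D p q α₁ * κ * gC D p q α₂ * gE D p q α₃ := by rw [eB]; gassoc
      _ = x * (y * x') * gA D p q α₀ * B0 * C0 * E0 * gB D p q α₁ * κ * gC D p q α₂ * gE D p q α₃ := by
        rw [eA]; gassoc
      _ = x * x' * y * U' * V' * K' * (E' * gA D p q α₀) * B0 * C0 * E0 * gB D p q α₁ * κ * gC D p q α₂ *
          gE D p q α₃ := by rw [e2]; gassoc
      _ = x * x' * y * U' * V' * (K' * gA D p q α₀) * E' * B0 * C0 * E0 * gB D p q α₁ * κ * gC D p q α₂ *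
          gE D p q α₃ := by rw [← (h.cAE α₀ _).eq]; gassoc
      _ = x * x' * y * U' * (V' * gA D p q α₀) * K' * E' * B0 * C0 * E0 * gB D p q α₁ * κ * gC D p q α₂ *
          gE D p q α₃ := by rw [← (h.cAC α₀ _).eq]; gassoc
      _ = _ := by rw [hR.r5 X α₀ (α₁ * s ^ 2)]; gassoc
  have e0 := hR.r1 X (1 + s) 1
  rw [ep_add p, key, _root_.mul_one, _root_.mul_one, one_pow, _root_.mul_one] at e0
  have hnv : V' * ε * (K' * E') * (B0 * (C0 * E0)) * (gB D p q α₁ * κ * (gC D p q α₂ * gE D p q α₃)) =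
      gB D p q (α₁ * s ^ 2 + X.hom.appTop (bb 0) * s * α₀ + α₁) *
        (gC D p q (α₂ * s ^ 3 + X.hom.appTop (bb 1) * s ^ 2 * α₀ + X.hom.appTop c * s * α₁ + α₂) *
          gE D p q (X.hom.appTop e₀ * α₀ * (α₁ * s ^ 2) + α₃ * s ^ 3 + X.hom.appTop (bb 2) * s * α₀ ^ 2 + α₃)) := by
    have z0 : (gC D p q 0 : X ⟶ G) = 1 := ep_zero _
    have z1 : (gE D p q 0 : X ⟶ G) = 1 := ep_zero _
    have z2 : (gB D p q 0 : X ⟶ G) = 1 := ep_zero _
    calc _ = gB D p q (α₁ * s ^ 2) * (gC D p q 0 * gE D p q (X.hom.appTop e₀ * α₀ * (α₁ * s ^ 2))) *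
          (gB D p q 0 * (gC D p q (α₂ * s ^ 3) * gE D p q (α₃ * s ^ 3))) *
          (gB D p q (X.hom.appTop (bb 0) * s * α₀) * (gC D p q (X.hom.appTop (bb 1) * s ^ 2 * α₀) *
            gE D p q (X.hom.appTop (bb 2) * s * α₀ ^ 2))) *
          ((gB D p q α₁ * (gC D p q (X.hom.appTop c * s * α₁) * gE D p q 0)) *
            (gB D p q 0 * (gC D p q α₂ * gE D p q α₃))) := by
          rw [z0, z1, z2]; gassoc
      _ = _ := by rw [h.nv_add, h.nv_add, h.nv_add, h.nv_add]; simp only [add_zero, zero_add, add_assoc]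
  have hU : U' * gA D p q α₀ = gA D p q (α₀ * s + α₀) := by simp only [U', gA, ep_add]
  rw [hU, hnv] at e0
  obtain ⟨-, -, f1, f2, f3⟩ := h.inj5 (d := q) (Or.inr rfl) (r := 0) (r' := 0)
    (congrArg (fun z => ep D q (0 : Γ(X.left, ⊤)) * z) (mul_left_cancel e0))
  exact ⟨by linear_combination f1, by linear_combination f2, by linear_combination f3⟩

omit hN in
/-- The additivity relation in the long variable. -/
theorem PairG2.add_y :
    X.hom.appTop d * X.hom.appTop (a 2) + X.hom.appTop e₀ * X.hom.appTop (a 0) * X.hom.appTop (a 1) =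
      2 * X.hom.appTop (a 3) := by
  set α₀ := X.hom.appTop (a 0)
  set α₁ := X.hom.appTop (a 1)
  set α₂ := X.hom.appTop (a 2)
  set α₃ := X.hom.appTop (a 3)
  set x := ep D p (1 : Γ(X.left, ⊤))
  set y := ep D q (1 : Γ(X.left, ⊤))
  set U := gA D p q α₀
  set V := gB D p q α₁
  set K := gC D p q α₂
  set E := gE D p q α₃
  have e1 : y * x = x * y * (U * (V * (K * E))) := by
    have e := hR.r1 X 1 1
    simp only [_root_.mul_one, one_pow] at e
    exact e
  set δ := gE D p q (X.hom.appTop d * 1 * α₂)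
  set ε := gE D p q (X.hom.appTop e₀ * α₀ * α₁)
  have key : y * y * x = x * (y * y) * (U * U * (V * V * (K * K * (δ * E * ε * E)))) :=
    collect_sq e1 (h.cqE _ _) (hR.r4 X 1 α₂) (h.cqB _ _) (h.cqA _ _) ((h.cAE _ _).mul_right (h.cAE _ _))
      (h.cAC _ _) (hR.r5 X α₀ α₁) ((h.cBE _ _).mul_right (h.cBE _ _)) (h.cBC _ _) (h.cCE _ _)
      ((h.cCE _ _).mul_right (h.cCE _ _)) (h.cBE _ _).symm
      ((commute_ep _ _ _).mul_right (commute_ep _ _ _))
  have e0 := hR.r1 X 1 (1 + 1)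
  rw [ep_add q, key] at e0
  simp only [x, y, U, V, K, E, δ, ε, gA, gB, gC, gE, ← ep_add] at e0
  obtain ⟨-, -, -, -, f⟩ := h.inj5 (d := q) (Or.inr rfl) (r := 0) (r' := 0)
    (congrArg (fun z => ep D q (0 : Γ(X.left, ⊤)) * z) (mul_left_cancel e0))
  linear_combination f

omit hN in
/-- The coefficients of the derived formulas. -/
theorem PairG2.coef_eqs :
    X.hom.appTop (bb 0) * X.hom.appTop (a 0) = 2 * X.hom.appTop (a 1) ∧
      X.hom.appTop (bb 1) * X.hom.appTop (a 0) = 3 * X.hom.appTop (a 2) ∧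
      X.hom.appTop c * X.hom.appTop (a 1) = 3 * X.hom.appTop (a 2) ∧
      X.hom.appTop e₀ * X.hom.appTop (a 0) * X.hom.appTop (a 1) = 3 * X.hom.appTop (a 3) ∧
      X.hom.appTop (bb 2) * X.hom.appTop (a 0) ^ 2 = 3 * X.hom.appTop (a 3) ∧
      X.hom.appTop d * X.hom.appTop (a 2) = -X.hom.appTop (a 3) := by
  obtain ⟨X', π, s, hπ, hs⟩ := RankOne.exists_goldCover X
  haveI := hπ
  have hinj : Function.Injective π.left.appTop := fun r r' hr => by
    refine ep_injective (D := D) p ((cancel_epi π).1 ?_)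
    rw [comp_ep, comp_ep, hr]
  have happ : ∀ r : Γ(S, ⊤), π.left.appTop (X.hom.appTop r) = X'.hom.appTop r := fun r => by
    rw [← CommRingCat.comp_apply, ← Scheme.Hom.comp_appTop, Over.w π]
  obtain ⟨g1, g2, g3⟩ := h.add_x hR (X := X) 1
  obtain ⟨-, p2, p3⟩ := h.add_x hR (X := X') s
  obtain ⟨-, q2, q3⟩ := h.add_x hR (X := X') 1
  simp only [_root_.mul_one, one_pow] at g1 q2 q3
  have k2 : X.hom.appTop (bb 1) * X.hom.appTop (a 0) = 3 * X.hom.appTop (a 2) := hinj (by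
    simp only [map_mul, map_ofNat, happ]
    linear_combination p2 - s * q2 -
      (X'.hom.appTop (bb 1) * X'.hom.appTop (a 0) - 3 * X'.hom.appTop (a 2)) * hs)
  have k3 : X.hom.appTop e₀ * X.hom.appTop (a 0) * X.hom.appTop (a 1) = 3 * X.hom.appTop (a 3) := hinj (by
    simp only [map_mul, map_ofNat, happ]
    linear_combination p3 - s * q3 -
      (X'.hom.appTop e₀ * X'.hom.appTop (a 0) * X'.hom.appTop (a 1) - 3 * X'.hom.appTop (a 3)) * hs)
  exact ⟨g1, k2, by linear_combination g2 - k2, k3, by linear_combination g3 - k3,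
    by linear_combination h.add_y hR (X := X) - k3⟩

omit hR hN in
/-- **The commutation formulas of a pinned pair of type G₂.** -/
theorem PairG2.formulas (x y : Γ(X.left, ⊤)) :
    ∃ u11 u21 u31 u32 : Γ(X.left, ⊤) → (X ⟶ G),
      (∀ r, u11 r = (toUnit X ≫ wq) * ep D p r * (toUnit X ≫ wq)⁻¹) ∧
      (∀ r, u21 r = (toUnit X ≫ (wp * wq)) * ep D p r * (toUnit X ≫ (wp * wq))⁻¹) ∧
      (∀ r, u31 r = (toUnit X ≫ wp) * (ep D q r)⁻¹ * (toUnit X ≫ wp)⁻¹) ∧
      (∀ r, u32 r = (toUnit X ≫ (wq * wp)) * (ep D q r)⁻¹ * (toUnit X ≫ (wq * wp))⁻¹) ∧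
      ep D q y * ep D p x = ep D p x * ep D q y * u11 (x * y) * u21 (x ^ 2 * y) * u31 (x ^ 3 * y) * u32 (x ^ 3 * y ^ 2) ∧
      u11 y * ep D p x = ep D p x * u11 y * u21 (2 * x * y) * u31 (3 * x ^ 2 * y) * u32 (3 * x * y ^ 2) ∧
      u21 y * ep D p x = ep D p x * u21 y * u31 (3 * x * y) ∧
      u31 y * ep D q x = ep D q x * u31 y * u32 (-(x * y)) ∧
      u21 y * u11 x = u11 x * u21 y * u32 (3 * x * y) := by
  obtain ⟨a, bb, c, d, e₀, hR⟩ := h.exists_rel
  obtain ⟨m, hN⟩ := h.exists_negRel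
  obtain ⟨k0, k1, kc, ke, k2, kd⟩ := h.coef_eqs hR (X := X)
  have km := (h.conj_p hR hN (X := X) 1).2
  simp only [_root_.mul_one] at km
  set α₀ := X.hom.appTop (a 0)
  set α₁ := X.hom.appTop (a 1)
  set α₂ := X.hom.appTop (a 2)
  set α₃ := X.hom.appTop (a 3)
  refine ⟨fun r => gA D p q (α₀ * r), fun r => gB D p q (α₁ * r), fun r => gC D p q (α₂ * r),
    fun r => gE D p q (α₃ * r), fun r => (h.conj_q hR hN r).symm, fun r => ?_, fun r => ?_, fun r => ?_, ?_⟩
  · rw [MonObj.comp_mul]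
    calc gB D p q (α₁ * r) = (toUnit X ≫ wp) * gA D p q (α₀ * r) * (toUnit X ≫ wp)⁻¹ := by
          rw [h.conj_p_mid hR hN]
          refine congrArg (gB D p q) ?_
          linear_combination r * k0 + X.hom.appTop m * r * k1 + 3 * r * km
      _ = _ := by rw [← h.conj_q hR hN r]; gassoc
  · rw [← ep_neg, (h.conj_p hR hN (-r)).1]
    exact congrArg (gC D p q) (by ring)
  · rw [MonObj.comp_mul]
    calc gE D p q (α₃ * r) = (toUnit X ≫ wq) * gC D p q (α₂ * r) * (toUnit X ≫ wq)⁻¹ := by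
          rw [h.conj_q_top hR hN]
          refine congrArg (gE D p q) ?_
          linear_combination r * kd
      _ = _ := by
          rw [show gC D p q (α₂ * r) = gC D p q (-(α₂ * -r)) by rw [mul_neg, neg_neg], ← (h.conj_p hR hN (-r)).1,
            ep_neg]
          gassoc
  refine ⟨?_, ?_, ?_, ?_, ?_⟩ <;> simp only [gA, gB, gC, gE]
  · rw [hR.r1 X x y]
    simp only [← _root_.mul_assoc]
    rw [_root_.mul_assoc α₀, _root_.mul_assoc α₁, _root_.mul_assoc α₂, _root_.mul_assoc α₃]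
  · rw [hR.r2 X x (α₀ * y),
      show X.hom.appTop (bb 0) * x * (α₀ * y) = α₁ * (2 * x * y) by linear_combination x * y * k0,
      show X.hom.appTop (bb 1) * x ^ 2 * (α₀ * y) = α₂ * (3 * x ^ 2 * y) by linear_combination x ^ 2 * y * k1,
      show X.hom.appTop (bb 2) * x * (α₀ * y) ^ 2 = α₃ * (3 * x * y ^ 2) by linear_combination x * y ^ 2 * k2]
    simp only [_root_.mul_assoc]
  · rw [hR.r3 X x (α₁ * y),
      show X.hom.appTop c * x * (α₁ * y) = α₂ * (3 * x * y) by linear_combination x * y * kc]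
  · rw [hR.r4 X x (α₂ * y),
      show X.hom.appTop d * x * (α₂ * y) = α₃ * -(x * y) by linear_combination x * y * kd]
  · rw [hR.r5 X (α₀ * x) (α₁ * y),
      show X.hom.appTop e₀ * (α₀ * x) * (α₁ * y) = α₃ * (3 * x * y) by linear_combination x * y * ke]

end Bruhat

end
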