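import Mathlib.Algebra.Ring.Basic
import Mathlib.Algebra.Group.Commute.Basic
import Mathlib.Tactic.Ring
import Mathlib.Tactic.Group

/-!
# Commutators derived from the relations of a pinned pair, in an abstract group
-/

set_option autoImplicit false

namespace Bruhat

variable {R M : Type*} [CommRing R] [Group M]

/-- The relations of type B₂ between four one parameter subgroups. -/
structure RelsB2 (P Q A B : R → M) : Prop where
  addP : ∀ x y, P (x + y) = P x * P y
  addA : ∀ x y, A (x + y) = A x * A y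
  addB : ∀ x y, B (x + y) = B x * B y
  r1 : ∀ x y, Q y * P x = P x * Q y * A (x * y) * B (x ^ 2 * y)
  r2 : ∀ x y, A y * P x = P x * A y * B (2 * x * y)
  cQA : ∀ x y, Commute (Q x) (A y)
  cQB : ∀ x y, Commute (Q x) (B y)
  cPB : ∀ x y, Commute (P x) (B y)
  cAB : ∀ x y, Commute (A x) (B y)

/-- The relations of type G₂ between six one parameter subgroups. -/
structure RelsG2 (P Q A B C E : R → M) : Prop where
  addP : ∀ x y, P (x + y) = P x * P y
  addQ : ∀ x y, Q (x + y) = Q x * Q y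
  addA : ∀ x y, A (x + y) = A x * A y
  addB : ∀ x y, B (x + y) = B x * B y
  addC : ∀ x y, C (x + y) = C x * C y
  addE : ∀ x y, E (x + y) = E x * E y
  r1 : ∀ x y, Q y * P x = P x * Q y * A (x * y) * B (x ^ 2 * y) * C (x ^ 3 * y) * E (x ^ 3 * y ^ 2)
  r2 : ∀ x y, A y * P x = P x * A y * B (2 * x * y) * C (3 * x ^ 2 * y) * E (3 * x * y ^ 2)
  r3 : ∀ x y, B y * P x = P x * B y * C (3 * x * y)
  r4 : ∀ x y, C y * Q x = Q x * C y * E (-(x * y))
  r5 : ∀ x y, B y * A x = A x * B y * E (3 * x * y)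
  cQA : ∀ x y, Commute (Q x) (A y)
  cQB : ∀ x y, Commute (Q x) (B y)
  cQE : ∀ x y, Commute (Q x) (E y)
  cPC : ∀ x y, Commute (P x) (C y)
  cPE : ∀ x y, Commute (P x) (E y)
  cAC : ∀ x y, Commute (A x) (C y)
  cAE : ∀ x y, Commute (A x) (E y)
  cBC : ∀ x y, Commute (B x) (C y)
  cBE : ∀ x y, Commute (B x) (E y)
  cCE : ∀ x y, Commute (C x) (E y)

theorem map_zero_of_add {F : R → M} (h : ∀ x y, F (x + y) = F x * F y) : F 0 = 1 := by
  have := h 0 0
  rw [add_zero] at this
  exact left_eq_mul.mp this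

theorem map_neg_of_add {F : R → M} (h : ∀ x y, F (x + y) = F x * F y) (x : R) : F (-x) = (F x)⁻¹ :=
  eq_inv_of_mul_eq_one_left (by rw [← h, neg_add_cancel, map_zero_of_add h])

/-- Conjugation read off a commutation rule at the opposite parameter. -/
theorem conj_of_rule {X Xi U W : M} (hX : X * Xi = 1) (h : U * Xi = Xi * U * W) : X * U * X⁻¹ = U * W := by
  rw [show X⁻¹ = Xi from inv_eq_of_mul_eq_one_right hX, mul_assoc, h, ← mul_assoc, ← mul_assoc, hX, one_mul]

theorem commutator_of_rule {X Y W : M} (h : Y * X = X * Y * W) : Y * X * Y⁻¹ * X⁻¹ = X * (Y * W * Y⁻¹) * X⁻¹ := by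
  rw [h]; group

variable {P Q A B C E : R → M}

theorem RelsB2.comm_PQ (h : RelsB2 P Q A B) (x y : R) :
    Q y * P x * (Q y)⁻¹ * (P x)⁻¹ = A (x * y) * B (-(x ^ 2 * y)) := by
  have hc : P x * A (x * y) * (P x)⁻¹ = A (x * y) * B (2 * -x * (x * y)) :=
    conj_of_rule (by rw [← h.addP, add_neg_cancel, map_zero_of_add h.addP]) (h.r2 _ _)
  rw [commutator_of_rule (W := A (x * y) * B (x ^ 2 * y)) (by rw [h.r1, mul_assoc _ (A _)]),
    (((h.cQA y _).mul_right (h.cQB y _)).eq), mul_inv_cancel_right, ← mul_assoc, mul_assoc _ (B _),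
    ← (((h.cPB x _).inv_left).eq), ← mul_assoc, hc, mul_assoc, ← h.addB]
  congr 2
  ring

theorem RelsG2.conj_PA (h : RelsG2 P Q A B C E) (x z : R) :
    P x * A z * (P x)⁻¹ = A z * (B (-(2 * x * z)) * (C (3 * x ^ 2 * z) * E (-(3 * x * z ^ 2)))) := by
  have hc := conj_of_rule (X := P x) (Xi := P (-x)) (U := A z)
    (W := B (2 * -x * z) * (C (3 * (-x) ^ 2 * z) * E (3 * -x * z ^ 2)))
    (by rw [← h.addP, add_neg_cancel, map_zero_of_add h.addP]) (by rw [h.r2]; simp only [mul_assoc])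
  rw [hc]
  ring_nf

theorem RelsG2.conj_PB (h : RelsG2 P Q A B C E) (x w : R) :
    P x * B w * (P x)⁻¹ = B w * C (-(3 * x * w)) := by
  rw [conj_of_rule (X := P x) (Xi := P (-x)) (by rw [← h.addP, add_neg_cancel, map_zero_of_add h.addP]) (h.r3 _ _)]
  ring_nf

theorem RelsG2.conj_QC (h : RelsG2 P Q A B C E) (y v : R) :
    Q y * C v * (Q y)⁻¹ = C v * E (y * v) := by
  rw [conj_of_rule (X := Q y) (Xi := Q (-y)) (by rw [← h.addQ, add_neg_cancel, map_zero_of_add h.addQ]) (h.r4 _ _)]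
  ring_nf

theorem RelsG2.nv (h : RelsG2 P Q A B C E) (t v e t' v' e' : R) :
    B t * (C v * E e) * (B t' * (C v' * E e')) = B (t + t') * (C (v + v') * E (e + e')) := by
  calc B t * (C v * E e) * (B t' * (C v' * E e')) = B t * (C v * (E e * B t')) * (C v' * E e') := by group
    _ = B t * ((C v * B t') * E e) * (C v' * E e') := by rw [← (h.cBE t' e).eq]; group
    _ = B t * (B t' * C v * E e) * (C v' * E e') := by rw [← (h.cBC t' v).eq]
    _ = B t * B t' * (C v * (E e * C v') * E e') := by group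
    _ = B t * B t' * (C v * C v' * (E e * E e')) := by rw [← (h.cCE v' e).eq]; group
    _ = _ := by rw [← h.addB, ← h.addC, ← h.addE]

/-- The commutator of the simple root groups. -/
theorem RelsG2.comm_PQ (h : RelsG2 P Q A B C E) (x y : R) :
    Q y * P x * (Q y)⁻¹ * (P x)⁻¹ =
      A (x * y) * B (-(x ^ 2 * y)) * C (x ^ 3 * y) * E (-(x ^ 3 * y ^ 2)) := by
  set z := x * y
  set w := x ^ 2 * y
  set v := x ^ 3 * y
  set e := x ^ 3 * y ^ 2
  have hY : Q y * (A z * (B w * (C v * E e))) * (Q y)⁻¹ = A z * (B w * (C v * E (y * v + e))) := by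
    calc Q y * (A z * (B w * (C v * E e))) * (Q y)⁻¹
        = (Q y * A z * (Q y)⁻¹) * ((Q y * B w * (Q y)⁻¹) * ((Q y * C v * (Q y)⁻¹) * (Q y * E e * (Q y)⁻¹))) := by group
      _ = _ := by
        rw [(h.cQA y z).eq, mul_inv_cancel_right, (h.cQB y w).eq, mul_inv_cancel_right, h.conj_QC,
          (h.cQE y e).eq, mul_inv_cancel_right, mul_assoc (C v), ← h.addE]
  calc Q y * P x * (Q y)⁻¹ * (P x)⁻¹
      = P x * (A z * (B w * (C v * E (y * v + e)))) * (P x)⁻¹ := by
        rw [commutator_of_rule (W := A z * (B w * (C v * E e))) (by rw [h.r1]; simp only [z, w, v, e, mul_assoc]), hY]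
    _ = (P x * A z * (P x)⁻¹) * ((P x * B w * (P x)⁻¹) * ((P x * C v * (P x)⁻¹) * (P x * E (y * v + e) * (P x)⁻¹))) := by
        group
    _ = A z * (B (-(2 * x * z)) * (C (3 * x ^ 2 * z) * E (-(3 * x * z ^ 2))) *
        (B w * (C (-(3 * x * w) + v) * E (y * v + e)))) := by
      rw [h.conj_PA, h.conj_PB, (h.cPC x v).eq, mul_inv_cancel_right, (h.cPE x _).eq, mul_inv_cancel_right,
        h.addC (-(3 * x * w))]
      group
    _ = _ := by
      rw [h.nv]
      simp only [z, w, v, e]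
      simp only [mul_assoc]
      congr 2
      · congr 1; ring
      · congr 2 <;> ring

/-- The commutator of two short root groups at 120 degrees. -/
theorem RelsG2.comm_PA (h : RelsG2 P Q A B C E) (x y : R) :
    A y * P x * (A y)⁻¹ * (P x)⁻¹ = B (2 * x * y) * C (-(3 * x ^ 2 * y)) * E (-(3 * x * y ^ 2)) := by
  set t := 2 * x * y
  set v := 3 * x ^ 2 * y
  set e := 3 * x * y ^ 2
  have hAB : A y * B t * (A y)⁻¹ = B t * E (-(3 * y * t)) := by
    have e1 : B t * A y = A y * B t * E (3 * y * t) := h.r5 y t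
    rw [mul_inv_eq_iff_eq_mul, mul_assoc (B t), ← (h.cAE y _).eq, ← mul_assoc, e1, map_neg_of_add h.addE,
      mul_inv_cancel_right]
  have hA : A y * (B t * (C v * E e)) * (A y)⁻¹ = B t * (C v * E (-(3 * y * t) + e)) := by
    calc A y * (B t * (C v * E e)) * (A y)⁻¹
        = (A y * B t * (A y)⁻¹) * ((A y * C v * (A y)⁻¹) * (A y * E e * (A y)⁻¹)) := by group
      _ = B t * ((E (-(3 * y * t)) * C v) * E e) := by
        rw [hAB, (h.cAC y v).eq, mul_inv_cancel_right, (h.cAE y e).eq, mul_inv_cancel_right]; group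
      _ = _ := by rw [← (h.cCE v _).eq, mul_assoc (C v), ← h.addE]
  calc A y * P x * (A y)⁻¹ * (P x)⁻¹ = P x * (B t * (C v * E (-(3 * y * t) + e))) * (P x)⁻¹ := by
        rw [commutator_of_rule (W := B t * (C v * E e)) (by rw [h.r2]; simp only [t, v, e, mul_assoc]), hA]
    _ = (P x * B t * (P x)⁻¹) * ((P x * C v * (P x)⁻¹) * (P x * E (-(3 * y * t) + e) * (P x)⁻¹)) := by group
    _ = B t * (C (-(3 * x * t) + v) * E (-(3 * y * t) + e)) := by
      rw [h.conj_PB, (h.cPC x v).eq, mul_inv_cancel_right, (h.cPE x _).eq, mul_inv_cancel_right, h.addC]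
      group
    _ = _ := by
      simp only [t, v, e]
      rw [← mul_assoc]
      congr 2 <;> ring

/-- The commutator of two short root groups at 60 degrees. -/
theorem RelsG2.comm_PB (h : RelsG2 P Q A B C E) (x y : R) :
    B y * P x * (B y)⁻¹ * (P x)⁻¹ = C (3 * x * y) := by
  rw [commutator_of_rule (h.r3 x y), (h.cBC y _).eq, mul_inv_cancel_right, (h.cPC x _).eq, mul_inv_cancel_right]

/-- The commutator of two long root groups at 120 degrees. -/
theorem RelsG2.comm_QC (h : RelsG2 P Q A B C E) (x y : R) :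
    C y * Q x * (C y)⁻¹ * (Q x)⁻¹ = E (-(x * y)) := by
  rw [commutator_of_rule (h.r4 x y), (h.cCE y _).eq, mul_inv_cancel_right, (h.cQE x _).eq, mul_inv_cancel_right]

end Bruhat
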