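import Groth.Agent.BruhatLib.Plane
import Groth.Agent.BruhatLib.BaseZ

/-!
# A pair of roots with non-positive pairings is simple for a suitable base
-/

set_option autoImplicit false
set_option linter.style.haveILetI false
set_option linter.unusedSectionVars false
set_option backward.isDefEq.respectTransparency false
set_option maxHeartbeats 1000000
set_option synthInstance.maxHeartbeats 400000

universe u

open CategoryTheory CategoryTheory.Limits MonoidalCategory CartesianMonoidalCategory AlgebraicGeometry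
open Groth.Agent

noncomputable section


namespace Bruhat

open SplitCell SplitFib RootSubgrp

/-- The possible pairs of pairings of two roots of a reduced root datum. -/
def pairList : List (ℤ × ℤ) :=
  [(0, 0), (1, 1), (-1, -1), (1, 2), (2, 1), (-1, -2), (-2, -1), (1, 3), (3, 1), (-1, -3), (-3, -1), (2, 2), (-2, -2)]

/-- The coefficient pairs which are not combinations of one sign. -/
def excList : ℤ → List (ℤ × ℤ)
  | 1 => [(2, 1), (1, 2), (1, -1), (-2, -1), (-1, -2), (-1, 1), (6, 3), (3, 6), (3, -3), (-6, -3), (-3, -6), (-3, 3)]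
  | 2 => [(2, 1), (-2, -1)]
  | _ => []

theorem plane_arith : ∀ n ∈ ([1, 2, 3] : List ℤ), ∀ u ∈ pairList, ∀ w ∈ pairList,
    u.1 * w.2 = n * w.1 * u.2 → 2 * (4 - n) = (2 * u.1 + n * w.1) * u.2 + (u.1 + 2 * w.1) * w.2 →
    ((2 * u.1 + n * w.1) % (4 - n) = 0 ∧ (u.1 + 2 * w.1) % (4 - n) = 0 ∧
      ((0 ≤ 2 * u.1 + n * w.1 ∧ 0 ≤ u.1 + 2 * w.1) ∨ (2 * u.1 + n * w.1 ≤ 0 ∧ u.1 + 2 * w.1 ≤ 0))) ∨
      (2 * u.1 + n * w.1, u.1 + 2 * w.1) ∈ excList n := by
  decide

variable {S : Scheme.{u}} {G : Over S} [GrpObj G] [Nonempty S] {D : Red.SplitRed G}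

/-- A root of the plane of two roots. -/
def InPlane (D : Red.SplitRed G) (p q c : D.idx) : Prop :=
  ∃ m i j : ℤ, m ≠ 0 ∧ m • D.P.root c = i • D.P.root p + j • D.P.root q

theorem pairing_pair_mem (i j : D.idx) : (D.P.pairing i j, D.P.pairing j i) ∈ pairList := by
  haveI := isReduced_root D
  have h := D.P.pairingIn_pairingIn_mem_set_of_isCrystal_of_isRed i j
  rw [BaseZ.pairingIn_eq, BaseZ.pairingIn_eq] at h
  simpa [pairList] using h

omit [Nonempty S] in
theorem exists_length (D : Red.SplitRed G) :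
    ∃ L : D.idx → ℤ, (∀ i, 0 < L i) ∧ ∀ i j, D.P.pairing j i * L i = D.P.pairing i j * L j := by
  refine ⟨(D.P.posRootForm ℤ).rootLength, fun i => RootPairing.RootPositiveForm.rootLength_pos _ i, fun i j => ?_⟩
  rw [← BaseZ.pairingIn_eq, ← BaseZ.pairingIn_eq]
  exact RootPairing.RootPositiveForm.pairingIn_mul_eq_pairingIn_mul_swap _ i j

variable {p q : D.idx} {n : ℤ}

/-- The coordinates of a root of the plane. -/
theorem plane_coord (hn : n ∈ ([1, 2, 3] : List ℤ)) (hpq : D.P.pairing p q = -1) (hqp : D.P.pairing q p = -n)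
    {c : D.idx} (hc : InPlane D p q c) :
    ∃ A B : ℤ, (4 - n) • D.P.root c = A • D.P.root p + B • D.P.root q ∧
      A = 2 * D.P.pairing c p + n * D.P.pairing c q ∧ B = D.P.pairing c p + 2 * D.P.pairing c q ∧
      ((A % (4 - n) = 0 ∧ B % (4 - n) = 0 ∧ ((0 ≤ A ∧ 0 ≤ B) ∨ (A ≤ 0 ∧ B ≤ 0))) ∨ (A, B) ∈ excList n) := by
  obtain ⟨m, i, j, hm, e⟩ := hc
  have h1 := congrArg (D.P.coroot' p) e
  have h2 := congrArg (D.P.coroot' q) e
  simp only [map_add, map_zsmul, coroot'_root D, smul_eq_mul, hpq, hqp, D.P.pairing_same] at h1 h2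
  set x := D.P.pairing c p with hx
  set y := D.P.pairing c q with hy
  refine ⟨2 * x + n * y, x + 2 * y, ?_, rfl, rfl, ?_⟩
  · refine smul_right_injective D.M hm ?_
    show m • ((4 - n) • D.P.root c) = m • ((2 * x + n * y) • D.P.root p + (x + 2 * y) • D.P.root q)
    rw [smul_comm m, e, smul_add, smul_add, smul_smul, smul_smul, smul_smul, smul_smul,
      show (4 - n) * i = m * (2 * x + n * y) by linear_combination -(2 * h1) - n * h2,
      show (4 - n) * j = m * (x + 2 * y) by linear_combination -h1 - 2 * h2]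
  have hne : (4 - n) * m ≠ 0 := by
    refine mul_ne_zero ?_ hm
    fin_cases hn <;> norm_num
  have h3 : (4 - n) * 2 = (2 * x + n * y) * D.P.pairing p c + (x + 2 * y) * D.P.pairing q c := by
    have h4 := congrArg (D.P.coroot' c) e
    simp only [map_add, map_zsmul, coroot'_root D, smul_eq_mul, D.P.pairing_same] at h4
    have hi : (4 - n) * i = m * (2 * x + n * y) := by linear_combination -(2 * h1) - n * h2
    have hj : (4 - n) * j = m * (x + 2 * y) := by linear_combination -h1 - 2 * h2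
    refine mul_left_cancel₀ hm ?_
    linear_combination (4 - n) * h4 + D.P.pairing p c * hi + D.P.pairing q c * hj
  obtain ⟨L, hL, hsw⟩ := exists_length D
  have hxy : x * D.P.pairing q c = n * y * D.P.pairing p c := by
    refine mul_right_cancel₀ (hL c).ne' ?_
    have a1 := hsw p c
    have a2 := hsw q c
    have a3 := hsw p q
    rw [hqp, hpq] at a3
    rw [← hx] at a1
    rw [← hy] at a2
    linear_combination -x * a2 + n * y * a1 + x * y * a3
  exact plane_arith n hn _ (pairing_pair_mem c p) _ (pairing_pair_mem c q) hxy (by linear_combination h3)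

/-- In type B₂ and G₂ the roots of the plane are combinations of one sign. -/
theorem plane_sign_of_ne_one (hn : n ∈ ([2, 3] : List ℤ)) (hpq : D.P.pairing p q = -1)
    (hqp : D.P.pairing q p = -n) {c : D.idx} (hc : InPlane D p q c) :
    ∃ i j : ℤ, IsComb D p q c i j ∧ ((0 ≤ i ∧ 0 ≤ j) ∨ (i ≤ 0 ∧ j ≤ 0)) := by
  obtain ⟨A, B, e, -, -, h⟩ := plane_coord (by fin_cases hn <;> simp) hpq hqp hc
  fin_cases hn
  · rcases h with ⟨hA, hB, hs⟩ | h
    · refine ⟨A / 2, B / 2, ?_, by omega⟩
      refine smul_right_injective D.M (show (2 : ℤ) ≠ 0 by norm_num) ?_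
      show (2 : ℤ) • D.P.root c = (2 : ℤ) • ((A / 2) • D.P.root p + (B / 2) • D.P.root q)
      rw [smul_add, smul_smul, smul_smul, show 2 * (A / 2) = A by omega, show 2 * (B / 2) = B by omega, ← e]
      norm_num
    · exfalso
      have hk : D.P.root (D.P.reflectionPerm p q) = (2 : ℤ) • D.P.root p + D.P.root q := by
        rw [RootPairing.root_reflectionPerm, RootPairing.reflection_apply_root, hqp]
        module
      simp only [excList, List.mem_cons, Prod.mk.injEq, List.not_mem_nil, or_false] at h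
      rcases h with ⟨rfl, rfl⟩ | ⟨rfl, rfl⟩
      · have := eq_one_of_root_eq_smul (d := D.P.reflectionPerm p q) (e := c) (m := 2) (by norm_num)
          (by rw [hk]; norm_num at e; rw [e])
        omega
      · have := eq_one_of_root_eq_smul (d := D.P.reflectionPerm p q) (e := D.P.reflectionPerm c c) (m := 2)
          (by norm_num) (by rw [hk, root_neg]; norm_num at e; rw [smul_neg, e]; module)
        omega
  · rcases h with ⟨hA, hB, hs⟩ | h
    · refine ⟨A, B, ?_, hs⟩
      norm_num at e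
      exact e
    · simp [excList] at h

/-- Long roots at 120 degrees, with no root three times smaller in their plane. -/
theorem plane_sign_of_A2 (hpq : D.P.pairing p q = -1) (hqp : D.P.pairing q p = -1)
    (h1 : ∀ e, (3 : ℤ) • D.P.root e ≠ D.P.root q - D.P.root p)
    (h2 : ∀ e, D.P.root e ≠ (2 : ℤ) • D.P.root p + D.P.root q)
    {c : D.idx} (hc : InPlane D p q c) :
    ∃ i j : ℤ, IsComb D p q c i j ∧ ((0 ≤ i ∧ 0 ≤ j) ∨ (i ≤ 0 ∧ j ≤ 0)) := by
  let No : ℤ → ℤ → Prop := fun A B => ∀ e, (3 : ℤ) • D.P.root e ≠ A • D.P.root p + B • D.P.root q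
  have tneg : ∀ A B, No A B → No (-A) (-B) := fun A B h e he => h (D.P.reflectionPerm e e) (by
    rw [root_neg, smul_neg, he]; module)
  have tp : ∀ A B A' : ℤ, A' = B - A → No A B → No A' B := fun A B A' hA' h e he => by
    have hx := congrArg (D.P.coroot' p) he
    simp only [map_add, map_zsmul, coroot'_root D, smul_eq_mul, hqp, D.P.pairing_same] at hx
    refine h (D.P.reflectionPerm p e) ?_
    rw [RootPairing.root_reflectionPerm, RootPairing.reflection_apply_root, smul_sub, smul_smul, hx, he, hA']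
    module
  have tq : ∀ A B B' : ℤ, B' = A - B → No A B → No A B' := fun A B B' hB' h e he => by
    have hx := congrArg (D.P.coroot' q) he
    simp only [map_add, map_zsmul, coroot'_root D, smul_eq_mul, hpq, D.P.pairing_same] at hx
    refine h (D.P.reflectionPerm q e) ?_
    rw [RootPairing.root_reflectionPerm, RootPairing.reflection_apply_root, smul_sub, smul_smul, hx, he, hB']
    module
  have b1 : No (-1) 1 := fun e he => h1 e (by rw [he]; module)
  have b2 : No 6 3 := fun e he => h2 e (smul_right_injective D.M (show (3 : ℤ) ≠ 0 by norm_num) (by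
    show (3 : ℤ) • D.P.root e = (3 : ℤ) • ((2 : ℤ) • D.P.root p + D.P.root q)
    rw [he]; module))
  have hexc : ∀ z ∈ excList 1, No z.1 z.2 := by
    have a1 : No 1 (-1) := by simpa using tneg _ _ b1
    have a2 : No 2 1 := tp (-1) 1 2 (by norm_num) b1
    have a3 : No (-2) (-1) := tneg _ _ a2
    have a4 : No 1 2 := tq 1 (-1) 2 (by norm_num) a1
    have a5 : No (-1) (-2) := tneg _ _ a4
    have c1 : No (-6) (-3) := tneg _ _ b2
    have c2 : No (-3) 3 := tp 6 3 (-3) (by norm_num) b2
    have c3 : No 3 (-3) := by simpa using tneg _ _ c2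
    have c4 : No 3 6 := tq 3 (-3) 6 (by norm_num) c3
    have c5 : No (-3) (-6) := tneg _ _ c4
    simp only [excList, List.mem_cons, List.not_mem_nil, or_false, forall_eq_or_imp, forall_eq]
    exact ⟨a2, a4, a1, a3, a5, b1, b2, c4, c3, c1, c5, c2⟩
  obtain ⟨A, B, e, -, -, h⟩ := plane_coord (n := 1) (by simp) hpq hqp hc
  rcases h with ⟨hA, hB, hs⟩ | h
  · refine ⟨A / 3, B / 3, ?_, by omega⟩
    refine smul_right_injective D.M (show (3 : ℤ) ≠ 0 by norm_num) ?_
    show (3 : ℤ) • D.P.root c = (3 : ℤ) • ((A / 3) • D.P.root p + (B / 3) • D.P.root q)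
    norm_num at hA hB e
    rw [smul_add, smul_smul, smul_smul, show 3 * (A / 3) = A by omega, show 3 * (B / 3) = B by omega, ← e]
  · norm_num at e
    exact absurd e (hexc (A, B) h c)

omit [Nonempty S] in
theorem linearIndependent_pq (hn : n ∈ ([1, 2, 3] : List ℤ)) (hpq : D.P.pairing p q = -1)
    (hqp : D.P.pairing q p = -n) : LinearIndependent ℤ ![D.P.root p, D.P.root q] := by
  refine LinearIndependent.pair_iff.2 fun s t e => ?_
  have h1 := congrArg (D.P.coroot' p) e
  have h2 := congrArg (D.P.coroot' q) e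
  simp only [map_add, map_zsmul, map_zero, coroot'_root D, smul_eq_mul, hpq, hqp, D.P.pairing_same] at h1 h2
  fin_cases hn <;> omega

/-- **Two roots whose plane is spanned with one sign are simple for some base.** -/
theorem exists_simplePair (hli : LinearIndependent ℤ ![D.P.root p, D.P.root q])
    (hs : ∀ c, InPlane D p q c → ∃ i j : ℤ, IsComb D p q c i j ∧ ((0 ≤ i ∧ 0 ≤ j) ∨ (i ≤ 0 ∧ j ≤ 0))) :
    ∃ b : D.P.Base, SimplePair D b p q := by
  classical
  haveI := isReduced_root D
  obtain ⟨g, hg⟩ := exists_pos_functional _ hli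
  have hgp : 0 < g (D.P.root p) := hg 0
  have hgq : 0 < g (D.P.root q) := hg 1
  let W := Submodule.span ℤ ({D.P.root p, D.P.root q} : Set D.M)
  let Q := (D.M ⧸ W) ⧸ Submodule.torsion ℤ (D.M ⧸ W)
  haveI : Module.IsTorsionFree ℤ Q := inferInstance
  haveI : Module.Free ℤ Q := Module.free_of_finite_type_torsion_free'
  let π : D.M →ₗ[ℤ] Q := (Submodule.torsion ℤ (D.M ⧸ W)).mkQ.comp W.mkQ
  let T : Finset Q := insert 0 (Finset.univ.image fun c => π (D.P.root c))
  obtain ⟨φ, hφ⟩ := exists_injective_functional (fun x : T => (x : Q)) Subtype.val_injective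
  let h : D.M →ₗ[ℤ] ℤ := φ.comp π
  have hW : ∀ v, v = D.P.root p ∨ v = D.P.root q → h v = 0 := fun v hv => by
    have : W.mkQ v = 0 := by
      rw [Submodule.mkQ_apply, Submodule.Quotient.mk_eq_zero]
      exact Submodule.subset_span (by rcases hv with rfl | rfl <;> simp)
    show φ ((Submodule.torsion ℤ (D.M ⧸ W)).mkQ (W.mkQ v)) = 0
    rw [this, map_zero, map_zero]
  have hp0 : h (D.P.root p) = 0 := hW _ (Or.inl rfl)
  have hq0 : h (D.P.root q) = 0 := hW _ (Or.inr rfl)
  have hin : ∀ c, h (D.P.root c) = 0 → InPlane D p q c := fun c hc => by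
    have h0 : π (D.P.root c) = 0 := congrArg Subtype.val (@hφ ⟨π (D.P.root c), by simp [T]⟩ ⟨0, by simp [T]⟩
      (by show φ (π (D.P.root c)) = φ 0; rw [map_zero]; exact hc))
    have h1 : W.mkQ (D.P.root c) ∈ Submodule.torsion ℤ (D.M ⧸ W) := by
      rw [← Submodule.Quotient.mk_eq_zero]
      exact h0
    obtain ⟨⟨m, hm⟩, hm'⟩ := (Submodule.mem_torsion_iff _).1 h1
    have h2 : m • D.P.root c ∈ W := by
      rw [← Submodule.Quotient.mk_eq_zero, Submodule.Quotient.mk_smul]
      exact hm'
    obtain ⟨i, j, hij⟩ := Submodule.mem_span_pair.1 h2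
    exact ⟨m, i, j, nonZeroDivisors.ne_zero hm, hij.symm⟩
  let K : ℤ := 1 + ∑ c, |g (D.P.root c)|
  have hK : ∀ c, |g (D.P.root c)| < K := fun c => by
    have := Finset.single_le_sum (f := fun c : D.idx => |g (D.P.root c)|) (fun c _ => abs_nonneg _) (Finset.mem_univ c)
    omega
  let F : D.M →ₗ[ℤ] ℤ := K • h + g
  have hF : ∀ c, F (D.P.root c) = K * h (D.P.root c) + g (D.P.root c) := fun c => rfl
  have hsgn : ∀ c, (0 < F (D.P.root c) → 0 ≤ h (D.P.root c)) ∧ F (D.P.root c) ≠ 0 := fun c => by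
    have hc := abs_lt.1 (hK c)
    rw [hF]
    rcases lt_trichotomy (h (D.P.root c)) 0 with h1 | h1 | h1
    · have : K * h (D.P.root c) ≤ K * (-1) := mul_le_mul_of_nonneg_left (by omega) (by omega)
      exact ⟨fun _ => absurd ‹0 < K * _ + _› (by omega), by omega⟩
    · refine ⟨fun _ => h1.ge, ?_⟩
      obtain ⟨i, j, e, hij⟩ := hs c (hin c h1)
      rw [h1, mul_zero, zero_add, e, map_add, map_zsmul, map_zsmul, smul_eq_mul, smul_eq_mul]
      intro h0
      have : i = 0 ∧ j = 0 := by
        rcases hij with ⟨hi, hj⟩ | ⟨hi, hj⟩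
        · constructor <;> nlinarith [mul_nonneg hi hgp.le, mul_nonneg hj hgq.le]
        · constructor <;> nlinarith [mul_nonneg (neg_nonneg.2 hi) hgp.le, mul_nonneg (neg_nonneg.2 hj) hgq.le]
      exact D.P.ne_zero c (by rw [e, this.1, this.2]; module)
    · have : K * 1 ≤ K * h (D.P.root c) := mul_le_mul_of_nonneg_left (by omega) (by omega)
      exact ⟨fun _ => h1.le, by omega⟩
  have hpos : ∀ c, 0 < F (D.P.root c) → h (D.P.root c) = 0 → ∃ i j : ℤ, IsComb D p q c i j ∧ 0 ≤ i ∧ 0 ≤ j := by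
    intro c h1 h2
    obtain ⟨i, j, e, hij⟩ := hs c (hin c h2)
    refine ⟨i, j, e, hij.resolve_right fun ⟨hi, hj⟩ => ?_⟩
    rw [hF, h2, mul_zero, zero_add, e, map_add, map_zsmul, map_zsmul, smul_eq_mul, smul_eq_mul] at h1
    nlinarith [mul_nonneg (neg_nonneg.2 hi) hgp.le, mul_nonneg (neg_nonneg.2 hj) hgq.le]
  have key : ∀ v : D.idx, v = p ∨ v = q → v ∈ (BaseZ.base F fun c => (hsgn c).2).support := by
    intro v hv
    have hv0 : h (D.P.root v) = 0 := by rcases hv with rfl | rfl; exacts [hp0, hq0]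
    refine (BaseZ.mem_base_iff F fun c => (hsgn c).2).2 ⟨?_, fun c d hc hd e => ?_⟩
    · rw [hF, hv0]
      rcases hv with rfl | rfl <;> omega
    have e0 := congrArg h e
    rw [hv0, map_add] at e0
    have hc0 := (hsgn c).1 hc
    have hd0 := (hsgn d).1 hd
    obtain ⟨i, j, ec, hi, hj⟩ := hpos c hc (by omega)
    obtain ⟨k, l, ed, hk, hl⟩ := hpos d hd (by omega)
    have nz : ∀ {c i j}, IsComb D p q c i j → ¬ (i = 0 ∧ j = 0) := fun {c i j} ec h => D.P.ne_zero c (by
      rw [ec, h.1, h.2]; module)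
    have := nz ec
    have := nz ed
    rcases hv with rfl | rfl
    · obtain ⟨e1, e2⟩ := LinearIndependent.pair_iff.1 hli (i + k - 1) (j + l) (by
        rw [← sub_eq_zero.2 e.symm, ec, ed]; module)
      omega
    · obtain ⟨e1, e2⟩ := LinearIndependent.pair_iff.1 hli (i + k) (j + l - 1) (by
        rw [← sub_eq_zero.2 e.symm, ec, ed]; module)
      omega
  refine ⟨_, key p (Or.inl rfl), key q (Or.inr rfl), fun e => ?_⟩
  subst e
  exact one_ne_zero (LinearIndependent.pair_iff.1 hli 1 (-1) (by module)).1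

end Bruhat

end
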