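import Groth.Agent.BruhatLib.DualHom
import Groth.Agent.BruhatLib.PlaneBase
import Groth.Agent.BruhatLib.G2Deriv
import Groth.Agent.BruhatLib.G2Comm
import Groth.Agent.BruhatLib.B2

/-!
# Commutators of the root groups of a Chevalley system in the plane of two roots
-/

set_option autoImplicit false
set_option linter.style.haveILetI false
set_option linter.unusedSectionVars false
set_option backward.isDefEq.respectTransparency false
set_option maxHeartbeats 1000000
set_option synthInstance.maxHeartbeats 400000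

universe u

open CategoryTheory CategoryTheory.Limits MonoidalCategory CartesianMonoidalCategory AlgebraicGeometry
open Groth.Agent.GaPts
open Groth.Agent
open Groth.Agent.RankOne (eq_ptOf eq_ptOfUnit comp_ptOf ptOf_add)
open scoped MonObj

noncomputable section

attribute [-instance] CategoryTheory.Hom.commGroup

namespace Bruhat

open SplitCell SplitFib RootSubgrp

variable {S : Scheme.{u}} {G : Over S} [GrpObj G] [Nonempty S] {D : Red.SplitRed G}
  {avc : D.idx → (Red.Gm S ⟶ D.T)} {v vd : D.idx → (Red.Ga S ⟶ G)} {n : D.idx → (𝟙_ (Over S) ⟶ G)}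

/-- The point of a root group of the system with given coordinate. -/
abbrev ev (v : D.idx → (Red.Ga S ⟶ G)) (k : D.idx) {X : Over S} (r : Γ(X.left, ⊤)) : X ⟶ G :=
  (ptOf r : X ⟶ Red.Ga S) ≫ v k

variable (h : ChevSys D avc v vd n)
include h

omit [Nonempty S] in
theorem ChevSys.ev_add (k : D.idx) {X : Over S} (r s : Γ(X.left, ⊤)) : ev v k (r + s) = ev v k r * ev v k s := by
  haveI := (h.hv k).1
  rw [ev, ev, ev, ptOf_add, MonObj.mul_comp]

omit [Nonempty S] in
theorem ChevSys.ev_neg (k : D.idx) {X : Over S} (r : Γ(X.left, ⊤)) : (ev v k r)⁻¹ = ev v k (-r) := by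
  refine inv_eq_of_mul_eq_one_right ?_
  rw [← h.ev_add, add_neg_cancel]
  have := h.ev_add k (0 : Γ(X.left, ⊤)) 0
  rw [add_zero, left_eq_mul] at this
  exact this

omit [Nonempty S] in
theorem ChevSys.exists_conj (c b : D.idx) : ∃ ε : ℤ, (ε = 1 ∨ ε = -1) ∧ ∀ (X : Over S) (r : Γ(X.left, ⊤)),
    (toUnit X ≫ n c) * ev v b r * (toUnit X ≫ n c)⁻¹ = ev v (D.P.reflectionPerm c b) ((ε : Γ(X.left, ⊤)) * r) :=
  h.hSC c b

omit [Nonempty S] in
theorem ChevSys.exists_conj₂ (c c' b : D.idx) : ∃ ε : ℤ, (ε = 1 ∨ ε = -1) ∧ ∀ (X : Over S) (r : Γ(X.left, ⊤)),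
    (toUnit X ≫ (n c * n c')) * ev v b r * (toUnit X ≫ (n c * n c'))⁻¹ =
      ev v (D.P.reflectionPerm c (D.P.reflectionPerm c' b)) ((ε : Γ(X.left, ⊤)) * r) := by
  obtain ⟨ε, hε, e⟩ := h.exists_conj c' b
  obtain ⟨ε', hε', e'⟩ := h.exists_conj c (D.P.reflectionPerm c' b)
  refine ⟨ε' * ε, by rcases hε with rfl | rfl <;> rcases hε' with rfl | rfl <;> norm_num, fun X r => ?_⟩
  rw [Int.cast_mul, _root_.mul_assoc (ε' : Γ(X.left, ⊤)), ← e', ← e, MonObj.comp_mul]
  group

/-- The system read as pinned at two roots. -/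
theorem ChevSys.exists_split (p q : D.idx) (b : D.P.Base) (hs : SimplePair D b p q) :
    ∃ (u : D.idx → (Red.Ga S ⟶ G))
      (hu : ∀ k, Red.IsRootHom D.i (D.split.hom.hom.hom ≫ Red.chi S (D.P.root k)) (u k)),
      SimplePair (withU D u hu) b p q ∧ Pin (withU D u hu) p (avc p) (n p) ∧ Pin (withU D u hu) q (avc q) (n q) ∧
        ∀ k, k ≠ D.P.reflectionPerm p p → k ≠ D.P.reflectionPerm q q → u k = v k := by
  classical
  have hnn : ∀ a : D.idx, a ≠ D.P.reflectionPerm a a := fun a e => by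
    have e1 := congrArg D.P.root e
    rw [RootSubgrp.root_neg, eq_neg_iff_add_eq_zero, ← two_zsmul] at e1
    rcases smul_eq_zero.1 e1 with h1 | h1
    · exact absurd h1 (by norm_num)
    · exact D.P.ne_zero a h1
  have hpq : p ≠ D.P.reflectionPerm q q := fun e => by
    have := hs.comb_eq_zero (i := 1) (j := 1) (by rw [e, RootSubgrp.root_neg]; module)
    exact one_ne_zero this.1
  have hqp : q ≠ D.P.reflectionPerm p p := fun e => by
    have := hs.comb_eq_zero (i := 1) (j := 1) (by rw [e, RootSubgrp.root_neg]; module)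
    exact one_ne_zero this.1
  have hne : D.P.reflectionPerm q q ≠ D.P.reflectionPerm p p := fun e => by
    have := congrArg D.P.root e
    rw [RootSubgrp.root_neg, RootSubgrp.root_neg, neg_inj] at this
    exact hs.hne (D.P.root.injective this.symm)
  let u : D.idx → (Red.Ga S ⟶ G) := fun k =>
    if k = D.P.reflectionPerm p p then vd p else if k = D.P.reflectionPerm q q then vd q else v k
  have hu : ∀ k, Red.IsRootHom D.i (D.split.hom.hom.hom ≫ Red.chi S (D.P.root k)) (u k) := fun k => by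
    simp only [u]
    split_ifs with h1 h2
    · rw [h1]; exact h.isRootHom_vd p
    · rw [h2]; exact h.isRootHom_vd q
    · exact h.hv k
  refine ⟨u, hu, ⟨hs.hp, hs.hq, hs.hne⟩, ⟨h.havc p, ?_, ?_⟩, ⟨h.havc q, ?_, ?_⟩, fun k h1 h2 => ?_⟩
  · show ∀ (X : Over S) (x y : X ⟶ Red.Ga S), _
    simp only [u, if_neg (hnn p), if_neg hpq, if_pos, withU]
    exact (h.hvd p).2
  · simp only [u, if_neg (hnn p), if_neg hpq, if_pos, withU]
    exact h.hn p
  · show ∀ (X : Over S) (x y : X ⟶ Red.Ga S), _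
    simp only [u, if_neg hqp, if_neg (hnn q), if_neg hne, if_pos, withU]
    exact (h.hvd q).2
  · simp only [u, if_neg hqp, if_neg (hnn q), if_neg hne, if_pos, withU]
    exact h.hn q
  · simp only [u, if_neg h1, if_neg h2]

omit h in
/-- A positive combination is not one of the two opposite roots. -/
theorem ne_negs {p q k : D.idx} {b : D.P.Base} (hs : SimplePair D b p q) {i j : ℤ}
    (hk : IsComb D p q k i j) (hi : 0 ≤ i) (hj : 0 ≤ j) :
    k ≠ D.P.reflectionPerm p p ∧ k ≠ D.P.reflectionPerm q q := by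
  constructor <;> intro e <;> subst e <;> rw [IsComb, RootSubgrp.root_neg] at hk
  · have := hs.comb_eq_zero (i := i + 1) (j := j) (by rw [add_smul, add_right_comm, ← hk]; module)
    omega
  · have := hs.comb_eq_zero (i := i) (j := j + 1) (by rw [add_smul, ← add_assoc, ← hk]; module)
    omega

/-- The system in a plane of type B₂. -/
theorem ChevSys.rels_B2 {p q : D.idx} (hpq : D.P.pairing p q = -1) (hqp : D.P.pairing q p = -2) :
    IsComb D p q (D.P.reflectionPerm q p) 1 1 ∧ IsComb D p q (D.P.reflectionPerm p q) 2 1 ∧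
    ∃ εA εB : ℤ, (εA = 1 ∨ εA = -1) ∧ (εB = 1 ∨ εB = -1) ∧ ∀ X : Over S,
      RelsB2 (fun r : Γ(X.left, ⊤) => ev v p r) (fun r => ev v q r)
        (fun r => ev v (D.P.reflectionPerm q p) ((εA : Γ(X.left, ⊤)) * r))
        (fun r => ev v (D.P.reflectionPerm p q) ((εB : Γ(X.left, ⊤)) * r)) := by
  obtain ⟨b, hs⟩ := exists_simplePair (linearIndependent_pq (n := 2) (by simp) hpq hqp)
    (fun c hc => plane_sign_of_ne_one (n := 2) (by simp) hpq hqp hc)
  obtain ⟨u, hu, hs', P, Q, he⟩ := h.exists_split p q b hs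
  have H : PairB2 (withU D u hu) b p q (avc p) (avc q) (n p) (n q) := ⟨hs', hpq, hqp, P, Q⟩
  have cA : IsComb D p q (D.P.reflectionPerm q p) 1 1 := H.comb_ab
  have cB : IsComb D p q (D.P.reflectionPerm p q) 2 1 := H.comb_aab
  have ev_eq : ∀ {k : D.idx} {i j : ℤ}, IsComb D p q k i j → 0 ≤ i → 0 ≤ j →
      ∀ (X : Over S) (r : Γ(X.left, ⊤)), ep (withU D u hu) k r = ev v k r := fun {k i j} hk hi hj X r => by
    obtain ⟨h1, h2⟩ := ne_negs hs hk hi hj
    show (ptOf r : X ⟶ Red.Ga S) ≫ u k = _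
    rw [he k h1 h2]
  obtain ⟨εA, hεA, eA⟩ := h.exists_conj q p
  obtain ⟨εB, hεB, eB⟩ := h.exists_conj p q
  refine ⟨cA, cB, εA, εB, hεA, hεB, fun X => ?_⟩
  have f := fun x y : Γ(X.left, ⊤) => H.formulas x y
  simp only [ev_eq isComb_left (le_of_lt Int.one_pos) le_rfl, ev_eq isComb_right le_rfl (le_of_lt Int.one_pos),
    eA, eB] at f
  have hcomm : ∀ {d e : D.idx} {i j k l : ℤ}, IsComb D p q d i j → 0 ≤ i → 0 ≤ j → IsComb D p q e k l → 0 ≤ k →
      0 ≤ l → ((i + k = 3 ∧ j + l = 1) ∨ (i + k = 1 ∧ j + l = 2) ∨ (i + k = 2 ∧ j + l = 2) ∨ (i + k = 3 ∧ j + l = 2)) →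
      ∀ r s : Γ(X.left, ⊤), Commute (ev v d r) (ev v e s) := fun {d e i j k l} hd hi hj he' hk hl hno r s => by
    rw [← ev_eq hd hi hj, ← ev_eq he' hk hl]
    exact H.comm hd he' (by omega) r s
  exact
    { addP := fun x y => h.ev_add p x y
      addA := fun x y => by rw [mul_add, h.ev_add]
      addB := fun x y => by rw [mul_add, h.ev_add]
      r1 := fun x y => (f x y).1
      r2 := fun x y => (f x y).2
      cQA := fun x y => hcomm isComb_right le_rfl (by norm_num) cA (by norm_num) (by norm_num) (by norm_num) _ _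
      cQB := fun x y => hcomm isComb_right le_rfl (by norm_num) cB (by norm_num) (by norm_num) (by norm_num) _ _
      cPB := fun x y => hcomm isComb_left (by norm_num) le_rfl cB (by norm_num) (by norm_num) (by norm_num) _ _
      cAB := fun x y => hcomm cA (by norm_num) (by norm_num) cB (by norm_num) (by norm_num) (by norm_num) _ _ }

/-- The system in a plane of type G₂. -/
theorem ChevSys.rels_G2 {p q : D.idx} (hpq : D.P.pairing p q = -1) (hqp : D.P.pairing q p = -3) :
    IsComb D p q (D.P.reflectionPerm q p) 1 1 ∧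
    IsComb D p q (D.P.reflectionPerm p (D.P.reflectionPerm q p)) 2 1 ∧
    IsComb D p q (D.P.reflectionPerm p q) 3 1 ∧
    IsComb D p q (D.P.reflectionPerm q (D.P.reflectionPerm p q)) 3 2 ∧
    ∃ εA εB εC εE : ℤ, (εA = 1 ∨ εA = -1) ∧ (εB = 1 ∨ εB = -1) ∧ (εC = 1 ∨ εC = -1) ∧ (εE = 1 ∨ εE = -1) ∧
      ∀ X : Over S, RelsG2 (fun r : Γ(X.left, ⊤) => ev v p r) (fun r => ev v q r)
        (fun r => ev v (D.P.reflectionPerm q p) ((εA : Γ(X.left, ⊤)) * r))
        (fun r => ev v (D.P.reflectionPerm p (D.P.reflectionPerm q p)) ((εB : Γ(X.left, ⊤)) * r))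
        (fun r => ev v (D.P.reflectionPerm p q) ((εC : Γ(X.left, ⊤)) * r))
        (fun r => ev v (D.P.reflectionPerm q (D.P.reflectionPerm p q)) ((εE : Γ(X.left, ⊤)) * r)) := by
  obtain ⟨b, hs⟩ := exists_simplePair (linearIndependent_pq (n := 3) (by simp) hpq hqp)
    (fun c hc => plane_sign_of_ne_one (n := 3) (by simp) hpq hqp hc)
  obtain ⟨u, hu, hs', P, Q, he⟩ := h.exists_split p q b hs
  have H : PairG2 (withU D u hu) b p q (avc p) (avc q) (n p) (n q) := ⟨hs', hpq, hqp, P, Q⟩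
  have cA : IsComb D p q (D.P.reflectionPerm q p) 1 1 := H.comb11
  have cB : IsComb D p q (D.P.reflectionPerm p (D.P.reflectionPerm q p)) 2 1 := H.comb21
  have cC : IsComb D p q (D.P.reflectionPerm p q) 3 1 := H.comb31
  have cE : IsComb D p q (D.P.reflectionPerm q (D.P.reflectionPerm p q)) 3 2 := H.comb32
  have ev_eq : ∀ {k : D.idx} {i j : ℤ}, IsComb D p q k i j → 0 ≤ i → 0 ≤ j →
      ∀ (X : Over S) (r : Γ(X.left, ⊤)), ep (withU D u hu) k r = ev v k r := fun {k i j} hk hi hj X r => by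
    obtain ⟨h1, h2⟩ := ne_negs hs hk hi hj
    show (ptOf r : X ⟶ Red.Ga S) ≫ u k = _
    rw [he k h1 h2]
  obtain ⟨εA, hεA, eA⟩ := h.exists_conj q p
  obtain ⟨εB, hεB, eB⟩ := h.exists_conj₂ p q p
  obtain ⟨εC, hεC, eC⟩ := h.exists_conj p q
  obtain ⟨εE, hεE, eE⟩ := h.exists_conj₂ q p q
  refine ⟨cA, cB, cC, cE, εA, εB, -εC, -εE, hεA, hεB, by omega, by omega, fun X => ?_⟩
  have f : ∀ x y : Γ(X.left, ⊤), _ := fun x y => H.formulas x y
  have hneg : ∀ (ε : ℤ) (r : Γ(X.left, ⊤)), (ε : Γ(X.left, ⊤)) * -r = ((-ε : ℤ) : Γ(X.left, ⊤)) * r := fun ε r => by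
    push_cast; ring
  simp only [ev_eq isComb_left (le_of_lt Int.one_pos) le_rfl,
    ev_eq isComb_right le_rfl (le_of_lt Int.one_pos), h.ev_neg, eA, eB, eC, eE, hneg] at f
  have hcomm : ∀ {d e : D.idx} {i j k l : ℤ}, IsComb D p q d i j → 0 ≤ i → 0 ≤ j → IsComb D p q e k l → 0 ≤ k →
      0 ≤ l → ¬ ((i + k = 1 ∧ j + l = 0) ∨ (i + k = 0 ∧ j + l = 1) ∨ (1 ≤ i + k ∧ i + k ≤ 3 ∧ j + l = 1) ∨
        (i + k = 3 ∧ j + l = 2)) → 0 < i + k + j + l →
      ∀ r s : Γ(X.left, ⊤), Commute (ev v d r) (ev v e s) := fun {d e i j k l} hd hi hj he' hk hl hno h0 r s => by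
    rw [← ev_eq hd hi hj, ← ev_eq he' hk hl]
    exact H.comm hd he' (by omega) (by omega) r s
  exact
    { addP := fun x y => h.ev_add p x y
      addQ := fun x y => h.ev_add q x y
      addA := fun x y => by rw [mul_add, h.ev_add]
      addB := fun x y => by rw [mul_add, h.ev_add]
      addC := fun x y => by rw [mul_add, h.ev_add]
      addE := fun x y => by rw [mul_add, h.ev_add]
      r1 := fun x y => by
        obtain ⟨u11, u21, u31, u32, a1, a2, a3, a4, g⟩ := f x y
        simp only [a1, a2, a3, a4] at g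
        exact g.1
      r2 := fun x y => by
        obtain ⟨u11, u21, u31, u32, a1, a2, a3, a4, g⟩ := f x y
        simp only [a1, a2, a3, a4] at g
        exact g.2.1
      r3 := fun x y => by
        obtain ⟨u11, u21, u31, u32, a1, a2, a3, a4, g⟩ := f x y
        simp only [a1, a2, a3, a4] at g
        exact g.2.2.1
      r4 := fun x y => by
        obtain ⟨u11, u21, u31, u32, a1, a2, a3, a4, g⟩ := f x y
        simp only [a1, a2, a3, a4] at g
        exact g.2.2.2.1
      r5 := fun x y => by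
        obtain ⟨u11, u21, u31, u32, a1, a2, a3, a4, g⟩ := f x y
        simp only [a1, a2, a3, a4] at g
        exact g.2.2.2.2
      cQA := fun x y => hcomm isComb_right (by omega) (by omega) cA (by omega) (by omega) (by omega) (by omega) _ _
      cQB := fun x y => hcomm isComb_right (by omega) (by omega) cB (by omega) (by omega) (by omega) (by omega) _ _
      cQE := fun x y => hcomm isComb_right (by omega) (by omega) cE (by omega) (by omega) (by omega) (by omega) _ _
      cPC := fun x y => hcomm isComb_left (by omega) (by omega) cC (by omega) (by omega) (by omega) (by omega) _ _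
      cPE := fun x y => hcomm isComb_left (by omega) (by omega) cE (by omega) (by omega) (by omega) (by omega) _ _
      cAC := fun x y => hcomm cA (by omega) (by omega) cC (by omega) (by omega) (by omega) (by omega) _ _
      cAE := fun x y => hcomm cA (by omega) (by omega) cE (by omega) (by omega) (by omega) (by omega) _ _
      cBC := fun x y => hcomm cB (by omega) (by omega) cC (by omega) (by omega) (by omega) (by omega) _ _
      cBE := fun x y => hcomm cB (by omega) (by omega) cE (by omega) (by omega) (by omega) (by omega) _ _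
      cCE := fun x y => hcomm cC (by omega) (by omega) cE (by omega) (by omega) (by omega) (by omega) _ _ }

/-- The system in a plane of type A₂. -/
theorem ChevSys.rels_A2 {p q : D.idx} (hpq : D.P.pairing p q = -1) (hqp : D.P.pairing q p = -1)
    (h1 : ∀ e, (3 : ℤ) • D.P.root e ≠ D.P.root q - D.P.root p)
    (h2 : ∀ e, D.P.root e ≠ (2 : ℤ) • D.P.root p + D.P.root q) :
    IsComb D p q (D.P.reflectionPerm q p) 1 1 ∧
    ∃ ε : ℤ, (ε = 1 ∨ ε = -1) ∧ ∀ (X : Over S) (x y : Γ(X.left, ⊤)),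
      ev v q y * ev v p x * (ev v q y)⁻¹ * (ev v p x)⁻¹ =
        ev v (D.P.reflectionPerm q p) ((ε : Γ(X.left, ⊤)) * (x * y)) := by
  obtain ⟨b, hs⟩ := exists_simplePair (linearIndependent_pq (n := 1) (by simp) hpq hqp)
    (fun c hc => plane_sign_of_A2 hpq hqp h1 h2 hc)
  obtain ⟨u, hu, hs', P, Q, he⟩ := h.exists_split p q b hs
  have H : PairA2 (withU D u hu) b p q (avc p) (avc q) (n p) (n q) := ⟨hs'.hp, hs'.hq, hs'.hne, hpq, hqp, P, Q⟩
  have cA : IsComb D p q (D.P.reflectionPerm q p) 1 1 := by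
    show D.P.root _ = _
    rw [show D.P.root (D.P.reflectionPerm q p) = D.P.root p + D.P.root q from H.root_sum]
    module
  have ev_eq : ∀ {k : D.idx} {i j : ℤ}, IsComb D p q k i j → 0 ≤ i → 0 ≤ j →
      ∀ (X : Over S) (r : Γ(X.left, ⊤)), (ptOf r : X ⟶ Red.Ga S) ≫ u k = ev v k r := fun {k i j} hk hi hj X r => by
    obtain ⟨h1, h2⟩ := ne_negs hs hk hi hj
    rw [he k h1 h2]
  obtain ⟨ε, hε, e⟩ := h.exists_conj q p
  refine ⟨cA, ε, hε, fun X x y => ?_⟩
  have f := H.commutator (X := X) (ptOf x) (ptOf y) (ptOf (x * y)) (by rw [gaFn_ptOf, gaFn_ptOf, gaFn_ptOf])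
  have c1 := H.comm_sum (X := X) (ptOf x) (ptOf ((ε : Γ(X.left, ⊤)) * (x * y)))
  have c2 := H.comm_sum' (X := X) (ptOf y) (ptOf ((ε : Γ(X.left, ⊤)) * (x * y)))
  simp only [ev_eq isComb_left (le_of_lt Int.one_pos) le_rfl, ev_eq isComb_right le_rfl (le_of_lt Int.one_pos),
    ev_eq cA (le_of_lt Int.one_pos) (le_of_lt Int.one_pos), e] at f c1 c2
  rw [commutator_of_rule f, c2.eq, mul_inv_cancel_right, c1.eq, mul_inv_cancel_right]

end Bruhat

end
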