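import Groth.Agent.BruhatLib.Rank
import Groth.Agent.RootSubgrpLib.LineChart
import Groth.Agent.BigCellLib.Gen
import Groth.Agent.S4131

/-!
# The commutation rule of opposite root groups of a split group, with its coroot
-/

set_option autoImplicit false
set_option linter.style.haveILetI false
set_option linter.unusedSectionVars false
set_option backward.isDefEq.respectTransparency false
set_option maxHeartbeats 1000000
set_option synthInstance.maxHeartbeats 400000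

universe u

open CategoryTheory CategoryTheory.Limits MonoidalCategory CartesianMonoidalCategory AlgebraicGeometry
open Groth.Agent.GaPts
open Groth.Agent
open scoped MonObj
open CoactBr (sp)
open Groth.Agent.BorelLib
open Groth.Agent.HomRep (bcEquiv bcEquiv_mul)

noncomputable section

attribute [-instance] CategoryTheory.Hom.commGroup

namespace Bruhat

attribute [local instance] pTop pTopTensor

open SplitCell SplitFib RootSubgrp

variable {S : Scheme.{u}} {G : Over S} [GrpObj G] (D : Red.SplitRed G)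

/-- The character of a root. -/
def alpha (a : D.idx) : D.T ⟶ Red.Gm S := D.split.hom.hom.hom ≫ Red.chi S (D.P.root a)

theorem isMonHom_alpha (a : D.idx) : IsMonHom (alpha D a) := by
  haveI : IsMonHom D.split.hom.hom.hom := D.split.hom.hom.isMonHom_hom
  haveI : IsMonHom (Red.chi S (D.P.root a)) := Groth.Agent.DSImg.isMonHom_DSmap _
  exact inferInstanceAs (IsMonHom (D.split.hom.hom.hom ≫ Red.chi S (D.P.root a)))

/-- The linear form of a coroot. -/
def coF (a : D.idx) : D.M →ₗ[ℤ] ℤ := D.P.coroot a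

theorem coroot'_eq (a : D.idx) (m : D.M) : D.P.coroot' a m = coF D a m := by
  simp only [RootPairing.coroot', D.pairing_eq]
  rfl

theorem coF_root (a : D.idx) : coF D a (D.P.root a) = 2 := by
  rw [← coroot'_eq, RootPairing.root_coroot'_eq_pairing, RootPairing.pairing_same]

theorem reflection_eq (a : D.idx) (m : D.M) : D.P.reflection a m = m - coF D a m • D.P.root a := by
  rw [RootPairing.reflection_apply, coroot'_eq]

variable {D} [Nonempty S]

/-- A representative of a reflection is not a point of the torus. -/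
theorem IsRefl.ne_torus {a : D.idx} {n : 𝟙_ (Over S) ⟶ G} (hn : IsRefl D a n) {K : Type u} [Field K] [IsAlgClosed K]
    (ξ : Spec (CommRingCat.of K) ⟶ S) (s : aP ξ K ⟶ D.T) : toUnit (aP ξ K) ≫ n ≠ s ≫ D.i := by
  intro h2
  haveI := isMonHom_i D
  haveI := mono_i D
  obtain ⟨b, hb⟩ := exists_sides_mem D a
  obtain ⟨f, hf, -⟩ := b.regular
  have hf' := hf a hb
  obtain ⟨z, hz⟩ := exists_units_zpow_ne_one K (show f (D.P.root a) + f (D.P.root a) ≠ 0 by omega)
  have h3 := hn.conj_torus (tc D ξ f z)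
  rw [h2, ← GrpObj.inv_comp, ← MonObj.mul_comp, ← MonObj.mul_comp, torus_comm D s, mul_inv_cancel_right] at h3
  have h4 := congrArg (fun s : aP ξ K ⟶ D.T => MultSubLib.chars (s ≫ D.split.hom.hom.hom)
    (Multiplicative.ofAdd (D.P.root a))) ((cancel_mono D.i).1 h3)
  simp only [chars_tRefl, MonoidHom.comp_apply] at h4
  change _ = MultSubLib.chars _ (Multiplicative.ofAdd (D.P.reflection a (D.P.root a))) at h4
  rw [D.P.reflection_apply_self, ← gmFn_chi, ← gmFn_chi] at h4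
  simp only [Category.assoc, ← cst_ch] at h4
  have h5 := Units.ext ((cst_bijective ξ).1 h4)
  rw [ch_cochT, ch_cochT, map_neg, zpow_neg, eq_inv_iff_mul_eq_one, ← zpow_add] at h5
  exact hz h5

/-- Opposite root groups do not commute on any geometric fibre. -/
theorem exists_not_commute (a : D.idx) {K : Type u} [Field K] [IsAlgClosed K]
    (ξ : Spec (CommRingCat.of K) ⟶ S) : ∃ x y : K,
      el ξ (D.u a) x * el ξ (D.u (D.P.reflectionPerm a a)) y ≠
        el ξ (D.u (D.P.reflectionPerm a a)) y * el ξ (D.u a) x := by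
  obtain ⟨n, hn⟩ := D.refl a
  haveI := isMonHom_i D
  haveI := isMonHom_u D a
  set a' := D.P.reflectionPerm a a with ha'
  haveI := isMonHom_u D a'
  obtain ⟨p, q, τ, h1⟩ := exists_rank_one (D := D) ξ (show IsRefl D a n from hn) (one_ne_zero (α := K))
  rw [← ha'] at h1
  refine ⟨-p, 1, fun hc => ?_⟩
  obtain ⟨b, hb⟩ := exists_sides_mem D a
  have h2 : toUnit (aP ξ K) ≫ n = el ξ (D.u a') 1 * ((τ⁻¹ ≫ D.i) * ((τ ≫ D.i) * el ξ (D.u a) (-p - q) * (τ ≫ D.i)⁻¹)) := by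
    rw [sub_eq_add_neg, el_add, GrpObj.inv_comp]
    calc toUnit (aP ξ K) ≫ n = el ξ (D.u a) (-p) * el ξ (D.u a') 1 * el ξ (D.u a) (-q) * (τ ≫ D.i)⁻¹ := by
          rw [h1, el_neg, el_neg]; group
      _ = _ := by rw [hc]; group
  exact IsRefl.ne_torus (D := D) (show IsRefl D a n from hn) ξ τ⁻¹
    (mem_torus_of_cell b (IsRefl.normalises (D := D) (show IsRefl D a n from hn) _)
      (el_mem ξ (neg_mem_neg b hb) 1) (conj_torus_mem τ (el_mem ξ hb _)) τ⁻¹ h2)

/-- **The rank-one system of a root inside the centraliser of its kernel.** -/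
theorem exists_sys {L : Line D} (LC : LineCent D L) {k : D.idx} (hk : k ∈ L.roots) :
    ∃ pp pm : Red.Ga S ⟶ LC.C, pp ≫ LC.c = D.u k ∧ pm ≫ LC.c = D.u (D.P.reflectionPerm k k) ∧
      BigCell.Sys LC.t (alpha D k) pp pm := by
  haveI := LC.isMonHom; haveI := LC.closed; haveI := LC.smooth
  haveI : Mono LC.c := (Over.forget S).mono_of_mono_map (inferInstanceAs (Mono LC.c.left))
  haveI := LC.isMonHom_t
  haveI := isMonHom_i D
  haveI : ∀ j, IsMonHom (D.u j) := isMonHom_u D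
  obtain ⟨pp, hpp⟩ := LC.exists_u hk
  have hk' : D.P.reflectionPerm k k ∈ L.roots := by rw [roots_eq hk]; exact Or.inr rfl
  obtain ⟨pm, hpm⟩ := LC.exists_u hk'
  let α : D.T ⟶ Red.Gm S := D.split.hom.hom.hom ≫ Red.chi S (D.P.root k)
  haveI : IsMonHom D.split.hom.hom.hom := D.split.hom.hom.isMonHom_hom
  haveI : IsMonHom (Red.chi S (D.P.root k)) := Groth.Agent.DSImg.isMonHom_DSmap _
  haveI : IsMonHom α := inferInstanceAs (IsMonHom (D.split.hom.hom.hom ≫ Red.chi S (D.P.root k)))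
  have hmon : ∀ (q : Red.Ga S ⟶ LC.C) (r : Red.Ga S ⟶ G) (_ : IsMonHom r), q ≫ LC.c = r → IsMonHom q :=
    fun q r hr e =>
      { one_hom := (cancel_mono LC.c).1 (by rw [Category.assoc, e, hr.one_hom, IsMonHom.one_hom])
        mul_hom := (cancel_mono LC.c).1 (by
          rw [Category.assoc, e, hr.mul_hom, Category.assoc, IsMonHom.mul_hom (f := LC.c), ← Category.assoc,
            tensorHom_comp_tensorHom, e]) }
  haveI := hmon pp _ inferInstance hpp
  haveI := hmon pm _ inferInstance hpm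
  have hppT : ∀ (X : Over S) (t : X ⟶ D.T) (x : X ⟶ Red.Ga S), ∃ x' : X ⟶ Red.Ga S,
      x' ≫ pp = (t ≫ LC.t) * (x ≫ pp) * (t ≫ LC.t)⁻¹ ∧ Red.gaFn x' = Red.gmFn (t ≫ α) * Red.gaFn x := fun X t x => by
    obtain ⟨y, hy, he⟩ := (D.rootHom k).2.2 X t x
    refine ⟨y, ?_, he⟩
    rw [← cancel_mono LC.c, MonObj.mul_comp, MonObj.mul_comp, GrpObj.inv_comp, Category.assoc, Category.assoc,
      Category.assoc, hpp, LC.ht, hy]
  have hpmT : ∀ (X : Over S) (t : X ⟶ D.T) (y : X ⟶ Red.Ga S), ∃ y' : X ⟶ Red.Ga S,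
      y' ≫ pm = (t ≫ LC.t) * (y ≫ pm) * (t ≫ LC.t)⁻¹ ∧ Red.gaFn y' * Red.gmFn (t ≫ α) = Red.gaFn y := fun X t x => by
    obtain ⟨y, hy, he⟩ := (D.rootHom (D.P.reflectionPerm k k)).2.2 X t x
    refine ⟨y, ?_, ?_⟩
    · rw [← cancel_mono LC.c, MonObj.mul_comp, MonObj.mul_comp, GrpObj.inv_comp, Category.assoc, Category.assoc,
        Category.assoc, hpm, LC.ht, hy]
    · rw [he]
      have h1 : Red.gmFn (t ≫ D.split.hom.hom.hom ≫ Red.chi S (D.P.root (D.P.reflectionPerm k k))) *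
          Red.gmFn (t ≫ α) = 1 := by
        simp only [α, ← Category.assoc, gmFn_chi]
        rw [← map_mul, ← ofAdd_add, root_neg, neg_add_cancel, ofAdd_zero, map_one]
      rw [mul_right_comm, h1, _root_.one_mul]
  have hΩ : IsOpenImmersion (((pm ⊗ₘ LC.t) ⊗ₘ pp) ≫ (μ[LC.C] ▷ LC.C) ≫ μ[LC.C]).left := by
    obtain ⟨f, hfo, hf⟩ := LC.exists_chart hk
    haveI := hfo
    let E : (Red.Ga S ⊗ D.T) ⊗ Red.Ga S ≅ src D 1 1 :=
      (α_ _ _ _) ≪≫ ((ρ_ (Red.Ga S)).symm ⊗ᵢ (Iso.refl D.T ⊗ᵢ (ρ_ (Red.Ga S)).symm))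
    have hE : E.hom ≫ f = ((pm ⊗ₘ LC.t) ⊗ₘ pp) ≫ (μ[LC.C] ▷ LC.C) ≫ μ[LC.C] := by
      rw [← cancel_mono LC.c, Category.assoc, hf, RedSub.cellMap, rprod_one, rprod_one]
      simp only [Category.assoc, IsMonHom.mul_hom, tensorHom_comp_tensorHom_assoc, MonObj.mul_eq_mul,
        MonObj.comp_mul, MonObj.mul_comp, whiskerRight_fst_assoc, whiskerRight_snd_assoc, tensorHom_fst_assoc,
        tensorHom_snd_assoc, hpm, hpp, LC.ht]
      simp only [E, prj, Iso.trans_hom, tensorIso_hom, Iso.symm_hom, Iso.refl_hom, Category.assoc, Fin.cases_zero,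
        tensorHom_fst_assoc, tensorHom_snd_assoc, rightUnitor_inv_fst_assoc, rightUnitor_inv_fst,
        associator_hom_fst_assoc, associator_hom_snd_fst_assoc, associator_hom_snd_snd_assoc, Category.id_comp]
      have e : ∀ {Z : Over S} (q : Red.Ga S ⟶ Z),
          (ρ_ (Red.Ga S)).inv ≫ fst (Red.Ga S) (RedSub.pow (Red.Ga S) 0) ≫ q = q :=
        fun q => rightUnitor_inv_fst_assoc (Red.Ga S) q
      rw [e, e, ← _root_.mul_assoc]
    rw [← hE, Over.comp_left]
    haveI : IsIso E.hom.left := inferInstanceAs (IsIso ((Over.forget S).mapIso E).hom)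
    infer_instance
  exact ⟨pp, pm, hpp, hpm, ⟨inferInstance, isMonHom_alpha D k, inferInstance, inferInstance, hppT, hpmT, hΩ⟩⟩

theorem Normalises.inv_refl {X : Over S} {g : X ⟶ G} (h : Normalises D g) {a : D.idx}
    (hW : ∀ (X' : Over S) (y : X' ⟶ X) (t : X' ⟶ D.T), ∃ t' : X' ⟶ D.T,
      (y ≫ g)⁻¹ * (t ≫ D.i) * (y ≫ g) = t' ≫ D.i) : Normalises D g⁻¹ := fun X' y t => by
  obtain ⟨t', ht'⟩ := hW X' y t
  exact ⟨t', by rw [GrpObj.comp_inv, inv_inv, ht']⟩

omit [Nonempty S] [GrpObj G] in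
/-- Non-commuting points over a geometric point give non-commuting points of the base change. -/
theorem exists_bc_not_commute {P : Scheme.{u}} (g : P ⟶ S) {C Z : Over S} [GrpObj C] (p q : Z ⟶ C) (Y : Over P)
    (x y : (Over.map g).obj Y ⟶ Z) (h : (x ≫ p) * (y ≫ q) ≠ (y ≫ q) * (x ≫ p)) :
    ∃ (X : Over P) (x' y' : X ⟶ (Over.pullback g).obj Z),
      (x' ≫ (Over.pullback g).map p) * (y' ≫ (Over.pullback g).map q) ≠
        (y' ≫ (Over.pullback g).map q) * (x' ≫ (Over.pullback g).map p) := by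
  refine ⟨Y, (Over.mapPullbackAdj g).homEquiv Y Z x, (Over.mapPullbackAdj g).homEquiv Y Z y, fun e => h ?_⟩
  rw [← (Over.mapPullbackAdj g).homEquiv_naturality_right, ← (Over.mapPullbackAdj g).homEquiv_naturality_right] at e
  exact (bcEquiv g C Y).injective ((bcEquiv_mul g C Y _ _).trans (e.trans (bcEquiv_mul g C Y _ _).symm))

/-- The rank-one system has non-commuting root groups. -/
theorem exists_hnc {L : Line D} (LC : LineCent D L) (a : D.idx) (pp pm : Red.Ga S ⟶ LC.C)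
    (hpp : pp ≫ LC.c = D.u a) (hpm : pm ≫ LC.c = D.u (D.P.reflectionPerm a a)) (s : S) :
    ∃ (X : Over (Spec (CommRingCat.of (AlgebraicClosure (S.residueField s)))))
      (x y : X ⟶ Red.bc (Red.geomPt s) (Red.Ga S)),
      (x ≫ (Over.pullback (Red.geomPt s)).map pp) * (y ≫ (Over.pullback (Red.geomPt s)).map pm) ≠
        (y ≫ (Over.pullback (Red.geomPt s)).map pm) * (x ≫ (Over.pullback (Red.geomPt s)).map pp) := by
  haveI := LC.isMonHom
  let K := AlgebraicClosure (S.residueField s)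
  let ξ := Red.geomPt s
  obtain ⟨x₀, y₀, hne⟩ := exists_not_commute (D := D) a ξ
  let Y : Over (Spec (CommRingCat.of K)) := Over.mk (Spec.map (CommRingCat.ofHom (algebraMap K K)))
  let e : (Over.map ξ).obj Y ≅ aP ξ K := Over.isoMk (Iso.refl _) (Category.id_comp _)
  refine exists_bc_not_commute ξ pp pm Y (e.hom ≫ ptOf (cst ξ K x₀)) (e.hom ≫ ptOf (cst ξ K y₀)) fun h => hne ?_
  simp only [Category.assoc, ← MonObj.comp_mul, cancel_epi] at h
  have h' := congrArg (fun q : aP ξ K ⟶ LC.C => q ≫ LC.c) h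
  simp only [MonObj.mul_comp, Category.assoc, hpp, hpm] at h'
  exact h'

theorem alpha_tRefl {X : Over S} (a : D.idx) (u : X ⟶ D.T) : tRefl a u ≫ alpha D a = (u ≫ alpha D a)⁻¹ := by
  refine eq_inv_of_mul_eq_one_left ?_
  have h : Red.gmFn ((tRefl a u ≫ alpha D a) * (u ≫ alpha D a)) = Red.gmFn (1 : X ⟶ Red.Gm S) := by
    rw [GmPts.gmFn_mul, alpha, ← Category.assoc, gmFn_chi, chars_tRefl, ← Category.assoc u, gmFn_chi, ← GmPts.val_unitOfPt,
      GmPts.unitOfPt_one]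
    show MultSubLib.chars _ (Multiplicative.ofAdd (D.P.reflection a (D.P.root a))) * _ = _
    rw [← map_mul, ← ofAdd_add, D.P.reflection_apply_self, neg_add_cancel, ofAdd_zero, map_one, Units.val_one]
  rw [← GmPts.ptOfUnit_unitOfPt ((tRefl a u ≫ alpha D a) * (u ≫ alpha D a)),
    ← GmPts.ptOfUnit_unitOfPt (1 : X ⟶ Red.Gm S)]
  exact congrArg GmPts.ptOfUnit (Units.ext h)

omit [Nonempty S] in
/-- A section whose value at a geometric point is a torus point meets the big cell there. -/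
theorem mem_range_of_torus_pt (s : S) {l m : ℕ} (eneg : Fin l → D.idx) (epos : Fin m → D.idx)
    (t₀ : aP (Red.geomPt s) (AlgebraicClosure (S.residueField s)) ⟶ D.T) (g : 𝟙_ (Over S) ⟶ G)
    (h : toUnit (aP (Red.geomPt s) (AlgebraicClosure (S.residueField s))) ≫ g = t₀ ≫ D.i) :
    g.left s ∈ Set.range (RedSub.cellMap D eneg epos).left := by
  let K := AlgebraicClosure (S.residueField s)
  have e : cpt D (Red.geomPt s) 0 t₀ 0 ≫ RedSub.cellMap D eneg epos = toUnit _ ≫ g := by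
    haveI : ∀ k, IsMonHom ((fun k => D.u (eneg k)) k) := fun k => isMonHom_u D _
    haveI : ∀ k, IsMonHom ((fun k => D.u (epos k)) k) := fun k => isMonHom_u D _
    rw [cpt_cellMap, show (0 : Fin l → K) = fun _ => 0 from rfl, show (0 : Fin m → K) = fun _ => 0 from rfl, pe_zero,
      pe_zero, _root_.one_mul, _root_.mul_one, h]
  let P := aP (Red.geomPt s) K
  obtain ⟨z⟩ : Nonempty P.left := inferInstanceAs (Nonempty (Spec (CommRingCat.of K)))
  refine ⟨(cpt D (Red.geomPt s) 0 t₀ 0).left z, ?_⟩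
  have e' := congrArg (fun q => q.left z) e
  simp only [Over.comp_left, Scheme.Hom.comp_apply] at e'
  rw [e']
  congr 1
  show (toUnit P).left z = s
  rw [show (toUnit P).left = P.hom from rfl]
  show (Spec.map _ ≫ Red.geomPt s) z = s
  exact (Scheme.Hom.comp_apply _ _ _).trans ((Scheme.Hom.comp_apply _ _ _).trans
    (Scheme.fromSpecResidueField_apply _ _))

omit [Nonempty S] in
theorem chars_zpow_alpha {X : Over S} (a : D.idx) (t : X ⟶ D.T) (k : ℤ) :
    MultSubLib.chars (t ≫ D.split.hom.hom.hom) (Multiplicative.ofAdd (k • D.P.root a)) =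
      ((GmPts.unitOfPt (t ≫ alpha D a) ^ k : (Γ(X.left, ⊤))ˣ) : Γ(X.left, ⊤)) := by
  let χ := MultSubLib.chars (t ≫ D.split.hom.hom.hom)
  have h : χ.toHomUnits (Multiplicative.ofAdd (D.P.root a)) = GmPts.unitOfPt (t ≫ alpha D a) := Units.ext (by
    rw [MonoidHom.coe_toHomUnits, GmPts.val_unitOfPt, alpha, ← Category.assoc, gmFn_chi])
  rw [← h, ← map_zpow, MonoidHom.coe_toHomUnits, ofAdd_zsmul]

/-- **A Weyl element of the line makes the reflection.** -/
theorem weyl_act {a : D.idx} {L : Line D} (hL : a ∈ L.roots) (LC : LineCent D L) (av : Red.Gm S ⟶ D.T)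
    [IsMonHom av] (h2 : av ≫ alpha D a = (𝟙 (Red.Gm S)) ^ 2) (W₀ : 𝟙_ (Over S) ⟶ LC.C)
    (hWc : ∀ (X : Over S) (t : X ⟶ D.T), (toUnit X ≫ W₀ ≫ LC.c) * (t ≫ D.i) * (toUnit X ≫ W₀ ≫ LC.c)⁻¹ =
      (t * ((t ≫ alpha D a) ≫ av)⁻¹) ≫ D.i) {X : Over S} (t : X ⟶ D.T) :
    t * ((t ≫ alpha D a) ≫ av)⁻¹ = tRefl a t := by
  classical
  haveI := LC.isMonHom; haveI := LC.closed; haveI := LC.smooth
  haveI : Mono LC.c := (Over.forget S).mono_of_mono_map (inferInstanceAs (Mono LC.c.left))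
  haveI := isMonHom_i D
  haveI := mono_i D
  haveI := isMonHom_alpha D a
  let W := W₀ ≫ LC.c
  have hαneg : ∀ {X : Over S} (t : X ⟶ D.T),
      (t * ((t ≫ alpha D a) ≫ av)⁻¹) ≫ alpha D a = (t ≫ alpha D a)⁻¹ := fun t => by
    rw [MonObj.mul_comp, GrpObj.inv_comp, Category.assoc _ av, h2, MonObj.comp_pow, Category.comp_id, pow_two]
    group
  have hinvol : ∀ {X : Over S} (t : X ⟶ D.T), (t * ((t ≫ alpha D a) ≫ av)⁻¹) *
      (((t * ((t ≫ alpha D a) ≫ av)⁻¹) ≫ alpha D a) ≫ av)⁻¹ = t := fun t => by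
    rw [hαneg, GrpObj.inv_comp, inv_inv, inv_mul_cancel_right]
  have hW' : ∀ (X : Over S) (t : X ⟶ D.T), (toUnit X ≫ W)⁻¹ * (t ≫ D.i) * (toUnit X ≫ W) =
      (t * ((t ≫ alpha D a) ≫ av)⁻¹) ≫ D.i := fun X t => by
    have h := hWc X (t * ((t ≫ alpha D a) ≫ av)⁻¹)
    rw [hinvol] at h
    rw [← h]
    simp only [W]
    group
  obtain ⟨n, hn'⟩ := D.refl a
  have hn : IsRefl D a n := hn'
  have hactX : ∀ (X : Over S) (t : X ⟶ D.T), (toUnit X ≫ (n * W⁻¹)) * (t ≫ D.i) * (toUnit X ≫ (n * W⁻¹))⁻¹ =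
      tRefl a (t * ((t ≫ alpha D a) ≫ av)⁻¹) ≫ D.i := fun X t => by
    rw [MonObj.comp_mul, GrpObj.comp_inv, ← hn.conj_torus, ← hW' X t]
    group
  obtain ⟨b⟩ := exists_sides D.P
  obtain ⟨l, m, eneg, epos, hneg, hpos⟩ := exists_enum D b
  haveI := isOpenImmersion_cellMap D b hneg hpos
  have hmem : ∀ s : S, (n * W⁻¹ : 𝟙_ (Over S) ⟶ G).left s ∈ Set.range (RedSub.cellMap D eneg epos).left := by
    intro s
    obtain ⟨ha, hsm, A, _, _, v, hv, hA, hA', hc, hred, hT⟩ := exists_fibre D s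
    haveI := ha; haveI := hsm; haveI := hv; haveI := hA; haveI := hA'
    let ξ := Red.geomPt s
    let K := AlgebraicClosure (S.residueField s)
    let P := aP ξ K
    let g := ptG ξ v (toUnit P ≫ (n * W⁻¹))
    have hact : ∀ t : P ⟶ D.T, g * torusHom D ξ v t * g⁻¹ =
        torusHom D ξ v (tRefl a (t * ((t ≫ alpha D a) ≫ av)⁻¹)) := fun t => by
      show _ * ptG ξ v (t ≫ D.i) * _ = ptG ξ v (_ ≫ D.i)
      rw [← map_inv, ← map_mul, ← map_mul, hactX]
    have hchα : ∀ t t' : P ⟶ D.T, t ≫ alpha D a = t' ≫ alpha D a →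
        ch D ξ t (Multiplicative.ofAdd (D.P.root a)) = ch D ξ t' (Multiplicative.ofAdd (D.P.root a)) :=
      fun t t' h => Units.ext ((cst_bijective ξ).1 (by rw [cst_ch, cst_ch]; exact congrArg Red.gmFn h))
    have hCen : g ∈ Cen ξ v L := by
      refine (mem_Cen_iff ξ v L).2 fun f hf z => ?_
      have hkill : tc D ξ f z ≫ alpha D a = 1 := by
        rw [← GmPts.ptOfUnit_unitOfPt (tc D ξ f z ≫ alpha D a), ← GmPts.ptOfUnit_unitOfPt (1 : P ⟶ Red.Gm S)]
        refine congrArg GmPts.ptOfUnit (Units.ext ?_)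
        rw [GmPts.val_unitOfPt, GmPts.unitOfPt_one, Units.val_one]
        show Red.gmFn (cochT D f _ ≫ _) = 1
        rw [alpha, gmFn_cochT, show D.P.root a = L.co (D.P.root a) • L.χ from hL, map_zsmul, hf, smul_zero,
          zpow_zero, Units.val_one]
      have h := hact (tc D ξ f z)
      rw [hkill, MonObj.one_comp, inv_one, _root_.mul_one] at h
      have hfix : tRefl a (tc D ξ f z) = tc D ξ f z := torus_ext (by
        rw [chars_tRefl]
        refine MonoidHom.ext fun m => ?_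
        obtain ⟨m, rfl⟩ := Multiplicative.ofAdd.surjective m
        show MultSubLib.chars _ (Multiplicative.ofAdd (D.P.reflection a m)) = _
        rw [reflection_eq, ← gmFn_chi, ← gmFn_chi, Category.assoc, Category.assoc]
        show Red.gmFn (cochT D f _ ≫ _) = Red.gmFn (cochT D f _ ≫ _)
        rw [gmFn_cochT, gmFn_cochT, map_sub, map_zsmul, show D.P.root a = L.co (D.P.root a) • L.χ from hL,
          map_zsmul, hf, smul_zero, smul_zero, sub_zero])
      rw [hfix] at h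
      exact (mul_inv_eq_iff_eq_mul.1 h).symm
    have hnorm : conjSub g (Tsub D ξ v) = Tsub D ξ v := by
      refine le_antisymm ?_ ?_
      · rintro _ ⟨_, ⟨t, rfl⟩, rfl⟩
        exact ⟨_, (hact t).symm⟩
      · rintro _ ⟨t, rfl⟩
        refine ⟨torusHom D ξ v ((tRefl a t) * ((tRefl a t ≫ alpha D a) ≫ av)⁻¹), ⟨_, rfl⟩, ?_⟩
        show g * _ * g⁻¹ = _
        rw [hact, hinvol, tRefl_tRefl]
    have hgT : g ∈ Tsub D ξ v := by
      rcases mem_or_isFlip ξ v L hT.tor (hred.centralizer_eq hc hT) hCen hnorm with h | h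
      · exact h
      exfalso
      obtain ⟨z, hz⟩ := exists_units_zpow_ne_one K (N := L.co (D.P.root a) + L.co (D.P.root a))
        (by have := L.weight_ne_zero hL; omega)
      let t := tc D ξ L.co z
      have h1 := h.neg t _ (hact t)
      have h2' : ∀ t : P ⟶ D.T, ch D ξ t (Multiplicative.ofAdd (D.P.root a)) =
          ch D ξ t (Multiplicative.ofAdd L.χ) ^ L.co (D.P.root a) := fun t => by
        conv_lhs => rw [show D.P.root a = L.co (D.P.root a) • L.χ from hL]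
        exact Units.ext (by rw [ofAdd_zsmul, map_zpow])
      have h3 : ch D ξ (tRefl a (t * ((t ≫ alpha D a) ≫ av)⁻¹)) (Multiplicative.ofAdd (D.P.root a)) =
          ch D ξ t (Multiplicative.ofAdd (D.P.root a)) :=
        hchα _ _ (by rw [alpha_tRefl, hαneg, inv_inv])
      rw [h2', h1, h2', ch_cochT, L.co_χ, zpow_one, inv_zpow, inv_eq_iff_mul_eq_one, ← zpow_add] at h3
      exact hz h3
    obtain ⟨t₀, ht₀⟩ := hgT
    exact mem_range_of_torus_pt s eneg epos t₀ (n * W⁻¹) ((ptG ξ v).injective ht₀).symm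
  let x : 𝟙_ (Over S) ⟶ _ := Over.homMk
    (IsOpenImmersion.lift (RedSub.cellMap D eneg epos).left (n * W⁻¹ : 𝟙_ (Over S) ⟶ G).left
      (by rintro _ ⟨s, rfl⟩; exact hmem s))
    (by rw [← Over.w (RedSub.cellMap D eneg epos), IsOpenImmersion.lift_fac_assoc]; exact Over.w _)
  have hx : x ≫ RedSub.cellMap D eneg epos = n * W⁻¹ := Over.OverMorphism.ext (IsOpenImmersion.lift_fac _ _ _)
  have hs := factors_torus D b hneg hpos _ x fun X' y t => ⟨tRefl a (t * ((t ≫ alpha D a) ≫ av)⁻¹), by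
    rw [hx, Subsingleton.elim y (toUnit X'), hactX]⟩
  rw [hx] at hs
  have key : ∀ {X : Over S} (t : X ⟶ D.T), tRefl a (t * ((t ≫ alpha D a) ≫ av)⁻¹) = t := fun {X} t => by
    refine (cancel_mono D.i).1 ((hactX X t).symm.trans ?_)
    rw [hs, ← Category.assoc (toUnit X), ← GrpObj.inv_comp, ← MonObj.mul_comp, ← MonObj.mul_comp, torus_comm D,
      inv_mul_cancel_left]
  have h := congrArg (tRefl a) (key t)
  rwa [tRefl_tRefl] at h

/-- **A Weyl element of the line makes the reflection, whence the coroot.** -/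
theorem av_eq_coroot {a : D.idx} {L : Line D} (hL : a ∈ L.roots) (LC : LineCent D L) (av : Red.Gm S ⟶ D.T)
    [IsMonHom av] (h2 : av ≫ alpha D a = (𝟙 (Red.Gm S)) ^ 2) (W₀ : 𝟙_ (Over S) ⟶ LC.C)
    (hWc : ∀ (X : Over S) (t : X ⟶ D.T), (toUnit X ≫ W₀ ≫ LC.c) * (t ≫ D.i) * (toUnit X ≫ W₀ ≫ LC.c)⁻¹ =
      (t * ((t ≫ alpha D a) ≫ av)⁻¹) ≫ D.i) {X : Over S} (e : (Γ(X.left, ⊤))ˣ) :
    (GmPts.ptOfUnit e : X ⟶ Red.Gm S) ≫ av = cochT D (coF D a) (GmPts.ptOfUnit e) := by
  haveI := isMonHom_alpha D a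
  obtain ⟨X', π, _, t, ht⟩ := BigCell.exists_lift_unit D.maximalTorus.2.2.1 (alpha D a)
    (fun s => alpha_bc_ne_one a s) e
  rw [← cancel_epi π]
  have hπ : π ≫ (GmPts.ptOfUnit e : X ⟶ Red.Gm S) = t ≫ alpha D a := by
    rw [GmPts.ptOfUnit_comp, ← ht]
    exact GmPts.ptOfUnit_unitOfPt _
  have hcomp : π ≫ cochT D (coF D a) (GmPts.ptOfUnit e) = cochT D (coF D a) (π ≫ GmPts.ptOfUnit e) := by
    simp only [cochT, Category.assoc]
  rw [hcomp, ← Category.assoc, hπ]
  have h5 := weyl_act hL LC av h2 W₀ hWc t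
  rw [mul_inv_eq_iff_eq_mul] at h5
  refine torus_ext ?_
  refine MonoidHom.ext fun m => ?_
  obtain ⟨m, rfl⟩ := Multiplicative.ofAdd.surjective m
  have h6 := DFunLike.congr_fun (congrArg (fun s : X' ⟶ D.T => MultSubLib.chars (s ≫ D.split.hom.hom.hom)) h5)
    (Multiplicative.ofAdd m)
  haveI : IsMonHom D.split.hom.hom.hom := D.split.hom.hom.isMonHom_hom
  simp only [MonObj.mul_comp, MultSubLib.chars_mul, MonoidHom.mul_apply, chars_tRefl, MonoidHom.comp_apply] at h6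
  change _ = MultSubLib.chars _ (Multiplicative.ofAdd (D.P.reflection a m)) * _ at h6
  rw [← gmFn_chi (cochT D _ _ ≫ _), Category.assoc (cochT D _ _), gmFn_cochT]
  rw [reflection_eq] at h6
  rw [← chars_zpow_alpha a t (coF D a m)]
  have h7 : MultSubLib.chars (t ≫ D.split.hom.hom.hom) (Multiplicative.ofAdd m) =
      MultSubLib.chars (t ≫ D.split.hom.hom.hom) (Multiplicative.ofAdd (m - coF D a m • D.P.root a)) *
        MultSubLib.chars (t ≫ D.split.hom.hom.hom) (Multiplicative.ofAdd (coF D a m • D.P.root a)) := by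
    rw [← map_mul, ← ofAdd_add, sub_add_cancel]
  let χ := (MultSubLib.chars (t ≫ D.split.hom.hom.hom)).toHomUnits
  exact (χ (Multiplicative.ofAdd (m - coF D a m • D.P.root a))).isUnit.mul_left_cancel (h6.symm.trans h7)

set_option maxHeartbeats 4000000 in
/-- **The commutation rule of opposite root groups; the coroot of the root datum appears in it.** -/
theorem exists_rule' (a : D.idx) : ∃ c : 𝟙_ (Over S) ⟶ Red.Gm S,
    (∃ x y : 𝟙_ (Over S) ⟶ Red.Ga S,
      IsRefl D a ((x ≫ D.u a) * (y ≫ D.u (D.P.reflectionPerm a a)) * (x ≫ D.u a))) ∧ ∀ (X : Over S) (x y : X ⟶ Red.Ga S),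
    ((∃ (y' : X ⟶ Red.Ga S) (t : X ⟶ D.T) (x' : X ⟶ Red.Ga S), (x ≫ D.u a) * (y ≫ D.u (D.P.reflectionPerm a a)) =
        (y' ≫ D.u (D.P.reflectionPerm a a)) * (t ≫ D.i) * (x' ≫ D.u a)) →
      IsUnit (1 + Red.gmFn (toUnit X ≫ c) * Red.gaFn x * Red.gaFn y)) ∧
    ∀ e : (Γ(X.left, ⊤))ˣ, (e : Γ(X.left, ⊤)) = 1 + Red.gmFn (toUnit X ≫ c) * Red.gaFn x * Red.gaFn y →
      ∃ x' y' : X ⟶ Red.Ga S, Red.gaFn x' * (e : Γ(X.left, ⊤)) = Red.gaFn x ∧
        Red.gaFn y' * (e : Γ(X.left, ⊤)) = Red.gaFn y ∧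
        (x ≫ D.u a) * (y ≫ D.u (D.P.reflectionPerm a a)) = (y' ≫ D.u (D.P.reflectionPerm a a)) *
          (cochT D (coF D a) (GmPts.ptOfUnit e) ≫ D.i) * (x' ≫ D.u a) := by
  classical
  obtain ⟨L, hL⟩ := exists_line D a
  obtain ⟨LC⟩ := exists_lineCent D L
  haveI := LC.isMonHom; haveI := LC.closed; haveI := LC.smooth
  haveI : Mono LC.c := (Over.forget S).mono_of_mono_map (inferInstanceAs (Mono LC.c.left))
  haveI := LC.isMonHom_t
  haveI := isMonHom_i D
  haveI := mono_i D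
  haveI := isMonHom_alpha D a
  haveI : Mono LC.t := mono_of_mono_fac LC.ht
  haveI : ∀ j, IsMonHom (D.u j) := isMonHom_u D
  haveI : ∀ j, Mono (D.u j) := mono_u D
  set a' := D.P.reflectionPerm a a with ha'
  obtain ⟨pp, pm, hpp, hpm, st⟩ := exists_sys LC hL
  haveI := st.mon_pp; haveI := st.mon_pm
  haveI : Mono pp := mono_of_mono_fac hpp
  haveI : Mono pm := mono_of_mono_fac hpm
  have hα : ∀ s : S, (Over.pullback (Red.geomPt s)).map (alpha D a) ≠ 1 := fun s => alpha_bc_ne_one a s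
  have hnc := exists_hnc LC a pp pm hpp hpm
  obtain ⟨⟨c, av⟩, ⟨hav, h2, hq⟩, -⟩ := Groth.Agent.S4131.result S LC.C D.T LC.t D.maximalTorus.2.2.1 (alpha D a) hα
    pp pm st.hpp st.hpm st.hΩ hnc
  haveI : IsMonHom av := hav
  let cu : ∀ X : Over S, (Γ(X.left, ⊤))ˣ := fun X => GmPts.unitOfPt (toUnit X ≫ c)
  have hcu : ∀ {X X' : Over S} (g : X' ⟶ X), g.left.appTop ((cu X : Γ(X.left, ⊤))) = (cu X' : Γ(X'.left, ⊤)) :=
    fun {X X'} g => by
      rw [GmPts.val_unitOfPt, GmPts.val_unitOfPt, ← GmPts.gmFn_comp, ← Category.assoc,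
        Subsingleton.elim (g ≫ toUnit X) (toUnit X')]
  -- the rule for the rescaled negative root homomorphism
  let σ : Red.Ga S ⟶ Red.Ga S := ptOf (((cu (Red.Ga S))⁻¹ : _) * Red.gaFn (𝟙 (Red.Ga S)))
  have hσ : ∀ {X : Over S} (y : X ⟶ Red.Ga S), Red.gaFn (y ≫ σ) = ((cu X)⁻¹ : (Γ(X.left, ⊤))ˣ) * Red.gaFn y :=
    fun {X} y => by
      rw [Groth.Agent.RankOne.comp_ptOf, gaFn_ptOf, map_mul, ← gaFn_comp, Category.comp_id]
      congr 1
      rw [← Units.mul_left_inj (cu X), Units.inv_mul, ← hcu y, ← map_mul, Units.inv_mul, map_one]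
  haveI : IsMonHom σ := Groth.Agent.BigCell.isMonHom_of_mul' _ fun X x y => gaFn_injective (by
    show Red.gaFn _ = Red.gaFn _
    rw [gaFn_mul, hσ, hσ, hσ, gaFn_mul, mul_add])
  have st' : RankOne.Setup LC.t (alpha D a) pp (σ ≫ pm) av :=
    ⟨inferInstance, inferInstance, inferInstance, inferInstance, inferInstance, st.hpp,
      fun X t y => by
        obtain ⟨y₁, hy₁, hy₁'⟩ := st.hpm X t (y ≫ σ)
        refine ⟨ptOf ((cu X : Γ(X.left, ⊤)) * Red.gaFn y₁), ?_, ?_⟩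
        · rw [show ptOf ((cu X : Γ(X.left, ⊤)) * Red.gaFn y₁) ≫ σ ≫ pm = y₁ ≫ pm by
            rw [← Category.assoc]
            congr 1
            refine gaFn_injective ?_
            show Red.gaFn _ = Red.gaFn _
            rw [hσ, gaFn_ptOf, ← _root_.mul_assoc, Units.inv_mul, _root_.one_mul], ← Category.assoc, hy₁]
        · rw [gaFn_ptOf, _root_.mul_assoc, hy₁', hσ, ← _root_.mul_assoc, Units.mul_inv, _root_.one_mul],
      h2, fun X x y h => by
        have he : 1 + Red.gmFn (toUnit X ≫ c) * Red.gaFn x * Red.gaFn (y ≫ σ) = 1 + Red.gaFn x * Red.gaFn y := by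
          rw [hσ, ← GmPts.val_unitOfPt]
          linear_combination (Red.gaFn x * Red.gaFn y) * (cu X).mul_inv
        obtain ⟨x', y', z, hz, hx', hy', hprod⟩ := (hq X x (y ≫ σ)).2 (by rw [he]; exact h)
        dsimp only at hz hprod
        rw [he] at hz
        refine ⟨x', ptOf ((cu X : Γ(X.left, ⊤)) * Red.gaFn y'), z, hz, hx', ?_, ?_⟩
        · rw [gaFn_ptOf, _root_.mul_assoc, hy', hσ, ← _root_.mul_assoc, Units.mul_inv, _root_.one_mul]
        · rw [show ptOf ((cu X : Γ(X.left, ⊤)) * Red.gaFn y') ≫ σ ≫ pm = y' ≫ pm by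
            rw [← Category.assoc]
            congr 1
            refine gaFn_injective ?_
            show Red.gaFn _ = Red.gaFn _
            rw [hσ, gaFn_ptOf, ← _root_.mul_assoc, Units.inv_mul, _root_.one_mul], ← hprod, Category.assoc]⟩
  let d := fun X : Over S => st'.data X
  have hWc : ∀ (X : Over S) (t : X ⟶ D.T), (toUnit X ≫ (d (𝟙_ (Over S))).w 1 ≫ LC.c) * (t ≫ D.i) *
      (toUnit X ≫ (d (𝟙_ (Over S))).w 1 ≫ LC.c)⁻¹ = (t * ((t ≫ alpha D a) ≫ av)⁻¹) ≫ D.i := fun X t => by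
    have hw : toUnit X ≫ (d (𝟙_ (Over S))).w 1 = (d X).w 1 := by
      simp only [d, RankOne.Data.w, RankOne.Setup.data, MonObj.comp_mul, ← Category.assoc,
        Groth.Agent.RankOne.comp_ptOf, map_neg, inv_one, Units.val_one, map_one]
    have h := congrArg (fun g : X ⟶ LC.C => g ≫ LC.c) ((d X).w_conj t 1)
    simp only [MonObj.mul_comp, GrpObj.inv_comp, ← hw, Category.assoc] at h
    rw [show (d X).tor t ≫ LC.c = t ≫ D.i by rw [← LC.ht, ← Category.assoc]; rfl,
      show (d X).h ((d X).a t) ≫ LC.c = ((t ≫ alpha D a) ≫ av) ≫ D.i by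
        rw [← LC.ht, ← Category.assoc]
        congr 1
        exact (st'.gm_eq (t ≫ alpha D a)).symm] at h
    rw [h, MonObj.mul_comp, GrpObj.inv_comp, ← GrpObj.inv_comp, ← MonObj.mul_comp, ← MonObj.mul_comp, torus_comm D]
  refine ⟨c, ⟨ptOf 1, ptOf (-1 : Γ((𝟙_ (Over S)).left, ⊤)) ≫ σ, fun X t => ?_⟩, fun X x y => ?_⟩
  · have hW : (ptOf 1 ≫ D.u a) * ((ptOf (-1 : Γ((𝟙_ (Over S)).left, ⊤)) ≫ σ) ≫ D.u a') * (ptOf 1 ≫ D.u a) =
        (d (𝟙_ (Over S))).w 1 ≫ LC.c := by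
      simp only [d, RankOne.Data.w, RankOne.Setup.data, MonObj.mul_comp, Category.assoc, hpp, hpm, inv_one,
        Units.val_one]
      rfl
    rw [hW, hWc X t, weyl_act hL LC av h2 _ hWc]
    simp only [tRefl, Category.assoc]
  have hav' : ∀ (X : Over S) (e : (Γ(X.left, ⊤))ˣ),
      (GmPts.ptOfUnit e : X ⟶ Red.Gm S) ≫ av = cochT D (coF D a) (GmPts.ptOfUnit e) :=
    fun X e => av_eq_coroot hL LC av h2 _ hWc e
  refine ⟨fun ⟨y', t, x', h⟩ => (hq X x y).1.1 ⟨lift (lift y' t) x', ?_⟩, fun e he => ?_⟩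
  · rw [← cancel_mono LC.c, BigCell.lift_cellHom]
    simp only [MonObj.mul_comp, Category.assoc, hpp, hpm, LC.ht]
    exact h.symm
  · obtain ⟨x', y', z, hz, hx', hy', hprod⟩ := (hq X x y).2 (he ▸ e.isUnit)
    dsimp only at hz hprod
    have hze : z = GmPts.ptOfUnit e := Groth.Agent.RankOne.eq_ptOfUnit z (hz.trans he.symm)
    refine ⟨x', y', by rw [he, ← hz]; exact hx', by rw [he, ← hz]; exact hy', ?_⟩
    have h := congrArg (fun g : X ⟶ LC.C => g ≫ LC.c) hprod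
    simp only [MonObj.mul_comp, Category.assoc, hpp, hpm, LC.ht] at h
    rw [h, hze, ← hav' X e, Category.assoc]

/-- **The commutation rule of opposite root groups.** -/
theorem exists_rule (a : D.idx) : ∃ c : 𝟙_ (Over S) ⟶ Red.Gm S, ∀ (X : Over S) (x y : X ⟶ Red.Ga S),
    ((∃ (y' : X ⟶ Red.Ga S) (t : X ⟶ D.T) (x' : X ⟶ Red.Ga S), (x ≫ D.u a) * (y ≫ D.u (D.P.reflectionPerm a a)) =
        (y' ≫ D.u (D.P.reflectionPerm a a)) * (t ≫ D.i) * (x' ≫ D.u a)) →
      IsUnit (1 + Red.gmFn (toUnit X ≫ c) * Red.gaFn x * Red.gaFn y)) ∧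
    ∀ e : (Γ(X.left, ⊤))ˣ, (e : Γ(X.left, ⊤)) = 1 + Red.gmFn (toUnit X ≫ c) * Red.gaFn x * Red.gaFn y →
      ∃ x' y' : X ⟶ Red.Ga S, Red.gaFn x' * (e : Γ(X.left, ⊤)) = Red.gaFn x ∧
        Red.gaFn y' * (e : Γ(X.left, ⊤)) = Red.gaFn y ∧
        (x ≫ D.u a) * (y ≫ D.u (D.P.reflectionPerm a a)) = (y' ≫ D.u (D.P.reflectionPerm a a)) *
          (cochT D (coF D a) (GmPts.ptOfUnit e) ≫ D.i) * (x' ≫ D.u a) :=
  let ⟨c, _, h⟩ := exists_rule' a
  ⟨c, h⟩

end Bruhat

end
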