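import Groth.Agent.BruhatLib.Words

/-!
# Translates of the big cell

Right translates of the big cell by negative simple root elements, and covers of the group by translates of the big
cell by products of positive simple root elements, on points over an algebraically closed field.
-/

set_option autoImplicit false
set_option linter.style.haveILetI false
set_option linter.unusedSectionVars false
set_option backward.isDefEq.respectTransparency false
set_option maxHeartbeats 1000000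
set_option synthInstance.maxHeartbeats 400000

universe u

open CategoryTheory CategoryTheory.Limits MonoidalCategory CartesianMonoidalCategory AlgebraicGeometry
open Groth.Agent.GaPts
open Groth.Agent
open scoped MonObj

noncomputable section

attribute [-instance] CategoryTheory.Hom.commGroup

namespace Bruhat

open SplitCell SplitFib RootSubgrp

variable {S : Scheme.{u}} {G : Over S} [GrpObj G] {D : Red.SplitRed G}

/-- Representatives of all reflections. -/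
theorem exists_nr (D : Red.SplitRed G) : ∃ nr : D.idx → (𝟙_ (Over S) ⟶ G), ∀ a, IsRefl D a (nr a) :=
  ⟨fun a => (D.refl a).choose, fun a => (D.refl a).choose_spec⟩

variable (D) in
/-- The points of a big cell. -/
def Omega (σ : Sides D.P) (X : Over S) : Set (X ⟶ G) :=
  {g | ∃ y ∈ Ux D σ.neg X, ∃ t : X ⟶ D.T, ∃ c ∈ Ux D σ.pos X, g = y * ((t ≫ D.i) * c)}

theorem omega_neg_mul {σ : Sides D.P} {X : Over S} {g y : X ⟶ G} (hg : g ∈ Omega D σ X) (hy : y ∈ Ux D σ.neg X) :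
    y * g ∈ Omega D σ X := by
  obtain ⟨y₀, hy₀, t, c, hc, rfl⟩ := hg
  exact ⟨_, Subgroup.mul_mem _ hy hy₀, t, c, hc, by group⟩

theorem omega_mul_pos {σ : Sides D.P} {X : Over S} {g c : X ⟶ G} (hg : g ∈ Omega D σ X) (hc : c ∈ Ux D σ.pos X) :
    g * c ∈ Omega D σ X := by
  obtain ⟨y, hy, t, c₀, hc₀, rfl⟩ := hg
  exact ⟨y, hy, t, _, Subgroup.mul_mem _ hc₀ hc, by group⟩

theorem omega_torus_mul {σ : Sides D.P} {X : Over S} {g : X ⟶ G} (hg : g ∈ Omega D σ X) (s : X ⟶ D.T) :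
    (s ≫ D.i) * g ∈ Omega D σ X := by
  haveI := isMonHom_i D
  obtain ⟨y, hy, t, c, hc, rfl⟩ := hg
  exact ⟨_, conj_torus_mem s hy, s * t, c, hc, by rw [MonObj.mul_comp]; group⟩

theorem omega_mul_torus {σ : Sides D.P} {X : Over S} {g : X ⟶ G} (hg : g ∈ Omega D σ X) (s : X ⟶ D.T) :
    g * (s ≫ D.i) ∈ Omega D σ X := by
  haveI := isMonHom_i D
  obtain ⟨y, hy, t, c, hc, rfl⟩ := hg
  exact ⟨y, hy, t * s, _, conj_torus_mem' s hc, by rw [MonObj.mul_comp]; group⟩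

/-- A point of the big cell comes from the cell map. -/
theorem exists_cell_pt {σ : Sides D.P} {n m : ℕ} {eneg : Fin n → D.idx} {epos : Fin m → D.idx}
    (hneg : RedSub.Enumerates σ.neg eneg) (hpos : RedSub.Enumerates σ.pos epos) {X : Over S} {g : X ⟶ G}
    (hg : g ∈ Omega D σ X) : ∃ q, q ≫ RedSub.cellMap D eneg epos = g := by
  obtain ⟨y, hy, t, c, hc, rfl⟩ := hg
  obtain ⟨y₀, rfl⟩ := exists_rprod (flipSides σ) hneg hy
  obtain ⟨c₀, rfl⟩ := exists_rprod σ hpos hc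
  exact ⟨lift y₀ (lift t c₀), by
    rw [RedSub.cellMap, MonObj.comp_mul, MonObj.comp_mul, lift_fst_assoc, lift_snd_assoc, lift_fst_assoc,
      lift_snd_assoc, lift_snd_assoc]⟩

theorem cell_mem_omega {σ : Sides D.P} {n m : ℕ} {eneg : Fin n → D.idx} {epos : Fin m → D.idx}
    (hneg : RedSub.Enumerates σ.neg eneg) (hpos : RedSub.Enumerates σ.pos epos) {X : Over S}
    (q : X ⟶ RedSub.pow (Red.Ga S) n ⊗ (D.T ⊗ RedSub.pow (Red.Ga S) m)) :
    q ≫ RedSub.cellMap D eneg epos ∈ Omega D σ X :=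
  ⟨(q ≫ fst _ _) ≫ rprod D eneg, rprod_mem eneg (fun i => hneg.2.subset (Set.mem_range_self i)) _,
    q ≫ snd _ _ ≫ fst _ _, (q ≫ snd _ _ ≫ snd _ _) ≫ rprod D epos,
    rprod_mem epos (fun i => hpos.2.subset (Set.mem_range_self i)) _, by
      rw [RedSub.cellMap, MonObj.comp_mul, MonObj.comp_mul]
      simp only [Category.assoc]⟩

section Geom

variable [Nonempty S] {K : Type u} [Field K] [IsAlgClosed K] (ξ : Spec (CommRingCat.of K) ⟶ S)
  {a : D.idx} {n : 𝟙_ (Over S) ⟶ G}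

variable (D) in
/-- The cell of a root. -/
def Omega1 (a : D.idx) : Set (aP ξ K ⟶ G) :=
  {g | ∃ (p q : K) (t : aP ξ K ⟶ D.T), g = el ξ (D.u (D.P.reflectionPerm a a)) p * ((t ≫ D.i) * el ξ (D.u a) q)}

theorem exists_conj_el (hn : IsRefl D a n) (k : D.idx) (r : K) : ∃ r' : K,
    (toUnit (aP ξ K) ≫ n) * el ξ (D.u k) r * (toUnit (aP ξ K) ≫ n)⁻¹ = el ξ (D.u (D.P.reflectionPerm a k)) r' := by
  obtain ⟨w, hw⟩ := hn.conj_u k (X := aP ξ K) (ptOf (cst ξ K r))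
  obtain ⟨r', rfl⟩ := ga_cases ξ w
  exact ⟨r', hw⟩

theorem exists_torus_el (k : D.idx) (t : aP ξ K ⟶ D.T) (r : K) :
    ∃ r' : K, (t ≫ D.i) * el ξ (D.u k) r * (t ≫ D.i)⁻¹ = el ξ (D.u k) r' :=
  ⟨_, conj_el D ξ t k r⟩

theorem exists_torus_el' (k : D.idx) (t : aP ξ K ⟶ D.T) (r : K) :
    ∃ r' : K, (t ≫ D.i)⁻¹ * el ξ (D.u k) r * (t ≫ D.i) = el ξ (D.u k) r' := by
  haveI := isMonHom_i D
  obtain ⟨r', h⟩ := exists_torus_el ξ k t⁻¹ r
  exact ⟨r', by rwa [GrpObj.inv_comp, inv_inv] at h⟩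

theorem exists_sq_el (hn : IsRefl D a n) : ∃ c : aP ξ K ⟶ D.T,
    (toUnit (aP ξ K) ≫ n) * (toUnit (aP ξ K) ≫ n) = c ≫ D.i := by
  obtain ⟨c, hc⟩ := hn.exists_sq
  exact ⟨toUnit _ ≫ c, by rw [← MonObj.comp_mul, hc, Category.assoc]⟩

/-- A non-trivial root element times the representative is in the cell of the root. -/
theorem el_mul_refl_mem (hn : IsRefl D a n) {r : K} (hr : r ≠ 0) :
    el ξ (D.u a) r * (toUnit (aP ξ K) ≫ n) ∈ Omega1 D ξ a := by
  haveI := isMonHom_i D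
  obtain ⟨p, q, τ, h⟩ := exists_rank_one ξ hn.neg hr
  rw [neg_neg'] at h
  obtain ⟨q', hq'⟩ := exists_conj_el ξ hn (D.P.reflectionPerm a a) q
  rw [perm_perm] at hq'
  obtain ⟨c, hc⟩ := exists_sq_el ξ hn
  obtain ⟨q'', hq''⟩ := exists_torus_el' ξ a c q'
  refine ⟨p, q'', tRefl a τ * c, ?_⟩
  rw [h, MonObj.mul_comp, ← hn.conj_torus τ, ← hq'', ← hq', ← hc]
  group

theorem omega1_mul (q : K) {g : aP ξ K ⟶ G} (hg : g ∈ Omega1 D ξ a) (t : aP ξ K ⟶ D.T) :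
    g * ((t ≫ D.i) * el ξ (D.u a) q) ∈ Omega1 D ξ a := by
  haveI := isMonHom_i D
  haveI := isMonHom_u D a
  obtain ⟨p, q₀, t₀, rfl⟩ := hg
  obtain ⟨q₁, hq₁⟩ := exists_torus_el' ξ a t q₀
  refine ⟨p, q₁ + q, t₀ * t, ?_⟩
  rw [el_add, ← hq₁, MonObj.mul_comp]
  group

theorem el_mul_omega1 (r : K) {g : aP ξ K ⟶ G} (hg : g ∈ Omega1 D ξ a) :
    el ξ (D.u (D.P.reflectionPerm a a)) r * g ∈ Omega1 D ξ a := by
  haveI := isMonHom_u D (D.P.reflectionPerm a a)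
  obtain ⟨p, q, t, rfl⟩ := hg
  exact ⟨r + p, q, t, by rw [el_add]; group⟩

/-- **Products of three root elements of a line.** -/
theorem three_mem (hn : IsRefl D a n) (r z y : K) {x : K} (hx : x ≠ 0) :
    el ξ (D.u (D.P.reflectionPerm a a)) r * el ξ (D.u a) z * el ξ (D.u (D.P.reflectionPerm a a)) y ∈ Omega1 D ξ a ∨
      (el ξ (D.u a) x)⁻¹ * (el ξ (D.u (D.P.reflectionPerm a a)) r * el ξ (D.u a) z *
        el ξ (D.u (D.P.reflectionPerm a a)) y) ∈ Omega1 D ξ a := by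
  haveI := isMonHom_i D
  haveI := isMonHom_u D a
  haveI := isMonHom_u D (D.P.reflectionPerm a a)
  rcases eq_or_ne y 0 with rfl | hy
  · refine Or.inl ⟨r, z, 1, ?_⟩
    rw [el_zero, MonObj.one_comp, _root_.mul_one, _root_.one_mul]
  obtain ⟨p, q, τ, h⟩ := exists_rank_one ξ hn hy
  rcases eq_or_ne (z + p) 0 with hzp | hzp
  · obtain ⟨r', hr'⟩ := exists_conj_el ξ hn.inv (D.P.reflectionPerm a a) r
    rw [perm_perm, GrpObj.comp_inv, inv_inv] at hr'
    refine Or.inr ?_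
    obtain ⟨r'', hr''⟩ := exists_torus_el' ξ a τ r'
    have e : (el ξ (D.u a) x)⁻¹ * (el ξ (D.u (D.P.reflectionPerm a a)) r * el ξ (D.u a) z *
        el ξ (D.u (D.P.reflectionPerm a a)) y) =
        el ξ (D.u a) (-x) * (toUnit (aP ξ K) ≫ n) * ((τ ≫ D.i) * el ξ (D.u a) (r'' + q)) := by
      have e0 : el ξ (D.u a) z * el ξ (D.u a) p = 1 := by rw [← el_add, hzp, el_zero]
      rw [h, el_neg, el_add, ← hr'', ← hr']
      calc _ = (el ξ (D.u a) x)⁻¹ * el ξ (D.u (D.P.reflectionPerm a a)) r * (el ξ (D.u a) z * el ξ (D.u a) p) *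
            (toUnit (aP ξ K) ≫ n) * (τ ≫ D.i) * el ξ (D.u a) q := by group
        _ = _ := by rw [e0]; group
    rw [e]
    exact omega1_mul ξ _ (el_mul_refl_mem ξ hn (neg_ne_zero.2 hx)) τ
  · refine Or.inl ?_
    have e : el ξ (D.u (D.P.reflectionPerm a a)) r * el ξ (D.u a) z * el ξ (D.u (D.P.reflectionPerm a a)) y =
        el ξ (D.u (D.P.reflectionPerm a a)) r * (el ξ (D.u a) (z + p) * (toUnit (aP ξ K) ≫ n) *
          ((τ ≫ D.i) * el ξ (D.u a) q)) := by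
      rw [h, el_add]
      group
    rw [e]
    exact el_mul_omega1 ξ r (omega1_mul ξ q (el_mul_refl_mem ξ hn hzp) τ)

theorem exists_el_single {R : Set D.idx} {k : D.idx} (hR : ∀ j ∈ R, j = k) {g : aP ξ K ⟶ G}
    (hg : g ∈ Ux D R (aP ξ K)) : ∃ r : K, g = el ξ (D.u k) r := by
  haveI := isMonHom_u D k
  let P : Subgroup (aP ξ K ⟶ G) :=
    { carrier := {g | ∃ r : K, g = el ξ (D.u k) r}
      one_mem' := ⟨0, (el_zero ξ _).symm⟩
      mul_mem' := by rintro _ _ ⟨x, rfl⟩ ⟨y, rfl⟩; exact ⟨x + y, (el_add ξ _ x y).symm⟩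
      inv_mem' := by rintro _ ⟨x, rfl⟩; exact ⟨-x, (el_neg ξ _ x).symm⟩ }
  refine ux_le (P := P) (fun j hj w => ?_) hg
  rw [hR j hj]
  obtain ⟨r, rfl⟩ := ga_cases ξ w
  exact ⟨r, rfl⟩

/-- **The big cell translated on the right by a negative simple root element.** -/
theorem omega_mul_neg (σ : Sides D.P) (hn : IsRefl D a n) (hw : IsWall D σ a) {x : K} (hx : x ≠ 0) (y₀ : K)
    {g : aP ξ K ⟶ G} (hg : g ∈ Omega D σ (aP ξ K)) :
    g * el ξ (D.u (D.P.reflectionPerm a a)) y₀ ∈ Omega D σ (aP ξ K) ∨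
      (el ξ (D.u a) x)⁻¹ * (g * el ξ (D.u (D.P.reflectionPerm a a)) y₀) ∈ Omega D σ (aP ξ K) := by
  haveI := isMonHom_i D
  haveI := isMonHom_u D a
  set a' := D.P.reflectionPerm a a with ha'
  haveI := isMonHom_u D a'
  obtain ⟨y, hy, t, c, hc, rfl⟩ := hg
  obtain ⟨y₁, hy₁, y₂, hy₂, rfl⟩ := exists_split_mem (flipSides σ) (fun k => k ≠ a') hy
  obtain ⟨r, rfl⟩ := exists_el_single ξ (k := a') (fun j hj => not_not.1 hj.2) hy₂
  obtain ⟨c₂, hc₂, c₁, hc₁, rfl⟩ := exists_split_mem σ (fun k => k = a) hc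
  obtain ⟨z, rfl⟩ := exists_el_single ξ (k := a) (fun j hj => hj.2) hc₂
  have hc₁' : (el ξ (D.u a') y₀)⁻¹ * c₁ * el ξ (D.u a') y₀ ∈ Ux D σ.pos (aP ξ K) := by
    have h := hw.conj_u (β := a') (Or.inr rfl) (ptOf (cst ξ K (-y₀))) (g := c₁) hc₁
    rw [← el_eq, el_neg, inv_inv] at h
    exact ux_mono (fun k hk => hk.1) h
  obtain ⟨r', hr'⟩ := exists_torus_el' ξ a' t r
  obtain ⟨x', hx'⟩ := exists_torus_el' ξ a t x
  have hx'0 : x' ≠ 0 := fun h => hx (by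
    haveI := mono_u D a
    rw [h, el_zero, mul_eq_one_iff_eq_inv, mul_eq_left, ← el_zero ξ (D.u a)] at hx'
    exact el_injective ξ (D.u a) hx')
  have e : y₁ * el ξ (D.u a') r * ((t ≫ D.i) * (el ξ (D.u a) z * c₁)) * el ξ (D.u a') y₀ =
      y₁ * ((t ≫ D.i) * (el ξ (D.u a') r' * el ξ (D.u a) z * el ξ (D.u a') y₀)) *
        ((el ξ (D.u a') y₀)⁻¹ * c₁ * el ξ (D.u a') y₀) := by
    rw [← hr']
    group
  have hlift : ∀ {w : aP ξ K ⟶ G}, w ∈ Omega1 D ξ a → w ∈ Omega D σ (aP ξ K) := fun {w} hw' => by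
    obtain ⟨p, q, τ, rfl⟩ := hw'
    exact ⟨_, el_mem ξ (neg_mem_neg σ hw.1) p, τ, _, el_mem ξ hw.1 q, rfl⟩
  rcases three_mem ξ hn r' z y₀ hx'0 with h | h
  · left
    rw [e]
    exact omega_mul_pos (omega_neg_mul (omega_torus_mul (hlift h) t) (ux_mono (fun k hk => hk.1) hy₁)) hc₁'
  · right
    have hy₁' : (el ξ (D.u a) x)⁻¹ * y₁ * el ξ (D.u a) x ∈ Ux D σ.neg (aP ξ K) := by
      have h' := hw.flip.conj_u (β := a) (Or.inr (neg_neg' a).symm) (ptOf (cst ξ K (-x))) (g := y₁) hy₁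
      rw [← el_eq, el_neg, inv_inv] at h'
      exact ux_mono (fun k hk => hk.1) h'
    have e2 : (el ξ (D.u a) x)⁻¹ * (y₁ * el ξ (D.u a') r * ((t ≫ D.i) * (el ξ (D.u a) z * c₁)) * el ξ (D.u a') y₀) =
        (el ξ (D.u a) x)⁻¹ * y₁ * el ξ (D.u a) x * ((t ≫ D.i) * ((el ξ (D.u a) x')⁻¹ *
          (el ξ (D.u a') r' * el ξ (D.u a) z * el ξ (D.u a') y₀))) *
        ((el ξ (D.u a') y₀)⁻¹ * c₁ * el ξ (D.u a') y₀) := by
      rw [e, ← hx']
      group
    rw [e2]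
    exact omega_mul_pos (omega_neg_mul (omega_torus_mul (hlift h) t) hy₁') hc₁'

end Geom

/-- **Subgroups with the simple root groups and representatives of their reflections contain all root groups.** -/
theorem roots_mem [Nonempty S] (b : D.P.Base) {nr : D.idx → (𝟙_ (Over S) ⟶ G)} (hnr : ∀ a, IsRefl D a (nr a))
    {X : Over S} (P : Subgroup (X ⟶ G)) (hN : ∀ a ∈ b.support, (toUnit X ≫ nr a) ∈ P)
    (hU : ∀ a ∈ b.support, ∀ z : X ⟶ Red.Ga S, z ≫ D.u a ∈ P) (k : D.idx) :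
    ∀ z : X ⟶ Red.Ga S, z ≫ D.u k ∈ P := by
  haveI := SplitFib.isReduced_root D
  have hconj : ∀ j ∈ b.support, ∀ k : D.idx, (∀ z, z ≫ D.u k ∈ P) →
      ∀ z, z ≫ D.u (D.P.reflectionPerm j k) ∈ P := fun j hj k hk z => by
    obtain ⟨z', hz'⟩ := (hnr j).conj_u (D.P.reflectionPerm j k) z
    rw [perm_perm] at hz'
    rw [show z ≫ D.u (D.P.reflectionPerm j k) =
      (toUnit X ≫ nr j)⁻¹ * (z' ≫ D.u k) * (toUnit X ≫ nr j) by rw [← hz']; group]
    exact P.mul_mem (P.mul_mem (P.inv_mem (hN j hj)) (hk z')) (hN j hj)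
  suffices h : (∀ z, z ≫ D.u k ∈ P) ∧ ∀ z, z ≫ D.u (D.P.reflectionPerm k k) ∈ P from h.1
  refine b.induction_reflect k (p := fun k => (∀ z, z ≫ D.u k ∈ P) ∧
    ∀ z, z ≫ D.u (D.P.reflectionPerm k k) ∈ P) (fun i h => ⟨h.2, ?_⟩)
    (fun a ha => ⟨hU a ha, hconj a ha a (hU a ha)⟩) fun i j h hj => ⟨hconj j hj i h.1, ?_⟩
  · rw [show D.P.reflectionPerm (D.P.reflectionPerm i i) (D.P.reflectionPerm i i) = i from neg_neg' i]
    exact h.1
  · rw [← perm_neg]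
    exact hconj j hj _ h.2

/-- **Translates of the big cell by products of simple root elements cover the group.** -/
theorem exists_mem_translate {K : Type u} [Field K] [IsAlgClosed K] [Nonempty S] (ξ : Spec (CommRingCat.of K) ⟶ S)
    (b : D.P.Base) (W : Submonoid (aP ξ K ⟶ G)) (hW : ∀ a ∈ b.support, ∃ x : K, x ≠ 0 ∧ el ξ (D.u a) x ∈ W)
    (g : aP ξ K ⟶ G) : ∃ w ∈ W, w⁻¹ * g ∈ Omega D (sidesOfBase D.P b) (aP ξ K) := by
  haveI := isMonHom_i D
  obtain ⟨nr, hnr⟩ := exists_nr D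
  set σ := sidesOfBase D.P b
  let Z : Set (aP ξ K ⟶ G) := {g | ∃ w ∈ W, w⁻¹ * g ∈ Omega D σ (aP ξ K)}
  let P : Subgroup (aP ξ K ⟶ G) :=
    { carrier := {h | ∀ g ∈ Z, g * h ∈ Z ∧ g * h⁻¹ ∈ Z}
      one_mem' := fun g hg => by simpa using hg
      mul_mem' := fun {h h'} hh hh' g hg => by
        refine ⟨?_, ?_⟩
        · rw [← _root_.mul_assoc]; exact (hh' _ (hh g hg).1).1
        · rw [mul_inv_rev, ← _root_.mul_assoc]; exact (hh _ (hh' g hg).2).2
      inv_mem' := fun {h} hh g hg => ⟨(hh g hg).2, by rw [inv_inv]; exact (hh g hg).1⟩ }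
  have hT : ∀ t : aP ξ K ⟶ D.T, t ≫ D.i ∈ P := fun t g ⟨w, hw, hg⟩ =>
    ⟨⟨w, hw, by rw [← _root_.mul_assoc]; exact omega_mul_torus hg t⟩,
      ⟨w, hw, by rw [← _root_.mul_assoc, ← GrpObj.inv_comp]; exact omega_mul_torus hg t⁻¹⟩⟩
  have hpos : ∀ c ∈ Ux D σ.pos (aP ξ K), c ∈ P := fun c hc g ⟨w, hw, hg⟩ =>
    ⟨⟨w, hw, by rw [← _root_.mul_assoc]; exact omega_mul_pos hg hc⟩,
      ⟨w, hw, by rw [← _root_.mul_assoc]; exact omega_mul_pos hg (Subgroup.inv_mem _ hc)⟩⟩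
  have hminus : ∀ a ∈ b.support, ∀ y : K, el ξ (D.u (D.P.reflectionPerm a a)) y ∈ P := fun a ha => by
    haveI := isMonHom_u D (D.P.reflectionPerm a a)
    obtain ⟨x, hx, hxW⟩ := hW a ha
    have one : ∀ (y : K) (g : aP ξ K ⟶ G), g ∈ Z → g * el ξ (D.u (D.P.reflectionPerm a a)) y ∈ Z :=
      fun y g ⟨w, hw, hg⟩ => by
        rcases omega_mul_neg ξ σ (hnr a) (isWall_of_mem_support b ha) hx y hg with h | h
        · exact ⟨w, hw, by rw [← _root_.mul_assoc]; exact h⟩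
        · exact ⟨w * el ξ (D.u a) x, W.mul_mem hw hxW, by rw [mul_inv_rev, _root_.mul_assoc]; convert h using 1; group⟩
    intro y g hg
    exact ⟨one y g hg, by rw [← el_neg]; exact one (-y) g hg⟩
  have hNr : ∀ a ∈ b.support, (toUnit (aP ξ K) ≫ nr a) ∈ P := fun a ha => by
    obtain ⟨p, q, τ, h⟩ := exists_rank_one ξ (hnr a) (one_ne_zero (α := K))
    have ha' : a ∈ σ.pos := (isWall_of_mem_support b ha).1
    rw [show (toUnit (aP ξ K) ≫ nr a) = (el ξ (D.u a) p)⁻¹ * el ξ (D.u (D.P.reflectionPerm a a)) (1 : K) *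
      (el ξ (D.u a) q)⁻¹ * (τ ≫ D.i)⁻¹ by rw [h]; group]
    exact P.mul_mem (P.mul_mem (P.mul_mem (P.inv_mem (hpos _ (el_mem ξ ha' p))) (hminus a ha 1))
      (P.inv_mem (hpos _ (el_mem ξ ha' q)))) (P.inv_mem (hT τ))
  have hall := roots_mem b hnr P hNr fun a ha z => hpos _ (u_mem (isWall_of_mem_support b ha).1 z)
  have htop := eq_top ξ P hT hall
  have h1 : (1 : aP ξ K ⟶ G) ∈ Z := ⟨1, W.one_mem, 1, Subgroup.one_mem _, 1, 1, Subgroup.one_mem _, by simp⟩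
  have hg : g ∈ P := htop ▸ Subgroup.mem_top g
  have h2 := (hg 1 h1).1
  rw [_root_.one_mul] at h2
  exact h2

/-- Every point of the group is the image of a geometric point. -/
theorem exists_geom (x : G.left) : ∃ (K : Type u) (_ : Field K) (_ : IsAlgClosed K) (ξ : Spec (CommRingCat.of K) ⟶ S)
    (g : aP ξ K ⟶ G), ∀ z, g.left z = x := by
  obtain ⟨K, _, _, a, p, hp⟩ := Groth.Agent.BigCell.exists_geomPt G x
  refine ⟨K, _, inferInstance, a, Over.homMk p.left ?_, hp⟩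
  show p.left ≫ G.hom = Spec.map _ ≫ a
  rw [Over.w p, show CommRingCat.ofHom (algebraMap K K) = 𝟙 _ from rfl, Spec.map_id, Category.id_comp]
  rfl

theorem mem_range_of_geom {K : Type u} [Field K] (ξ : Spec (CommRingCat.of K) ⟶ S) {Y : Over S} (f : Y ⟶ G)
    {g : aP ξ K ⟶ G} {x : G.left} (hg : ∀ z, g.left z = x) (q : aP ξ K ⟶ Y) (h : q ≫ f = g) :
    x ∈ Set.range f.left.base := by
  obtain ⟨z⟩ : Nonempty (Spec (CommRingCat.of K) : Scheme.{u}) := inferInstance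
  refine ⟨q.left z, ?_⟩
  rw [← hg z, ← h, Over.comp_left, Scheme.Hom.comp_apply]

theorem exists_of_mem_range {Y : Over S} (f : Y ⟶ G) {x : G.left} (hx : x ∈ Set.range f.left.base) :
    ∃ (K : Type u) (_ : Field K) (_ : IsAlgClosed K) (ξ : Spec (CommRingCat.of K) ⟶ S) (q : aP ξ K ⟶ Y),
      ∀ z, (q ≫ f).left z = x := by
  obtain ⟨y, rfl⟩ := hx
  obtain ⟨K, _, _, a, p, hp⟩ := Groth.Agent.BigCell.exists_geomPt Y y
  refine ⟨K, _, inferInstance, a, Over.homMk p.left ?_, fun z => ?_⟩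
  · show p.left ≫ Y.hom = Spec.map _ ≫ a
    rw [Over.w p, show CommRingCat.ofHom (algebraMap K K) = 𝟙 _ from rfl, Spec.map_id, Category.id_comp]
    rfl
  · rw [Over.comp_left, Scheme.Hom.comp_apply]
    exact congrArg f.left (hp z)

end Bruhat

end
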