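import Groth.Agent.BruhatLib.TwoTori
import Groth.Agent.AbSchLib.DimFinite
import Groth.Agent.MultSubLib.Chars
import Groth.Agent.BorelLib.ParabImage
import Groth.Agent.BorelLib.ImageField
import Mathlib.LinearAlgebra.FreeModule.Finite.Quotient

/-!
# Isogenies of split groups

A homomorphism with finite fibres between split groups, carrying the torus into the torus, matches the roots up to
powers of the characteristic exponent.
-/

set_option autoImplicit false
set_option linter.style.haveILetI false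
set_option linter.unusedSectionVars false
set_option backward.isDefEq.respectTransparency false
set_option maxHeartbeats 1000000
set_option synthInstance.maxHeartbeats 400000

universe u

open CategoryTheory CategoryTheory.Limits MonoidalCategory CartesianMonoidalCategory AlgebraicGeometry
open Groth.Agent.GaPts
open Groth.Agent
open scoped MonObj LaurentPolynomial
open Groth.Agent.BorelLib
open CoactBr (sp)

noncomputable section

attribute [-instance] CategoryTheory.Hom.commGroup

namespace Bruhat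

attribute [local instance] pTop pTopTensor

open SplitCell SplitFib RootSubgrp

section FiniteKernel

variable {S : Scheme.{u}} {G G' : Over S} [GrpObj G'] (ψ : G ⟶ G') [IsFinite ψ.left]
  {K : Type u} [Field K] (ξ : Spec (CommRingCat.of K) ⟶ S)

/-- A finite morphism has finitely many points over a point. -/
theorem finite_fibre_pts (e : aP ξ K ⟶ G') : {x : aP ξ K ⟶ G | x ≫ ψ = e}.Finite := by
  classical
  let Z := pullback ψ.left e.left
  let q : Z ⟶ Spec (CommRingCat.of K) := pullback.snd ψ.left e.left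
  haveI : IsFinite q := MorphismProperty.pullback_snd (P := @IsFinite) _ _ inferInstance
  haveI : IsAffine Z := isAffine_of_isAffineHom q
  let φ : K →+* Γ(Z, ⊤) := q.appTop.hom.comp (Scheme.ΓSpecIso (CommRingCat.of K)).inv.hom
  letI : Algebra K Γ(Z, ⊤) := φ.toAlgebra
  have hφ : φ.Finite := (Scheme.Hom.finite_appTop q).comp
    (RingHom.Finite.of_surjective _ (ConcreteCategory.bijective_of_isIso (Scheme.ΓSpecIso (CommRingCat.of K)).inv).2)
  haveI : Module.Finite K Γ(Z, ⊤) := hφ
  haveI : Finite (Γ(Z, ⊤) →ₐ[K] K) := (linearIndependent_toLinearMap K Γ(Z, ⊤) K).finite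
  let sec : {x : aP ξ K ⟶ G | x ≫ ψ = e} → (Spec (CommRingCat.of K) ⟶ Z) := fun x =>
    pullback.lift x.1.left (𝟙 _) (by
      rw [Category.id_comp]
      exact congrArg CommaMorphism.left x.2)
  have hsec : ∀ x, sec x ≫ q = 𝟙 _ := fun x => pullback.lift_snd _ _ _
  let al : {x : aP ξ K ⟶ G | x ≫ ψ = e} → (Γ(Z, ⊤) →ₐ[K] K) := fun x =>
    { toRingHom := (Scheme.ΓSpecIso (CommRingCat.of K)).hom.hom.comp (sec x).appTop.hom
      commutes' := fun r => by
        show (Scheme.ΓSpecIso (CommRingCat.of K)).hom.hom ((sec x).appTop (q.appTop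
          ((Scheme.ΓSpecIso (CommRingCat.of K)).inv.hom r))) = r
        rw [← CommRingCat.comp_apply q.appTop, ← Scheme.Hom.comp_appTop, hsec, Scheme.Hom.id_appTop]
        exact Iso.inv_hom_id_apply (Scheme.ΓSpecIso (CommRingCat.of K)) r }
  refine Set.finite_coe_iff.1 (Finite.of_injective al fun x y h => Subtype.ext (Over.OverMorphism.ext ?_))
  have h1 : sec x = sec y := by
    refine ext_of_isAffine (CommRingCat.hom_ext (RingHom.ext fun r => ?_))
    have h2 := AlgHom.congr_fun h r
    exact (ConcreteCategory.bijective_of_isIso (Scheme.ΓSpecIso (CommRingCat.of K)).hom).1 h2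
  have h3 := congrArg (fun f => f ≫ pullback.fst ψ.left e.left) h1
  simp only [sec, pullback.lift_fst] at h3
  exact h3

end FiniteKernel

/-- A homomorphism of split tori over a field is given by a map of characters. -/
theorem exists_DSmap_of_hom {k : Type u} [Field k] {M N : Type} [AddCommGroup M] [AddCommGroup N] [AddGroup.FG N]
    (w : Red.DS (Spec (CommRingCat.of k)) M ⟶ Red.DS (Spec (CommRingCat.of k)) N) [IsMonHom w] :
    ∃ φ : N →+ M, w = Red.DSmap (Spec (CommRingCat.of k)) φ := by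
  let B := Spec (CommRingCat.of k)
  let D := Red.DS B M
  let T₀ : Over B := 𝟙_ (Over B)
  have hfam : AutFam.IsHomFamily D (Red.DS B N) (fst D T₀ ≫ w) := fun X g₁ g₂ t => by
    rw [lift_fst_assoc, lift_fst_assoc, lift_fst_assoc, MonObj.mul_comp]
  obtain ⟨U, j, hj, hz, ψ, hψ⟩ := MultSubLib.exists_open_dd (fst D T₀ ≫ w) hfam
    (IsLocalRing.closedPoint k : (Spec (CommRingCat.of k)))
  haveI : IsIso j.left := by
    haveI : Surjective j.left := ⟨fun t => by
      obtain ⟨z, hz⟩ := hz
      exact ⟨z, Subsingleton.elim (α := ↥(Spec (CommRingCat.of k))) _ _⟩⟩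
    haveI : Epi j.left.base := (TopCat.epi_iff_surjective _).2 j.left.surjective
    exact IsOpenImmersion.isIso j.left
  haveI : IsIso j := by
    haveI : IsIso ((Over.forget _).map j) := ‹_›
    exact isIso_of_reflects_iso j (Over.forget _)
  have hw : w = MultSubLib.dd B ψ := by
    have h1 : lift (𝟙 D) (toUnit D ≫ inv j) ≫ (D ◁ j) ≫ fst D T₀ ≫ w =
        lift (𝟙 D) (toUnit D ≫ inv j) ≫ fst D U ≫ MultSubLib.dd B ψ :=
      congrArg (fun z => lift (𝟙 D) (toUnit D ≫ inv j) ≫ z) hψ
    rw [whiskerLeft_fst_assoc, lift_fst_assoc, lift_fst_assoc, Category.id_comp, Category.id_comp] at h1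
    exact h1
  refine ⟨ψ.toAdditive, ?_⟩
  rw [hw]
  refine MultSubLib.chars_injective ?_
  rw [← Category.id_comp (Red.DSmap B _), DSImg.chars_comp_DSmap, ← Category.id_comp (MultSubLib.dd B ψ),
    MultSubLib.chars_comp_dd]
  rfl

/-- An additive monomial of degree invertible in the field is linear. -/
theorem eq_one_of_additive {K : Type u} [Field K] [Infinite K] {n : ℕ} (hne : (n : K) ≠ 0)
    (hadd : ∀ x y : K, (x + y) ^ n = x ^ n + y ^ n) : n = 1 := by
  by_contra h1
  have e : (Polynomial.X + 1 : Polynomial K) ^ n = Polynomial.X ^ n + 1 := Polynomial.funext fun r => by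
    simp [hadd r 1]
  have e1 := congrArg (fun p : Polynomial K => p.coeff 1) e
  simp only [Polynomial.coeff_X_add_one_pow, Polynomial.coeff_add, Polynomial.coeff_X_pow,
    Polynomial.coeff_one, Nat.choose_one_right] at e1
  rw [if_neg (Ne.symm h1), if_neg one_ne_zero, add_zero] at e1
  exact hne e1

/-- An additive monomial has degree a power of the characteristic exponent. -/
theorem exists_pow_of_additive {K : Type u} [Field K] [Infinite K] (q : ℕ) [ExpChar K q] {n : ℕ} (hn : n ≠ 0)
    (h : ∀ x y : K, (x + y) ^ n = x ^ n + y ^ n) : ∃ m : ℕ, n = q ^ m := by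
  classical
  rcases expChar_is_prime_or_one K q with hq | hq
  · haveI : CharP K q := by
      cases ‹ExpChar K q› with
      | zero => exact absurd rfl hq.ne_one
      | prime hprime => assumption
    induction n using Nat.strong_induction_on with
    | _ n ih =>
      by_cases hd : q ∣ n
      · obtain ⟨n', rfl⟩ := hd
        have hn' : n' ≠ 0 := right_ne_zero_of_mul hn
        obtain ⟨m, hm⟩ := ih n' (lt_mul_of_one_lt_left (Nat.pos_of_ne_zero hn') hq.one_lt) hn' fun x y => by
          have h1 := h x y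
          simp only [pow_mul', ← frobenius_def] at h1
          rw [← map_add] at h1
          exact (frobenius K q).injective h1
        exact ⟨m + 1, by rw [hm, pow_succ']⟩
      · have h1 := eq_one_of_additive (K := K) (fun e => hd ((CharP.cast_eq_zero_iff K q n).1 e)) h
        exact ⟨0, by rw [pow_zero, h1]⟩
  · subst hq
    haveI : CharZero K := charZero_of_expChar_one' K
    exact ⟨0, by rw [pow_zero, eq_one_of_additive (K := K) (Nat.cast_ne_zero.2 hn) h]⟩

section Weights

variable {S : Scheme.{u}} {G : Over S} [GrpObj G] (D : Red.SplitRed G) {K : Type u} [Field K] [IsAlgClosed K]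
  (a : Spec (CommRingCat.of K) ⟶ S) {A : Type u} [CommRing A] [HopfAlgebra K A]
  (v : sp K A ≅ Red.bc a G) [IsMonHom v.hom] [Algebra.FiniteType K A] [_root_.IsReduced A]
  [IsAffine (Red.bc a G).left] [Smooth (Red.bc a G).hom]

/-- **A one-parameter subgroup scaled by a torus mapping to the torus is a root group up to a Frobenius power**, with the
shape of the map. -/
theorem exists_scaled_root_form [Nonempty S] {M : Type} [AddCommGroup M] [Module.Finite ℤ M] [Module.Free ℤ M]
    (e : D.M →ₗ[ℤ] M) (he : Function.Injective e) (q : ℕ) [ExpChar K q]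
    (P : aP a (Polynomial K) ⟶ G) (χ : M) (hχ : χ ≠ 0)
    (hadd : ∀ r r' : K, fam a v P (linePt (r + r')) = fam a v P (linePt r) * fam a v P (linePt r'))
    (hne : ∀ r : K, r ≠ 0 → ∃ r' : K, fam a v P (linePt (r * r')) ≠ 1)
    (heq : ∀ (g : M →ₗ[ℤ] ℤ) (z : Kˣ) (r : K), torusHom D a v (tc D a (g.comp e) z) * fam a v P (linePt r) *
      (torusHom D a v (tc D a (g.comp e) z))⁻¹ = fam a v P (linePt (((z ^ g χ : Kˣ) : K) * r))) :
    ∃ (k : D.idx) (m : ℕ) (C : K), e (D.P.root k) = ((q ^ m : ℕ) : ℤ) • χ ∧ C ≠ 0 ∧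
      ∀ r : K, fam a v P (linePt r) = uEl D a v k (C * r ^ (q ^ m)) := by
  classical
  haveI := SplitFib.isReduced_root D
  haveI : Infinite K := IsAlgClosed.instInfinite
  have hP0 : fam a v P (linePt 0) = 1 := by
    have := hadd 0 0
    rwa [add_zero, eq_comm, mul_eq_left] at this
  obtain ⟨g₀, hg₀⟩ : ∃ g : M →ₗ[ℤ] ℤ, g χ ≠ 0 := by
    by_contra h
    push Not at h
    exact hχ ((Module.forall_dual_apply_eq_zero_iff ℤ χ).1 h)
  obtain ⟨b⟩ := exists_sides D.P
  obtain ⟨l, m, eneg, epos, hneg, hpos⟩ := exists_enum D b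
  have hline : ∀ x : Pt K (Polynomial K), x = linePt (lineCoord x) := fun x =>
    WithConv.ext (Polynomial.algHom_ext (by simp [linePt, lineCoord]))
  have hev : ∀ (r : K) (p : Polynomial K), (linePt r : Pt K (Polynomial K)).ofConv p = p.eval r := fun r p => by
    simp [linePt, Polynomial.coe_aeval_eq_eval]
  have hcomm : ∀ t t' : aP a K ⟶ D.T, torusHom D a v t * torusHom D a v t' =
      torusHom D a v t' * torusHom D a v t := fun t t' => by
    rw [← map_mul, ← map_mul]
    congr 1
    exact ch_injective D a (by rw [ch_mul, ch_mul]; exact _root_.mul_comm (ch D a t) (ch D a t'))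
  have hmove : ∀ (g : M →ₗ[ℤ] ℤ) (z : Kˣ) (y : Fin l → K) (t : aP a K ⟶ D.T) (c : Fin m → K),
      torusHom D a v (tc D a (g.comp e) z) * (uPe D a v eneg y * (torusHom D a v t * uPe D a v epos c)) *
          (torusHom D a v (tc D a (g.comp e) z))⁻¹ =
        uPe D a v eneg (fun k => ((z ^ g (e (D.P.root (eneg k))) : Kˣ) : K) * y k) *
          (torusHom D a v t * uPe D a v epos fun k => ((z ^ g (e (D.P.root (epos k))) : Kˣ) : K) * c k) := by
    intro g z y t c
    have h1 := conj_uPe D a v eneg (tc D a (g.comp e) z) y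
    have h2 := conj_uPe D a v epos (tc D a (g.comp e) z) c
    simp only [ch_tc, LinearMap.comp_apply] at h1 h2
    rw [← h1, ← h2]
    have h3 := hcomm (tc D a (g.comp e) z) t
    generalize torusHom D a v (tc D a (g.comp e) z) = T at h3 ⊢
    generalize torusHom D a v t = U at h3 ⊢
    generalize uPe D a v eneg y = E
    generalize uPe D a v epos c = C
    calc T * (E * (U * C)) * T⁻¹ = T * E * T⁻¹ * ((T * U) * C * T⁻¹) := by group
      _ = T * E * T⁻¹ * ((U * T) * C * T⁻¹) := by rw [h3]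
      _ = _ := by group
  have hall : ∀ x, fam a v P x ∈ cellPts D a v eneg epos := by
    let Y := (fam a v P ⁻¹' cellPts D a v eneg epos)ᶜ
    have hY : IsClosed Y :=
      ((isOpen_cellPts D a v b hneg hpos).preimage (isMor_fam a v P).continuous).isClosed_compl
    have h0 : linePt (0 : K) ∉ Y := fun h => h (by
      show fam a v P (linePt 0) ∈ cellPts D a v eneg epos
      rw [hP0]; exact one_mem_cellPts D a v)
    obtain ⟨z₀, hz₀⟩ : ∃ z : Kˣ, fam a v P (linePt (z : K)) ∈ cellPts D a v eneg epos := by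
      by_contra h
      push Not at h
      exact h0 (mem_of_units hY h _)
    intro x
    rw [hline x]
    by_cases hx : lineCoord x = 0
    · rw [hx, hP0]; exact one_mem_cellPts D a v
    obtain ⟨z, hz⟩ := exists_units_pow_eq (Units.mk0 _ hx * z₀⁻¹) (n := (g₀ χ).natAbs) (by omega)
    obtain ⟨z', hz'⟩ : ∃ z' : Kˣ, z' ^ g₀ χ = Units.mk0 _ hx * z₀⁻¹ := by
      rcases Int.natAbs_eq (g₀ χ) with e | e
      · exact ⟨z, by rw [e, zpow_natCast, hz]⟩
      · exact ⟨z⁻¹, by rw [e, inv_zpow', neg_neg, zpow_natCast, hz]⟩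
    obtain ⟨y, t, c, hc⟩ := hz₀
    have h1 := heq g₀ z' (z₀ : K)
    rw [hc, hmove, ← Units.val_mul, hz', inv_mul_cancel_right, Units.val_mk0] at h1
    exact ⟨_, _, _, h1.symm⟩
  obtain ⟨y, τ, c, hc⟩ := exists_coords D a v b hneg hpos P hall
  have key : ∀ (g : M →ₗ[ℤ] ℤ) (z : Kˣ) (r : K),
      (∀ k, (y k).eval (((z ^ g χ : Kˣ) : K) * r) = ((z ^ g (e (D.P.root (eneg k))) : Kˣ) : K) * (y k).eval r) ∧
      (aM a (linePt (((z ^ g χ : Kˣ) : K) * r) : Pt K (Polynomial K)).ofConv ≫ τ =
        aM a (linePt r : Pt K (Polynomial K)).ofConv ≫ τ) ∧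
      (∀ k, (c k).eval (((z ^ g χ : Kˣ) : K) * r) = ((z ^ g (e (D.P.root (epos k))) : Kˣ) : K) * (c k).eval r) := by
    intro g z r
    have h := heq g z r
    rw [hc, hc, hmove] at h
    obtain ⟨e1, e2, e3⟩ := cellPts_inj D a v b hneg hpos h
    refine ⟨fun k => ?_, e2.symm, fun k => ?_⟩
    · have := congrFun e1 k
      rw [hev, hev] at this
      exact this.symm
    · have := congrFun e3 k
      rw [hev, hev] at this
      exact this.symm
  -- the torus coordinate is trivial
  have hτ : ∀ r : K, aM a (linePt r : Pt K (Polynomial K)).ofConv ≫ τ = 1 := by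
    have h0 : aM a (linePt (0 : K) : Pt K (Polynomial K)).ofConv ≫ τ = 1 := by
      have h := hc (linePt (0 : K))
      rw [hP0, show (1 : Pt K A) = uPe D a v eneg 0 * (torusHom D a v 1 * uPe D a v epos 0) by
        rw [uPe_zero, uPe_zero, map_one, _root_.one_mul, _root_.one_mul]] at h
      exact ((cellPts_inj D a v b hneg hpos h).2.1).symm
    intro r
    refine ch_injective D a (MonoidHom.ext fun m' => ?_)
    obtain ⟨m', rfl⟩ := Multiplicative.ofAdd.surjective m'
    obtain ⟨u, hu, hu'⟩ := Polynomial.isUnit_iff.1 (isUnit_chR D a τ m')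
    rw [← h0]
    refine Units.ext ?_
    rw [ch_aM, ch_aM, hev, hev, ← hu', Polynomial.eval_C, Polynomial.eval_C]
  have hdeg : ∀ (p : Polynomial K) (k : D.idx), p ≠ 0 →
      (∀ (g : M →ₗ[ℤ] ℤ) (z : Kˣ) (r : K), p.eval (((z ^ g χ : Kˣ) : K) * r) =
        ((z ^ g (e (D.P.root k)) : Kˣ) : K) * p.eval r) →
      e (D.P.root k) = (p.natDegree : ℤ) • χ ∧ p = Polynomial.C p.leadingCoeff * Polynomial.X ^ p.natDegree := by
    intro p k hp hk
    have e₁ : e (D.P.root k) = (p.natDegree : ℤ) • χ := sub_eq_zero.1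
      ((Module.forall_dual_apply_eq_zero_iff ℤ _).1 fun g => by
        rw [map_sub, map_zsmul, exponent_eq hp (hk g), smul_eq_mul, sub_self])
    refine ⟨e₁, Polynomial.ext fun i => ?_⟩
    rw [Polynomial.coeff_C_mul, Polynomial.coeff_X_pow]
    by_cases hi : i = p.natDegree
    · subst hi
      rw [if_pos rfl, _root_.mul_one]
      rfl
    rw [if_neg hi, mul_zero]
    by_contra hci
    obtain ⟨z, hz⟩ := exists_units_zpow_ne_one K (show (g₀ χ) * ((i : ℤ) - p.natDegree) ≠ 0 from
      mul_ne_zero hg₀ (sub_ne_zero.2 (by exact_mod_cast hi)))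
    have e2 : p.comp (Polynomial.C ((z ^ g₀ χ : Kˣ) : K) * Polynomial.X) =
        Polynomial.C ((z ^ g₀ (e (D.P.root k)) : Kˣ) : K) * p := Polynomial.funext fun r => by
      simp only [Polynomial.eval_comp, Polynomial.eval_mul, Polynomial.eval_C, Polynomial.eval_X]
      exact hk g₀ z r
    have e3 := congrArg (fun p' => Polynomial.coeff p' i) e2
    simp only [Polynomial.comp_C_mul_X_coeff, Polynomial.coeff_C_mul] at e3
    rw [_root_.mul_comm] at e3
    have e4 := mul_right_cancel₀ hci e3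
    rw [← Units.val_pow_eq_pow_val, Units.val_inj, e₁, map_zsmul, smul_eq_mul, ← zpow_natCast, ← zpow_mul] at e4
    exact hz (by rw [mul_sub, zpow_sub, e4, _root_.mul_comm (g₀ χ), mul_inv_cancel])
  -- exactly one coordinate
  let coord : Fin l ⊕ Fin m → D.idx × Polynomial K := Sum.elim (fun k => (eneg k, y k)) fun k => (epos k, c k)
  have hscale : ∀ i, ∀ (g : M →ₗ[ℤ] ℤ) (z : Kˣ) (r : K), (coord i).2.eval (((z ^ g χ : Kˣ) : K) * r) =
      ((z ^ g (e (D.P.root (coord i).1)) : Kˣ) : K) * (coord i).2.eval r := by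
    rintro (k | k) g z r
    · exact (key g z r).1 k
    · exact (key g z r).2.2 k
  have huniq : ∀ i j, (coord i).2 ≠ 0 → (coord j).2 ≠ 0 → (coord i).1 = (coord j).1 := by
    intro i j hi hj
    obtain ⟨ei, -⟩ := hdeg _ _ hi (hscale i)
    obtain ⟨ej, -⟩ := hdeg _ _ hj (hscale j)
    set ni := (coord i).2.natDegree
    set nj := (coord j).2.natDegree
    have hni : ni ≠ 0 := fun h => D.P.ne_zero (coord i).1 (he (by rw [ei, h, Nat.cast_zero, zero_smul, map_zero]))
    have hrel : (nj : ℤ) • D.P.root (coord i).1 = (ni : ℤ) • D.P.root (coord j).1 := he (by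
      rw [map_zsmul, map_zsmul, ei, ej, smul_smul, smul_smul, _root_.mul_comm])
    by_contra hne'
    by_cases hneg' : D.P.root (coord i).1 = -D.P.root (coord j).1
    · rw [hneg', smul_neg, ← neg_smul] at hrel
      have := smul_left_injective ℤ (D.P.ne_zero (coord j).1) hrel
      omega
    · have := (LinearIndependent.pair_iff.1
        (RootPairing.IsReduced.linearIndependent (P := D.P) hne' hneg') nj (-(ni : ℤ))
        (by rw [neg_smul, hrel, add_neg_cancel])).2
      omega
  obtain ⟨i₀, hi₀⟩ : ∃ i, (coord i).2 ≠ 0 := by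
    by_contra hcon
    push Not at hcon
    obtain ⟨r', hr'⟩ := hne 1 one_ne_zero
    refine hr' ?_
    rw [hc, hτ, show (fun k => (linePt (1 * r') : Pt K (Polynomial K)).ofConv (y k)) = 0 from funext fun k => by
        simp [show y k = 0 from hcon (.inl k)],
      show (fun k => (linePt (1 * r') : Pt K (Polynomial K)).ofConv (c k)) = 0 from funext fun k => by
        simp [show c k = 0 from hcon (.inr k)],
      uPe_zero, uPe_zero, map_one, _root_.one_mul, _root_.one_mul]
  obtain ⟨e₀, hmono⟩ := hdeg _ _ hi₀ (hscale i₀)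
  set k₀ := (coord i₀).1 with hk₀
  set n := (coord i₀).2.natDegree
  set C₀ := (coord i₀).2.leadingCoeff with hC₀
  have hinjc : Function.Injective fun i => (coord i).1 := by
    rintro (i | i) (j | j) h
    · exact congrArg Sum.inl (hneg.1 h)
    · exact absurd (hneg.2.subset (Set.mem_range_self i)) (b.notMem_neg (by
        show eneg i ∈ b.pos
        rw [show eneg i = epos j from h]; exact hpos.2.subset (Set.mem_range_self j)))
    · exact absurd (hneg.2.subset (Set.mem_range_self j)) (b.notMem_neg (by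
        show eneg j ∈ b.pos
        rw [← show epos i = eneg j from h]; exact hpos.2.subset (Set.mem_range_self i)))
    · exact congrArg Sum.inr (hpos.1 h)
  have hzero : ∀ i, i ≠ i₀ → (coord i).2 = 0 := fun i hi => by
    by_contra h
    exact hi (hinjc (huniq i i₀ h hi₀))
  have hform : ∀ r : K, fam a v P (linePt r) = uEl D a v k₀ (C₀ * r ^ n) := by
    intro r
    rw [hc, hτ, map_one, _root_.one_mul]
    have hval : (coord i₀).2.eval r = C₀ * r ^ n := by
      conv_lhs => rw [hmono]
      simp [C₀, n]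
    rcases i₀ with i | i
    · rw [show (fun k => (linePt r : Pt K (Polynomial K)).ofConv (c k)) = 0 from funext fun k => by
          simp [show c k = 0 from hzero (.inr k) (by simp)],
        uPe_zero, _root_.mul_one, show (fun k => (linePt r : Pt K (Polynomial K)).ofConv (y k)) =
          Pi.single i (C₀ * r ^ n) from funext fun k => by
            rw [hev]
            by_cases hk : k = i
            · subst hk; rw [Pi.single_eq_same]; exact hval
            · rw [Pi.single_eq_of_ne hk, show y k = 0 from hzero (.inl k) (by simp [hk]), Polynomial.eval_zero],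
        uPe_single]
      rfl
    · rw [show (fun k => (linePt r : Pt K (Polynomial K)).ofConv (y k)) = 0 from funext fun k => by
          simp [show y k = 0 from hzero (.inl k) (by simp)],
        uPe_zero, _root_.one_mul, show (fun k => (linePt r : Pt K (Polynomial K)).ofConv (c k)) =
          Pi.single i (C₀ * r ^ n) from funext fun k => by
            rw [hev]
            by_cases hk : k = i
            · subst hk; rw [Pi.single_eq_same]; exact hval
            · rw [Pi.single_eq_of_ne hk, show c k = 0 from hzero (.inr k) (by simp [hk]), Polynomial.eval_zero],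
        uPe_single]
      rfl
  have hC₀ne : C₀ ≠ 0 := Polynomial.leadingCoeff_ne_zero.2 hi₀
  have hn0 : n ≠ 0 := fun h => D.P.ne_zero k₀ (he (by rw [e₀, h, Nat.cast_zero, zero_smul, map_zero]))
  obtain ⟨m', hm'⟩ := exists_pow_of_additive (K := K) q hn0 fun r r' => by
    have h := hadd r r'
    rw [hform, hform, hform] at h
    haveI := isMonHom_u D k₀
    haveI := mono_u D k₀
    rw [uEl, uEl, uEl, ← map_mul, ← el_add, EmbeddingLike.apply_eq_iff_eq] at h
    exact mul_left_cancel₀ hC₀ne ((el_injective a (D.u k₀) h).trans (mul_add _ _ _).symm)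
  exact ⟨k₀, m', C₀, by rw [e₀, hm'], hC₀ne, fun r => by rw [← hm']; exact hform r⟩

/-- **A one-parameter subgroup scaled by a torus mapping to the torus is a root group up to a Frobenius power.** -/
theorem exists_scaled_root [Nonempty S] {M : Type} [AddCommGroup M] [Module.Finite ℤ M] [Module.Free ℤ M]
    (e : D.M →ₗ[ℤ] M) (he : Function.Injective e) (q : ℕ) [ExpChar K q]
    (P : aP a (Polynomial K) ⟶ G) (χ : M) (hχ : χ ≠ 0)
    (hadd : ∀ r r' : K, fam a v P (linePt (r + r')) = fam a v P (linePt r) * fam a v P (linePt r'))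
    (hne : ∀ r : K, r ≠ 0 → ∃ r' : K, fam a v P (linePt (r * r')) ≠ 1)
    (heq : ∀ (g : M →ₗ[ℤ] ℤ) (z : Kˣ) (r : K), torusHom D a v (tc D a (g.comp e) z) * fam a v P (linePt r) *
      (torusHom D a v (tc D a (g.comp e) z))⁻¹ = fam a v P (linePt (((z ^ g χ : Kˣ) : K) * r))) :
    ∃ (k : D.idx) (m : ℕ), e (D.P.root k) = ((q ^ m : ℕ) : ℤ) • χ := by
  obtain ⟨k, m, -, h, -⟩ := exists_scaled_root_form D a v e he q P χ hχ hadd hne heq
  exact ⟨k, m, h⟩

end Weights

section Main

variable {S : Scheme.{u}} {G G' : Over S} [GrpObj G] [GrpObj G'] (D : Red.SplitRed G) (D' : Red.SplitRed G')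
  {K : Type u} [Field K] [IsAlgClosed K] (ξ : Spec (CommRingCat.of K) ⟶ S)
  {A : Type u} [CommRing A] [HopfAlgebra K A] (v : sp K A ≅ Red.bc ξ G) [IsMonHom v.hom]
  [Algebra.FiniteType K A] [_root_.IsReduced A] [IsAffine (Red.bc ξ G).left] [Smooth (Red.bc ξ G).hom]
  {A' : Type u} [CommRing A'] [HopfAlgebra K A'] (v' : sp K A' ≅ Red.bc ξ G') [IsMonHom v'.hom]
  [Algebra.FiniteType K A'] [_root_.IsReduced A'] [IsAffine (Red.bc ξ G').left] [Smooth (Red.bc ξ G').hom]

/-- A surjective homomorphism is surjective on the points of a geometric fibre, and regular. -/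
theorem exists_ptsHom_bc (ψ : G ⟶ G') [IsMonHom ψ] [Surjective ψ.left] :
    ∃ F : Pt K A →* Pt K A', IsMor F ∧ Function.Surjective F ∧
      ∀ x : aP ξ K ⟶ G, F (ptG ξ v x) = ptG ξ v' (x ≫ ψ) := by
  haveI := Groth.Agent.DiagRep.isMonHom_bc_map ξ ψ
  haveI : Surjective ((Over.pullback ξ).map ψ).left := surjective_bc ξ ψ
  obtain ⟨F, hFm, hFs, hF⟩ := exists_ptsHom ((Over.pullback ξ).map ψ) v v'
  refine ⟨F, hFm, hFs, fun x => (ptEquiv v').injective ?_⟩
  rw [hF, ptEquiv_ptG, ptEquiv_ptG, Category.assoc]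
  congr 1
  rw [← Category.assoc _ x ψ]
  exact ((Over.mapPullbackAdj ξ).homEquiv_naturality_right _ _).symm

variable (ψ : G ⟶ G') [IsMonHom ψ] [IsFinite ψ.left] [Surjective ψ.left]
  (φ : D.T ⟶ D'.T) (hφ : φ ≫ D'.i = D.i ≫ ψ)
  (f : D'.M →ₗ[ℤ] D.M) (hf : φ ≫ D'.split.hom.hom.hom = D.split.hom.hom.hom ≫ Red.DSmap S f.toAddMonoidHom)

include hf in
theorem ch_comp_tori (t : aP ξ K ⟶ D.T) (m : D'.M) :
    ch D' ξ (t ≫ φ) (Multiplicative.ofAdd m) = ch D ξ t (Multiplicative.ofAdd (f m)) := by
  refine Units.ext ((cst_bijective ξ).1 ?_)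
  rw [cst_ch, cst_ch, ← Category.assoc, gmFn_chi, Category.assoc t, hf, ← Category.assoc t,
    Groth.Agent.DSImg.chars_comp_DSmap, ← Category.assoc, gmFn_chi]
  rfl

include hf in
theorem tc_comp (g : D.M →ₗ[ℤ] ℤ) (z : Kˣ) : tc D ξ g z ≫ φ = tc D' ξ (g.comp f) z :=
  eq_tc D' ξ fun m => by rw [ch_comp_tori D D' ξ φ f hf, ch_tc]; rfl

include ξ hφ hf in
/-- The cocharacters of the first torus embed. -/
theorem eq_zero_of_comp {g : D.M →ₗ[ℤ] ℤ} (hg : g.comp f = 0) : g = 0 := by
  classical
  by_contra hne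
  obtain ⟨m, hm⟩ : ∃ m, g m ≠ 0 := by
    by_contra h
    push Not at h
    exact hne (LinearMap.ext h)
  haveI := isMonHom_i D
  haveI := mono_i D
  haveI := isMonHom_i D'
  haveI : Infinite K := IsAlgClosed.instInfinite
  haveI : Infinite Kˣ := Set.infinite_univ_iff.1 fun h => (Set.finite_singleton (0 : K)).infinite_compl
    ((h.image ((↑) : Kˣ → K)).subset fun x hx => ⟨Units.mk0 x hx, trivial, rfl⟩)
  let F : Kˣ → (aP ξ K ⟶ G) := fun z => tc D ξ g z ≫ D.i
  have hsub : Set.range F ⊆ {x | x ≫ ψ = 1} := by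
    rintro _ ⟨z, rfl⟩
    show (tc D ξ g z ≫ D.i) ≫ ψ = 1
    rw [Category.assoc, ← hφ, ← Category.assoc, tc_comp D D' ξ φ f hf, hg,
      show tc D' ξ (0 : D'.M →ₗ[ℤ] ℤ) z = 1 from (eq_tc D' ξ fun m => by
        rw [ch_one, MonoidHom.one_apply, LinearMap.zero_apply, zpow_zero]).symm, MonObj.one_comp]
  have hfin : (Set.range fun z : Kˣ => z ^ g m).Finite := by
    refine (((finite_fibre_pts ψ ξ (1 : aP ξ K ⟶ G')).subset hsub).preimage (f := fun t => t ≫ D.i)
      (fun _ _ _ _ h => (cancel_mono D.i).1 h) |>.image fun t => ch D ξ t (Multiplicative.ofAdd m)).subset ?_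
    rintro _ ⟨z, rfl⟩
    exact ⟨tc D ξ g z, ⟨z, rfl⟩, ch_tc D ξ g z m⟩
  refine Set.infinite_univ (α := Kˣ) (hfin.subset fun w _ => ?_)
  obtain ⟨z, hz⟩ := exists_units_pow_eq w (n := (g m).natAbs) (by omega)
  rcases Int.natAbs_eq (g m) with e | e
  · exact ⟨z, show z ^ g m = w by rw [e, zpow_natCast, hz]⟩
  · exact ⟨z⁻¹, show z⁻¹ ^ g m = w by rw [e, inv_zpow', neg_neg, zpow_natCast, hz]⟩

variable (hc : _root_.IsPreconnected (Set.univ : Set (Pt K A))) (hT : IsMaxTor ⊤ (Tsub D ξ v))
  (hT' : IsTor (Tsub D' ξ v')) (q : ℕ) [ExpChar K q]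
  (hdim : Module.finrank ℤ D.M + Fintype.card D.idx = Module.finrank ℤ D'.M + Fintype.card D'.idx)

include hφ hc hT hT' in
/-- The points of the torus surject onto the points of the torus. -/
theorem exists_torus_lift (s : aP ξ K ⟶ D'.T) : ∃ t : aP ξ K ⟶ D.T, t ≫ φ = s := by
  obtain ⟨F, hFm, hFs, hF⟩ := exists_ptsHom_bc ξ v v' ψ
  haveI := mono_i D'
  have hle : (Tsub D ξ v).map F ≤ Tsub D' ξ v' := by
    rintro _ ⟨_, ⟨t, rfl⟩, rfl⟩
    refine ⟨t ≫ φ, ?_⟩
    show ptG ξ v' ((t ≫ φ) ≫ D'.i) = F (ptG ξ v (t ≫ D.i))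
    rw [hF, Category.assoc, hφ, Category.assoc]
  have hmax := hT.map hFm hFs hc
  have heq := hmax.maximal _ le_top hT' hle
  obtain ⟨_, ⟨t, rfl⟩, ht⟩ := heq.le (⟨s, rfl⟩ : torusHom D' ξ v' s ∈ Tsub D' ξ v')
  refine ⟨t, torusHom_injective D' ξ v' ?_⟩
  rw [← ht]
  show ptG ξ v' ((t ≫ φ) ≫ D'.i) = F (ptG ξ v (t ≫ D.i))
  rw [hF, Category.assoc, hφ, Category.assoc]

include hφ hf hc hT hT' hdim in
/-- **A finite surjective homomorphism of split groups gives an isogeny of root data.** -/
theorem exists_rootIsog_data [Nonempty S] :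
    Function.Injective f ∧ Finite (D.M ⧸ LinearMap.range f) ∧ ∃ e : D.idx ≃ D'.idx, ∀ a : D.idx, ∃ m : ℕ,
      f (D'.P.root (e a)) = ((q ^ m : ℕ) : ℤ) • D.P.root a ∧
      (coF D a).comp f = ((q ^ m : ℕ) : ℤ) • coF D' (e a) := by
  classical
  haveI := SplitFib.isReduced_root D
  haveI := SplitFib.isReduced_root D'
  haveI := isMonHom_i D
  haveI := isMonHom_i D'
  have hlift := exists_torus_lift D D' ξ v v' ψ φ hφ hc hT hT'
  have hinj : Function.Injective f := by
    refine (injective_iff_map_eq_zero f).2 fun m hm => (Module.forall_dual_apply_eq_zero_iff ℤ m).1 fun g =>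
      eq_of_zpow (K := K) fun z => ?_
    obtain ⟨t, ht⟩ := hlift (tc D' ξ g z)
    rw [← ch_tc D' ξ g z m, ← ht, ch_comp_tori D D' ξ φ f hf, hm, ofAdd_zero, map_one, zpow_zero]
  have hstep : ∀ a : D.idx, ∃ (k : D'.idx) (m : ℕ), f (D'.P.root k) = ((q ^ m : ℕ) : ℤ) • D.P.root a := by
    intro a
    haveI := isMonHom_u D a
    haveI : IsMonHom (D.u a ≫ ψ) := inferInstance
    haveI := mono_u D a
    let P : aP ξ (Polynomial K) ⟶ G' := el ξ (D.u a ≫ ψ) (Polynomial.X : Polynomial K)
    have hP : ∀ r : K, fam ξ v' P (linePt r) = ptG ξ v' (el ξ (D.u a ≫ ψ) r) := fun r => by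
      show ptG ξ v' (aM ξ (linePt r : Pt K (Polynomial K)).ofConv ≫ P) = _
      rw [aM_el]
      simp [linePt]
    have hel : ∀ r : K, el ξ (D.u a ≫ ψ) r = el ξ (D.u a) r ≫ ψ := fun r => by
      show ptOf (cst ξ K r) ≫ D.u a ≫ ψ = (ptOf (cst ξ K r) ≫ D.u a) ≫ ψ
      rw [Category.assoc]
    refine exists_scaled_root D' ξ v' f hinj q P (D.P.root a) (D.P.ne_zero a) (fun r r' => ?_) (fun r hr => ?_)
      fun g z r => ?_
    · rw [hP, hP, hP, el_add, map_mul]
    · by_contra hcon
      push Not at hcon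
      haveI : Infinite K := IsAlgClosed.instInfinite
      refine Set.infinite_univ (α := K) (((finite_fibre_pts ψ ξ (1 : aP ξ K ⟶ G')).preimage
        (f := fun r : K => el ξ (D.u a) r) fun _ _ _ _ h => el_injective ξ (D.u a) h).subset fun w _ => ?_)
      show el ξ (D.u a) w ≫ ψ = 1
      have := hcon (r⁻¹ * w)
      rw [hP, ← _root_.mul_assoc, mul_inv_cancel₀ hr, _root_.one_mul, hel, map_eq_one_iff _ (ptG ξ v').injective] at this
      exact this
    · rw [hP, hP, hel, hel, ← tc_comp D D' ξ φ f hf]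
      show ptG ξ v' ((tc D ξ g z ≫ φ) ≫ D'.i) * ptG ξ v' _ * (ptG ξ v' ((tc D ξ g z ≫ φ) ≫ D'.i))⁻¹ = _
      rw [← map_inv, ← map_mul, ← map_mul, Category.assoc, hφ, ← Category.assoc, ← GrpObj.inv_comp, ← MonObj.mul_comp,
        ← MonObj.mul_comp, conj_el, ch_tc]
  choose σ₀ m₀ hσ₀ using hstep
  have hpos : ∀ a, (0 : ℤ) < ((q ^ m₀ a : ℕ) : ℤ) := fun a => by
    exact_mod_cast Nat.pow_pos (expChar_pos K q)
  have hσinj : Function.Injective σ₀ := fun a b hab => by
    have h1 : ((q ^ m₀ a : ℕ) : ℤ) • D.P.root a = ((q ^ m₀ b : ℕ) : ℤ) • D.P.root b := by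
      rw [← hσ₀, ← hσ₀, hab]
    by_contra hne
    have hna := hpos a
    have hnb := hpos b
    generalize ((q ^ m₀ a : ℕ) : ℤ) = na at h1 hna
    generalize ((q ^ m₀ b : ℕ) : ℤ) = nb at h1 hnb
    by_cases hneg : D.P.root a = -D.P.root b
    · rw [hneg, smul_neg, ← neg_smul] at h1
      have := smul_left_injective ℤ (D.P.ne_zero b) h1
      omega
    · have := (LinearIndependent.pair_iff.1 (RootPairing.IsReduced.linearIndependent (P := D.P) hne hneg)
        na (-nb) (by rw [neg_smul, h1, add_neg_cancel])).1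
      omega
  let fd : (D.M →ₗ[ℤ] ℤ) →ₗ[ℤ] (D'.M →ₗ[ℤ] ℤ) := f.dualMap
  have hfd : Function.Injective fd := (injective_iff_map_eq_zero fd).2 fun g hg => eq_zero_of_comp D D' ξ ψ φ hφ f hf hg
  have hrank : Module.finrank ℤ D.M ≤ Module.finrank ℤ D'.M := by
    have h1 := LinearMap.finrank_le_finrank_of_injective hfd
    rwa [show Module.finrank ℤ (D.M →ₗ[ℤ] ℤ) = Module.finrank ℤ D.M by
        rw [Module.finrank_linearMap, Module.finrank_self, _root_.mul_one],
      show Module.finrank ℤ (D'.M →ₗ[ℤ] ℤ) = Module.finrank ℤ D'.M by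
        rw [Module.finrank_linearMap, Module.finrank_self, _root_.mul_one]] at h1
  have hcard := Fintype.card_le_of_injective σ₀ hσinj
  have hbij : Function.Bijective σ₀ :=
    (Fintype.bijective_iff_injective_and_card σ₀).2 ⟨hσinj, by omega⟩
  have hfincoker : Finite (D.M ⧸ LinearMap.range f) :=
    Submodule.finiteQuotientOfFreeOfRankEq _ (by rw [LinearMap.finrank_range_of_inj hinj]; omega)
  refine ⟨hinj, hfincoker, Equiv.ofBijective σ₀ hbij, fun a => ⟨m₀ a, hσ₀ a, ?_⟩⟩
  set k := σ₀ a with hk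
  set n : ℤ := ((q ^ m₀ a : ℕ) : ℤ) with hn
  have hn0 : n ≠ 0 := (hpos a).ne'
  obtain ⟨nn, hnn'⟩ := D.refl a
  have hnn : IsRefl D a nn := hnn'
  obtain ⟨nr, hnr⟩ := exists_nr D'
  obtain ⟨σs⟩ := exists_sides D'.P
  obtain ⟨b', -⟩ := exists_base_of_sides D' σs
  let x : aP ξ K ⟶ G' := (toUnit _ ≫ nn) ≫ ψ
  have hx : ∀ t : aP ξ K ⟶ D.T, x * ((t ≫ φ) ≫ D'.i) * x⁻¹ = (tRefl a t ≫ φ) ≫ D'.i := fun t => by
    simp only [x]
    rw [Category.assoc t φ, hφ, ← Category.assoc t, ← GrpObj.inv_comp, ← MonObj.mul_comp, ← MonObj.mul_comp,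
      hnn.conj_torus, Category.assoc _ φ, hφ, Category.assoc]
  obtain ⟨l, τ, hl⟩ := exists_word_of_ptNorm ξ hnr b' (x := x) fun s => by
    obtain ⟨t, ht⟩ := hlift s
    exact ⟨tRefl a t ≫ φ, by rw [← ht]; exact hx t⟩
  have hact : ∀ m, f (wordLin D' l m) = D.P.reflection a (f m) := fun m =>
    sub_eq_zero.1 ((Module.forall_dual_apply_eq_zero_iff ℤ _).1 fun g => by
      rw [map_sub, sub_eq_zero]
      refine eq_of_zpow (K := K) fun z => ?_
      have e1 : tWord l (tc D ξ g z ≫ φ) = tRefl a (tc D ξ g z) ≫ φ := by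
        haveI := mono_i D'
        refine (cancel_mono D'.i).1 ?_
        rw [← hx, ← conj_torus_word_eq hnr l, hl]
        have hcomm : (τ ≫ D'.i) * ((tc D ξ g z ≫ φ) ≫ D'.i) = ((tc D ξ g z ≫ φ) ≫ D'.i) * (τ ≫ D'.i) := by
          rw [← MonObj.mul_comp, ← MonObj.mul_comp, torus_comm D']
        generalize ((tc D ξ g z ≫ φ) ≫ D'.i) = U at hcomm
        generalize τ ≫ D'.i = W at hcomm
        generalize nX nr (aP ξ K) l = N
        calc N * U * N⁻¹ = N * (U * W) * W⁻¹ * N⁻¹ := by group
          _ = N * (W * U) * W⁻¹ * N⁻¹ := by rw [hcomm]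
          _ = N * W * U * (N * W)⁻¹ := by group
      have e2 := congrArg (fun t => ch D' ξ t (Multiplicative.ofAdd m)) e1
      simp only [ch_tWord, ch_comp_tori D D' ξ φ f hf, ch_tRefl, ch_tc] at e2
      exact e2)
  have hfun : ∀ m, f (wordLin D' l m) = f m - coF D a (f m) • D.P.root a := fun m => by
    rw [hact, reflection_eq]
  have hroot : ∀ m, n • (m - wordLin D' l m) = coF D a (f m) • D'.P.root k := fun m => hinj (by
    rw [map_zsmul, map_sub, hfun, sub_sub_cancel, map_zsmul, hσ₀, ← hn, smul_smul, smul_smul, _root_.mul_comm])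
  set c : D'.M →ₗ[ℤ] ℤ := n • coF D' k - (coF D a).comp f with hcdef
  have hck : c (D'.P.root k) = 0 := by
    simp only [hcdef, LinearMap.sub_apply, LinearMap.comp_apply, LinearMap.smul_apply, coF_root, smul_eq_mul]
    rw [hσ₀, ← hn, map_zsmul, coF_root, smul_eq_mul, sub_self]
  let w' := RedSub.wordPerm D'.P (k :: l)
  have hu : ∀ j : D'.idx, n • D'.P.root (w'.symm j) = n • D'.P.root j + c (D'.P.root j) • D'.P.root k := fun j => by
    rw [← wordLin_root, wordLin_cons]
    have h1 := hroot (D'.P.reflection k (D'.P.root j))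
    rw [smul_sub, sub_eq_iff_eq_add, ← sub_eq_iff_eq_add'] at h1
    rw [← h1, reflection_eq, smul_sub, smul_smul, sub_sub, ← add_smul, map_sub, map_zsmul, map_sub, map_zsmul, hσ₀,
      ← hn, map_zsmul, coF_root]
    simp only [hcdef, LinearMap.sub_apply, LinearMap.comp_apply, LinearMap.smul_apply, smul_eq_mul]
    rw [sub_eq_add_neg, ← neg_smul]
    congr 2
    ring
  have hpow : ∀ (N : ℕ) (j : D'.idx),
      n • D'.P.root ((w'.symm ^ N) j) = n • D'.P.root j + ((N : ℤ) * c (D'.P.root j)) • D'.P.root k := fun N => by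
    induction N with
    | zero => intro j; simp
    | succ N ih =>
      intro j
      have hc' : c (D'.P.root (w'.symm j)) = c (D'.P.root j) := by
        have := congrArg c (hu j)
        rw [map_zsmul, map_add, map_zsmul, map_zsmul, hck, smul_zero, add_zero, smul_eq_mul, smul_eq_mul] at this
        exact mul_left_cancel₀ hn0 this
      rw [pow_succ, Equiv.Perm.mul_apply, ih, hu, hc', add_assoc, ← add_smul]
      congr 2
      push_cast
      ring
  have hczero : ∀ j, c (D'.P.root j) = 0 := fun j => by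
    have h1 := hpow (orderOf w'.symm) j
    rw [pow_orderOf_eq_one, Equiv.Perm.one_apply, left_eq_add, smul_eq_zero_iff_left (D'.P.ne_zero k),
      mul_eq_zero] at h1
    exact h1.resolve_left (by exact_mod_cast (orderOf_pos w'.symm).ne')
  have hperm : RedSub.wordPerm D'.P l = RedSub.wordPerm D'.P [k] := by
    have hw1 : w'.symm = Equiv.refl _ := Equiv.ext fun j => D'.P.root.injective (smul_right_injective _ hn0 (by
      show n • D'.P.root (w'.symm j) = n • D'.P.root j
      rw [hu, hczero, zero_smul, add_zero]))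
    have hw2 : w' = 1 := by
      rw [← Equiv.symm_symm w', hw1]
      rfl
    refine Equiv.ext fun j => ?_
    have h2 : D'.P.reflectionPerm k (RedSub.wordPerm D'.P l j) = j := by
      rw [← Equiv.Perm.mul_apply, ← wordPerm_cons]
      exact congrArg (fun p : Equiv.Perm D'.idx => p j) hw2
    rw [wordPerm_cons, Equiv.Perm.mul_apply, show RedSub.wordPerm D'.P [] j = j from rfl]
    conv_rhs => rw [← h2]
    rw [perm_perm]
  refine LinearMap.ext fun m => ?_
  have h1 := hfun m
  rw [wordLin_congr D' hperm, wordLin_cons, wordLin_nil, reflection_eq, map_sub, map_zsmul, hσ₀, ← hn, smul_smul] at h1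
  have h2 := smul_left_injective ℤ (D.P.ne_zero a) (sub_right_injective h1)
  show coF D a (f m) = n • coF D' (σ₀ a) m
  rw [← h2, smul_eq_mul, ← hk, _root_.mul_comm]

end Main

end Bruhat

end
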