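import Groth.Agent.BruhatLib.Local
import Groth.Agent.BruhatLib.Isogeny
import Groth.Agent.BorelLib.RedBridge
import Groth.Agent.BorelLib.RedQuot
import Groth.Agent.DensePtsLib.AlgClosed
import Mathlib.LinearAlgebra.RootSystem.Finite.Nondegenerate

/-!
# Split semisimple groups over a field: the roots span, the centre is finite, the root groups generate
-/

set_option autoImplicit false
set_option linter.style.haveILetI false
set_option linter.unusedSectionVars false
set_option backward.isDefEq.respectTransparency false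
set_option maxHeartbeats 1000000
set_option synthInstance.maxHeartbeats 400000

universe u

open CategoryTheory CategoryTheory.Limits MonoidalCategory CartesianMonoidalCategory AlgebraicGeometry
open Groth.Agent.GaPts
open Groth.Agent
open scoped MonObj
open Groth.Agent.BorelLib
open CoactBr (sp)

noncomputable section

attribute [-instance] CategoryTheory.Hom.commGroup

namespace Bruhat

attribute [local instance] pTop pTopTensor

open SplitCell SplitFib RootSubgrp

section Lattice

/-- A functional separating an element from a submodule of which no multiple lies in it. -/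
theorem exists_functional_of_not_torsion {M : Type*} [AddCommGroup M] [Module.Finite ℤ M]
    (Q : Submodule ℤ M) (x : M) (hx : ∀ n : ℤ, n ≠ 0 → n • x ∉ Q) :
    ∃ f : M →ₗ[ℤ] ℤ, (∀ q ∈ Q, f q = 0) ∧ f x ≠ 0 := by
  let tors := Submodule.torsion ℤ (M ⧸ Q)
  let π : M →ₗ[ℤ] (M ⧸ Q) ⧸ tors := tors.mkQ.comp Q.mkQ
  haveI : Module.Free ℤ ((M ⧸ Q) ⧸ tors) := Module.free_of_finite_type_torsion_free'
  have hπ : π x ≠ 0 := fun h => by
    rw [LinearMap.comp_apply, Submodule.mkQ_apply, Submodule.Quotient.mk_eq_zero, Submodule.mem_torsion_iff] at h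
    obtain ⟨n, hn⟩ := h
    refine hx n (nonZeroDivisors.coe_ne_zero n) ?_
    rw [← Submodule.Quotient.mk_eq_zero, Submodule.Quotient.mk_smul]
    exact hn
  let B := Module.Free.chooseBasis ℤ ((M ⧸ Q) ⧸ tors)
  obtain ⟨i, hi⟩ : ∃ i, B.repr (π x) i ≠ 0 := by
    by_contra! h
    exact hπ (B.repr.map_eq_zero_iff.1 (Finsupp.ext fun i => by rw [h i]; rfl))
  refine ⟨(B.coord i).comp π, fun q hq => ?_, hi⟩
  rw [LinearMap.comp_apply, LinearMap.comp_apply, Submodule.mkQ_apply Q, (Submodule.Quotient.mk_eq_zero Q).2 hq, map_zero, map_zero]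

variable {S : Scheme.{u}} {G : Over S} [GrpObj G] (D : Red.SplitRed G)

/-- The roots span a subgroup of finite index. -/
def FullRank : Prop := ∀ m : D.M, ∃ n : ℤ, n ≠ 0 ∧ n • m ∈ D.P.rootSpan ℤ

theorem finrank_eq_iff : Module.finrank ℤ ↥(Submodule.span ℤ (Set.range D.P.root)) = Module.finrank ℤ D.M ↔
    FullRank D := by
  have e := Submodule.finrank_quotient_add_finrank (D.P.rootSpan ℤ)
  rw [show Submodule.span ℤ (Set.range D.P.root) = D.P.rootSpan ℤ from rfl]
  constructor
  · intro h m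
    have h0 : Module.finrank ℤ (D.M ⧸ D.P.rootSpan ℤ) = 0 := by omega
    obtain ⟨n, hn, hn'⟩ := Module.finrank_eq_zero_iff.1 h0 (Submodule.Quotient.mk m)
    rw [← Submodule.Quotient.mk_smul, Submodule.Quotient.mk_eq_zero] at hn'
    exact ⟨n, hn, hn'⟩
  · intro h
    have h0 : Module.finrank ℤ (D.M ⧸ D.P.rootSpan ℤ) = 0 := by
      refine Module.finrank_eq_zero_iff.2 fun q => ?_
      obtain ⟨m, rfl⟩ := Submodule.Quotient.mk_surjective _ q
      obtain ⟨n, hn, hn'⟩ := h m
      exact ⟨n, hn, by rw [← Submodule.Quotient.mk_smul, Submodule.Quotient.mk_eq_zero]; exact hn'⟩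
    omega

variable {D}

/-- With full rank, a weight orthogonal to all coroots vanishes. -/
theorem FullRank.eq_zero (hD : FullRank D) {m : D.M} (hm : ∀ a, coF D a m = 0) : m = 0 := by
  classical
  haveI : Fintype D.idx := Fintype.ofFinite _
  obtain ⟨n, hn, hnm⟩ := hD m
  have h0 : D.P.RootForm (n • m) (n • m) = 0 := by
    rw [RootPairing.rootForm_apply_apply]
    refine Finset.sum_eq_zero fun a _ => ?_
    rw [coroot'_eq, map_zsmul, hm a, smul_zero, mul_zero]
  exact (smul_eq_zero.1 (D.P.eq_zero_of_mem_rootSpan_of_rootForm_self_eq_zero hnm h0)).resolve_left hn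

/-- With full rank, the coroots span a subgroup of finite index. -/
theorem FullRank.coroot (hD : FullRank D) (f : D.M →ₗ[ℤ] ℤ) :
    ∃ n : ℤ, n ≠ 0 ∧ n • f ∈ Submodule.span ℤ (Set.range (coF D)) := by
  by_contra! h
  obtain ⟨e, he, hef⟩ := exists_functional_of_not_torsion (Submodule.span ℤ (Set.range (coF D))) f h
  obtain ⟨m, rfl⟩ := (Module.evalEquiv ℤ D.M).surjective e
  refine hef ?_
  have : m = 0 := hD.eq_zero fun a => he _ (Submodule.subset_span ⟨a, rfl⟩)
  rw [this, map_zero, LinearMap.zero_apply]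

/-- A functional vanishing on the roots vanishes, with full rank. -/
theorem FullRank.functional_eq_zero (hD : FullRank D) {f : D.M →ₗ[ℤ] ℤ} (hf : ∀ a, f (D.P.root a) = 0) : f = 0 := by
  ext m
  obtain ⟨n, hn, hm⟩ := hD m
  have h : f (n • m) = 0 := by
    refine Submodule.span_induction (p := fun q _ => f q = 0) ?_ (map_zero f) (fun p q _ _ hp hq => ?_)
      (fun c p _ hp => ?_) hm
    · rintro _ ⟨a, rfl⟩; exact hf a
    · rw [map_add, hp, hq, add_zero]
    · rw [map_zsmul, hp, smul_zero]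
  rw [map_zsmul] at h
  exact (smul_eq_zero.1 h).resolve_left hn

end Lattice

section Points

variable {S : Scheme.{u}} {G : Over S} [GrpObj G] {D : Red.SplitRed G} {K : Type u} [Field K] [IsAlgClosed K]
  (ξ : Spec (CommRingCat.of K) ⟶ S)

/-- Units of an algebraically closed field are divisible. -/
theorem exists_zpow_eq {n : ℤ} (hn : n ≠ 0) (z : Kˣ) : ∃ w : Kˣ, w ^ n = z := by
  obtain ⟨r, hr⟩ := IsAlgClosed.exists_pow_nat_eq (z : K) (Int.natAbs_pos.2 hn)
  have hr0 : r ≠ 0 := fun h => z.ne_zero (by rw [← hr, h, zero_pow (Int.natAbs_ne_zero.2 hn)])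
  have hw : (Units.mk0 r hr0) ^ n.natAbs = z := Units.ext (by simpa using hr)
  rcases Int.natAbs_eq n with h | h
  · exact ⟨Units.mk0 r hr0, by rw [h, zpow_natCast, hw]⟩
  · exact ⟨(Units.mk0 r hr0)⁻¹, by rw [h, zpow_neg, zpow_natCast, inv_pow, inv_inv, hw]⟩

theorem tc_add (f g : D.M →ₗ[ℤ] ℤ) (z : Kˣ) : tc D ξ (f + g) z = tc D ξ f z * tc D ξ g z :=
  ch_injective D ξ (MonoidHom.ext fun m => by
    obtain ⟨m, rfl⟩ := Multiplicative.ofAdd.surjective m
    rw [ch_mul, MonoidHom.mul_apply, ch_cochT, ch_cochT, ch_cochT, LinearMap.add_apply, zpow_add])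

theorem tc_zero (z : Kˣ) : tc D ξ 0 z = 1 :=
  ch_injective D ξ (MonoidHom.ext fun m => by
    obtain ⟨m, rfl⟩ := Multiplicative.ofAdd.surjective m
    rw [ch_one, MonoidHom.one_apply, ch_cochT, LinearMap.zero_apply, zpow_zero])

theorem tc_smul (c : ℤ) (f : D.M →ₗ[ℤ] ℤ) (z : Kˣ) : tc D ξ (c • f) z = tc D ξ f (z ^ c) :=
  ch_injective D ξ (MonoidHom.ext fun m => by
    obtain ⟨m, rfl⟩ := Multiplicative.ofAdd.surjective m
    rw [ch_cochT, ch_cochT, LinearMap.smul_apply, smul_eq_mul, zpow_mul])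

/-- Every point of the torus is a product of values of cocharacters. -/
theorem torus_pt_mem (H : Subgroup (aP ξ K ⟶ D.T)) (h : ∀ (f : D.M →ₗ[ℤ] ℤ) (z : Kˣ), tc D ξ f z ∈ H)
    (t : aP ξ K ⟶ D.T) : t ∈ H := by
  classical
  let B := Module.finBasis ℤ D.M
  suffices e : t = (List.ofFn fun i => tc D ξ (B.coord i) (ch D ξ t (Multiplicative.ofAdd (B i)))).prod by
    rw [e]
    refine Subgroup.list_prod_mem _ fun w hw => ?_
    obtain ⟨i, rfl⟩ := List.mem_ofFn.1 hw
    exact h _ _
  refine ch_injective D ξ (MonoidHom.ext fun m => ?_)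
  obtain ⟨m, rfl⟩ := Multiplicative.ofAdd.surjective m
  let ev : (aP ξ K ⟶ D.T) →* Kˣ :=
    { toFun := fun t => ch D ξ t (Multiplicative.ofAdd m)
      map_one' := by rw [ch_one]; rfl
      map_mul' := fun t t' => by rw [ch_mul]; rfl }
  show ev t = ev _
  rw [map_list_prod, List.map_ofFn, List.prod_ofFn]
  simp only [ev, MonoidHom.coe_mk, OneHom.coe_mk, Function.comp_apply, ch_cochT]
  let cm : D.M →+ Additive Kˣ := (ch D ξ t).toAdditiveRight
  have h3 : Additive.toMul (cm m) = Additive.toMul (cm (∑ i, B.coord i m • B i)) := by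
    rw [show (∑ i, B.coord i m • B i) = m from B.sum_repr m]
  rw [map_sum, toMul_sum] at h3
  refine h3.trans (Finset.prod_congr rfl fun i _ => ?_)
  rw [map_zsmul, toMul_zsmul]
  rfl

variable [Nonempty S]

/-- **The root groups generate the points when the roots have full rank.** -/
theorem FullRank.eq_top (hD : FullRank D) (P : Subgroup (aP ξ K ⟶ G))
    (hU : ∀ (k : D.idx) (z : aP ξ K ⟶ Red.Ga S), z ≫ D.u k ∈ P) : P = ⊤ := by
  haveI := isMonHom_i D
  refine Bruhat.eq_top ξ P (fun t => ?_) hU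
  let H : Subgroup (aP ξ K ⟶ D.T) := P.comap (MonoidHom.mk' (fun t => t ≫ D.i) fun t t' => MonObj.mul_comp t t' _)
  let Q : Submodule ℤ (D.M →ₗ[ℤ] ℤ) :=
    { carrier := {f | ∀ z, tc D ξ f z ∈ H}
      zero_mem' := fun z => by rw [tc_zero]; exact H.one_mem
      add_mem' := fun hf hg z => by rw [tc_add]; exact H.mul_mem (hf z) (hg z)
      smul_mem' := fun c f hf z => by rw [tc_smul]; exact hf _ }
  have hQ : Submodule.span ℤ (Set.range (coF D)) ≤ Q := by
    rw [Submodule.span_le]
    rintro _ ⟨a, rfl⟩ z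
    exact coroot_mem a P (hU a) (hU _) _
  refine torus_pt_mem ξ H (fun f z => ?_) t
  obtain ⟨n, hn, hf⟩ := hD.coroot f
  obtain ⟨w, rfl⟩ := exists_zpow_eq hn z
  have h := hQ hf w
  rwa [tc_smul] at h

variable {A : Type u} [CommRing A] [HopfAlgebra K A] (v : sp K A ≅ Red.bc ξ G) [IsMonHom v.hom]
  [Algebra.FiniteType K A] [_root_.IsReduced A]

/-- **Full rank makes the centre finite.** -/
theorem FullRank.finite_center (hD : FullRank D)
    (hcen : Subgroup.center (Pt K A) ≤ Tsub D ξ v) :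
    (Subgroup.center (Pt K A) : Set (Pt K A)).Finite := by
  classical
  haveI := isMonHom_i D
  choose n hn hnm using hD
  let B := Module.finBasis ℤ D.M
  have hkill : {t : aP ξ K ⟶ D.T | ∀ k, ch D ξ t (Multiplicative.ofAdd (D.P.root k)) = 1}.Finite := by
    have hfin : ∀ i, {z : Kˣ | z ^ (n (B i)).natAbs = 1}.Finite := fun i => by
      haveI : NeZero (n (B i)).natAbs := ⟨Int.natAbs_ne_zero.2 (hn _)⟩
      exact (Set.finite_coe_iff.1 (inferInstanceAs (Finite ↥(rootsOfUnity (n (B i)).natAbs K))) :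
        (rootsOfUnity (n (B i)).natAbs K : Set Kˣ).Finite).subset fun z hz => hz
    refine Set.Finite.of_finite_image ((Set.Finite.pi' hfin).subset
      (t := (fun t : aP ξ K ⟶ D.T => fun i => ch D ξ t (Multiplicative.ofAdd (B i))) ''
        {t : aP ξ K ⟶ D.T | ∀ k, ch D ξ t (Multiplicative.ofAdd (D.P.root k)) = 1}) ?_) ?_
    · rintro _ ⟨t, ht, rfl⟩ i
      let cm : D.M →+ Additive Kˣ := (ch D ξ t).toAdditiveRight
      have hroot : ∀ m ∈ D.P.rootSpan ℤ, cm m = 0 := fun m hm => by
        refine Submodule.span_induction (p := fun q _ => cm q = 0) ?_ (map_zero _) (fun p q _ _ hp hq => ?_)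
          (fun c p _ hp => ?_) hm
        · rintro _ ⟨k, rfl⟩; exact congrArg Additive.ofMul (ht k)
        · rw [map_add, hp, hq, add_zero]
        · rw [map_zsmul, hp, smul_zero]
      have h := congrArg Additive.toMul (hroot _ (hnm (B i)))
      rw [map_zsmul, toMul_zsmul, toMul_zero] at h
      change ch D ξ t (Multiplicative.ofAdd (B i)) ^ (n (B i)).natAbs = 1
      rcases Int.natAbs_eq (n (B i)) with e | e
      · rw [e, zpow_natCast] at h; exact h
      · rw [e, zpow_neg, zpow_natCast, inv_eq_one] at h; exact h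
    · intro t _ t' _ h
      refine ch_injective D ξ (MonoidHom.ext fun m => ?_)
      obtain ⟨m, rfl⟩ := Multiplicative.ofAdd.surjective m
      have h' : ((ch D ξ t).toAdditiveRight : D.M →+ Additive Kˣ) = (ch D ξ t').toAdditiveRight := by
        refine B.ext (f₁ := ((ch D ξ t).toAdditiveRight).toIntLinearMap)
          (f₂ := ((ch D ξ t').toAdditiveRight).toIntLinearMap) (fun i => congrArg Additive.ofMul (congrFun h i)) |>
          fun e => AddMonoidHom.ext fun x => LinearMap.congr_fun e x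
      exact congrArg Additive.toMul (DFunLike.congr_fun h' m)
  refine (hkill.image (torusHom D ξ v)).subset fun g hg => ?_
  have hgT : g ∈ Tsub D ξ v := hcen hg
  obtain ⟨t, rfl⟩ := hgT
  refine ⟨t, fun k => ?_, rfl⟩
  have h := Subgroup.mem_center_iff.1 hg (ptG ξ v (el ξ (D.u k) 1))
  have h2 : (t ≫ D.i) * el ξ (D.u k) 1 * (t ≫ D.i)⁻¹ = el ξ (D.u k) 1 := by
    refine (ptG ξ v).injective ?_
    rw [map_mul, map_mul, map_inv, mul_inv_eq_iff_eq_mul]
    exact h.symm
  rw [SplitFib.conj_el, _root_.mul_one, el_eq, el_eq] at h2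
  haveI := mono_u D k
  have h3 := congrArg Red.gaFn ((cancel_mono (D.u k)).1 h2)
  rw [gaFn_ptOf, gaFn_ptOf] at h3
  exact Units.ext ((cst_bijective ξ).1 h3)

omit [Nonempty S] in
/-- A semisimple group of points has finite centre. -/
theorem finite_center_of_isSSPts (h : IsSSPts K A) : (Subgroup.center (Pt K A) : Set (Pt K A)).Finite := by
  have hc : IsClosed (Subgroup.center (Pt K A) : Set (Pt K A)) := by
    have e : (Subgroup.center (Pt K A) : Set (Pt K A)) = ⋂ y, {g | y * g = g * y} := by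
      ext g
      simp [Subgroup.mem_center_iff]
    rw [e]
    exact isClosed_iInter fun y => isClosed_commuting y
  obtain ⟨F, hF, hcov⟩ := exists_neut_cosets hc
  have hbot : neut (Subgroup.center (Pt K A)) = ⊥ := by
    refine h _ (isClosed_neut hc) (isPreconnected_neut _) (fun g => ?_) ⟨1, le_bot_iff.1 (Subgroup.commutator_le.2 ?_)⟩
    · rintro _ ⟨x, hx, rfl⟩
      have := Subgroup.mem_center_iff.1 (neut_le _ hx) g
      show g * x * g⁻¹ ∈ _
      rw [this, mul_inv_cancel_right]
      exact hx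
    · intro a ha b _
      rw [Subgroup.mem_bot, commutatorElement_eq_one_iff_mul_comm]
      exact (Subgroup.mem_center_iff.1 (neut_le _ ha) b).symm
  refine F.finite_toSet.subset fun g hg => ?_
  obtain ⟨r, hr, hrg⟩ := hcov g hg
  rw [hbot, Subgroup.mem_bot, inv_mul_eq_one] at hrg
  exact hrg ▸ hr

include ξ v in
/-- **A finite centre forces full rank.** -/
theorem fullRank_of_finite_center (hfin : (Subgroup.center (Pt K A) : Set (Pt K A)).Finite) : FullRank D := by
  classical
  haveI := isMonHom_i D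
  intro m
  by_contra! h
  obtain ⟨f, hf, hfm⟩ := exists_functional_of_not_torsion (D.P.rootSpan ℤ) m h
  have hcen : ∀ z : Kˣ, torusHom D ξ v (tc D ξ f z) ∈ Subgroup.center (Pt K A) := fun z => by
    refine Subgroup.mem_center_iff.2 fun x => ?_
    obtain ⟨g, rfl⟩ := (ptG ξ v).surjective x
    suffices hg : g ∈ Subgroup.centralizer ({tc D ξ f z ≫ D.i} : Set (aP ξ K ⟶ G)) by
      have h' := (Subgroup.mem_centralizer_iff.1 hg) _ rfl
      show ptG ξ v g * ptG ξ v (tc D ξ f z ≫ D.i) = ptG ξ v (tc D ξ f z ≫ D.i) * ptG ξ v g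
      rw [← map_mul, ← map_mul, h']
    suffices he : Subgroup.centralizer ({tc D ξ f z ≫ D.i} : Set (aP ξ K ⟶ G)) = ⊤ by
      rw [he]; exact Subgroup.mem_top g
    refine Bruhat.eq_top (D := D) ξ _ (fun t => ?_) fun k w => ?_
    · refine Subgroup.mem_centralizer_iff.2 ?_
      rintro _ rfl
      rw [← MonObj.mul_comp, ← MonObj.mul_comp, torus_comm D]
    · refine Subgroup.mem_centralizer_iff.2 ?_
      rintro _ rfl
      obtain ⟨r, rfl⟩ := ga_cases ξ w
      rw [← el_eq, ← mul_inv_eq_iff_eq_mul, SplitFib.conj_el, ch_cochT,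
        hf _ (Submodule.subset_span ⟨k, rfl⟩), zpow_zero, Units.val_one, _root_.one_mul]
  have hinf : (Set.univ : Set Kˣ).Finite := by
    have h1 : (Set.range fun z : Kˣ => tc D ξ f z).Finite :=
      Set.Finite.of_finite_image (hfin.subset (by rintro _ ⟨_, ⟨z, rfl⟩, rfl⟩; exact hcen z))
        (torusHom_injective D ξ v).injOn
    refine (h1.image fun t => ch D ξ t (Multiplicative.ofAdd m)).subset fun z _ => ?_
    obtain ⟨w, hw⟩ := exists_zpow_eq hfm z
    exact ⟨_, ⟨w, rfl⟩, (ch_cochT D ξ f w m).trans hw⟩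
  haveI : Finite Kˣ := Set.finite_univ_iff.1 hinf
  haveI : Finite K := Finite.of_injective (fun x : K => if h : x = 0 then none else some (Units.mk0 x h)) fun x y e => by
    by_cases hx : x = 0 <;> by_cases hy : y = 0 <;> simp [hx, hy] at e ⊢ <;> exact e
  exact not_finite K

omit [Nonempty S] in
/-- A reductive group of points with finite centre is semisimple. -/
theorem isSSPts_of_finite_center (hconn : _root_.IsPreconnected (Set.univ : Set (Pt K A))) (hred : IsRedPts K A)
    (hfin : (Subgroup.center (Pt K A) : Set (Pt K A)).Finite) : IsSSPts K A :=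
  isSSPts_of_radSub hconn (eq_bot_of_finite (radSub_facts hconn).2.1 (hfin.subset (hred.radSub_central hconn).2))

end Points

section OverField

variable {k : Type u} [Field k] {G : Over (Spec (CommRingCat.of k))} [GrpObj G] (D : Red.SplitRed G)

/-- **A split group over a field is semisimple exactly when the roots have full rank.** -/
theorem isSemisimple_iff_fullRank : Red.IsSemisimple G ↔ FullRank D := by
  let s : ↥(Spec (CommRingCat.of k)) := IsLocalRing.closedPoint k
  haveI : Nonempty ↥(Spec (CommRingCat.of k)) := ⟨s⟩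
  obtain ⟨ha, hsm, A, _, _, v, hv, hA, hA', hc, hred, hT⟩ := exists_fibre D s
  haveI := ha; haveI := hsm; haveI := hv; haveI := hA; haveI := hA'
  constructor
  · intro h
    exact fullRank_of_finite_center (D := D) (Red.geomPt s) v
      (finite_center_of_isSSPts (isSSPts_of_isSemisimpleOver v (h.2.2 s)))
  · intro h
    refine (BorelLib.isSemisimple_iff s).2 ⟨D.reductive.1, D.reductive.2.1, ?_⟩
    haveI : ConnectedSpace (Red.geomFibre s G).left := (D.reductive.2.2 s).2.2.1
    exact isSemisimpleOver_of_isSSPts v (isSSPts_of_finite_center hc hred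
      (h.finite_center (Red.geomPt s) v ((Subgroup.center_le_centralizer _).trans (hred.centralizer_eq hc hT).le)))

variable {D}

/-- **A split semisimple group is generated by its root groups.** -/
theorem FullRank.isIso_of_roots (hD : FullRank D) {H : Over (Spec (CommRingCat.of k))} [GrpObj H] (iH : H ⟶ G)
    [IsMonHom iH] [IsClosedImmersion iH.left]
    (hu : ∀ a : D.idx, ∃ f : Red.Ga (Spec (CommRingCat.of k)) ⟶ H, f ≫ iH = D.u a) : IsIso iH := by
  haveI : Nonempty ↥(Spec (CommRingCat.of k)) := ⟨IsLocalRing.closedPoint k⟩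
  haveI : Smooth G.hom := D.reductive.2.1
  haveI : AlgebraicGeometry.IsReduced G.left := AlgSpLib.isReduced_of_smooth G.hom
  haveI : Surjective iH.left := by
    refine ⟨fun x => ?_⟩
    obtain ⟨K, _, _, ξ, g₀, hg₀⟩ := exists_geom x
    let φ : (aP ξ K ⟶ H) →* (aP ξ K ⟶ G) := MonoidHom.mk' (fun z => z ≫ iH) fun z z' => MonObj.mul_comp z z' _
    have htop := hD.eq_top ξ φ.range fun a z => by
      obtain ⟨f, hf⟩ := hu a
      exact ⟨z ≫ f, by show (z ≫ f) ≫ iH = _; rw [Category.assoc, hf]⟩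
    obtain ⟨h, hh⟩ : g₀ ∈ φ.range := htop ▸ Subgroup.mem_top g₀
    let pt : (aP ξ K).left := IsLocalRing.closedPoint K
    refine ⟨h.left pt, ?_⟩
    rw [← hg₀ pt, ← hh]
    exact (Scheme.Hom.comp_apply _ _ _).symm
  haveI : IsIso iH.left := isIso_of_isClosedImmersion_of_surjective iH.left
  haveI : IsIso ((Over.forget _).map iH) := ‹IsIso iH.left›
  exact isIso_of_reflects_iso iH (Over.forget _)

end OverField

section TorusHoms

theorem DSmap_injective {S : Scheme.{u}} [Nonempty S] {M N : Type} [AddCommGroup M] [AddCommGroup N] {φ φ' : N →+ M}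
    (h : Red.DSmap S φ = Red.DSmap S φ') : φ = φ' := by
  have e : ∀ φ : N →+ M, Red.DSmap S φ = MultSubLib.dd S φ.toMultiplicative := fun φ => by
    refine MultSubLib.chars_injective ?_
    rw [← Category.id_comp (Red.DSmap S φ), ← Category.id_comp (MultSubLib.dd S φ.toMultiplicative),
      DSImg.chars_comp_DSmap, MultSubLib.chars_comp_dd]
  haveI : Nonempty (𝟙_ (Over S)).left := ‹Nonempty S›
  rw [e, e] at h
  have h' := MultSubLib.dd_injective (T := 𝟙_ (Over S)) (congrArg (fun q => fst (Red.DS S M) (𝟙_ (Over S)) ≫ q) h)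
  exact AddMonoidHom.ext fun m => congrArg Multiplicative.toAdd (DFunLike.congr_fun h' (Multiplicative.ofAdd m))

/-- Maps to the torus of a group with roots of full rank agreeing on every root agree. -/
theorem FullRank.torus_hom_ext {k : Type u} [Field k] {G G' : Over (Spec (CommRingCat.of k))} [GrpObj G] [GrpObj G']
    {D : Red.SplitRed G} {D' : Red.SplitRed G'} (hD : FullRank D') (t₁ t₂ : D.T ⟶ D'.T) [IsMonHom t₁] [IsMonHom t₂]
    (h : ∀ a' : D'.idx, t₁ ≫ D'.split.hom.hom.hom ≫ Red.chi (Spec (CommRingCat.of k)) (D'.P.root a') =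
      t₂ ≫ D'.split.hom.hom.hom ≫ Red.chi (Spec (CommRingCat.of k)) (D'.P.root a')) : t₁ = t₂ := by
  let S := Spec (CommRingCat.of k)
  haveI : Nonempty ↥(Spec (CommRingCat.of k)) := ⟨IsLocalRing.closedPoint k⟩
  haveI : IsMonHom D.split.inv.hom.hom := D.split.inv.hom.isMonHom_hom
  haveI : IsMonHom D'.split.hom.hom.hom := D'.split.hom.hom.isMonHom_hom
  haveI : Module.Finite ℤ D'.M := D'.finiteM
  haveI : AddGroup.FG D'.M := Module.Finite.iff_addGroup_fg.1 inferInstance
  haveI : IsMonHom (t₁ ≫ D'.split.hom.hom.hom) := inferInstance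
  haveI : IsMonHom (t₂ ≫ D'.split.hom.hom.hom) := inferInstance
  haveI : IsMonHom (D.split.inv.hom.hom ≫ t₁ ≫ D'.split.hom.hom.hom) := inferInstance
  haveI : IsMonHom (D.split.inv.hom.hom ≫ t₂ ≫ D'.split.hom.hom.hom) := inferInstance
  obtain ⟨f₁, hf₁⟩ := exists_DSmap_of_hom (D.split.inv.hom.hom ≫ t₁ ≫ D'.split.hom.hom.hom)
  obtain ⟨f₂, hf₂⟩ := exists_DSmap_of_hom (D.split.inv.hom.hom ≫ t₂ ≫ D'.split.hom.hom.hom)
  have hroot : ∀ a, f₁ (D'.P.root a) = f₂ (D'.P.root a) := fun a => by
    have e := congrArg (fun q => D.split.inv.hom.hom ≫ q) (h a)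
    simp only [Red.chi] at e
    replace e : (D.split.inv.hom.hom ≫ t₁ ≫ D'.split.hom.hom.hom) ≫ Red.DSmap S (zmultiplesHom D'.M (D'.P.root a)) =
        (D.split.inv.hom.hom ≫ t₂ ≫ D'.split.hom.hom.hom) ≫ Red.DSmap S (zmultiplesHom D'.M (D'.P.root a)) := by
      simp only [Category.assoc]; exact e
    rw [hf₁, hf₂, DSImg.DSmap_comp, DSImg.DSmap_comp] at e
    simpa using DFunLike.congr_fun (DSmap_injective e) 1
  have hf : f₁ = f₂ := by
    refine AddMonoidHom.ext fun m => ?_
    obtain ⟨n, hn, hm⟩ := hD m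
    have : f₁ (n • m) = f₂ (n • m) := by
      refine Submodule.span_induction (p := fun q _ => f₁ q = f₂ q) ?_ (by simp) (fun p q _ _ hp hq => ?_)
        (fun c p _ hp => ?_) hm
      · rintro _ ⟨a, rfl⟩; exact hroot a
      · rw [map_add, map_add, hp, hq]
      · rw [map_zsmul, map_zsmul, hp]
    rw [map_zsmul, map_zsmul] at this
    exact smul_right_injective _ hn this
  have e : D.split.inv.hom.hom ≫ t₁ ≫ D'.split.hom.hom.hom = D.split.inv.hom.hom ≫ t₂ ≫ D'.split.hom.hom.hom := by
    rw [hf₁, hf₂, hf]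
  haveI : Mono D'.split.hom.hom.hom := mono_split D'
  have e1 := congrArg (fun q => D.split.hom.hom.hom ≫ q) e
  simp only [← Category.assoc] at e1
  rw [show D.split.hom.hom.hom ≫ D.split.inv.hom.hom = 𝟙 _ from congrArg (fun q => q.hom.hom) D.split.hom_inv_id,
    Category.id_comp, Category.id_comp] at e1
  exact (cancel_mono _).1 e1

end TorusHoms

end Bruhat

end
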