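import Groth.Agent.BruhatLib.WordSign

/-!
# The Chevalley system of a pinning
-/

set_option autoImplicit false
set_option linter.style.haveILetI false
set_option linter.unusedSectionVars false
set_option backward.isDefEq.respectTransparency false
set_option maxHeartbeats 1000000
set_option synthInstance.maxHeartbeats 400000

universe u

open CategoryTheory CategoryTheory.Limits MonoidalCategory CartesianMonoidalCategory AlgebraicGeometry
open Groth.Agent.GaPts
open Groth.Agent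
open Groth.Agent.RankOne (eq_ptOf eq_ptOfUnit comp_ptOf ptOf_add)
open scoped MonObj

noncomputable section

attribute [-instance] CategoryTheory.Hom.commGroup

namespace Bruhat

open SplitCell SplitFib RootSubgrp

variable {S : Scheme.{u}} {G : Over S} [GrpObj G] [Nonempty S]

/-- A pinning gives a pinned family of representatives. -/
theorem exists_pinFam (D : Red.Pinning G) {e₁ : 𝟙_ (Over S) ⟶ Red.Ga S} (he₁ : Red.gaFn e₁ = 1)
    (avc : D.idx → (Red.Gm S ⟶ D.T))
    (havc : ∀ a, avc a = Red.DSmap S (D.P.coroot a).toAddMonoidHom ≫ D.split.inv.hom.hom)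
    (hpair : ∀ a ∈ D.base.support, ∀ (X : Over S) (x y : X ⟶ Red.Ga S), IsUnit (1 + Red.gaFn x * Red.gaFn y) →
        ∃ (x' y' : X ⟶ Red.Ga S) (z : X ⟶ Red.Gm S), Red.gmFn z = 1 + Red.gaFn x * Red.gaFn y ∧
          Red.gaFn x' * Red.gmFn z = Red.gaFn x ∧ Red.gaFn y' * Red.gmFn z = Red.gaFn y ∧
          (x ≫ D.u a) * (y ≫ D.u (D.P.reflectionPerm a a)) = (y' ≫ D.u (D.P.reflectionPerm a a)) * (z ≫ avc a ≫ D.i) * (x' ≫ D.u a))
    (w : D.idx → (𝟙_ (Over S) ⟶ G))
    (hw : ∀ a, w a = (e₁ ≫ D.u a) * (e₁ ≫ D.u (D.P.reflectionPerm a a))⁻¹ * (e₁ ≫ D.u a)) :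
    ∃ nr : D.idx → (𝟙_ (Over S) ⟶ G), PinFam D.toSplitRed D.base avc nr ∧ ∀ a ∈ D.base.support, nr a = w a := by
  classical
  obtain ⟨n0, hn0⟩ := exists_nr D.toSplitRed
  refine ⟨fun a => if a ∈ D.base.support then w a else n0 a, ⟨fun a => ?_, fun a ha => ?_⟩, fun a ha => if_pos ha⟩
  · show IsRefl D.toSplitRed a (if a ∈ D.base.support then w a else n0 a)
    split_ifs with ha
    · exact (pin_of D he₁ avc havc hpair w hw ha).isRefl
    · exact hn0 a
  · show Pin D.toSplitRed a (avc a) (if a ∈ D.base.support then w a else n0 a)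
    rw [if_pos ha]
    exact pin_of D he₁ avc havc hpair w hw ha

variable {D : Red.SplitRed G} {b : D.P.Base} {av : D.idx → (Red.Gm S ⟶ D.T)} {nr : D.idx → (𝟙_ (Over S) ⟶ G)}

omit [Nonempty S] in
theorem IsSgn.inv {z : 𝟙_ (Over S) ⟶ G} (h : IsSgn D z) : IsSgn D z⁻¹ := by
  haveI := isMonHom_i D
  haveI : IsMonHom D.split.hom.hom.hom := D.split.hom.hom.isMonHom_hom
  obtain ⟨t, rfl, ht⟩ := h
  refine ⟨t⁻¹, (GrpObj.inv_comp _ _).symm, fun m => ?_⟩
  have hu := congrArg (fun f => f (Multiplicative.ofAdd m))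
    (MultSubLib.chars_mul (t ≫ D.split.hom.hom.hom)⁻¹ (t ≫ D.split.hom.hom.hom))
  simp only [inv_mul_cancel, MultSubLib.chars_one, MonoidHom.one_apply, MonoidHom.mul_apply] at hu
  rw [GrpObj.inv_comp]
  rcases ht m with e | e <;> rw [e] at hu
  · exact Or.inl (by rw [_root_.mul_one] at hu; exact hu.symm)
  · exact Or.inr (by rw [mul_neg, _root_.mul_one] at hu; exact neg_eq_iff_eq_neg.1 hu.symm)

/-- Every root is carried to from a simple root by a word in the simple roots. -/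
theorem exists_rep (b : D.P.Base) (c : D.idx) : ∃ p : List D.idx × D.idx, InS D b p.1 ∧ p.2 ∈ b.support ∧
    RedSub.wordPerm D.P p.1 p.2 = c ∧ (c ∈ b.support → p = ([], c)) := by
  classical
  by_cases hc : c ∈ b.support
  · exact ⟨([], c), fun x hx => absurd hx (by simp), hc, by simp [RedSub.wordPerm], fun _ => rfl⟩
  haveI := SplitFib.isReduced_root D
  suffices h : ∀ k, ∃ (l : List D.idx) (a : D.idx), InS D b l ∧ a ∈ b.support ∧ RedSub.wordPerm D.P l a = k by
    obtain ⟨l, a, h1, h2, h3⟩ := h c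
    exact ⟨(l, a), h1, h2, h3, fun h => absurd h hc⟩
  intro k
  refine b.induction_reflect k (p := fun k => ∃ (l : List D.idx) (a : D.idx), InS D b l ∧ a ∈ b.support ∧
    RedSub.wordPerm D.P l a = k) ?_ ?_ ?_
  · rintro i ⟨l, a, h1, h2, rfl⟩
    refine ⟨l ++ [a], a, fun x hx => ?_, h2, ?_⟩
    · rcases List.mem_append.1 hx with hx | hx
      · exact h1 x hx
      · rw [List.mem_singleton] at hx; exact hx ▸ h2
    · rw [← wordPerm_neg]
      simp [RedSub.wordPerm]
  · exact fun i hi => ⟨[], i, fun x hx => absurd hx (by simp), hi, by simp [RedSub.wordPerm]⟩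
  · rintro i j ⟨l, a, h1, h2, rfl⟩ hj
    refine ⟨j :: l, a, fun x hx => ?_, h2, by simp [RedSub.wordPerm]⟩
    rcases List.mem_cons.1 hx with rfl | hx
    · exact hj
    · exact h1 x hx

variable (hf : PinFam D b av nr)
include hf

theorem PinFam.eqv_reverse : ∀ {l : List D.idx}, InS D b l → Eqv D nr (l.reverse ++ l) [] := fun {l} => by
  induction l with
  | nil => exact fun _ => Eqv.refl _
  | cons a l ih =>
    intro hl
    have h := ((hf.eqv_sq (hl a List.mem_cons_self)).append_left hf l.reverse).append_right l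
    rw [List.append_nil] at h
    refine Eqv.trans ?_ (ih fun x hx => hl x (List.mem_cons_of_mem _ hx))
    simpa [List.append_assoc] using h

/-- Conjugation by a word carries the coroots along. -/
theorem PinFam.conj_coroot (hav : ∀ a, av a = Red.DSmap S (D.P.coroot a).toAddMonoidHom ≫ D.split.inv.hom.hom)
    (l : List D.idx) (a : D.idx) {X : Over S} (z : X ⟶ Red.Gm S) :
    (toUnit X ≫ pr D nr l) * (z ≫ av a ≫ D.i) * (toUnit X ≫ pr D nr l)⁻¹ =
      z ≫ av (RedSub.wordPerm D.P l a) ≫ D.i := by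
  rw [← Category.assoc, ← Category.assoc z (av (RedSub.wordPerm D.P l a))]
  refine (conj_torus_word_eq hf.refl l (z ≫ av a)).trans ?_
  congr 1
  refine torus_ext ?_
  rw [chars_tWord]
  refine MonoidHom.ext fun m => ?_
  obtain ⟨m, rfl⟩ := Multiplicative.ofAdd.surjective m
  show MultSubLib.chars ((z ≫ av a) ≫ D.split.hom.hom.hom) (Multiplicative.ofAdd (wordLin D l m)) =
    MultSubLib.chars ((z ≫ av (RedSub.wordPerm D.P l a)) ≫ D.split.hom.hom.hom) (Multiplicative.ofAdd m)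
  rw [← gmFn_chi, ← gmFn_chi, Category.assoc, gmFn_avc (hav a), Category.assoc, gmFn_avc (hav _), ← coroot'_eq,
    ← coroot'_eq, coroot'_wordLin]

omit hf in
/-- The root group of a simple root moved by a word. -/
def sysHom (nr : D.idx → (𝟙_ (Over S) ⟶ G)) (l : List D.idx) (k : D.idx) : Red.Ga S ⟶ G :=
  (toUnit _ ≫ pr D nr l) * D.u k * (toUnit _ ≫ pr D nr l)⁻¹

omit hf in
theorem comp_sysHom (l : List D.idx) (k : D.idx) {X : Over S} (x : X ⟶ Red.Ga S) :
    x ≫ sysHom nr l k = (toUnit X ≫ pr D nr l) * (x ≫ D.u k) * (toUnit X ≫ pr D nr l)⁻¹ := by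
  simp only [sysHom, MonObj.comp_mul, GrpObj.comp_inv, ← Category.assoc, toUnit_unique (x ≫ toUnit _) (toUnit X)]

omit hf in
theorem sysHom_nil (k : D.idx) : sysHom nr [] k = D.u k := by
  simp [sysHom, pr]

omit hf in
theorem isMonHom_sysHom (l : List D.idx) (k : D.idx) : IsMonHom (sysHom (D := D) nr l k) := by
  haveI := isMonHom_u D k
  refine Groth.Agent.BigCell.isMonHom_of_mul' (X := Red.Ga S) (Y := G) (sysHom (D := D) nr l k) fun Z x y => ?_
  rw [comp_sysHom, comp_sysHom, comp_sysHom, MonObj.mul_comp, conj_mul]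

/-- The moved root group is a root group of the moved root. -/
theorem PinFam.isRootHom_sysHom (l : List D.idx) (k : D.idx) :
    Red.IsRootHom D.i (D.split.hom.hom.hom ≫ Red.chi S (D.P.root (RedSub.wordPerm D.P l k))) (sysHom nr l k) := by
  haveI := isMonHom_i D
  haveI := mono_i D
  refine ⟨isMonHom_sysHom l k, ?_, fun X t x => ?_⟩
  · obtain ⟨ρ, hρ⟩ := exists_rho hf.refl l (RedSub.wordPerm D.P l k)
    have e : sysHom nr l k = ρ.inv ≫ D.u (RedSub.wordPerm D.P l k) := by
      have h := hρ (Red.Ga S) ρ.inv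
      rw [Equiv.symm_apply_apply, ρ.inv_hom_id, Category.id_comp] at h
      rw [← Category.id_comp (sysHom nr l k), comp_sysHom, Category.id_comp, ← h]
      show nX nr _ l * _ * (nX nr _ l)⁻¹ = _
      group
    rw [e, Over.comp_left]
    haveI := (D.rootHom (RedSub.wordPerm D.P l k)).2.1
    infer_instance
  · obtain ⟨t', ht'⟩ := conj_torus_word' hf.refl l t (X := X)
    have ht : tWord l t' = t := (cancel_mono D.i).1 (by
      rw [← conj_torus_word_eq hf.refl l t', ← ht']; group)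
    obtain ⟨y, hy, he⟩ := (D.rootHom k).2.2 X t' x
    refine ⟨y, ?_, ?_⟩
    · rw [comp_sysHom, comp_sysHom, hy, ← ht']
      show nX nr X l * _ * (nX nr X l)⁻¹ = _ * (nX nr X l * _ * (nX nr X l)⁻¹) * _
      group
    · rw [he]
      congr 1
      rw [← Category.assoc, gmFn_chi, ← Category.assoc, gmFn_chi, ← ht, chars_tWord]
      show _ = MultSubLib.chars (t' ≫ D.split.hom.hom.hom)
        (Multiplicative.ofAdd (wordLin D l (D.P.root (RedSub.wordPerm D.P l k))))
      rw [wordLin_root, Equiv.symm_apply_apply]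

/-- **The Weyl element of a moved root moves the moved root groups by signs.** -/
theorem PinFam.sys_sign {lc lb lk : List D.idx} {a a₀ a₁ : D.idx} (hlc : InS D b lc) (hlb : InS D b lb) (hlk : InS D b lk)
    (ha : a ∈ b.support) (ha₀ : a₀ ∈ b.support) (ha₁ : a₁ ∈ b.support)
    (h : D.P.reflectionPerm (RedSub.wordPerm D.P lc a) (RedSub.wordPerm D.P lb a₀) = RedSub.wordPerm D.P lk a₁) :
    ∃ ε : ℤ, (ε = 1 ∨ ε = -1) ∧
      Moves D ((pr D nr lk)⁻¹ * (pr D nr lc * nr a * (pr D nr lc)⁻¹) * pr D nr lb) a₀ a₁ ε := by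
  obtain ⟨hpk, zk, hzk, ek⟩ := hf.eqv_reverse hlk
  obtain ⟨hpc, zc, hzc, ec⟩ := hf.eqv_reverse hlc
  set L := lk.reverse ++ (lc ++ [a]) ++ (lc.reverse ++ lb) with hL
  have hin : InS D b L := by
    intro x hx
    simp only [hL, List.mem_append, List.mem_reverse, List.mem_singleton] at hx
    rcases hx with (hx | hx | rfl) | hx | hx
    · exact hlk x hx
    · exact hlc x hx
    · exact ha
    · exact hlc x hx
    · exact hlb x hx
  have hperm : RedSub.wordPerm D.P L a₀ = a₁ := by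
    have hk' : ∀ x, RedSub.wordPerm D.P lk.reverse (RedSub.wordPerm D.P lk x) = x := fun x => by
      have := congrArg (fun π : Equiv.Perm D.idx => π x) hpk
      simpa [RedSub.wordPerm] using this
    have hc' : ∀ x, RedSub.wordPerm D.P lc (RedSub.wordPerm D.P lc.reverse x) = x := fun x => by
      refine (RedSub.wordPerm D.P lc).apply_eq_iff_eq_symm_apply.2 ?_
      obtain ⟨y, rfl⟩ := (RedSub.wordPerm D.P lc).surjective x
      rw [Equiv.symm_apply_apply]
      have := congrArg (fun π : Equiv.Perm D.idx => π y) hpc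
      simpa [RedSub.wordPerm] using this
    have hsplit : ∀ (u v : List D.idx) (x : D.idx),
        RedSub.wordPerm D.P (u ++ v) x = RedSub.wordPerm D.P u (RedSub.wordPerm D.P v x) := fun u v x => by
      simp [RedSub.wordPerm]
    have e := congrArg (fun π : Equiv.Perm D.idx => π (RedSub.wordPerm D.P lc.reverse (RedSub.wordPerm D.P lb a₀)))
      (wordPerm_conj lc a)
    simp only [Equiv.Perm.mul_apply, hc', h] at e
    rw [hL, hsplit, hsplit, hsplit, hsplit, show RedSub.wordPerm D.P [a] = D.P.reflectionPerm a by simp [RedSub.wordPerm],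
      ← e, hk']
  obtain ⟨ε, hε, hm⟩ := hf.exists_sign hin ha₀ ha₁ hperm
  have hz : IsSgn D (zk⁻¹ * (pr D nr (lk.reverse ++ (lc ++ [a])) * zc⁻¹ * (pr D nr (lk.reverse ++ (lc ++ [a])))⁻¹)) :=
    hzk.inv.mul (hf.conj_sgn _ hzc.inv)
  obtain ⟨δ, hδ, hzm⟩ := hz.moves a₁
  refine ⟨δ * ε, ?_, ?_⟩
  · rcases hε with rfl | rfl <;> rcases hδ with rfl | rfl <;> norm_num
  convert hm.trans hzm using 1
  simp only [hL, pr, List.map_append, List.prod_append, List.map_cons, List.map_nil, List.prod_cons, List.prod_nil,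
    _root_.mul_one] at ek ec ⊢
  rw [← ek, ← ec]
  group

/-- **The Chevalley system of a pinning.** -/
theorem PinFam.exists_system (hav : ∀ a, av a = Red.DSmap S (D.P.coroot a).toAddMonoidHom ≫ D.split.inv.hom.hom) :
    ∃ v : D.idx → (Red.Ga S ⟶ G),
      (∀ c, Red.IsRootHom D.i (D.split.hom.hom.hom ≫ Red.chi S (D.P.root c)) (v c)) ∧
      (∀ a ∈ b.support, v a = D.u a) ∧
      ∀ c, ∃ vd : Red.Ga S ⟶ G, IsMonHom vd ∧
        (∀ (X : Over S) (x y : X ⟶ Red.Ga S), IsUnit (1 + Red.gaFn x * Red.gaFn y) →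
        ∃ (x' y' : X ⟶ Red.Ga S) (z : X ⟶ Red.Gm S), Red.gmFn z = 1 + Red.gaFn x * Red.gaFn y ∧
          Red.gaFn x' * Red.gmFn z = Red.gaFn x ∧ Red.gaFn y' * Red.gmFn z = Red.gaFn y ∧
          (x ≫ v c) * (y ≫ vd) = (y' ≫ vd) * (z ≫ av c ≫ D.i) * (x' ≫ v c)) ∧
        ∀ d, ∃ ε : ℤ, (ε = 1 ∨ ε = -1) ∧ ∀ (X : Over S) (x : X ⟶ Red.Ga S),
          (toUnit X ≫ ((ptOf 1 ≫ v c) * (ptOf 1 ≫ vd)⁻¹ * (ptOf 1 ≫ v c))) * (x ≫ v d) *
              (toUnit X ≫ ((ptOf 1 ≫ v c) * (ptOf 1 ≫ vd)⁻¹ * (ptOf 1 ≫ v c)))⁻¹ =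
            (x ≫ v (D.P.reflectionPerm c d)) ^ ε := by
  choose rep hin hsup hperm hsimple using exists_rep (D := D) b
  refine ⟨fun c => sysHom nr (rep c).1 (rep c).2, fun c => ?_, fun a ha => ?_, fun c => ?_⟩
  · have := hf.isRootHom_sysHom (rep c).1 (rep c).2
    rwa [hperm] at this
  · show sysHom nr (rep a).1 (rep a).2 = D.u a
    rw [hsimple a ha]
    exact sysHom_nil a
  have P := hf.pin _ (hsup c)
  refine ⟨sysHom nr (rep c).1 (D.P.reflectionPerm (rep c).2 (rep c).2), isMonHom_sysHom _ _, fun X x y hu => ?_, fun d => ?_⟩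
  · obtain ⟨x', y', z, h1, h2, h3, h4⟩ := P.hpair X x y hu
    refine ⟨x', y', z, h1, h2, h3, ?_⟩
    have hc := hf.conj_coroot hav (rep c).1 (rep c).2 z
    rw [hperm c] at hc
    rw [comp_sysHom, comp_sysHom, comp_sysHom, comp_sysHom, conj_mul, h4, ← conj_mul, ← conj_mul, hc]
  · obtain ⟨ε, hε, hm⟩ := hf.sys_sign (hin c) (hin d) (hin (D.P.reflectionPerm c d)) (hsup c) (hsup d)
      (hsup (D.P.reflectionPerm c d)) (by rw [hperm, hperm, hperm])
    refine ⟨ε, hε, fun X x => ?_⟩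
    have e := hm X x
    have hn : (ptOf 1 ≫ sysHom nr (rep c).1 (rep c).2) *
        ((ptOf 1 : 𝟙_ (Over S) ⟶ Red.Ga S) ≫ sysHom nr (rep c).1 (D.P.reflectionPerm (rep c).2 (rep c).2))⁻¹ *
        (ptOf 1 ≫ sysHom nr (rep c).1 (rep c).2) =
        pr D nr (rep c).1 * nr (rep c).2 * (pr D nr (rep c).1)⁻¹ := by
      rw [comp_sysHom, comp_sysHom, toUnit_unit, Category.id_comp, P.hw]
      group
    simp only [MonObj.comp_mul, GrpObj.comp_inv] at e
    rw [hn, comp_sysHom, comp_sysHom, conj_zpow, ← e]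
    simp only [MonObj.comp_mul, GrpObj.comp_inv]
    group

end Bruhat

end
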