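import Groth.Agent.BruhatLib.PMorExtend
import Groth.Agent.BruhatLib.System

/-!
# Isomorphisms of pinned groups from isomorphisms of their root data
-/

set_option autoImplicit false
set_option linter.style.haveILetI false
set_option linter.unusedSectionVars false
set_option backward.isDefEq.respectTransparency false
set_option maxHeartbeats 1000000
set_option synthInstance.maxHeartbeats 400000

universe u

open CategoryTheory CategoryTheory.Limits MonoidalCategory CartesianMonoidalCategory AlgebraicGeometry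
open Groth.Agent.GaPts
open Groth.Agent
open Groth.Agent.RankOne (eq_ptOf eq_ptOfUnit comp_ptOf ptOf_add)
open scoped MonObj

noncomputable section

attribute [-instance] CategoryTheory.Hom.commGroup

namespace Bruhat

open SplitCell SplitFib RootSubgrp

variable {S : Scheme.{u}} {G G' : Over S} [GrpObj G] [GrpObj G']

section Scale

/-- The unit given by a point of the multiplicative group. -/
def cU (c : 𝟙_ (Over S) ⟶ Red.Gm S) (X : Over S) : (Γ(X.left, ⊤))ˣ := GmPts.unitOfPt (toUnit X ≫ c)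

theorem cU_val (c : 𝟙_ (Over S) ⟶ Red.Gm S) (X : Over S) :
    ((cU c X : (Γ(X.left, ⊤))ˣ) : Γ(X.left, ⊤)) = Red.gmFn (toUnit X ≫ c) := GmPts.val_unitOfPt _

theorem map_cU (c : 𝟙_ (Over S) ⟶ Red.Gm S) {X X' : Over S} (g : X' ⟶ X) :
    g.left.appTop ((cU c X : (Γ(X.left, ⊤))ˣ) : Γ(X.left, ⊤)) = (cU c X' : (Γ(X'.left, ⊤))ˣ) := by
  rw [cU_val, cU_val, ← GmPts.gmFn_comp, ← Category.assoc, Subsingleton.elim (g ≫ toUnit X) (toUnit X')]

theorem map_cU_inv (c : 𝟙_ (Over S) ⟶ Red.Gm S) {X X' : Over S} (g : X' ⟶ X) :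
    g.left.appTop (((cU c X)⁻¹ : (Γ(X.left, ⊤))ˣ) : Γ(X.left, ⊤)) = ((cU c X')⁻¹ : (Γ(X'.left, ⊤))ˣ) := by
  rw [← Units.mul_left_inj (cU c X'), Units.inv_mul, ← map_cU c g, ← map_mul, Units.inv_mul, map_one]

/-- Division by the unit. -/
def scaleInv (c : 𝟙_ (Over S) ⟶ Red.Gm S) : Red.Ga S ⟶ Red.Ga S :=
  ptOf ((((cU c (Red.Ga S))⁻¹ : (Γ((Red.Ga S).left, ⊤))ˣ) : Γ((Red.Ga S).left, ⊤)) * Red.gaFn (𝟙 (Red.Ga S)))

theorem comp_scaleInv (c : 𝟙_ (Over S) ⟶ Red.Gm S) {X : Over S} (x : X ⟶ Red.Ga S) :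
    x ≫ scaleInv c = ptOf ((((cU c X)⁻¹ : (Γ(X.left, ⊤))ˣ) : Γ(X.left, ⊤)) * Red.gaFn x) := by
  rw [scaleInv, comp_ptOf, map_mul, map_cU_inv, ← gaFn_comp, Category.comp_id]

/-- Multiplication by the unit. -/
def scale (c : 𝟙_ (Over S) ⟶ Red.Gm S) : Red.Ga S ⟶ Red.Ga S :=
  ptOf (((cU c (Red.Ga S) : (Γ((Red.Ga S).left, ⊤))ˣ) : Γ((Red.Ga S).left, ⊤)) * Red.gaFn (𝟙 (Red.Ga S)))

theorem comp_scale (c : 𝟙_ (Over S) ⟶ Red.Gm S) {X : Over S} (x : X ⟶ Red.Ga S) :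
    x ≫ scale c = ptOf (((cU c X : (Γ(X.left, ⊤))ˣ) : Γ(X.left, ⊤)) * Red.gaFn x) := by
  rw [scale, comp_ptOf, map_mul, map_cU, ← gaFn_comp, Category.comp_id]

instance (c : 𝟙_ (Over S) ⟶ Red.Gm S) : IsMonHom (scaleInv c) :=
  Groth.Agent.BigCell.isMonHom_of_mul' _ fun X x y => by
    rw [comp_scaleInv, comp_scaleInv, comp_scaleInv, gaFn_mul (S := S) x y, mul_add, ptOf_add]

instance (c : 𝟙_ (Over S) ⟶ Red.Gm S) : IsIso (scaleInv c) :=
  ⟨scale c,
    by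
      rw [comp_scale, scaleInv, gaFn_ptOf, ← _root_.mul_assoc, Units.mul_inv, _root_.one_mul]
      exact (eq_ptOf _ rfl).symm,
    by
      rw [comp_scaleInv, scale, gaFn_ptOf, ← _root_.mul_assoc, Units.inv_mul, _root_.one_mul]
      exact (eq_ptOf _ rfl).symm⟩

theorem isRootHom_scale {T : Over S} [GrpObj T] {i : T ⟶ G} {α : T ⟶ Red.Gm S} {g : Red.Ga S ⟶ G}
    (hg : Red.IsRootHom i α g) (c : 𝟙_ (Over S) ⟶ Red.Gm S) : Red.IsRootHom i α (scaleInv c ≫ g) := by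
  haveI := hg.1
  refine ⟨inferInstance, ?_, fun X t x => ?_⟩
  · haveI := hg.2.1
    haveI : IsIso (scaleInv c).left := inferInstanceAs (IsIso ((Over.forget S).map (scaleInv c)))
    rw [Over.comp_left]
    infer_instance
  · obtain ⟨y, hy, he⟩ := hg.2.2 X t (x ≫ scaleInv c)
    refine ⟨ptOf (Red.gmFn (t ≫ α) * Red.gaFn x), ?_, gaFn_ptOf _⟩
    rw [← Category.assoc x, ← hy, ← Category.assoc]
    congr 1
    rw [comp_scaleInv, gaFn_ptOf] at he
    rw [comp_scaleInv, gaFn_ptOf, eq_ptOf y he]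
    congr 1
    ring

end Scale

variable [Nonempty S]

/-- The coroot of a root as a homomorphism to the torus. -/
def avcOf (D : Red.SplitRed G) (a : D.idx) : Red.Gm S ⟶ D.T :=
  Red.DSmap S (D.P.coroot a).toAddMonoidHom ≫ D.split.inv.hom.hom

omit [Nonempty S] in
theorem cochT_eq_avc (D : Red.SplitRed G) (a : D.idx) {X : Over S} (z : X ⟶ Red.Gm S) :
    cochT D (coF D a) z = z ≫ avcOf D a := by
  exact (chars_avc rfl z).symm

theorem negOf_not_mem {D : Red.SplitRed G} {b : D.P.Base} {c : D.idx} (hc : c ∈ b.support) :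
    D.P.reflectionPerm c c ∉ b.support := fun h =>
  not_pos_and_neg (simple_mem_pos h) (neg_mem_neg _ (simple_mem_pos hc))

theorem negOf_negOf (D : Red.SplitRed G) (c : D.idx) :
    D.P.reflectionPerm (D.P.reflectionPerm c c) (D.P.reflectionPerm c c) = c :=
  D.P.root.injective (by rw [RootSubgrp.root_neg, RootSubgrp.root_neg, neg_neg])

/-- **A pinning extends to root homomorphisms dual on the simple roots.** -/
theorem exists_pinned (D : Red.Pinning G) : ∃ (v : D.idx → (Red.Ga S ⟶ G))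
    (hv : ∀ c, Red.IsRootHom D.i (D.split.hom.hom.hom ≫ Red.chi S (D.P.root c)) (v c))
    (nr : D.idx → (𝟙_ (Over S) ⟶ G)),
    (∀ a ∈ D.base.support, v a = D.u a) ∧
      (∀ a, ∃ σ : Red.Ga S ⟶ Red.Ga S, v a = σ ≫ D.u a) ∧
      PinFam (withU D.toSplitRed v hv) D.base (avcOf D.toSplitRed) nr := by
  classical
  choose k hk using fun a => exists_rule (D := D.toSplitRed) a
  let v : D.idx → (Red.Ga S ⟶ G) := fun c =>
    if D.P.reflectionPerm c c ∈ D.base.support then scaleInv (k (D.P.reflectionPerm c c)) ≫ D.u c else D.u c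
  have hsimp : ∀ a ∈ D.base.support, v a = D.u a := fun a ha => if_neg (negOf_not_mem ha)
  have hneg : ∀ a ∈ D.base.support, v (D.P.reflectionPerm a a) = scaleInv (k a) ≫ D.u (D.P.reflectionPerm a a) :=
    fun a ha => by
      have e := negOf_negOf D.toSplitRed a
      simp only [v, e, if_pos ha]
  have hv : ∀ c, Red.IsRootHom D.i (D.split.hom.hom.hom ≫ Red.chi S (D.P.root c)) (v c) := fun c => by
    simp only [v]
    split_ifs
    · exact isRootHom_scale (D.rootHom c) _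
    · exact D.rootHom c
  have hpair : ∀ a ∈ D.base.support, ∀ (X : Over S) (x y : X ⟶ Red.Ga S), IsUnit (1 + Red.gaFn x * Red.gaFn y) →
      ∃ (x' y' : X ⟶ Red.Ga S) (z : X ⟶ Red.Gm S), Red.gmFn z = 1 + Red.gaFn x * Red.gaFn y ∧
        Red.gaFn x' * Red.gmFn z = Red.gaFn x ∧ Red.gaFn y' * Red.gmFn z = Red.gaFn y ∧
        (x ≫ v a) * (y ≫ v (D.P.reflectionPerm a a)) =
          (y' ≫ v (D.P.reflectionPerm a a)) * (z ≫ avcOf D.toSplitRed a ≫ D.i) * (x' ≫ v a) := by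
    intro a ha X x y h
    obtain ⟨e, he⟩ := h
    have hc := cU_val (k a) X
    obtain ⟨x', y₁, hx', hy₁, heq⟩ := (hk a X x (y ≫ scaleInv (k a))).2 e (by
      rw [← hc, comp_scaleInv, gaFn_ptOf, he]
      linear_combination (-(Red.gaFn x * Red.gaFn y)) * (cU (k a) X).mul_inv)
    refine ⟨x', y₁ ≫ scale (k a), GmPts.ptOfUnit e, ?_, ?_, ?_, ?_⟩
    · rw [GmPts.gmFn_ptOfUnit, he]
    · rw [GmPts.gmFn_ptOfUnit]; exact hx'
    · rw [comp_scaleInv, gaFn_ptOf] at hy₁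
      rw [GmPts.gmFn_ptOfUnit, comp_scale, gaFn_ptOf, _root_.mul_assoc, hy₁, ← _root_.mul_assoc, Units.mul_inv,
        _root_.one_mul]
    · have hy' : (y₁ ≫ scale (k a)) ≫ scaleInv (k a) = y₁ := by
        rw [comp_scaleInv, comp_scale, gaFn_ptOf, ← _root_.mul_assoc, Units.inv_mul, _root_.one_mul]
        exact (eq_ptOf _ rfl).symm
      rw [hsimp a ha, hneg a ha, ← Category.assoc, ← Category.assoc (y₁ ≫ scale (k a)), hy',
        ← Category.assoc (GmPts.ptOfUnit e), ← cochT_eq_avc]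
      exact heq
  let D₂ : Red.Pinning G := ⟨withU D.toSplitRed v hv, D.base⟩
  obtain ⟨nr, hnr, -⟩ := exists_pinFam D₂ (e₁ := ptOf 1) (gaFn_ptOf _) (avcOf D.toSplitRed) (fun _ => rfl) hpair
    (fun a => (ptOf 1 ≫ v a) * (ptOf 1 ≫ v (D.P.reflectionPerm a a))⁻¹ * (ptOf 1 ≫ v a)) (fun _ => rfl)
  refine ⟨v, hv, nr, hsimp, fun a => ?_, hnr⟩
  simp only [v]
  split_ifs
  · exact ⟨_, rfl⟩
  · exact ⟨𝟙 _, (Category.id_comp _).symm⟩

/-- **An automorphism fixing the torus and a root group fixes the opposite root group.** -/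
theorem auto_fix_opposite (D : Red.SplitRed G) (a : D.idx) (ψ : G ≅ G) [IsMonHom ψ.hom]
    (hT : D.i ≫ ψ.hom = D.i) (hu : D.u a ≫ ψ.hom = D.u a) :
    D.u (D.P.reflectionPerm a a) ≫ ψ.hom = D.u (D.P.reflectionPerm a a) := by
  haveI := isMonHom_u D (D.P.reflectionPerm a a)
  haveI := mono_u D (D.P.reflectionPerm a a)
  haveI := isMonHom_u D a
  have hTi : D.i ≫ ψ.inv = D.i := by rw [Iso.comp_inv_eq, hT]
  obtain ⟨L, hL⟩ := exists_line D (D.P.reflectionPerm a a)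
  obtain ⟨LC⟩ := exists_lineCent D L
  obtain ⟨w, hw⟩ := LC.exists_scale hL (D.u (D.P.reflectionPerm a a) ≫ ψ.inv) fun X s x y e => by
    obtain ⟨y₁, hy₁, he⟩ := (D.rootHom (D.P.reflectionPerm a a)).2.2 X s x
    rw [show y = y₁ from gaFn_injective (e.trans he.symm), ← Category.assoc, hy₁, MonObj.mul_comp, MonObj.mul_comp,
      GrpObj.inv_comp, Category.assoc, Category.assoc, hTi]
  have hw' : D.u (D.P.reflectionPerm a a) ≫ ψ.hom = w ≫ D.u (D.P.reflectionPerm a a) := by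
    refine (congrArg (· ≫ ψ.hom) hw.symm).trans ?_
    simp only [Category.assoc, Iso.inv_hom_id, Category.comp_id]
  obtain ⟨c, hc⟩ := exists_rule (D := D) a
  have key : ∀ (X : Over S) (z : (Γ(X.left, ⊤))ˣ),
      (ptOf ((((cU c X)⁻¹ : (Γ(X.left, ⊤))ˣ) : Γ(X.left, ⊤)) * ((z : Γ(X.left, ⊤)) - 1)) : X ⟶ Red.Ga S) ≫ D.u (D.P.reflectionPerm a a) ≫ ψ.hom =
        ptOf ((((cU c X)⁻¹ : (Γ(X.left, ⊤))ˣ) : Γ(X.left, ⊤)) * ((z : Γ(X.left, ⊤)) - 1)) ≫ D.u (D.P.reflectionPerm a a) := by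
    intro X z
    set y : X ⟶ Red.Ga S := ptOf ((((cU c X)⁻¹ : (Γ(X.left, ⊤))ˣ) : Γ(X.left, ⊤)) * ((z : Γ(X.left, ⊤)) - 1))
    have hcu := cU_val c X
    obtain ⟨x', y', hx', -, heq⟩ := (hc X (ptOf 1) y).2 z (by
      rw [← hcu, gaFn_ptOf, gaFn_ptOf]
      linear_combination (-((z : Γ(X.left, ⊤)) - 1)) * (cU c X).mul_inv)
    have h1 := congrArg (· ≫ ψ.hom) heq
    simp only [MonObj.mul_comp, Category.assoc, hu, hw', hT] at h1
    simp only [← Category.assoc] at h1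
    obtain ⟨e', he'⟩ := (hc X (ptOf 1) (y ≫ w)).1 ⟨y' ≫ w, _, x', h1⟩
    obtain ⟨x₂, y₂, hx₂, -, heq₂⟩ := (hc X (ptOf 1) (y ≫ w)).2 e' he'
    have h3 : x' = x₂ := cell_x_eq (D := D) a (h1.symm.trans heq₂)
    subst h3
    rw [gaFn_ptOf] at hx' hx₂
    have h4 : (e' : Γ(X.left, ⊤)) = z := by
      calc (e' : Γ(X.left, ⊤)) = (Red.gaFn x' * (z : Γ(X.left, ⊤))) * e' := by rw [hx', _root_.one_mul]
        _ = (Red.gaFn x' * (e' : Γ(X.left, ⊤))) * z := by ring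
        _ = z := by rw [hx₂, _root_.one_mul]
    rw [he', ← hcu, gaFn_ptOf] at h4
    have h5 : Red.gaFn (y ≫ w) = Red.gaFn y := by
      rw [gaFn_ptOf]
      linear_combination (((cU c X)⁻¹ : (Γ(X.left, ⊤))ˣ) : Γ(X.left, ⊤)) * h4 - Red.gaFn (y ≫ w) * (cU c X).inv_mul
    rw [hw', ← Category.assoc, show y ≫ w = y from gaFn_injective h5]
  obtain ⟨X', π, z, z', hπ, hy⟩ := exists_unitCover (Red.Ga S)
    (((cU c (Red.Ga S) : (Γ((Red.Ga S).left, ⊤))ˣ) : Γ((Red.Ga S).left, ⊤)) * Red.gaFn (𝟙 (Red.Ga S)))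
  haveI := hπ
  let y₁ : X' ⟶ Red.Ga S := ptOf ((((cU c X')⁻¹ : (Γ(X'.left, ⊤))ˣ) : Γ(X'.left, ⊤)) * ((z : Γ(X'.left, ⊤)) - 1))
  let y₂ : X' ⟶ Red.Ga S := ptOf ((((cU c X')⁻¹ : (Γ(X'.left, ⊤))ˣ) : Γ(X'.left, ⊤)) * ((z' : Γ(X'.left, ⊤)) - 1))
  have hπ' : π = (y₁ * y₂)⁻¹ := by
    rw [show y₁ * y₂ = ptOf _ from (ptOf_add _ _).symm, ← ptOf_neg]
    refine eq_ptOf π ?_
    rw [map_mul, map_cU, ← gaFn_comp, Category.comp_id] at hy
    linear_combination (((cU c X')⁻¹ : (Γ(X'.left, ⊤))ˣ) : Γ(X'.left, ⊤)) * hy - Red.gaFn π * (cU c X').inv_mul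
  rw [← cancel_epi π, hπ', GrpObj.inv_comp, GrpObj.inv_comp, MonObj.mul_comp, MonObj.mul_comp, key X' z, key X' z']

variable {D : Red.SplitRed G} {D' : Red.SplitRed G'} {b : D.P.Base} {b' : D'.P.Base}

/-- The data of an isomorphism of based root data. -/
structure BIso (D : Red.SplitRed G) (D' : Red.SplitRed G') (b : D.P.Base) (b' : D'.P.Base) where
  hM : D'.M ≃ₗ[ℤ] D.M
  d : D.idx ≃ D'.idx
  hroot : ∀ a, hM (D'.P.root (d a)) = D.P.root a
  hcoroot : ∀ a, hM.toLinearMap.dualMap (D.P.coroot a) = D'.P.coroot (d a)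
  hΔ : ∀ a, a ∈ b.support ↔ d a ∈ b'.support

/-- The inverse isomorphism. -/
def BIso.symm (h : BIso D D' b b') : BIso D' D b' b where
  hM := h.hM.symm
  d := h.d.symm
  hroot a := by
    rw [LinearEquiv.symm_apply_eq, ← h.hroot, Equiv.apply_symm_apply]
  hcoroot a := by
    refine LinearMap.ext fun x => ?_
    have := congrArg (fun f : Module.Dual ℤ D'.M => f (h.hM.symm x)) (h.hcoroot (h.d.symm a))
    simp only [LinearMap.dualMap_apply, Equiv.apply_symm_apply, LinearEquiv.coe_coe, LinearEquiv.apply_symm_apply] at this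
    simpa [LinearMap.dualMap_apply] using this.symm
  hΔ a := by rw [h.hΔ, Equiv.apply_symm_apply]

/-- The morphism with all exponents one. -/
def BIso.pmor (h : BIso D D' b b') {nr : D.idx → (𝟙_ (Over S) ⟶ G)} {nr' : D'.idx → (𝟙_ (Over S) ⟶ G')}
    {v : D.idx → (Red.Ga S ⟶ G)} {hv : ∀ c, Red.IsRootHom D.i (D.split.hom.hom.hom ≫ Red.chi S (D.P.root c)) (v c)}
    {v' : D'.idx → (Red.Ga S ⟶ G')}
    {hv' : ∀ c, Red.IsRootHom D'.i (D'.split.hom.hom.hom ≫ Red.chi S (D'.P.root c)) (v' c)}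
    (hf : PinFam (withU D v hv) b (avcOf D) nr) (hf' : PinFam (withU D' v' hv') b' (avcOf D') nr') :
    PMor (withU D v hv) (withU D' v' hv') b b' (avcOf D) (avcOf D') nr nr' where
  hf := hf
  hf' := hf'
  hav _ := rfl
  hav' _ := rfl
  hM := h.hM.toLinearMap
  d := h.d
  p := 1
  q _ := 1
  p_pos := Nat.one_pos
  p_add X a b := by rw [pow_one, pow_one, pow_one]
  q_pow _ := ⟨0, rfl⟩
  hroot a := by rw [Nat.cast_one, one_smul]; exact h.hroot a
  hcoroot a := by rw [Nat.cast_one, one_smul]; exact h.hcoroot a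
  hΔ := h.hΔ

theorem torus_comp_symm (h : BIso D D' b b') :
    (D.split.hom.hom.hom ≫ Red.DSmap S h.hM.toLinearMap.toAddMonoidHom ≫ D'.split.inv.hom.hom) ≫
      (D'.split.hom.hom.hom ≫ Red.DSmap S h.hM.symm.toLinearMap.toAddMonoidHom ≫ D.split.inv.hom.hom) = 𝟙 _ := by
  have e1 : D'.split.inv.hom.hom ≫ D'.split.hom.hom.hom = 𝟙 _ := congrArg (fun q => q.hom.hom) D'.split.inv_hom_id
  have e2 : D.split.inv.hom.hom ≫ D.split.hom.hom.hom = 𝟙 _ := congrArg (fun q => q.hom.hom) D.split.inv_hom_id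
  refine torus_ext (MonoidHom.ext fun x => ?_)
  obtain ⟨x, rfl⟩ := Multiplicative.ofAdd.surjective x
  simp only [Category.assoc, e2, reassoc_of% e1, Category.comp_id, Category.id_comp]
  rw [← Category.assoc D.split.hom.hom.hom, Groth.Agent.DSImg.chars_comp_DSmap, Groth.Agent.DSImg.chars_comp_DSmap]
  simp only [MonoidHom.comp_apply]
  show MultSubLib.chars _ (Multiplicative.ofAdd (h.hM (h.hM.symm x))) = _
  rw [LinearEquiv.apply_symm_apply]

/-- **The isomorphism of pinned groups.** -/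
theorem existsUnique_iso (D : Red.Pinning G) (D' : Red.Pinning G') (h : BIso D.toSplitRed D'.toSplitRed D.base D'.base) :
    ∃! f : G ≅ G', IsMonHom f.hom ∧
      D.i ≫ f.hom = D.split.hom.hom.hom ≫ Red.DSmap S h.hM.toLinearMap.toAddMonoidHom ≫ D'.split.inv.hom.hom ≫ D'.i ∧
      ∀ a ∈ D.base.support, D.u a ≫ f.hom = D'.u (h.d a) := by
  classical
  obtain ⟨v, hv, nr, hs, -, hf⟩ := exists_pinned D
  obtain ⟨v', hv', nr', hs', -, hf'⟩ := exists_pinned D'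
  obtain ⟨F, hF, hFT, hFU⟩ := (h.pmor hf hf').exists_hom
  obtain ⟨F', hF', hFT', hFU'⟩ := (h.symm.pmor hf' hf).exists_hom
  haveI := hF
  haveI := hF'
  change D.i ≫ F = (D.split.hom.hom.hom ≫ Red.DSmap S h.hM.toLinearMap.toAddMonoidHom ≫ D'.split.inv.hom.hom) ≫ D'.i at hFT
  change D'.i ≫ F' = (D'.split.hom.hom.hom ≫ Red.DSmap S h.hM.symm.toLinearMap.toAddMonoidHom ≫ D.split.inv.hom.hom) ≫ D.i at hFT'
  have hpt : ∀ {K : Over S} (g : Red.Ga S ⟶ K), (ptOf (Red.gaFn (𝟙 (Red.Ga S))) : Red.Ga S ⟶ Red.Ga S) ≫ g = g :=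
    fun g => by rw [← eq_ptOf (𝟙 (Red.Ga S)) rfl, Category.id_comp]
  have hU : ∀ a ∈ D.base.support, v a ≫ F = v' (h.d a) ∧
      v (D.P.reflectionPerm a a) ≫ F = v' (D'.P.reflectionPerm (h.d a) (h.d a)) := fun a ha => by
    obtain ⟨h1, h2⟩ := hFU a ha (Red.Ga S) (Red.gaFn (𝟙 (Red.Ga S)))
    simp only [ep, BIso.pmor, pow_one, hpt, Category.assoc] at h1 h2
    exact ⟨h1, h2⟩
  have hU' : ∀ a ∈ D'.base.support, v' a ≫ F' = v (h.d.symm a) ∧
      v' (D'.P.reflectionPerm a a) ≫ F' = v (D.P.reflectionPerm (h.d.symm a) (h.d.symm a)) := fun a ha => by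
    obtain ⟨h1, h2⟩ := hFU' a ha (Red.Ga S) (Red.gaFn (𝟙 (Red.Ga S)))
    simp only [ep, BIso.pmor, BIso.symm, pow_one, hpt, Category.assoc] at h1 h2
    exact ⟨h1, h2⟩
  have hT1 : D.i ≫ F ≫ F' = D.i := by
    rw [reassoc_of% hFT, hFT', ← Category.assoc]
    exact (congrArg (· ≫ D.i) (torus_comp_symm h)).trans (Category.id_comp _)
  have hT2 : D'.i ≫ F' ≫ F = D'.i := by
    rw [reassoc_of% hFT', hFT, ← Category.assoc]
    exact (congrArg (· ≫ D'.i) (torus_comp_symm h.symm)).trans (Category.id_comp _)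
  have h12 : F ≫ F' = 𝟙 G := RootSubgrp.hom_eq_of_simple (withU D.toSplitRed v hv) D.base _ _
    (hT1.trans (Category.comp_id _).symm) fun a ha => by
      have ha' := (h.hΔ a).1 ha
      constructor
      · show v a ≫ F ≫ F' = v a ≫ 𝟙 G
        rw [reassoc_of% (hU a ha).1, (hU' _ ha').1, Equiv.symm_apply_apply, Category.comp_id]
      · show v (D.P.reflectionPerm a a) ≫ F ≫ F' = v (D.P.reflectionPerm a a) ≫ 𝟙 G
        rw [reassoc_of% (hU a ha).2, (hU' _ ha').2, Equiv.symm_apply_apply, Category.comp_id]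
  have h21 : F' ≫ F = 𝟙 G' := RootSubgrp.hom_eq_of_simple (withU D'.toSplitRed v' hv') D'.base _ _
    (hT2.trans (Category.comp_id _).symm) fun a ha => by
      have ha' : h.d.symm a ∈ D.base.support := (h.symm.hΔ a).1 ha
      constructor
      · show v' a ≫ F' ≫ F = v' a ≫ 𝟙 G'
        rw [reassoc_of% (hU' a ha).1, (hU _ ha').1, Equiv.apply_symm_apply, Category.comp_id]
      · show v' (D'.P.reflectionPerm a a) ≫ F' ≫ F = v' (D'.P.reflectionPerm a a) ≫ 𝟙 G'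
        rw [reassoc_of% (hU' a ha).2, (hU _ ha').2, Equiv.apply_symm_apply, Category.comp_id]
  have hsimp : ∀ a ∈ D.base.support, D.u a ≫ F = D'.u (h.d a) := fun a ha => by
    rw [← hs a ha, (hU a ha).1, hs' _ ((h.hΔ a).1 ha)]
  refine ⟨⟨F, F', h12, h21⟩, ⟨hF, hFT.trans (by simp only [Category.assoc]), hsimp⟩, fun g ⟨hg, hgT, hgU⟩ => ?_⟩
  haveI := hg
  let ψ : G ≅ G := g ≪≫ ⟨F', F, h21, h12⟩
  haveI : IsMonHom ψ.hom := inferInstanceAs (IsMonHom (g.hom ≫ F'))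
  have hψT : D.i ≫ ψ.hom = D.i := by
    have hgF : D.i ≫ g.hom = D.i ≫ F := by rw [hgT, hFT]; simp only [Category.assoc]
    show D.i ≫ g.hom ≫ F' = D.i
    rw [reassoc_of% hgF, hT1]
  have hψu : ∀ a ∈ D.base.support, D.u a ≫ ψ.hom = D.u a := fun a ha => by
    show D.u a ≫ g.hom ≫ F' = D.u a
    rw [reassoc_of% (hgU a ha), ← reassoc_of% (hsimp a ha), h12, Category.comp_id]
  have hψ : ψ.hom = 𝟙 G := RootSubgrp.hom_eq_of_simple D.toSplitRed D.base _ _
    (hψT.trans (Category.comp_id _).symm) fun a ha =>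
      ⟨(hψu a ha).trans (Category.comp_id _).symm,
        (auto_fix_opposite D.toSplitRed a ψ hψT (hψu a ha)).trans (Category.comp_id _).symm⟩
  refine Iso.ext ?_
  calc g.hom = g.hom ≫ F' ≫ F := by rw [h21, Category.comp_id]
    _ = ψ.hom ≫ F := (Category.assoc _ _ _).symm
    _ = F := by rw [hψ, Category.id_comp]

end Bruhat

end
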