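import Groth.Agent.BruhatLib.DerSplit
import Groth.Agent.FibDimLib.Apps

/-!
# The splitting of the derived group of a split group
-/

set_option autoImplicit false
set_option linter.style.haveILetI false
set_option linter.unusedSectionVars false
set_option backward.isDefEq.respectTransparency false
set_option maxHeartbeats 1000000
set_option synthInstance.maxHeartbeats 400000

universe u

open CategoryTheory CategoryTheory.Limits MonoidalCategory CartesianMonoidalCategory AlgebraicGeometry
open Groth.Agent.GaPts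
open Groth.Agent
open scoped MonObj

noncomputable section

attribute [-instance] CategoryTheory.Hom.commGroup

namespace Bruhat

open SplitCell SplitFib RootSubgrp

variable {S : Scheme.{u}} {G : Over S} [GrpObj G] (D : Red.SplitRed G) [Nonempty S] (N : AddSubgroup D.M)
  (hN : ∀ x : D.M, x ∈ N ↔ ∀ a, coF D a x = 0)
  (f : G ⟶ Red.DS S ↥N) [IsMonHom f] (hif : D.i ≫ f = D.split.hom.hom.hom ≫ Red.DSmap S N.subtype)
  {D' : Over S} [GrpObj D'] (d : D' ⟶ G) [IsMonHom d] (hk : AlgGrp.IsKernel d f)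

include hN hk in
/-- **The restricted cell is open in the kernel.** -/
theorem exists_kerCell (b : D.P.Base) {n m : ℕ} {eneg : Fin n → D.idx} {epos : Fin m → D.idx}
    (hneg : RedSub.Enumerates (RedSub.negRoots D.P b) eneg) (hpos : RedSub.Enumerates (RedSub.posRoots D.P b) epos)
    (hcf : RedSub.cellMap D eneg epos ≫ f = fQuot D N n m) :
    ∃ c : RedSub.pow (Red.Ga S) n ⊗ (Red.DS S (D.M ⧸ N) ⊗ RedSub.pow (Red.Ga S) m) ⟶ D',
      IsOpenImmersion c.left ∧ (∃ o : 𝟙_ (Over S) ⟶ _, o ≫ c = 1) ∧ c ≫ d = cell' D N eneg epos := by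
  classical
  have hc := isGerm_cell D (sidesOfBase D.P b) hneg hpos
  haveI := hc.open_imm
  haveI := mono_ker D N f d hk
  haveI := mono_iotN D N
  let Ω' := RedSub.pow (Red.Ga S) n ⊗ (Red.DS S (D.M ⧸ N) ⊗ RedSub.pow (Red.Ga S) m)
  have hc0 : cell' D N eneg epos ≫ f = 1 := by
    rw [← Category.id_comp (cell' D N eneg epos), ← cellIncl_comp, Category.assoc, hcf, cellIncl_fQuot]
  let c : Ω' ⟶ D' := hk.lift (cell' D N eneg epos) (toUnit _) hc0
  have hcd : c ≫ d = cell' D N eneg epos := hk.lift_fst _ _ _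
  let U : D'.left.Opens := d.left ⁻¹ᵁ (RedSub.cellMap D eneg epos).left.opensRange
  let Ω : Over S := Over.mk (U.ι ≫ D'.hom)
  let u : Ω ⟶ D' := Over.homMk U.ι rfl
  haveI : Mono u := (Over.forget S).mono_of_mono_map (inferInstanceAs (Mono U.ι))
  have hin : ∀ {X : Over S} (x : X ⟶ D'), InGerm (RedSub.cellMap D eneg epos) (x ≫ d) → ∃ z : X ⟶ Ω, z ≫ u = x := by
    intro X x hx
    have h := (inGerm_iff hc _).1 hx
    have hr : Set.range x.left ⊆ Set.range U.ι := by
      rw [Scheme.Opens.range_ι]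
      rintro _ ⟨p, rfl⟩
      exact h ⟨p, rfl⟩
    exact ⟨Over.homMk (IsOpenImmersion.lift U.ι x.left hr) (by
      show _ ≫ U.ι ≫ D'.hom = _
      rw [IsOpenImmersion.lift_fac_assoc, Over.w]), Over.OverMorphism.ext (IsOpenImmersion.lift_fac _ _ _)⟩
  obtain ⟨e, he⟩ := hin c ⟨cellIncl D N (𝟙 Ω'), by rw [cellIncl_comp, Category.id_comp, hcd]⟩
  obtain ⟨z, hz⟩ := (inGerm_iff hc (u ≫ d)).2 (by
    rintro _ ⟨p, rfl⟩
    exact p.2)
  obtain ⟨g, hg⟩ := exists_cell'_of_fQuot D N eneg epos z (by
    rw [← hcf, ← Category.assoc, hz, Category.assoc, hk.w, MonObj.one_eq_one, MonObj.comp_one, MonObj.comp_one])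
  haveI hmc : Mono (cell' D N eneg epos) := by
    haveI := mono_cellMap D (sidesOfBase D.P b) hneg hpos
    have hmi : Mono (cellIncl D N (𝟙 Ω')) := ⟨fun {Z} a a' h => by
      have h1 := congrArg (fun q => q ≫ fst _ _) h
      have h2 := congrArg (fun q => q ≫ snd _ _ ≫ fst _ _) h
      have h3 := congrArg (fun q => q ≫ snd _ _ ≫ snd _ _) h
      simp only [cellIncl, Category.id_comp, Category.assoc, lift_fst, lift_snd, lift_fst_assoc, lift_snd_assoc] at h1 h2 h3
      refine CartesianMonoidalCategory.hom_ext _ _ h1 (CartesianMonoidalCategory.hom_ext _ _ ?_ ?_)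
      · rw [← cancel_mono (iotN D N)]
        simpa only [iotN, Category.assoc] using h2
      · simpa only [Category.assoc] using h3⟩
    rw [← Category.id_comp (cell' D N eneg epos), ← cellIncl_comp]
    exact mono_comp _ _
  have hgc : g ≫ c = u := by
    rw [← cancel_mono d, Category.assoc, hcd, ← hg, hz]
  haveI : IsIso e := ⟨g, by rw [← cancel_mono (cell' D N eneg epos), Category.assoc, Category.id_comp, ← hcd,
      ← Category.assoc g, hgc, ← Category.assoc e, he],
    by rw [← cancel_mono u, Category.assoc, he, hgc, Category.id_comp]⟩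
  haveI : IsIso e.left := ((Over.forget S).mapIso (asIso e)).isIso_hom
  refine ⟨c, ?_, ?_, hcd⟩
  · rw [← he, Over.comp_left]
    show IsOpenImmersion (e.left ≫ U.ι)
    infer_instance
  · obtain ⟨o, ho⟩ := hin (1 : 𝟙_ (Over S) ⟶ D') (by rw [MonObj.one_comp]; exact inGerm_one hc)
    exact ⟨o ≫ g, by rw [Category.assoc, hgc, ho]⟩

include hN hk in
/-- **The dimension of the fibres of the kernel.** -/
theorem dim_ker (hsm : Smooth D'.hom) (hconn : RedSub.HasConnectedFibres D') (b : D.P.Base) {n m : ℕ}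
    {eneg : Fin n → D.idx} {epos : Fin m → D.idx}
    (hneg : RedSub.Enumerates (RedSub.negRoots D.P b) eneg) (hpos : RedSub.Enumerates (RedSub.posRoots D.P b) epos)
    (hcf : RedSub.cellMap D eneg epos ≫ f = fQuot D N n m) (s : S) :
    topologicalKrullDim ↥(Red.geomFibre s D').left =
      ((Module.finrank ℤ (D.M ⧸ N) + Fintype.card D.idx : ℕ) : WithBot ℕ∞) := by
  obtain ⟨c, hco, ⟨o, ho⟩, -⟩ := exists_kerCell D N hN f d hk b hneg hpos hcf
  haveI := hco
  haveI := hsm
  haveI := free_quot D N hN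
  haveI := finite_quot D N
  haveI := smoothRel_pow (S := S) n
  haveI := smoothRel_pow (S := S) m
  haveI := smoothRel_DS S (D.M ⧸ N)
  haveI := smoothRel_tensor (X := Red.DS S (D.M ⧸ N)) (Y := RedSub.pow (Red.Ga S) m) (Module.finrank ℤ (D.M ⧸ N)) m
  haveI := smoothRel_tensor (X := RedSub.pow (Red.Ga S) n) (Y := Red.DS S (D.M ⧸ N) ⊗ RedSub.pow (Red.Ga S) m) n
    (m + Module.finrank ℤ (D.M ⧸ N))
  haveI : SmoothOfRelativeDimension (m + Module.finrank ℤ (D.M ⧸ N) + n) (c.left ≫ D'.hom) := by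
    rw [Over.w c]; infer_instance
  let p := o.left s
  have hp : D'.hom (c.left p) = s := by
    rw [← Scheme.Hom.comp_apply, Over.w c]
    show _ = s
    rw [← Scheme.Hom.comp_apply, Over.w o]
    rfl
  have h1 := FibDimLib.fibreDimAt_smoothOfRelativeDimension (m + Module.finrank ℤ (D.M ⧸ N) + n) (c.left ≫ D'.hom) p
  rw [FibDimLib.fibreDimAt_comp_isOpenImmersion] at h1
  obtain ⟨z, hz⟩ : ∃ z, Red.geomPt s z = s := by
    obtain ⟨z⟩ : Nonempty (Spec (CommRingCat.of (AlgebraicClosure (S.residueField s))) : Scheme.{u}) := inferInstance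
    exact ⟨z, (Scheme.Hom.comp_apply _ _ _).trans (Scheme.fromSpecResidueField_apply _ _)⟩
  obtain ⟨x', hx', -⟩ := Scheme.Pullback.exists_preimage_pullback (f := D'.hom) (g := Red.geomPt s) (c.left p) z
    (hp.trans hz.symm)
  have hK : BigCell.Conn D' := ⟨hsm, fun s => Groth.Agent.CartanMult.connectedSpace_geomFibre D' s (hconn s)⟩
  haveI : IrreducibleSpace ↥(pullback D'.hom (Red.geomPt s)) := hK.irreducible (Red.geomPt s)
  haveI : LocallyOfFiniteType (pullback.snd D'.hom (Red.geomPt s)) := inferInstance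
  have h := FibDimLib.fibreDimAt_baseChange (IsPullback.of_hasPullback D'.hom (Red.geomPt s)) x'
  rw [fibreDimAt_field, hx', h1] at h
  refine h.trans ?_
  rw [← card_idx D (sidesOfBase D.P b) hneg hpos]
  norm_cast
  omega

include hN hif hk in
/-- **The splitting of the kernel.** -/
theorem exists_derSplit (b : D.P.Base) {n m : ℕ} {eneg : Fin n → D.idx} {epos : Fin m → D.idx}
    (hneg : RedSub.Enumerates (RedSub.negRoots D.P b) eneg) (hpos : RedSub.Enumerates (RedSub.posRoots D.P b) epos)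
    (hcf : RedSub.cellMap D eneg epos ≫ f = fQuot D N n m) :
    ∃ (Dd : Red.SplitRed D') (τ : Dd.T ⟶ D.T) (eidx : Dd.idx ≃ D.idx) (em : Dd.M ≃+ D.M ⧸ N),
      τ ≫ D.i = Dd.i ≫ d ∧
      τ ≫ D.split.hom.hom.hom =
        Dd.split.hom.hom.hom ≫ Red.DSmap S (em.symm.toAddMonoidHom.comp (QuotientAddGroup.mk' N)) ∧
      (∀ a' : Dd.idx, em (Dd.P.root a') = QuotientAddGroup.mk' N (D.P.root (eidx a'))) ∧
      (∀ a' : Dd.idx, Dd.u a' ≫ d = D.u (eidx a')) := by
  classical
  haveI := free_quot D N hN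
  haveI := finite_quot D N
  haveI := isMonHom_i D
  haveI := mono_ker D N f d hk
  obtain ⟨hsm, hconn, -⟩ := kernel_props D b N hN hneg hpos f hcf hif D' d hk
  let iT : Red.DS S (D.M ⧸ N) ⟶ D' := hk.lift (iotN D N ≫ D.i) (toUnit _) (iotN_f D N f hif)
  have hiT : iT ≫ d = iotN D N ≫ D.i := hk.lift_fst _ _ _
  have hroots : ∀ k, D.u k ≫ f = 1 := quot_roots D b f hneg hpos (by rw [hcf, fQuot, hif])
  let u' : D.idx → (Red.Ga S ⟶ D') := fun a => hk.lift (D.u a) (toUnit _) (hroots a)
  have hu : ∀ a, u' a ≫ d = D.u a := fun a => hk.lift_fst _ _ _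
  have hrh : ∀ a, Red.IsRootHom iT (𝟙 (Red.DS S (D.M ⧸ N)) ≫ Red.chi S ((qPair D N hN).root a)) (u' a) := by
    intro a
    haveI : IsMonHom (D.u a) := isMonHom_u D a
    refine ⟨BigCell.isMonHom_of_mul' _ fun X x y => ?_, ?_, fun X t x => ?_⟩
    · rw [← cancel_mono d, Category.assoc, hu, MonObj.mul_comp, MonObj.mul_comp, Category.assoc, Category.assoc, hu]
    · haveI := (D.rootHom a).2.1
      haveI := isClosedImmersion_ker D N f d hk
      haveI : IsClosedImmersion ((u' a).left ≫ d.left) := by rw [← Over.comp_left, hu]; infer_instance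
      exact IsClosedImmersion.of_comp (u' a).left d.left
    · obtain ⟨y, hy, he⟩ := (D.rootHom a).2.2 X (t ≫ iotN D N) x
      refine ⟨y, ?_, ?_⟩
      · rw [← cancel_mono d]
        simp only [MonObj.mul_comp, GrpObj.inv_comp, Category.assoc, hu, hiT]
        rw [hy, Category.assoc]
      · rw [he]
        congr 2
        rw [Category.id_comp, Category.assoc, ← Category.assoc (iotN D N), iotN_split]
        congr 1
        rw [Red.chi, Red.chi, DSImg.DSmap_comp]
        congr 1
  have hrefl : ∀ a, ∃ ν : 𝟙_ (Over S) ⟶ D', ∀ (X : Over S) (t : X ⟶ Red.DS S (D.M ⧸ N)),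
      (toUnit X ≫ ν) * (t ≫ iT) * (toUnit X ≫ ν)⁻¹ =
        t ≫ 𝟙 _ ≫ Red.DSmap S ((qPair D N hN).reflection a).toLinearMap.toAddMonoidHom ≫ 𝟙 _ ≫ iT := by
    intro a
    obtain ⟨_, ⟨x, y, hr⟩, -⟩ := exists_rule' (D := D) a
    let ν := hk.lift ((x ≫ D.u a) * (y ≫ D.u (D.P.reflectionPerm a a)) * (x ≫ D.u a)) (toUnit _) (by
      simp only [MonObj.mul_comp, Category.assoc, hroots, MonObj.comp_one, _root_.mul_one]
      exact (MonObj.comp_one _).symm)
    refine ⟨ν, fun X t => ?_⟩
    rw [← cancel_mono d]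
    simp only [MonObj.mul_comp, GrpObj.inv_comp, Category.assoc, hiT, show ν ≫ d = _ from hk.lift_fst _ _ _,
      Category.id_comp]
    rw [← Category.assoc t (iotN D N) D.i, hr X (t ≫ iotN D N), Category.assoc]
    have key : iotN D N ≫ D.split.hom.hom.hom ≫ Red.DSmap S (D.P.reflection a).toLinearMap.toAddMonoidHom ≫
        D.split.inv.hom.hom =
        Red.DSmap S ((qPair D N hN).reflection a).toLinearMap.toAddMonoidHom ≫ iotN D N := by
      rw [← Category.assoc (iotN D N), iotN_split, ← Category.assoc, DSImg.DSmap_comp, iotN, ← Category.assoc,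
        DSImg.DSmap_comp]
      congr 2
      exact AddMonoidHom.ext fun x => (congrFun (qPair_reflection D N hN a) x).symm
    have key' := congrArg (fun q => t ≫ q ≫ D.i) key
    simp only [Category.assoc] at key'
    exact key'
  refine ⟨{ T := Red.DS S (D.M ⧸ N)
            i := iT
            M := D.M ⧸ N
            idx := D.idx
            P := qPair D N hN
            pairing_eq := rfl
            u := u'
            reductive := isReductive_ker D N hN f hif d hk hsm hconn
            maximalTorus := isMaximalTorus_ker D N hN f hif d hk iT hiT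
            split := Iso.refl _
            rootHom := hrh
            refl := hrefl
            dim_fibre := dim_ker D N hN f d hk hsm hconn b hneg hpos hcf },
    iotN D N, Equiv.refl _, AddEquiv.refl _, hiT.symm, ?_, fun a => rfl, hu⟩
  show iotN D N ≫ D.split.hom.hom.hom = 𝟙 _ ≫ Red.DSmap S _
  rw [iotN_split, Category.id_comp]
  rfl

end Bruhat

end
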