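import Groth.Agent.BruhatLib.Moves
import Mathlib.RingTheory.AdjoinRoot

/-!
# The dual of a root homomorphism in a Chevalley system is a root homomorphism
-/

set_option autoImplicit false
set_option linter.style.haveILetI false
set_option linter.unusedSectionVars false
set_option backward.isDefEq.respectTransparency false
set_option maxHeartbeats 1000000
set_option synthInstance.maxHeartbeats 400000

universe u

open CategoryTheory CategoryTheory.Limits MonoidalCategory CartesianMonoidalCategory AlgebraicGeometry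
open Groth.Agent.GaPts
open Groth.Agent
open Groth.Agent.RankOne (eq_ptOf eq_ptOfUnit comp_ptOf ptOf_add)
open scoped MonObj

noncomputable section

attribute [-instance] CategoryTheory.Hom.commGroup

namespace Bruhat

open SplitCell SplitFib RootSubgrp

section Abstract

variable {R : Type*} [CommRing R] {H : Type*} [Group H] {P M : R → H} {h : Rˣ →* H}

/-- The Weyl element of a dual pair conjugates one to the other where `1 + t` is a unit, with no hypothesis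
on the torus action on the dual. -/
theorem weyl_conj_of_unit (P_add : ∀ x y, P (x + y) = P x * P y) (M_add : ∀ x y, M (x + y) = M x * M y)
    (hP : ∀ (z : Rˣ) x, h z * P x = P ((z : R) ^ 2 * x) * h z)
    (F : ∀ (x y : R) (z : Rˣ), (z : R) = 1 + x * y → P x * M y = M (y * (z⁻¹ : Rˣ)) * h z * P (x * (z⁻¹ : Rˣ)))
    (t : R) (z : Rˣ) (hz : (z : R) = 1 + t) :
    P 1 * (M 1)⁻¹ * P 1 * P t * (P 1 * (M 1)⁻¹ * P 1)⁻¹ = M (-t) := by
  set Z : R := (z : R) with hZ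
  set Zi : R := ((z⁻¹ : Rˣ) : R) with hZi
  have e1 : Z * Zi = 1 := by simp [hZ, hZi]
  have P0 : P 0 = 1 := by
    have := P_add 0 0
    rw [add_zero] at this
    exact left_eq_mul.mp this
  have M0 : M 0 = 1 := by
    have := M_add 0 0
    rw [add_zero] at this
    exact left_eq_mul.mp this
  have Mn : ∀ x, (M x)⁻¹ = M (-x) := fun x => inv_eq_of_mul_eq_one_right (by rw [← M_add, add_neg_cancel, M0])
  have Pn : ∀ x, (P x)⁻¹ = P (-x) := fun x => inv_eq_of_mul_eq_one_right (by rw [← P_add, add_neg_cancel, P0])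
  have hw : P 1 * (M 1)⁻¹ * P 1 * P t * (P 1 * (M 1)⁻¹ * P 1)⁻¹ = P 1 * (M (-1) * (P t * M 1)) * P (-1) := by
    calc P 1 * (M 1)⁻¹ * P 1 * P t * (P 1 * (M 1)⁻¹ * P 1)⁻¹
        = P 1 * ((M 1)⁻¹ * ((P 1 * P t * (P 1)⁻¹) * M 1)) * (P 1)⁻¹ := by group
      _ = _ := by rw [← P_add, add_comm (1 : R), P_add, mul_inv_cancel_right, Mn, Pn]
  rw [hw, F t 1 z (by rw [← hZ, hz, mul_one]), one_mul, ← hZi, ← mul_assoc (M (-1)), ← mul_assoc (M (-1)),
    ← M_add, show -1 + Zi = -(t * Zi) by linear_combination e1 - Zi * hz,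
    ← mul_assoc (P 1), ← mul_assoc (P 1), F 1 (-(t * Zi)) z⁻¹ (by rw [← hZi]; linear_combination e1 - Zi * hz),
    inv_inv, ← hZ, show -(t * Zi) * Z = -t by linear_combination -t * e1, one_mul]
  have e5 : P Z * h z = h z * P Zi := by
    rw [hP, ← hZ]; congr 2; linear_combination -Z * e1
  rw [mul_assoc (M (-t) * h z⁻¹), e5, ← mul_assoc, mul_assoc (M (-t)), ← map_mul, inv_mul_cancel, map_one, mul_one,
    mul_assoc (M (-t)), ← P_add, mul_assoc, ← P_add, show Zi + t * Zi + -1 = 0 by linear_combination e1 - Zi * hz,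
    P0, mul_one]

end Abstract

variable {S : Scheme.{u}}

/-- A faithfully flat algebra over the global functions gives a cover. -/
theorem exists_algCover (X : Over S) (B : Type u) [CommRing B] [Algebra Γ(X.left, ⊤) B]
    [Module.FaithfullyFlat Γ(X.left, ⊤) B] :
    ∃ (X' : Over S) (π : X' ⟶ X) (φ : B →+* Γ(X'.left, ⊤)), Epi π ∧
      ∀ r, φ (algebraMap Γ(X.left, ⊤) B r) = π.left.appTop r := by
  let f : CommRingCat.of Γ(X.left, ⊤) ⟶ CommRingCat.of B := CommRingCat.ofHom (algebraMap Γ(X.left, ⊤) B)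
  let q : Spec (CommRingCat.of B) ⟶ Spec (CommRingCat.of Γ(X.left, ⊤)) := Spec.map f
  haveI : Flat q := (HasRingHomProperty.Spec_iff (P := @Flat)).mpr
    (RingHom.flat_algebraMap_iff.mpr inferInstance)
  haveI : Surjective q := ⟨fun y => PrimeSpectrum.comap_surjective_of_faithfullyFlat (A := Γ(X.left, ⊤)) (B := B) y⟩
  let b : X.left ⟶ Spec (CommRingCat.of Γ(X.left, ⊤)) := X.left.toSpecΓ
  let X' : Over S := Over.mk (pullback.fst b q ≫ X.hom)
  let π : X' ⟶ X := Over.homMk (pullback.fst b q) rfl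
  haveI : Epi π.left := Flat.epi_of_flat_of_surjective (pullback.fst b q)
  refine ⟨X', π, ((Scheme.ΓSpecIso (CommRingCat.of B)).inv ≫ (pullback.snd b q).appTop).hom,
    (Over.forget S).epi_of_epi_map (show Epi π.left from inferInstance), fun r => ?_⟩
  have e := congrArg (fun g : pullback b q ⟶ Spec (CommRingCat.of Γ(X.left, ⊤)) =>
    (Scheme.ΓSpecIso (CommRingCat.of Γ(X.left, ⊤))).inv ≫ g.appTop) pullback.condition
  have hb : (Scheme.ΓSpecIso (CommRingCat.of Γ(X.left, ⊤))).inv ≫ X.left.toSpecΓ.appTop = 𝟙 _ := by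
    rw [Scheme.toSpecΓ_appTop]
    exact Iso.inv_hom_id _
  simp only [b, q, Scheme.Hom.comp_appTop, ← Scheme.ΓSpecIso_inv_naturality_assoc, reassoc_of% hb] at e
  exact (congrArg (fun g => g.hom r) e).symm

/-- After a cover every function is a sum of two, each one less than a unit away from `1`. -/
theorem exists_unitCover (X : Over S) (y : Γ(X.left, ⊤)) :
    ∃ (X' : Over S) (π : X' ⟶ X) (z z' : (Γ(X'.left, ⊤))ˣ), Epi π ∧ π.left.appTop y = (1 - z) + (1 - z') := by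
  rcases subsingleton_or_nontrivial Γ(X.left, ⊤) with hs | hn
  · exact ⟨X, 𝟙 X, 1, 1, inferInstance, Subsingleton.elim _ _⟩
  let f : Polynomial Γ(X.left, ⊤) := Polynomial.X ^ 2 - Polynomial.C (2 - y) * Polynomial.X + 1
  have hf : f.Monic := by unfold f; monicity!
  haveI : Module.Free Γ(X.left, ⊤) (AdjoinRoot f) := hf.free_adjoinRoot
  haveI : Nontrivial (AdjoinRoot f) := by
    haveI : Nonempty (Fin (AdjoinRoot.powerBasis' hf).dim) := ⟨⟨0, by
      rw [AdjoinRoot.powerBasis'_dim]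
      have h2 : f.natDegree = 2 := by unfold f; compute_degree!
      omega⟩⟩
    exact (AdjoinRoot.powerBasis' hf).basis.repr.toEquiv.nontrivial
  obtain ⟨X', π, φ, hπ, hφ⟩ := exists_algCover X (AdjoinRoot f)
  set u := φ (AdjoinRoot.root f)
  have hu : u * (2 - π.left.appTop y - u) = 1 := by
    have h := congrArg φ (AdjoinRoot.mk_self (f := f))
    simp only [f, map_add, map_sub, map_mul, map_pow, map_one, map_zero, AdjoinRoot.mk_X, AdjoinRoot.mk_C,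
      ← AdjoinRoot.algebraMap_eq, hφ, map_ofNat] at h
    linear_combination -h
  exact ⟨X', π, ⟨u, _, hu, by rw [mul_comm, hu]⟩, ⟨_, u, by rw [mul_comm, hu], hu⟩, hπ, by
    show π.left.appTop y = 1 - u + (1 - (2 - π.left.appTop y - u)); ring⟩

variable {G : Over S} [GrpObj G]

theorem inv_inv_pt {X Y : Over S} [GrpObj Y] (f : X ⟶ Y) : f⁻¹⁻¹ = f := _root_.inv_inv _

/-- The splitting with other root homomorphisms. -/
@[reducible] def withU (D : Red.SplitRed G) (v : D.idx → (Red.Ga S ⟶ G))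
    (hv : ∀ c, Red.IsRootHom D.i (D.split.hom.hom.hom ≫ Red.chi S (D.P.root c)) (v c)) : Red.SplitRed G :=
  { D with u := v, rootHom := hv }

/-- A Chevalley system at the level of root groups. -/
structure ChevSys (D : Red.SplitRed G) (avc : D.idx → (Red.Gm S ⟶ D.T)) (v vd : D.idx → (Red.Ga S ⟶ G))
    (n : D.idx → (𝟙_ (Over S) ⟶ G)) : Prop where
  havc : ∀ a, avc a = Red.DSmap S (D.P.coroot a).toAddMonoidHom ≫ D.split.inv.hom.hom
  hv : ∀ c, Red.IsRootHom D.i (D.split.hom.hom.hom ≫ Red.chi S (D.P.root c)) (v c)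
  hvd : ∀ c, IsMonHom (vd c) ∧ ∀ (X : Over S) (x y : X ⟶ Red.Ga S), IsUnit (1 + Red.gaFn x * Red.gaFn y) →
    ∃ (x' y' : X ⟶ Red.Ga S) (z : X ⟶ Red.Gm S), Red.gmFn z = 1 + Red.gaFn x * Red.gaFn y ∧
      Red.gaFn x' * Red.gmFn z = Red.gaFn x ∧ Red.gaFn y' * Red.gmFn z = Red.gaFn y ∧
      (x ≫ v c) * (y ≫ vd c) = (y' ≫ vd c) * (z ≫ avc c ≫ D.i) * (x' ≫ v c)
  hn : ∀ c, n c = (ptOf 1 ≫ v c) * (ptOf 1 ≫ vd c)⁻¹ * (ptOf 1 ≫ v c)
  hSC : ∀ c b, ∃ ε : ℤ, (ε = 1 ∨ ε = -1) ∧ ∀ (X : Over S) (r : Γ(X.left, ⊤)),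
    (toUnit X ≫ n c) * (ptOf r ≫ v b) * (toUnit X ≫ n c)⁻¹ =
      ptOf ((ε : Γ(X.left, ⊤)) * r) ≫ v (D.P.reflectionPerm c b)

/-- A map of root groups is the given one up to a sign. -/
theorem eq_or_eq_inv {f g : Red.Ga S ⟶ G} {ε : ℤ} (hε : ε = 1 ∨ ε = -1)
    (h : ∀ (X : Over S) (r : Γ(X.left, ⊤)), (ptOf r : X ⟶ Red.Ga S) ≫ f = ptOf ((ε : Γ(X.left, ⊤)) * r) ≫ g) :
    f = g ∨ f = (𝟙 (Red.Ga S) : Red.Ga S ⟶ Red.Ga S)⁻¹ ≫ g := by
  have e := h (Red.Ga S) (Red.gaFn (𝟙 (Red.Ga S)))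
  rw [← eq_ptOf (𝟙 (Red.Ga S)) rfl, Category.id_comp] at e
  rcases hε with rfl | rfl
  · rw [Int.cast_one, _root_.one_mul, ← eq_ptOf (𝟙 (Red.Ga S)) rfl, Category.id_comp] at e
    exact Or.inl e
  · rw [Int.cast_neg, Int.cast_one, neg_one_mul] at e
    refine Or.inr (e.trans ?_)
    rw [ptOf_neg, ← eq_ptOf (𝟙 (Red.Ga S)) rfl]

/-- The opposite of a root homomorphism is a root homomorphism. -/
theorem isRootHom_inv {T : Over S} [GrpObj T] {i : T ⟶ G} {α : T ⟶ Red.Gm S} {g : Red.Ga S ⟶ G}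
    (hg : Red.IsRootHom i α g) (hf : IsMonHom ((𝟙 (Red.Ga S) : Red.Ga S ⟶ Red.Ga S)⁻¹ ≫ g)) :
    Red.IsRootHom i α ((𝟙 (Red.Ga S) : Red.Ga S ⟶ Red.Ga S)⁻¹ ≫ g) := by
  haveI := hg.1
  have hinv : ∀ {X : Over S} (x : X ⟶ Red.Ga S), x ≫ (𝟙 (Red.Ga S) : Red.Ga S ⟶ Red.Ga S)⁻¹ = x⁻¹ := fun x => by
    rw [GrpObj.comp_inv, Category.comp_id]
  have h2 : ((𝟙 (Red.Ga S) : Red.Ga S ⟶ Red.Ga S)⁻¹) ≫ (𝟙 (Red.Ga S) : Red.Ga S ⟶ Red.Ga S)⁻¹ = 𝟙 _ := by
    rw [hinv, inv_inv_pt]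
  haveI : IsIso ((𝟙 (Red.Ga S) : Red.Ga S ⟶ Red.Ga S)⁻¹) := ⟨_, h2, h2⟩
  refine ⟨hf, ?_, fun X t x => ?_⟩
  · haveI := hg.2.1
    haveI : IsIso ((𝟙 (Red.Ga S) : Red.Ga S ⟶ Red.Ga S)⁻¹).left :=
      inferInstanceAs (IsIso ((Over.forget S).map ((𝟙 (Red.Ga S) : Red.Ga S ⟶ Red.Ga S)⁻¹)))
    rw [Over.comp_left]
    infer_instance
  · obtain ⟨y, h1, h3⟩ := hg.2.2 X t x⁻¹
    refine ⟨y⁻¹, ?_, ?_⟩
    · simp only [← Category.assoc, hinv, inv_inv_pt]
      exact h1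
    · rw [eq_ptOf y h3, ← ptOf_neg, gaFn_ptOf, eq_ptOf x rfl, ← ptOf_neg, gaFn_ptOf, gaFn_ptOf, mul_neg, neg_neg]

variable [Nonempty S] {D : Red.SplitRed G} {avc : D.idx → (Red.Gm S ⟶ D.T)} {v vd : D.idx → (Red.Ga S ⟶ G)}
  {n : D.idx → (𝟙_ (Over S) ⟶ G)}

omit [Nonempty S] in
/-- The dual of a root homomorphism of a Chevalley system is the opposite root homomorphism up to a sign. -/
theorem ChevSys.exists_dual (h : ChevSys D avc v vd n) (c : D.idx) :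
    ∃ ε : ℤ, (ε = 1 ∨ ε = -1) ∧ ∀ (X : Over S) (r : Γ(X.left, ⊤)),
      (ptOf r : X ⟶ Red.Ga S) ≫ vd c = ptOf ((ε : Γ(X.left, ⊤)) * r) ≫ v (D.P.reflectionPerm c c) := by
  haveI := (h.hv c).1
  haveI := (h.hvd c).1
  haveI := isMonHom_i D
  haveI : IsMonHom (v (D.P.reflectionPerm c c)) := (h.hv _).1
  haveI hm : IsMonHom (avc c) := by
    rw [h.havc c]
    haveI : IsMonHom D.split.inv.hom.hom := D.split.inv.hom.isMonHom_hom
    haveI : IsMonHom (Red.DSmap S (D.P.coroot c).toAddMonoidHom) := Groth.Agent.DSImg.isMonHom_DSmap _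
    infer_instance
  obtain ⟨ε, hε, hconj⟩ := h.hSC c c
  refine ⟨-ε, by omega, fun X y => ?_⟩
  have key : ∀ (X : Over S) (z : (Γ(X.left, ⊤))ˣ), (ptOf (1 - (z : Γ(X.left, ⊤))) : X ⟶ Red.Ga S) ≫ vd c =
      ptOf (((-ε : ℤ) : Γ(X.left, ⊤)) * (1 - (z : Γ(X.left, ⊤)))) ≫ v (D.P.reflectionPerm c c) := by
    intro X z
    let hh : (Γ(X.left, ⊤))ˣ →* (X ⟶ G) := MonoidHom.mk' (fun w => (GmPts.ptOfUnit w : X ⟶ Red.Gm S) ≫ avc c ≫ D.i)
      (fun a b => by rw [RankOne.ptOfUnit_mul, MonObj.mul_comp])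
    have hc : toUnit X ≫ n c = (ptOf 1 ≫ v c) * ((ptOf 1 : X ⟶ Red.Ga S) ≫ vd c)⁻¹ * (ptOf 1 ≫ v c) := by
      refine (congrArg (toUnit X ≫ ·) (h.hn c)).trans ?_
      simp only [MonObj.comp_mul, GrpObj.comp_inv, ← Category.assoc, comp_ptOf, map_one]
    have e := weyl_conj_of_unit (P := fun r => (ptOf r : X ⟶ Red.Ga S) ≫ v c)
      (M := fun r => (ptOf r : X ⟶ Red.Ga S) ≫ vd c) (h := hh)
      (fun a b => by rw [ptOf_add, MonObj.mul_comp]) (fun a b => by rw [ptOf_add, MonObj.mul_comp])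
      (fun w r => by
        obtain ⟨y', h1, h2⟩ := (h.hv c).2.2 X ((GmPts.ptOfUnit w : X ⟶ Red.Gm S) ≫ avc c) (ptOf r)
        have h3 := gmFn_avc (D := D) (a := c) (h.havc c) (GmPts.ptOfUnit w : X ⟶ Red.Gm S) (D.P.root c)
        rw [gaFn_ptOf, h3, GmPts.unitOfPt_ptOfUnit, coF_root] at h2
        rw [← mul_inv_eq_iff_eq_mul]
        show ((GmPts.ptOfUnit w : X ⟶ Red.Gm S) ≫ avc c ≫ D.i) * _ * ((GmPts.ptOfUnit w : X ⟶ Red.Gm S) ≫ avc c ≫ D.i)⁻¹ = _
        rw [← Category.assoc (GmPts.ptOfUnit w) (avc c) D.i, ← h1, eq_ptOf y' h2]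
        rfl)
      (fun a b w hw => by
        obtain ⟨x', y', z', g1, g2, g3, g4⟩ := (h.hvd c).2 X (ptOf a) (ptOf b) (by
          rw [gaFn_ptOf, gaFn_ptOf, ← hw]; exact w.isUnit)
        rw [gaFn_ptOf, gaFn_ptOf, ← hw] at g1
        rw [gaFn_ptOf, g1, ← Units.eq_mul_inv_iff_mul_eq] at g2 g3
        refine g4.trans ?_
        rw [eq_ptOfUnit z' g1, eq_ptOf x' g2, eq_ptOf y' g3]
        rfl)
      ((z : Γ(X.left, ⊤)) - 1) z (by ring)
    rw [← hc, hconj X, neg_sub] at e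
    rw [← e, show (((-ε : ℤ) : Γ(X.left, ⊤))) * (1 - (z : Γ(X.left, ⊤))) = (ε : Γ(X.left, ⊤)) * ((z : Γ(X.left, ⊤)) - 1) by
      push_cast; ring]
  obtain ⟨X', π, z, z', hπ, hy⟩ := exists_unitCover X y
  haveI := hπ
  rw [← cancel_epi π, ← Category.assoc, ← Category.assoc, comp_ptOf, comp_ptOf, map_mul, map_intCast, hy, mul_add,
    ptOf_add, ptOf_add, MonObj.mul_comp, MonObj.mul_comp, key X' z, key X' z']

omit [Nonempty S] in
/-- The dual is a root homomorphism for the opposite root. -/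
theorem ChevSys.isRootHom_vd (h : ChevSys D avc v vd n) (c : D.idx) :
    Red.IsRootHom D.i (D.split.hom.hom.hom ≫ Red.chi S (D.P.root (D.P.reflectionPerm c c))) (vd c) := by
  obtain ⟨ε, hε, e⟩ := h.exists_dual c
  rcases eq_or_eq_inv hε e with e' | e'
  · rw [e']; exact h.hv _
  · rw [e']; exact isRootHom_inv (h.hv _) (e' ▸ (h.hvd c).1)

end Bruhat

end
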