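import Groth.Agent.BruhatLib.Plane

/-!
# Pairs of pinned simple roots of type G₂: the Weyl elements
-/

set_option autoImplicit false
set_option linter.style.haveILetI false
set_option linter.unusedSectionVars false
set_option backward.isDefEq.respectTransparency false
set_option maxHeartbeats 1000000
set_option synthInstance.maxHeartbeats 400000

universe u

open CategoryTheory CategoryTheory.Limits MonoidalCategory CartesianMonoidalCategory AlgebraicGeometry
open Groth.Agent.GaPts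
open Groth.Agent
open Groth.Agent.RankOne (eq_ptOf eq_ptOfUnit comp_ptOf ptOf_add)
open scoped MonObj

noncomputable section

attribute [-instance] CategoryTheory.Hom.commGroup

namespace Bruhat

open SplitCell SplitFib RootSubgrp

variable {S : Scheme.{u}} {G : Over S} [GrpObj G]

/-- A pair of pinned simple roots of type G₂, the first one short. -/
structure PairG2 (D : Red.SplitRed G) (b : D.P.Base) (p q : D.idx) (avp avq : Red.Gm S ⟶ D.T)
    (wp wq : 𝟙_ (Over S) ⟶ G) : Prop where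
  base : SimplePair D b p q
  hpq : D.P.pairing p q = -1
  hqp : D.P.pairing q p = -3
  P : Pin D p avp wp
  Q : Pin D q avq wq

variable [Nonempty S] {D : Red.SplitRed G} {b : D.P.Base} {p q : D.idx} {avp avq : Red.Gm S ⟶ D.T}
  {wp wq : 𝟙_ (Over S) ⟶ G}

variable (h : PairG2 D b p q avp avq wp wq)
include h

theorem PairG2.comb11 : IsComb D p q (D.P.reflectionPerm q p) 1 1 := by
  simpa using h.base.refl_G2_right h.hpq h.hqp (isComb_left (D := D) (p := p) (q := q))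

theorem PairG2.comb21 : IsComb D p q (D.P.reflectionPerm p (D.P.reflectionPerm q p)) 2 1 := by
  simpa using h.base.refl_G2_left h.hpq h.hqp h.comb11

theorem PairG2.comb31 : IsComb D p q (D.P.reflectionPerm p q) 3 1 := by
  simpa using h.base.refl_G2_left h.hpq h.hqp (isComb_right (D := D) (p := p) (q := q))

theorem PairG2.comb32 : IsComb D p q (D.P.reflectionPerm q (D.P.reflectionPerm p q)) 3 2 := by
  simpa using h.base.refl_G2_right h.hpq h.hqp h.comb31

theorem PairG2.no {c : D.idx} {i j : ℤ} (e : IsComb D p q c i j) :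
    ((i = 1 ∨ i = -1) ∧ j = 0) ∨ (i = 0 ∧ (j = 1 ∨ j = -1)) ∨
      (1 ≤ i ∧ i ≤ 3 ∧ j = 1) ∨ (i = 3 ∧ j = 2) ∨
      (1 ≤ -i ∧ -i ≤ 3 ∧ j = -1) ∨ (i = -3 ∧ j = -2) :=
  h.base.not_root_G2 h.hpq h.hqp e

theorem PairG2.fix21 : Moves D wq (D.P.reflectionPerm p (D.P.reflectionPerm q p))
    (D.P.reflectionPerm p (D.P.reflectionPerm q p)) 1 :=
  h.base.moves_fix h.Q isComb_right h.comb21 (by omega) (by omega)
    (fun c ec => by have := h.no ec; omega) fun c ec => by have := h.no ec; omega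

theorem PairG2.fix32 : Moves D wp (D.P.reflectionPerm q (D.P.reflectionPerm p q))
    (D.P.reflectionPerm q (D.P.reflectionPerm p q)) 1 :=
  h.base.moves_fix h.P isComb_left h.comb32 (by omega) (by omega)
    (fun c ec => by have := h.no ec; omega) fun c ec => by have := h.no ec; omega

theorem PairG2.fixed21 {X : Over S} (x : X ⟶ Red.Ga S) :
    (toUnit X ≫ wq) * ((toUnit X ≫ (wp * wq)) * (x ≫ D.u p) * (toUnit X ≫ (wp * wq))⁻¹) * (toUnit X ≫ wq)⁻¹ =
      (toUnit X ≫ (wp * wq)) * (x ≫ D.u p) * (toUnit X ≫ (wp * wq))⁻¹ := by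
  obtain ⟨z, hz⟩ := (h.P.perms.mul h.Q.perms).root p X x
  have f := h.fix21 X z
  rw [zpow_one] at f
  rw [hz]
  exact f

theorem PairG2.fixed32 {X : Over S} (x : X ⟶ Red.Ga S) :
    (toUnit X ≫ wp) * ((toUnit X ≫ (wq * wp)) * (x ≫ D.u q) * (toUnit X ≫ (wq * wp))⁻¹) * (toUnit X ≫ wp)⁻¹ =
      (toUnit X ≫ (wq * wp)) * (x ≫ D.u q) * (toUnit X ≫ (wq * wp))⁻¹ := by
  obtain ⟨z, hz⟩ := (h.Q.perms.mul h.P.perms).root q X x
  have f := h.fix32 X z
  rw [zpow_one] at f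
  rw [hz]
  exact f

omit h in
theorem conj_conj_eq {H : Type*} [Group H] (W U : H) : W * (W * U * W⁻¹) * W⁻¹ = W * W * U * (W * W)⁻¹ := by group

/-- The square of the short Weyl element inverts the root group of the sum. -/
theorem PairG2.sq11 {X : Over S} (x : X ⟶ Red.Ga S) :
    (toUnit X ≫ wp) * ((toUnit X ≫ (wp * wq)) * (x ≫ D.u p) * (toUnit X ≫ (wp * wq))⁻¹) * (toUnit X ≫ wp)⁻¹ =
      ((toUnit X ≫ wq) * (x ≫ D.u p) * (toUnit X ≫ wq)⁻¹)⁻¹ := by
  obtain ⟨z, hz⟩ := h.Q.isRefl.conj_u p x (X := X)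
  have e := h.P.moves_sq (D.P.reflectionPerm q p) X z
  rw [h.comb11.pairing, RootPairing.pairing_same, h.hqp] at e
  norm_num at e
  rw [MonObj.comp_mul] at e
  rw [MonObj.comp_mul, hz, ← e, ← hz]
  group

/-- The square of the long Weyl element inverts the root group of three short plus one long. -/
theorem PairG2.sq31 {X : Over S} (x : X ⟶ Red.Ga S) :
    (toUnit X ≫ wq) * ((toUnit X ≫ (wq * wp)) * (x ≫ D.u q) * (toUnit X ≫ (wq * wp))⁻¹) * (toUnit X ≫ wq)⁻¹ =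
      ((toUnit X ≫ wp) * (x ≫ D.u q) * (toUnit X ≫ wp)⁻¹)⁻¹ := by
  obtain ⟨z, hz⟩ := h.P.isRefl.conj_u q x (X := X)
  have e := h.Q.moves_sq (D.P.reflectionPerm p q) X z
  rw [h.comb31.pairing, RootPairing.pairing_same, h.hpq] at e
  norm_num at e
  rw [MonObj.comp_mul] at e
  rw [MonObj.comp_mul, hz, ← e, ← hz]
  group

theorem PairG2.sq_p {X : Over S} (x : X ⟶ Red.Ga S) :
    (toUnit X ≫ wp) * ((toUnit X ≫ wp) * (x ≫ D.u q) * (toUnit X ≫ wp)⁻¹) * (toUnit X ≫ wp)⁻¹ = (x ≫ D.u q)⁻¹ := by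
  have e := h.P.moves_sq q X x
  rw [h.hqp] at e
  norm_num at e
  rw [MonObj.comp_mul] at e
  rw [conj_conj_eq, e]

theorem PairG2.sq_q {X : Over S} (x : X ⟶ Red.Ga S) :
    (toUnit X ≫ wq) * ((toUnit X ≫ wq) * (x ≫ D.u p) * (toUnit X ≫ wq)⁻¹) * (toUnit X ≫ wq)⁻¹ = (x ≫ D.u p)⁻¹ := by
  have e := h.Q.moves_sq p X x
  rw [h.hpq] at e
  norm_num at e
  rw [MonObj.comp_mul] at e
  rw [conj_conj_eq, e]

/-- The short root group is fixed by the five-letter word around it. -/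
theorem PairG2.moves_short : Moves D (wq * wp * wq * wp * wq) p p 1 := by
  intro X x
  rw [zpow_one]
  simp only [MonObj.comp_mul]
  set Q := toUnit X ≫ wq
  set P := toUnit X ≫ wp
  have f1 : Q * (P * Q * (x ≫ D.u p) * (P * Q)⁻¹) * Q⁻¹ = P * Q * (x ≫ D.u p) * (P * Q)⁻¹ := by
    rw [← MonObj.comp_mul]; exact h.fixed21 x
  have f2 : P * (P * Q * (x ≫ D.u p) * (P * Q)⁻¹) * P⁻¹ = (Q * (x ≫ D.u p) * Q⁻¹)⁻¹ := by
    rw [← MonObj.comp_mul]; exact h.sq11 x
  calc Q * P * Q * P * Q * (x ≫ D.u p) * (Q * P * Q * P * Q)⁻¹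
      = Q * (P * (Q * (P * Q * (x ≫ D.u p) * (P * Q)⁻¹) * Q⁻¹) * P⁻¹) * Q⁻¹ := by group
    _ = Q * (Q * (x ≫ D.u p) * Q⁻¹)⁻¹ * Q⁻¹ := by rw [f1, f2]
    _ = (Q * (Q * (x ≫ D.u p) * Q⁻¹) * Q⁻¹)⁻¹ := by simp only [_root_.mul_inv_rev, inv_inv, _root_.mul_assoc]
    _ = _ := by rw [h.sq_q x, inv_inv]

/-- The long root group is fixed by the five-letter word around it. -/
theorem PairG2.moves_long : Moves D (wp * wq * wp * wq * wp) q q 1 := by
  intro X x
  rw [zpow_one]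
  simp only [MonObj.comp_mul]
  set Q := toUnit X ≫ wq
  set P := toUnit X ≫ wp
  have f1 : P * (Q * P * (x ≫ D.u q) * (Q * P)⁻¹) * P⁻¹ = Q * P * (x ≫ D.u q) * (Q * P)⁻¹ := by
    rw [← MonObj.comp_mul]; exact h.fixed32 x
  have f2 : Q * (Q * P * (x ≫ D.u q) * (Q * P)⁻¹) * Q⁻¹ = (P * (x ≫ D.u q) * P⁻¹)⁻¹ := by
    rw [← MonObj.comp_mul]; exact h.sq31 x
  calc P * Q * P * Q * P * (x ≫ D.u q) * (P * Q * P * Q * P)⁻¹
      = P * (Q * (P * (Q * P * (x ≫ D.u q) * (Q * P)⁻¹) * P⁻¹) * Q⁻¹) * P⁻¹ := by group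
    _ = P * (P * (x ≫ D.u q) * P⁻¹)⁻¹ * P⁻¹ := by rw [f1, f2]
    _ = (P * (P * (x ≫ D.u q) * P⁻¹) * P⁻¹)⁻¹ := by simp only [_root_.mul_inv_rev, inv_inv, _root_.mul_assoc]
    _ = _ := by rw [h.sq_p x, inv_inv]

/-- **The braid relation.** -/
theorem PairG2.braid : wp * wq * (wp * wq) * (wp * wq) = wq * wp * (wq * wp) * (wq * wp) := by
  have hperm : (D.P.reflectionPerm p * D.P.reflectionPerm q * D.P.reflectionPerm p * D.P.reflectionPerm q *
      D.P.reflectionPerm p) q = q := by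
    refine D.P.root.injective ?_
    have e := h.base.refl_G2_left h.hpq h.hqp
      (h.base.refl_G2_right h.hpq h.hqp (h.base.refl_G2_left h.hpq h.hqp h.comb32))
    simp only [Equiv.Perm.mul_apply]
    rw [e]
    module
  have e := h.moves_long.conj_weyl h.Q h.Q
    ((((h.P.perms.mul h.Q.perms).mul h.P.perms).mul h.Q.perms).mul h.P.perms) (Or.inl rfl) hperm
  rw [zpow_one, mul_inv_eq_iff_eq_mul] at e
  simp only [← _root_.mul_assoc] at e ⊢
  exact e

/-- **The Coxeter relation.** -/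
theorem PairG2.pow_six : (wp * wq) ^ 6 = 1 ∧ (wq * wp) ^ 6 = 1 := by
  have hb := h.braid
  have hc := h.P.conj_sq h.Q
  rw [h.hpq] at hc
  norm_num at hc
  have hc' := h.Q.conj_sq h.P
  rw [h.hqp] at hc'
  norm_num at hc'
  have hq3 : (wq * wq) ^ 3 = wq * wq := by rw [pow_succ, pow_two, h.Q.sq_sq, _root_.one_mul]
  rw [hq3] at hc'
  have e6 : (wp * wq) ^ 6 = 1 := by
    calc (wp * wq) ^ 6 = (wp * wq * (wp * wq) * (wp * wq)) * (wq * wp * (wq * wp) * (wq * wp)) := by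
          rw [← hb]; simp only [pow_succ, pow_zero, _root_.one_mul, _root_.mul_assoc]
      _ = wp * wq * wp * wq * (wp * (wq * wq) * wp⁻¹) * (wp * wp) * wq * wp * wq * wp := by group
      _ = wp * wq * wp * wq * (wq * wq) * (wp * wp * (wp * wp)) * wq * wp * wq * wp := by rw [hc]; group
      _ = wp * wq * wp * (wq * wq * (wq * wq)) * wp * wq * wp := by rw [h.P.sq_sq]; group
      _ = wp * (wq * (wp * wp) * wq⁻¹) * (wq * wq) * wp := by rw [h.Q.sq_sq]; group
      _ = wp * (wp * wp) * (wq * wq * (wq * wq)) * wp := by rw [hc']; group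
      _ = wp * wp * (wp * wp) := by rw [h.Q.sq_sq]; group
      _ = 1 := h.P.sq_sq
  refine ⟨e6, ?_⟩
  have e3 : (wq * wp) ^ 3 = (wp * wq) ^ 3 := by
    simp only [pow_succ, pow_zero, _root_.one_mul]
    exact hb.symm
  rw [← e6, show (6 : ℕ) = 3 * 2 from rfl, pow_mul, pow_mul, e3]

end Bruhat

end
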