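import Groth.Agent.BruhatLib.G2

/-!
# The elementary commutation formulas of a pair of type G₂
-/

set_option autoImplicit false
set_option linter.style.haveILetI false
set_option linter.unusedSectionVars false
set_option backward.isDefEq.respectTransparency false
set_option maxHeartbeats 1000000
set_option synthInstance.maxHeartbeats 400000

universe u

open CategoryTheory CategoryTheory.Limits MonoidalCategory CartesianMonoidalCategory AlgebraicGeometry
open Groth.Agent.GaPts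
open Groth.Agent
open Groth.Agent.RankOne (eq_ptOf eq_ptOfUnit comp_ptOf ptOf_add)
open scoped MonObj

noncomputable section

attribute [-instance] CategoryTheory.Hom.commGroup

namespace Bruhat

open SplitCell SplitFib RootSubgrp

variable {S : Scheme.{u}} {G : Over S} [GrpObj G] [Nonempty S] {D : Red.SplitRed G} {b : D.P.Base}

section General

variable {p q : D.idx}

omit [Nonempty S] in
theorem IsComb.unique {d e : D.idx} {i j : ℤ} (h : IsComb D p q d i j) (h' : IsComb D p q e i j) : d = e :=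
  D.P.root.injective (h.trans h'.symm)

/-- **Conjugation of one root group of the plane by another one.** -/
theorem SimplePair.coeffs (h : SimplePair D b p q) {α β : D.idx} {a₁ a₂ b₁ b₂ : ℤ} (hα : IsComb D p q α a₁ a₂)
    (hβ : IsComb D p q β b₁ b₂) (hdet : a₁ * b₂ - a₂ * b₁ ≠ 0) {n : ℕ} (e : Fin n → D.idx) (i j : Fin n → ℕ)
    (hij : Function.Injective fun k => (i k, j k)) (hpos : ∀ k, 1 ≤ i k ∧ 1 ≤ j k)
    (he : ∀ k, IsComb D p q (e k) ((i k : ℤ) * a₁ + (j k : ℤ) * b₁) ((i k : ℤ) * a₂ + (j k : ℤ) * b₂))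
    (hall : ∀ (c : D.idx) (m l : ℕ), 1 ≤ m → 1 ≤ l →
      IsComb D p q c ((m : ℤ) * a₁ + (l : ℤ) * b₁) ((m : ℤ) * a₂ + (l : ℤ) * b₂) → ∃ k, i k = m ∧ j k = l) :
    ∃ C : Fin n → Γ(S, ⊤), ∀ (X : Over S) (x y : Γ(X.left, ⊤)), ep D α x * ep D β y * (ep D α x)⁻¹ =
      ep D β y * (List.ofFn fun k => ep D (e k) (X.hom.appTop (C k) * x ^ i k * y ^ j k)).prod := by
  obtain ⟨σ, h1, h2⟩ := h.exists_sides hα hβ hdet
  have hinj : Function.Injective e := fun k l hkl => by
    obtain ⟨u1, u2⟩ := h.comb_ext (he k) (hkl.symm ▸ he l)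
    refine hij ?_
    have s1 : ((i k : ℤ) - i l) * (a₁ * b₂ - a₂ * b₁) = 0 := by linear_combination b₂ * u1 - b₁ * u2
    have s2 : ((j k : ℤ) - j l) * (a₁ * b₂ - a₂ * b₁) = 0 := by linear_combination a₁ * u2 - a₂ * u1
    have t1 := (mul_eq_zero.1 s1).resolve_right hdet
    have t2 := (mul_eq_zero.1 s2).resolve_right hdet
    exact Prod.ext (show i k = i l by omega) (show j k = j l by omega)
  obtain ⟨C, hC, -⟩ := existsUnique_coefficients D σ h1 h2 e i j hinj
    (fun k => ⟨(hpos k).1, (hpos k).2, by rw [he k, hα, hβ]; module⟩) fun c m l hm hl hc => by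
      have hc' : IsComb D p q c ((m : ℤ) * a₁ + (l : ℤ) * b₁) ((m : ℤ) * a₂ + (l : ℤ) * b₂) := by
        rw [IsComb, hc, hα, hβ]; module
      obtain ⟨k, rfl, rfl⟩ := hall c m l hm hl hc'
      exact ⟨k, (he k).unique hc'⟩
  refine ⟨C, fun X x y => ?_⟩
  have e' := hC X (ptOf x) (ptOf y) (fun k => ptOf (X.hom.appTop (C k) * x ^ i k * y ^ j k)) fun k => by
    simp [gaFn_ptOf]
  have e'' : (ep D β y)⁻¹ * (ep D α x * (ep D β y * (ep D α x)⁻¹)) =
      (List.ofFn fun k => ep D (e k) (X.hom.appTop (C k) * x ^ i k * y ^ j k)).prod := e'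
  rw [← e'']
  group

omit [Nonempty S] in
theorem swap_of_conj {H : Type*} [Group H] {x y u : H} (h : x⁻¹ * y * x⁻¹⁻¹ = y * u) : y * x = x * y * u := by
  rw [inv_inv] at h
  rw [_root_.mul_assoc x, ← h]
  group

end General

section Notation

variable (D : Red.SplitRed G) (p q : D.idx) {X : Over S}

/-- The root group of the sum. -/
abbrev gA (r : Γ(X.left, ⊤)) : X ⟶ G := ep D (D.P.reflectionPerm q p) r

/-- The root group of two short plus one long. -/
abbrev gB (r : Γ(X.left, ⊤)) : X ⟶ G := ep D (D.P.reflectionPerm p (D.P.reflectionPerm q p)) r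

/-- The root group of three short plus one long. -/
abbrev gC (r : Γ(X.left, ⊤)) : X ⟶ G := ep D (D.P.reflectionPerm p q) r

/-- The root group of three short plus two long. -/
abbrev gE (r : Γ(X.left, ⊤)) : X ⟶ G := ep D (D.P.reflectionPerm q (D.P.reflectionPerm p q)) r

end Notation

/-- The formulas between the positive root groups of the pair. -/
structure RelG2 (D : Red.SplitRed G) (p q : D.idx) (a : Fin 4 → Γ(S, ⊤)) (b : Fin 3 → Γ(S, ⊤))
    (c d e : Γ(S, ⊤)) : Prop where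
  r1 : ∀ (X : Over S) (x y : Γ(X.left, ⊤)), ep D q y * ep D p x = ep D p x * ep D q y *
    (gA D p q (X.hom.appTop (a 0) * x * y) *
      (gB D p q (X.hom.appTop (a 1) * x ^ 2 * y) *
        (gC D p q (X.hom.appTop (a 2) * x ^ 3 * y) *
          gE D p q (X.hom.appTop (a 3) * x ^ 3 * y ^ 2))))
  r2 : ∀ (X : Over S) (x z : Γ(X.left, ⊤)), gA D p q z * ep D p x =
    ep D p x * gA D p q z *
      (gB D p q (X.hom.appTop (b 0) * x * z) *
        (gC D p q (X.hom.appTop (b 1) * x ^ 2 * z) *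
          gE D p q (X.hom.appTop (b 2) * x * z ^ 2)))
  r3 : ∀ (X : Over S) (x w : Γ(X.left, ⊤)), gB D p q w * ep D p x =
    ep D p x * gB D p q w *
      gC D p q (X.hom.appTop c * x * w)
  r4 : ∀ (X : Over S) (y t : Γ(X.left, ⊤)), gC D p q t * ep D q y =
    ep D q y * gC D p q t *
      gE D p q (X.hom.appTop d * y * t)
  r5 : ∀ (X : Over S) (z w : Γ(X.left, ⊤)),
    gB D p q w * gA D p q z =
    gA D p q z * gB D p q w *
      gE D p q (X.hom.appTop e * z * w)

/-- The formulas between positive root groups and the opposites of the simple ones. -/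
structure NegRelG2 (D : Red.SplitRed G) (p q : D.idx) (m : Γ(S, ⊤)) : Prop where
  m11 : ∀ (X : Over S) (v z : Γ(X.left, ⊤)), ∃ r : Γ(X.left, ⊤),
    ep D (D.P.reflectionPerm p p) v * gA D p q z * (ep D (D.P.reflectionPerm p p) v)⁻¹ =
      gA D p q z * ep D q r
  m21 : ∀ (X : Over S) (v w : Γ(X.left, ⊤)), ∃ r s t : Γ(X.left, ⊤),
    ep D (D.P.reflectionPerm p p) v * gB D p q w *
        (ep D (D.P.reflectionPerm p p) v)⁻¹ =
      gB D p q w * (gA D p q r *
        (ep D q s * gE D p q t))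
  m31 : ∀ (X : Over S) (v t : Γ(X.left, ⊤)), ∃ r s u' : Γ(X.left, ⊤),
    ep D (D.P.reflectionPerm p p) v * gC D p q t * (ep D (D.P.reflectionPerm p p) v)⁻¹ =
      gC D p q t *
        (gB D p q (X.hom.appTop m * v * t) *
          (gA D p q r * (ep D q s * gE D p q u')))
  n11 : ∀ (X : Over S) (v z : Γ(X.left, ⊤)), ∃ r s t u' : Γ(X.left, ⊤),
    ep D (D.P.reflectionPerm q q) v * gA D p q z * (ep D (D.P.reflectionPerm q q) v)⁻¹ =
      gA D p q z * (ep D p r * (gB D p q s *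
        (gC D p q t * gE D p q u')))
  n32 : ∀ (X : Over S) (v f : Γ(X.left, ⊤)), ∃ r : Γ(X.left, ⊤),
    ep D (D.P.reflectionPerm q q) v * gE D p q f *
        (ep D (D.P.reflectionPerm q q) v)⁻¹ =
      gE D p q f * gC D p q r

variable {p q : D.idx} {avp avq : Red.Gm S ⟶ D.T} {wp wq : 𝟙_ (Over S) ⟶ G}
  (h : PairG2 D b p q avp avq wp wq)
include h

theorem PairG2.exists_rel : ∃ (a : Fin 4 → Γ(S, ⊤)) (b' : Fin 3 → Γ(S, ⊤)) (c d e : Γ(S, ⊤)),
    RelG2 D p q a b' c d e := by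
  have cp : IsComb D p q p 1 0 := isComb_left
  have cq : IsComb D p q q 0 1 := isComb_right
  have hA := h.comb11
  have hB := h.comb21
  have hC := h.comb31
  have hE := h.comb32
  set A := D.P.reflectionPerm q p
  set B := D.P.reflectionPerm p (D.P.reflectionPerm q p)
  set C := D.P.reflectionPerm p q
  set E := D.P.reflectionPerm q (D.P.reflectionPerm p q)
  obtain ⟨c1, hc1⟩ := h.base.coeffs cp cq (by norm_num) ![A, B, C, E] ![1, 2, 3, 3] ![1, 1, 1, 2] (by decide) (by decide)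
    (fun k => by fin_cases k <;> simpa using (by assumption))
    (fun g m l hm hl hg => by
      have := h.no hg
      rcases (show (m = 1 ∧ l = 1) ∨ (m = 2 ∧ l = 1) ∨ (m = 3 ∧ l = 1) ∨ (m = 3 ∧ l = 2) by omega) with
        ⟨rfl, rfl⟩ | ⟨rfl, rfl⟩ | ⟨rfl, rfl⟩ | ⟨rfl, rfl⟩
      · exact ⟨0, rfl, rfl⟩
      · exact ⟨1, rfl, rfl⟩
      · exact ⟨2, rfl, rfl⟩
      · exact ⟨3, rfl, rfl⟩)
  obtain ⟨c2, hc2⟩ := h.base.coeffs cp hA (by norm_num) ![B, C, E] ![1, 2, 1] ![1, 1, 2] (by decide) (by decide)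
    (fun k => by fin_cases k <;> simpa using (by assumption))
    (fun g m l hm hl hg => by
      have := h.no hg
      rcases (show (m = 1 ∧ l = 1) ∨ (m = 2 ∧ l = 1) ∨ (m = 1 ∧ l = 2) by omega) with
        ⟨rfl, rfl⟩ | ⟨rfl, rfl⟩ | ⟨rfl, rfl⟩
      · exact ⟨0, rfl, rfl⟩
      · exact ⟨1, rfl, rfl⟩
      · exact ⟨2, rfl, rfl⟩)
  obtain ⟨c3, hc3⟩ := h.base.coeffs cp hB (by norm_num) ![C] ![1] ![1] (by decide) (by decide)
    (fun k => by fin_cases k; simpa using (by assumption))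
    (fun g m l hm hl hg => by
      have := h.no hg
      obtain ⟨rfl, rfl⟩ : m = 1 ∧ l = 1 := by omega
      exact ⟨0, rfl, rfl⟩)
  obtain ⟨c4, hc4⟩ := h.base.coeffs cq hC (by norm_num) ![E] ![1] ![1] (by decide) (by decide)
    (fun k => by fin_cases k; simpa using (by assumption))
    (fun g m l hm hl hg => by
      have := h.no hg
      obtain ⟨rfl, rfl⟩ : m = 1 ∧ l = 1 := by omega
      exact ⟨0, rfl, rfl⟩)
  obtain ⟨c5, hc5⟩ := h.base.coeffs hA hB (by norm_num) ![E] ![1] ![1] (by decide) (by decide)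
    (fun k => by fin_cases k; simpa using (by assumption))
    (fun g m l hm hl hg => by
      have := h.no hg
      obtain ⟨rfl, rfl⟩ : m = 1 ∧ l = 1 := by omega
      exact ⟨0, rfl, rfl⟩)
  refine ⟨![-c1 0, c1 1, -c1 2, -c1 3], ![-c2 0, c2 1, -c2 2], -c3 0, -c4 0, -c5 0,
    ⟨fun X x y => ?_, fun X x z => ?_, fun X x w => ?_, fun X y t => ?_, fun X z w => ?_⟩⟩
  · refine swap_of_conj ?_
    have e := hc1 X (-x) y
    rw [ep_neg] at e
    rw [e]
    simp only [A, B, C, E, List.ofFn_succ, List.ofFn_zero, List.prod_cons, List.prod_nil, _root_.mul_one,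
      Matrix.cons_val_zero, Matrix.cons_val_succ, Matrix.cons_val_one, Matrix.cons_val, map_neg, pow_one]
    ring_nf
    rfl
  · refine swap_of_conj ?_
    have e := hc2 X (-x) z
    rw [ep_neg] at e
    rw [e]
    simp only [A, B, C, E, List.ofFn_succ, List.ofFn_zero, List.prod_cons, List.prod_nil, _root_.mul_one,
      Matrix.cons_val_zero, Matrix.cons_val_succ, Matrix.cons_val_one, Matrix.cons_val, map_neg, pow_one]
    ring_nf
    rfl
  · refine swap_of_conj ?_
    have e := hc3 X (-x) w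
    rw [ep_neg] at e
    rw [e]
    simp only [A, B, C, E, List.ofFn_succ, List.ofFn_zero, List.prod_cons, List.prod_nil, _root_.mul_one,
      Matrix.cons_val_zero, map_neg, pow_one, mul_neg, neg_mul]
  · refine swap_of_conj ?_
    have e := hc4 X (-y) t
    rw [ep_neg] at e
    rw [e]
    simp only [A, B, C, E, List.ofFn_succ, List.ofFn_zero, List.prod_cons, List.prod_nil, _root_.mul_one,
      Matrix.cons_val_zero, map_neg, pow_one, mul_neg, neg_mul]
  · refine swap_of_conj ?_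
    have e := hc5 X (-z) w
    rw [ep_neg] at e
    rw [e]
    simp only [A, B, C, E, List.ofFn_succ, List.ofFn_zero, List.prod_cons, List.prod_nil, _root_.mul_one,
      Matrix.cons_val_zero, map_neg, pow_one, mul_neg, neg_mul]

theorem PairG2.exists_negRel : ∃ m : Γ(S, ⊤), NegRelG2 D p q m := by
  have cp : IsComb D p q p 1 0 := isComb_left
  have cq : IsComb D p q q 0 1 := isComb_right
  have hA := h.comb11
  have hB := h.comb21
  have hC := h.comb31
  have hE := h.comb32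
  set A := D.P.reflectionPerm q p
  set B := D.P.reflectionPerm p (D.P.reflectionPerm q p)
  set C := D.P.reflectionPerm p q
  set E := D.P.reflectionPerm q (D.P.reflectionPerm p q)
  obtain ⟨c1, hc1⟩ := h.base.coeffs cp.neg hA (by norm_num) ![q] ![1] ![1] (by decide) (by decide)
    (fun k => by fin_cases k; simpa using (by assumption))
    (fun g m l hm hl hg => by
      have := h.no hg
      obtain ⟨rfl, rfl⟩ : m = 1 ∧ l = 1 := by omega
      exact ⟨0, rfl, rfl⟩)
  obtain ⟨c2, hc2⟩ := h.base.coeffs cp.neg hB (by norm_num) ![A, q, E] ![1, 2, 1] ![1, 1, 2] (by decide) (by decide)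
    (fun k => by fin_cases k <;> simpa using (by assumption))
    (fun g m l hm hl hg => by
      have := h.no hg
      rcases (show (m = 1 ∧ l = 1) ∨ (m = 2 ∧ l = 1) ∨ (m = 1 ∧ l = 2) by omega) with
        ⟨rfl, rfl⟩ | ⟨rfl, rfl⟩ | ⟨rfl, rfl⟩
      · exact ⟨0, rfl, rfl⟩
      · exact ⟨1, rfl, rfl⟩
      · exact ⟨2, rfl, rfl⟩)
  obtain ⟨c3, hc3⟩ := h.base.coeffs cp.neg hC (by norm_num) ![B, A, q, E] ![1, 2, 3, 3] ![1, 1, 1, 2] (by decide)
    (by decide) (fun k => by fin_cases k <;> simpa using (by assumption))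
    (fun g m l hm hl hg => by
      have := h.no hg
      rcases (show (m = 1 ∧ l = 1) ∨ (m = 2 ∧ l = 1) ∨ (m = 3 ∧ l = 1) ∨ (m = 3 ∧ l = 2) by omega) with
        ⟨rfl, rfl⟩ | ⟨rfl, rfl⟩ | ⟨rfl, rfl⟩ | ⟨rfl, rfl⟩
      · exact ⟨0, rfl, rfl⟩
      · exact ⟨1, rfl, rfl⟩
      · exact ⟨2, rfl, rfl⟩
      · exact ⟨3, rfl, rfl⟩)
  obtain ⟨c4, hc4⟩ := h.base.coeffs cq.neg hA (by norm_num) ![p, B, C, E] ![1, 1, 2, 1] ![1, 2, 3, 3] (by decide)
    (by decide) (fun k => by fin_cases k <;> simpa using (by assumption))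
    (fun g m l hm hl hg => by
      have := h.no hg
      rcases (show (m = 1 ∧ l = 1) ∨ (m = 1 ∧ l = 2) ∨ (m = 2 ∧ l = 3) ∨ (m = 1 ∧ l = 3) by omega) with
        ⟨rfl, rfl⟩ | ⟨rfl, rfl⟩ | ⟨rfl, rfl⟩ | ⟨rfl, rfl⟩
      · exact ⟨0, rfl, rfl⟩
      · exact ⟨1, rfl, rfl⟩
      · exact ⟨2, rfl, rfl⟩
      · exact ⟨3, rfl, rfl⟩)
  obtain ⟨c5, hc5⟩ := h.base.coeffs cq.neg hE (by norm_num) ![C] ![1] ![1] (by decide) (by decide)
    (fun k => by fin_cases k; simpa using (by assumption))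
    (fun g m l hm hl hg => by
      have := h.no hg
      obtain ⟨rfl, rfl⟩ : m = 1 ∧ l = 1 := by omega
      exact ⟨0, rfl, rfl⟩)
  refine ⟨c3 0, ⟨fun X v z => ⟨X.hom.appTop (c1 0) * v * z, ?_⟩,
    fun X v w => ⟨X.hom.appTop (c2 0) * v * w, X.hom.appTop (c2 1) * v ^ 2 * w, X.hom.appTop (c2 2) * v * w ^ 2, ?_⟩,
    fun X v t => ⟨X.hom.appTop (c3 1) * v ^ 2 * t, X.hom.appTop (c3 2) * v ^ 3 * t,
      X.hom.appTop (c3 3) * v ^ 3 * t ^ 2, ?_⟩,
    fun X v z => ⟨X.hom.appTop (c4 0) * v * z, X.hom.appTop (c4 1) * v * z ^ 2, X.hom.appTop (c4 2) * v ^ 2 * z ^ 3,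
      X.hom.appTop (c4 3) * v * z ^ 3, ?_⟩,
    fun X v f => ⟨X.hom.appTop (c5 0) * v * f, ?_⟩⟩⟩
  · rw [hc1]
    simp only [A, B, C, E, List.ofFn_succ, List.ofFn_zero, List.prod_cons, List.prod_nil, _root_.mul_one,
      Matrix.cons_val_zero, pow_one]
  · rw [hc2]
    simp only [A, B, C, E, List.ofFn_succ, List.ofFn_zero, List.prod_cons, List.prod_nil, _root_.mul_one,
      Matrix.cons_val_zero, Matrix.cons_val_succ, Matrix.cons_val_one, Matrix.cons_val, pow_one]
    rfl
  · rw [hc3]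
    simp only [A, B, C, E, List.ofFn_succ, List.ofFn_zero, List.prod_cons, List.prod_nil, _root_.mul_one,
      Matrix.cons_val_zero, Matrix.cons_val_succ, Matrix.cons_val_one, Matrix.cons_val, pow_one]
    rfl
  · rw [hc4]
    simp only [A, B, C, E, List.ofFn_succ, List.ofFn_zero, List.prod_cons, List.prod_nil, _root_.mul_one,
      Matrix.cons_val_zero, Matrix.cons_val_succ, Matrix.cons_val_one, Matrix.cons_val, pow_one]
    rfl
  · rw [hc5]
    simp only [A, B, C, E, List.ofFn_succ, List.ofFn_zero, List.prod_cons, List.prod_nil, _root_.mul_one,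
      Matrix.cons_val_zero, pow_one]

end Bruhat

end
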