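import Groth.Agent.BruhatLib.Apply

/-!
# Bruhat cell maps

The Bruhat cell map of a word is a closed subscheme of a translate of the big cell.
-/

set_option autoImplicit false
set_option linter.style.haveILetI false
set_option linter.unusedSectionVars false
set_option backward.isDefEq.respectTransparency false
set_option maxHeartbeats 1000000
set_option synthInstance.maxHeartbeats 400000

universe u

open CategoryTheory CategoryTheory.Limits MonoidalCategory CartesianMonoidalCategory AlgebraicGeometry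
open Groth.Agent.GaPts
open Groth.Agent
open scoped MonObj

noncomputable section

attribute [-instance] CategoryTheory.Hom.commGroup

namespace Bruhat

open SplitCell SplitFib RootSubgrp

variable {S : Scheme.{u}} {G : Over S} [GrpObj G] {D : Red.SplitRed G} [Nonempty S]
  {nr : D.idx → (𝟙_ (Over S) ⟶ G)} (hnr : ∀ a, IsRefl D a (nr a))
include hnr

/-- **A word moves a root group isomorphically.** -/
theorem exists_rho (l : List D.idx) (k : D.idx) : ∃ ρ : Red.Ga S ≅ Red.Ga S, ∀ (X : Over S) (z : X ⟶ Red.Ga S),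
    (nX nr X l)⁻¹ * (z ≫ D.u k) * nX nr X l = (z ≫ ρ.hom) ≫ D.u ((RedSub.wordPerm D.P l).symm k) := by
  obtain ⟨r, hr⟩ := conj_u_word' hnr l k (𝟙 (Red.Ga S))
  obtain ⟨r', hr'⟩ := conj_u_word hnr l ((RedSub.wordPerm D.P l).symm k) (𝟙 (Red.Ga S))
  rw [Equiv.apply_symm_apply] at hr'
  rw [Category.id_comp] at hr hr'
  have h : ∀ (X : Over S) (z : X ⟶ Red.Ga S),
      (nX nr X l)⁻¹ * (z ≫ D.u k) * nX nr X l = (z ≫ r) ≫ D.u ((RedSub.wordPerm D.P l).symm k) := fun X z => by
    rw [Category.assoc, ← hr, MonObj.comp_mul, MonObj.comp_mul, GrpObj.comp_inv, comp_nX]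
  have h' : ∀ (X : Over S) (z : X ⟶ Red.Ga S),
      nX nr X l * (z ≫ D.u ((RedSub.wordPerm D.P l).symm k)) * (nX nr X l)⁻¹ = (z ≫ r') ≫ D.u k := fun X z => by
    rw [Category.assoc, ← hr', MonObj.comp_mul, MonObj.comp_mul, GrpObj.comp_inv, comp_nX]
  haveI := mono_u D k
  haveI := mono_u D ((RedSub.wordPerm D.P l).symm k)
  refine ⟨⟨r, r', ?_, ?_⟩, h⟩
  · rw [← cancel_mono (D.u k), ← h' _ r, Category.id_comp, ← hr]
    group
  · rw [← cancel_mono (D.u ((RedSub.wordPerm D.P l).symm k)), ← h _ r', Category.id_comp, ← hr']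
    group

/-- **The Bruhat map is a translate of a closed subscheme of the big cell.** -/
theorem exists_bruhat_fac (b : D.P.Base) {n m : ℕ} {eneg : Fin n → D.idx} {epos : Fin m → D.idx}
    (hneg : RedSub.Enumerates (RedSub.negRoots D.P b) eneg) (l : List D.idx) {k : ℕ} {e : Fin k → D.idx}
    (he : RedSub.Enumerates (RedSub.negMeetNeg D.P b (RedSub.wordPerm D.P l)) e) :
    ∃ j : RedSub.pow (Red.Ga S) k ⊗ (D.T ⊗ RedSub.pow (Red.Ga S) m) ⟶
        RedSub.pow (Red.Ga S) n ⊗ (D.T ⊗ RedSub.pow (Red.Ga S) m),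
      IsClosedImmersion j.left ∧
        RedSub.bruhatMap D nr l e epos = j ≫ ((toUnit _ ≫ (l.map nr).prod) * RedSub.cellMap D eneg epos) := by
  classical
  let σ := sidesOfBase D.P b
  choose ρ hρ using fun i => exists_rho hnr l (e i)
  let e' : Fin k → D.idx := fun i => (RedSub.wordPerm D.P l).symm (e i)
  have hmem : ∀ i, e' i ∈ σ.neg := fun i => (he.2.subset (Set.mem_range_self i)).2
  have hinj : Function.Injective e' := (RedSub.wordPerm D.P l).symm.injective.comp he.1
  obtain ⟨k₁, e₁, he₁⟩ := SplitFib.exists_enumerates (σ.neg \ Set.range e')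
  have hE : RedSub.Enumerates σ.neg (Fin.append e' e₁) := by
    have h := enumerates_append (s := Set.range e') ⟨hinj, rfl⟩ he₁ Set.disjoint_sdiff_right
    rwa [Set.union_diff_cancel (Set.range_subset_iff.2 hmem)] at h
  obtain ⟨ψ, hψ⟩ := SplitCell.exists_iso (flipSides σ) (isSatur_pos D (flipSides σ) hneg) hneg.1
    (fun i => hneg.2.subset (Set.mem_range_self i)) hE.1 (hE.2.trans hneg.2.symm)
  let Φ : RedSub.pow (Red.Ga S) k ≅ RedSub.pow (Red.Ga S) k :=
    { hom := tup fun i => prj S i ≫ (ρ i).hom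
      inv := tup fun i => prj S i ≫ (ρ i).inv
      hom_inv_id := pow_ext fun i => by
        rw [Category.assoc, tup_prj, ← Category.assoc, tup_prj, Category.assoc, Iso.hom_inv_id, Category.comp_id,
          Category.id_comp]
      inv_hom_id := pow_ext fun i => by
        rw [Category.assoc, tup_prj, ← Category.assoc, tup_prj, Category.assoc, Iso.inv_hom_id, Category.comp_id,
          Category.id_comp] }
  let inc : RedSub.pow (Red.Ga S) k ⟶ RedSub.pow (Red.Ga S) (k + k₁) := tup (Fin.append (fun i => prj S i) fun _ => 1)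
  let ret : RedSub.pow (Red.Ga S) (k + k₁) ⟶ RedSub.pow (Red.Ga S) k := tup fun i => prj S (Fin.castAdd k₁ i)
  have hret : inc ≫ ret = 𝟙 _ := pow_ext fun i => by
    rw [Category.assoc, tup_prj, tup_prj, Fin.append_left, Category.id_comp]
  have hinc : inc ≫ rprod D (Fin.append e' e₁) = rprod D e' := by
    rw [rprod_append, rprod_eq_one (D := D) e₁ _ (fun i => by rw [tup_prj, tup_prj, Fin.append_right]), _root_.mul_one]
    rw [show (tup fun i => inc ≫ prj S (Fin.castAdd k₁ i)) = 𝟙 _ from pow_ext fun i => by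
      rw [tup_prj, tup_prj, Fin.append_left, Category.id_comp], Category.id_comp]
  let p : RedSub.pow (Red.Ga S) k ⟶ RedSub.pow (Red.Ga S) n := Φ.hom ≫ inc ≫ ψ.hom
  let q : RedSub.pow (Red.Ga S) n ⟶ RedSub.pow (Red.Ga S) k := ψ.inv ≫ ret ≫ Φ.inv
  have hpq : p ≫ q = 𝟙 _ := by
    simp only [p, q, Category.assoc]
    rw [ψ.hom_inv_id_assoc, reassoc_of% hret, Φ.hom_inv_id]
  let j := p ⊗ₘ 𝟙 (D.T ⊗ RedSub.pow (Red.Ga S) m)
  refine ⟨j, ?_, ?_⟩
  · haveI := isAffineHom_pow (S := S) n
    haveI := isAffineHom_src D m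
    haveI : IsAffineHom (pullback.fst (RedSub.pow (Red.Ga S) n).hom (D.T ⊗ RedSub.pow (Red.Ga S) m).hom) :=
      MorphismProperty.pullback_fst (P := @IsAffineHom) _ _ inferInstance
    haveI : IsAffineHom (RedSub.pow (Red.Ga S) n ⊗ (D.T ⊗ RedSub.pow (Red.Ga S) m)).hom := by
      show IsAffineHom (pullback.fst _ (D.T ⊗ RedSub.pow (Red.Ga S) m).hom ≫ _)
      infer_instance
    let r := q ⊗ₘ 𝟙 (D.T ⊗ RedSub.pow (Red.Ga S) m)
    haveI : IsSeparated (r.left ≫ (RedSub.pow (Red.Ga S) k ⊗ (D.T ⊗ RedSub.pow (Red.Ga S) m)).hom) := by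
      rw [Over.w r]; infer_instance
    haveI : IsSeparated r.left := IsSeparated.of_comp r.left (RedSub.pow (Red.Ga S) k ⊗ (D.T ⊗ RedSub.pow (Red.Ga S) m)).hom
    haveI : IsClosedImmersion (j.left ≫ r.left) := by
      rw [← Over.comp_left, tensorHom_comp_tensorHom, hpq, Category.id_comp, id_tensorHom_id, Over.id_left]
      infer_instance
    exact IsClosedImmersion.of_comp j.left r.left
  · rw [MonObj.comp_mul, ← Category.assoc j, Subsingleton.elim (j ≫ toUnit _) (toUnit _), RedSub.bruhatMap,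
      RedSub.cellMap]
    simp only [j, MonObj.comp_mul, tensorHom_fst_assoc, tensorHom_snd_assoc, Category.id_comp]
    let X := RedSub.pow (Red.Ga S) k ⊗ (D.T ⊗ RedSub.pow (Red.Ga S) m)
    have key : (nX nr X l)⁻¹ * (fst _ _ ≫ rprod D e) * nX nr X l = fst _ _ ≫ p ≫ rprod D eneg := by
      simp only [p, Category.assoc]
      rw [hψ, hinc, ← Category.assoc, prodMap_eq, prodMap_eq]
      have hh := map_list_prod (MulAut.conj (nX nr X l)⁻¹).toMonoidHom
        (List.ofFn fun i => fst _ _ ≫ prj S i ≫ D.u (e i))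
      rw [MulEquiv.coe_toMonoidHom, List.map_ofFn, MulAut.conj_apply, inv_inv] at hh
      rw [hh]
      congr 2
      funext i
      show MulAut.conj (nX nr X l)⁻¹ (fst _ _ ≫ prj S i ≫ D.u (e i)) = _
      rw [MulAut.conj_apply, inv_inv, ← Category.assoc (fst _ _), hρ]
      simp only [Φ, Category.assoc]
      rw [← Category.assoc (tup _), tup_prj]
      simp only [Category.assoc]
      rfl
    rw [← key]
    simp only [nX, X]
    group

omit hnr [Nonempty S] in
/-- A translate of an open immersion is an open immersion. -/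
theorem isOpenImmersion_translate (w : 𝟙_ (Over S) ⟶ G) {Y : Over S} (f : Y ⟶ G) [IsOpenImmersion f.left] :
    IsOpenImmersion ((toUnit Y ≫ w) * f).left := by
  let L : (𝟙_ (Over S) ⟶ G) → (G ⟶ G) := fun w => (toUnit G ≫ w) * 𝟙 G
  have hL : ∀ (v : 𝟙_ (Over S) ⟶ G) {Z : Over S} (h : Z ⟶ G), h ≫ L v = (toUnit Z ≫ v) * h := fun v Z h => by
    rw [MonObj.comp_mul, ← Category.assoc, Category.comp_id, Subsingleton.elim (h ≫ toUnit _) (toUnit Z)]
  let I : G ≅ G :=
    { hom := L w
      inv := L w⁻¹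
      hom_inv_id := by rw [hL]; simp only [L, GrpObj.comp_inv]; group
      inv_hom_id := by rw [hL]; simp only [L, GrpObj.comp_inv]; group }
  rw [← hL w f, Over.comp_left]
  haveI : IsIso (L w).left := inferInstanceAs (IsIso ((Over.forget S).mapIso I).hom)
  infer_instance

end Bruhat

end
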