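import Groth.Agent.BruhatLib.Rank

/-!
# Words in representatives of reflections and double cosets

The points over an algebraically closed field are the union of the products `U · n_l · T · U'` over words, for two sides
with walls at a base, and the double cosets of opposite unipotent groups determine the permutation of the roots.
-/

set_option autoImplicit false
set_option linter.style.haveILetI false
set_option linter.unusedSectionVars false
set_option backward.isDefEq.respectTransparency false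
set_option maxHeartbeats 1000000
set_option synthInstance.maxHeartbeats 400000

universe u

open CategoryTheory CategoryTheory.Limits MonoidalCategory CartesianMonoidalCategory AlgebraicGeometry
open Groth.Agent.GaPts
open Groth.Agent
open scoped MonObj

noncomputable section

attribute [-instance] CategoryTheory.Hom.commGroup

namespace Bruhat

open SplitCell SplitFib RootSubgrp

variable {S : Scheme.{u}} {G : Over S} [GrpObj G] {D : Red.SplitRed G} {nr : D.idx → (𝟙_ (Over S) ⟶ G)}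

/-- The point of a word. -/
def nX (nr : D.idx → (𝟙_ (Over S) ⟶ G)) (X : Over S) (l : List D.idx) : X ⟶ G := toUnit X ≫ (l.map nr).prod

variable {X : Over S}

theorem nX_nil : nX nr X [] = 1 := by simp [nX]

theorem nX_cons (a : D.idx) (l : List D.idx) : nX nr X (a :: l) = (toUnit X ≫ nr a) * nX nr X l := by
  rw [nX, List.map_cons, List.prod_cons, MonObj.comp_mul]
  rfl

theorem comp_nX {X' : Over S} (y : X' ⟶ X) (l : List D.idx) : y ≫ nX nr X l = nX nr X' l := by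
  rw [nX, ← Category.assoc, Subsingleton.elim (y ≫ toUnit X) (toUnit X')]
  rfl

theorem wordPerm_cons (a : D.idx) (l : List D.idx) :
    RedSub.wordPerm D.P (a :: l) = D.P.reflectionPerm a * RedSub.wordPerm D.P l := by
  simp [RedSub.wordPerm]

theorem wordPerm_symm_cons (a : D.idx) (l : List D.idx) (k : D.idx) :
    (RedSub.wordPerm D.P (a :: l)).symm k = (RedSub.wordPerm D.P l).symm (D.P.reflectionPerm a k) := by
  rw [Equiv.symm_apply_eq, wordPerm_cons, Equiv.Perm.mul_apply, Equiv.apply_symm_apply, perm_perm]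

theorem wordPerm_symm_neg [Nonempty S] (l : List D.idx) : ∀ k : D.idx, (RedSub.wordPerm D.P l).symm (D.P.reflectionPerm k k) =
    D.P.reflectionPerm ((RedSub.wordPerm D.P l).symm k) ((RedSub.wordPerm D.P l).symm k) := by
  induction l with
  | nil => intro k; rfl
  | cons a l ih => intro k; rw [wordPerm_symm_cons, wordPerm_symm_cons, perm_neg, ih]

theorem wordPerm_symm_nil (k : D.idx) : (RedSub.wordPerm D.P []).symm k = k := rfl

variable (hnr : ∀ a, IsRefl D a (nr a))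
include hnr

theorem conj_torus_word (l : List D.idx) : ∀ t : X ⟶ D.T,
    ∃ t' : X ⟶ D.T, nX nr X l * (t ≫ D.i) * (nX nr X l)⁻¹ = t' ≫ D.i := by
  induction l with
  | nil => exact fun t => ⟨t, by rw [nX_nil, _root_.one_mul, inv_one, _root_.mul_one]⟩
  | cons a l ih =>
    intro t
    obtain ⟨t', ht'⟩ := ih t
    refine ⟨tRefl a t', ?_⟩
    rw [← (hnr a).conj_torus, ← ht', nX_cons]
    group

theorem conj_torus_word' (l : List D.idx) : ∀ t : X ⟶ D.T,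
    ∃ t' : X ⟶ D.T, (nX nr X l)⁻¹ * (t ≫ D.i) * nX nr X l = t' ≫ D.i := by
  induction l with
  | nil => exact fun t => ⟨t, by rw [nX_nil, inv_one, _root_.one_mul, _root_.mul_one]⟩
  | cons a l ih =>
    intro t
    obtain ⟨t', ht'⟩ := ih (tRefl a t)
    refine ⟨t', ?_⟩
    rw [← ht', ← (hnr a).conj_torus', nX_cons]
    group

theorem normalises_nX (l : List D.idx) : Normalises D (nX nr X l) := fun X' y t => by
  rw [comp_nX]
  exact conj_torus_word hnr l t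

theorem normalises_nX_inv (l : List D.idx) : Normalises D (nX nr X l)⁻¹ := fun X' y t => by
  rw [GrpObj.comp_inv, comp_nX, inv_inv]
  exact conj_torus_word' hnr l t

variable [Nonempty S]

theorem conj_u_word (l : List D.idx) : ∀ (k : D.idx) (z : X ⟶ Red.Ga S), ∃ z' : X ⟶ Red.Ga S,
    nX nr X l * (z ≫ D.u k) * (nX nr X l)⁻¹ = z' ≫ D.u (RedSub.wordPerm D.P l k) := by
  induction l with
  | nil => exact fun k z => ⟨z, by rw [nX_nil, _root_.one_mul, inv_one, _root_.mul_one]; simp [RedSub.wordPerm]⟩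
  | cons a l ih =>
    intro k z
    obtain ⟨z₁, hz₁⟩ := ih k z
    obtain ⟨z₂, hz₂⟩ := (hnr a).conj_u (RedSub.wordPerm D.P l k) z₁
    refine ⟨z₂, ?_⟩
    rw [wordPerm_cons, Equiv.Perm.mul_apply, ← hz₂, ← hz₁, nX_cons]
    group

theorem conj_ux_word (l : List D.idx) {R R' : Set D.idx} (h : ∀ k ∈ R, RedSub.wordPerm D.P l k ∈ R') {g : X ⟶ G}
    (hg : g ∈ Ux D R X) : nX nr X l * g * (nX nr X l)⁻¹ ∈ Ux D R' X :=
  conj_mem (fun k hk z => by
    obtain ⟨z', hz'⟩ := conj_u_word hnr l k z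
    rw [hz']
    exact u_mem (h k hk) z') hg

theorem conj_u_word' (l : List D.idx) : ∀ (k : D.idx) (z : X ⟶ Red.Ga S), ∃ z' : X ⟶ Red.Ga S,
    (nX nr X l)⁻¹ * (z ≫ D.u k) * nX nr X l = z' ≫ D.u ((RedSub.wordPerm D.P l).symm k) := by
  induction l with
  | nil => exact fun k z => ⟨z, by rw [nX_nil, inv_one, _root_.one_mul, _root_.mul_one, wordPerm_symm_nil]⟩
  | cons a l ih =>
    intro k z
    obtain ⟨z₁, hz₁⟩ := (hnr a).inv.conj_u k z
    obtain ⟨z₂, hz₂⟩ := ih (D.P.reflectionPerm a k) z₁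
    refine ⟨z₂, ?_⟩
    rw [wordPerm_symm_cons, ← hz₂, ← hz₁, nX_cons, GrpObj.comp_inv]
    group

theorem conj_ux_word' (l : List D.idx) {R R' : Set D.idx} (h : ∀ k ∈ R, (RedSub.wordPerm D.P l).symm k ∈ R')
    {g : X ⟶ G} (hg : g ∈ Ux D R X) : (nX nr X l)⁻¹ * g * nX nr X l ∈ Ux D R' X := by
  have := conj_mem (D := D) (g := (nX nr X l)⁻¹) (P := Ux D R' X) (fun k hk z => by
    obtain ⟨z', hz'⟩ := conj_u_word' hnr l k z
    rw [inv_inv, hz']
    exact u_mem (h k hk) z') hg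
  rwa [inv_inv] at this

section Geom

variable {K : Type u} [Field K] [IsAlgClosed K] (ξ : Spec (CommRingCat.of K) ⟶ S)

/-- The products `U · n_l · T · U'`. -/
def Cells (nr : D.idx → (𝟙_ (Over S) ⟶ G)) (σ σ' : Sides D.P) : Set (aP ξ K ⟶ G) :=
  {g | ∃ u ∈ Ux D σ.pos (aP ξ K), ∃ (l : List D.idx) (t : aP ξ K ⟶ D.T), ∃ u' ∈ Ux D σ'.pos (aP ξ K),
    g = u * nX nr (aP ξ K) l * ((t ≫ D.i) * u')}

variable {σ σ' : Sides D.P}

theorem cells_torus (s : aP ξ K ⟶ D.T) {g : aP ξ K ⟶ G} (hg : g ∈ Cells ξ nr σ σ') :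
    (s ≫ D.i) * g ∈ Cells ξ nr σ σ' := by
  haveI := isMonHom_i D
  obtain ⟨u, hu, l, t, u', hu', rfl⟩ := hg
  obtain ⟨s', hs'⟩ := conj_torus_word' hnr l s
  refine ⟨_, conj_torus_mem s hu, l, s' * t, u', hu', ?_⟩
  rw [MonObj.mul_comp, ← hs']
  group

/-- **A representative of a wall reflection preserves the union of the double cosets.** -/
theorem cells_refl {a a' : D.idx} (ha' : a' = a ∨ a' = D.P.reflectionPerm a a) (hw : IsWall D σ a')
    {g : aP ξ K ⟶ G} (hg : g ∈ Cells ξ nr σ σ') : (toUnit _ ≫ nr a) * g ∈ Cells ξ nr σ σ' := by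
  haveI := isMonHom_i D
  set N := toUnit (aP ξ K) ≫ nr a with hN
  have hn : IsRefl D a' (nr a) := by
    rcases ha' with e | e
    · rw [e]; exact hnr a
    · rw [e]; exact (hnr a).neg
  obtain ⟨u, hu, l, t, u', hu', rfl⟩ := hg
  obtain ⟨u₁, hu₁, u₂, hu₂, rfl⟩ := exists_split_mem σ (fun k => k ≠ a') hu
  obtain ⟨x, hx⟩ : ∃ x : K, u₂ = el ξ (D.u a') x := by
    obtain ⟨w, hw'⟩ : ∃ w : aP ξ K ⟶ Red.Ga S, u₂ = w ≫ D.u a' := by
      haveI := isMonHom_u D a'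
      let P : Subgroup (aP ξ K ⟶ G) :=
        { carrier := {g | ∃ w : aP ξ K ⟶ Red.Ga S, g = w ≫ D.u a'}
          one_mem' := ⟨1, (MonObj.one_comp _).symm⟩
          mul_mem' := by rintro _ _ ⟨x, rfl⟩ ⟨y, rfl⟩; exact ⟨x * y, (MonObj.mul_comp _ _ _).symm⟩
          inv_mem' := by rintro _ ⟨x, rfl⟩; exact ⟨x⁻¹, (GrpObj.inv_comp _ _).symm⟩ }
      refine ux_le (P := P) (fun k hk z => ?_) hu₂
      rw [not_not.1 hk.2]
      exact ⟨z, rfl⟩
    obtain ⟨x, rfl⟩ := ga_cases ξ w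
    exact ⟨x, hw'⟩
  subst hx
  have h1 : N * u₁ * N⁻¹ ∈ Ux D {k | k ∈ σ.pos ∧ k ≠ a'} (aP ξ K) := hn.conj_ux (R' := {k | k ∈ σ.pos ∧ k ≠ a'}) (fun k hk => ⟨hw.2 k hk.1 hk.2, fun e => by
    have := congrArg (D.P.reflectionPerm a') e
    rw [perm_perm] at this
    exact σ.notMem_neg hk.1 (this ▸ neg_mem_neg σ hw.1)⟩) hu₁
  have h1' := ux_mono (D := D) (fun k (hk : k ∈ {k | k ∈ σ.pos ∧ k ≠ a'}) => hk.1) h1
  haveI := isMonHom_u D a'
  by_cases hx0 : x = 0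
  · refine ⟨_, h1', a :: l, t, u', hu', ?_⟩
    rw [hx0, el_zero, nX_cons, ← hN]
    group
  obtain ⟨z, hz⟩ := conj_u_word' hnr l a' (ptOf (cst ξ K x))
  rcases σ'.total ((RedSub.wordPerm D.P l).symm a') with hp | hnp
  · obtain ⟨w, hw'⟩ : ∃ w : aP ξ K ⟶ Red.Ga S,
        (t ≫ D.i)⁻¹ * (z ≫ D.u ((RedSub.wordPerm D.P l).symm a')) * (t ≫ D.i) =
          w ≫ D.u ((RedSub.wordPerm D.P l).symm a') := by
      obtain ⟨y, hy, -⟩ := (D.rootHom ((RedSub.wordPerm D.P l).symm a')).2.2 _ t⁻¹ z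
      exact ⟨y, by rw [hy, GrpObj.inv_comp, inv_inv]⟩
    refine ⟨_, h1', a :: l, t, _, Subgroup.mul_mem _ (u_mem hp w) hu', ?_⟩
    rw [← hw', ← hz, el_eq, nX_cons, ← hN]
    group
  obtain ⟨x', hx'⟩ : ∃ x' : K, N * el ξ (D.u a') x * N⁻¹ = el ξ (D.u (D.P.reflectionPerm a' a')) x' := by
    obtain ⟨w, hw'⟩ := hn.conj_u a' (X := aP ξ K) (ptOf (cst ξ K x))
    obtain ⟨x', rfl⟩ := ga_cases ξ w
    exact ⟨x', hw'⟩
  have hx'0 : x' ≠ 0 := fun h => hx0 (by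
    haveI := mono_u D a'
    haveI := isMonHom_u D (D.P.reflectionPerm a' a')
    rw [h, el_zero, conj_eq_one_iff, ← el_zero ξ (D.u a')] at hx'
    exact el_injective ξ (D.u a') hx')
  obtain ⟨p, q, τ, hpq⟩ := exists_rank_one ξ hn hx'0
  obtain ⟨q', hq'⟩ : ∃ q' : K, N * el ξ (D.u a') q * N⁻¹ = el ξ (D.u (D.P.reflectionPerm a' a')) q' := by
    obtain ⟨w, hw'⟩ := hn.conj_u a' (X := aP ξ K) (ptOf (cst ξ K q))
    obtain ⟨q', rfl⟩ := ga_cases ξ w
    exact ⟨q', hw'⟩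
  obtain ⟨c, hc⟩ := (hnr a).exists_sq
  set cX := toUnit (aP ξ K) ≫ c
  have hNN : N * N = cX ≫ D.i := by rw [hN, ← MonObj.comp_mul, hc]; simp only [cX, Category.assoc]
  obtain ⟨τ', hτ'⟩ : ∃ τ' : aP ξ K ⟶ D.T, N * (τ ≫ D.i) * N⁻¹ = τ' ≫ D.i := ⟨_, (hnr a).conj_torus τ⟩
  obtain ⟨e, he⟩ : ∃ e : aP ξ K ⟶ Red.Ga S, (cX ≫ D.i)⁻¹ * el ξ (D.u (D.P.reflectionPerm a' a')) q' * (cX ≫ D.i) =
      e ≫ D.u (D.P.reflectionPerm a' a') := by
    obtain ⟨y, hy, -⟩ := (D.rootHom (D.P.reflectionPerm a' a')).2.2 _ cX⁻¹ (ptOf (cst ξ K q'))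
    exact ⟨y, by rw [hy, GrpObj.inv_comp, inv_inv, el_eq]⟩
  obtain ⟨t₃, ht₃⟩ := conj_torus_word' hnr l (τ' * cX)
  obtain ⟨e', he'⟩ := conj_u_word' hnr l (D.P.reflectionPerm a' a') e
  rw [wordPerm_symm_neg] at he'
  set k' := D.P.reflectionPerm ((RedSub.wordPerm D.P l).symm a') ((RedSub.wordPerm D.P l).symm a') with hk'
  have hmem : (t ≫ D.i)⁻¹ * (e' ≫ D.u k') * (t ≫ D.i) * u' ∈ Ux D σ'.pos (aP ξ K) :=
    Subgroup.mul_mem _ (conj_torus_mem' t (u_mem (neg_mem_pos σ' hnp) e')) hu'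
  refine ⟨_, Subgroup.mul_mem _ h1' (el_mem ξ hw.1 p), l, t₃ * t, _, hmem, ?_⟩
  have e1 : N * el ξ (D.u a') x = el ξ (D.u (D.P.reflectionPerm a' a')) x' * N := mul_inv_eq_iff_eq_mul.1 hx'
  rw [MonObj.mul_comp t₃, ← he', ← ht₃, MonObj.mul_comp, ← he, ← hq', ← hτ', ← hNN]
  calc N * (u₁ * el ξ (D.u a') x * nX nr (aP ξ K) l * ((t ≫ D.i) * u'))
      = N * u₁ * N⁻¹ * (N * el ξ (D.u a') x) * nX nr (aP ξ K) l * ((t ≫ D.i) * u') := by group
    _ = N * u₁ * N⁻¹ * (el ξ (D.u a') p * N * (τ ≫ D.i) * el ξ (D.u a') q * N) * nX nr (aP ξ K) l *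
          ((t ≫ D.i) * u') := by rw [e1, hpq]
    _ = _ := by group

/-- **The double cosets cover the group.** -/
theorem mem_cells (b : D.P.Base)
    (hw : ∀ a ∈ b.support, ∃ a', (a' = a ∨ a' = D.P.reflectionPerm a a) ∧ IsWall D σ a') (g : aP ξ K ⟶ G) :
    g ∈ Cells ξ nr σ σ' := by
  haveI := isMonHom_i D
  haveI := SplitFib.isReduced_root D
  let P : Subgroup (aP ξ K ⟶ G) :=
    { carrier := {h | ∀ g ∈ Cells ξ nr σ σ', h * g ∈ Cells ξ nr σ σ' ∧ h⁻¹ * g ∈ Cells ξ nr σ σ'}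
      one_mem' := fun g hg => by simpa using hg
      mul_mem' := fun {h h'} hh hh' g hg => by
        refine ⟨?_, ?_⟩
        · rw [_root_.mul_assoc]; exact (hh _ (hh' g hg).1).1
        · rw [mul_inv_rev, _root_.mul_assoc]; exact (hh' _ (hh g hg).2).2
      inv_mem' := fun {h} hh g hg => ⟨(hh g hg).2, by rw [inv_inv]; exact (hh g hg).1⟩ }
  have hT : ∀ t : aP ξ K ⟶ D.T, t ≫ D.i ∈ P := fun t g hg =>
    ⟨cells_torus hnr ξ t hg, by rw [← GrpObj.inv_comp]; exact cells_torus hnr ξ t⁻¹ hg⟩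
  have hU : Ux D σ.pos (aP ξ K) ≤ P := by
    intro h hh g hg
    obtain ⟨u, hu, l, t, u', hu', rfl⟩ := hg
    exact ⟨⟨h * u, Subgroup.mul_mem _ hh hu, l, t, u', hu', by group⟩,
      ⟨h⁻¹ * u, Subgroup.mul_mem _ (Subgroup.inv_mem _ hh) hu, l, t, u', hu', by group⟩⟩
  have hN : ∀ a ∈ b.support, (toUnit (aP ξ K) ≫ nr a) ∈ P := fun a ha g hg => by
    obtain ⟨a', ha', hwa⟩ := hw a ha
    obtain ⟨c, hc⟩ := (hnr a).exists_sq
    have hNN : (toUnit (aP ξ K) ≫ nr a) * (toUnit (aP ξ K) ≫ nr a) = (toUnit (aP ξ K) ≫ c) ≫ D.i := by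
      rw [← MonObj.comp_mul, hc, Category.assoc]
    refine ⟨cells_refl hnr ξ ha' hwa hg, ?_⟩
    rw [show (toUnit (aP ξ K) ≫ nr a)⁻¹ = ((toUnit (aP ξ K) ≫ c)⁻¹ ≫ D.i) * (toUnit (aP ξ K) ≫ nr a) by
      rw [GrpObj.inv_comp, ← hNN]; group, _root_.mul_assoc]
    exact cells_torus hnr ξ _ (cells_refl hnr ξ ha' hwa hg)
  have hconj : ∀ (j : D.idx), (toUnit (aP ξ K) ≫ nr j) ∈ P → ∀ k : D.idx, (∀ z, z ≫ D.u k ∈ P) →
      ∀ z, z ≫ D.u (D.P.reflectionPerm j k) ∈ P := fun j hj k hk z => by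
    obtain ⟨z', hz'⟩ := (hnr j).conj_u (D.P.reflectionPerm j k) z
    rw [perm_perm] at hz'
    rw [show z ≫ D.u (D.P.reflectionPerm j k) =
      (toUnit (aP ξ K) ≫ nr j)⁻¹ * (z' ≫ D.u k) * (toUnit (aP ξ K) ≫ nr j) by rw [← hz']; group]
    exact P.mul_mem (P.mul_mem (P.inv_mem hj) (hk z')) hj
  have hall : ∀ k : D.idx, ∀ z, z ≫ D.u k ∈ P := fun k => by
    suffices h : (∀ z, z ≫ D.u k ∈ P) ∧ ∀ z, z ≫ D.u (D.P.reflectionPerm k k) ∈ P from h.1
    refine b.induction_reflect k (p := fun k => (∀ z, z ≫ D.u k ∈ P) ∧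
      ∀ z, z ≫ D.u (D.P.reflectionPerm k k) ∈ P) (fun i h => ⟨h.2, ?_⟩) (fun a ha => ?_) fun i j h hj => ?_
    · rw [show D.P.reflectionPerm (D.P.reflectionPerm i i) (D.P.reflectionPerm i i) = i from neg_neg' i]
      exact h.1
    · obtain ⟨a', ha', hwa⟩ := hw a ha
      have h1 : ∀ z : aP ξ K ⟶ Red.Ga S, z ≫ D.u a' ∈ P := fun z => hU (u_mem hwa.1 z)
      rcases ha' with rfl | rfl
      · exact ⟨h1, hconj a' (hN _ ha) _ h1⟩
      · refine ⟨fun z => ?_, h1⟩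
        have := hconj a (hN _ ha) _ h1 z
        rwa [perm_perm] at this
    · refine ⟨hconj j (hN _ hj) i h.1, ?_⟩
      rw [← perm_neg]
      exact hconj j (hN _ hj) _ h.2
  have htop := eq_top ξ P hT hall
  have h1 : (1 : aP ξ K ⟶ G) ∈ Cells ξ nr σ σ' :=
    ⟨1, Subgroup.one_mem _, [], 1, 1, Subgroup.one_mem _, by simp [nX_nil]⟩
  have hg : g ∈ P := htop ▸ Subgroup.mem_top g
  simpa using (hg 1 h1).1

omit hnr [Nonempty S] in
/-- Root elements of different roots differ. -/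
theorem eq_of_el_eq {p q : D.idx} {r s : K} (hr : r ≠ 0) (h : el ξ (D.u p) r = el ξ (D.u q) s) : p = q := by
  classical
  by_contra hne
  obtain ⟨b, hb⟩ := exists_sides_mem D p
  obtain ⟨n, m, eneg, epos, hneg, hpos⟩ := exists_enum D b
  haveI : ∀ k, IsMonHom (D.u k) := isMonHom_u D
  haveI : ∀ i, IsMonHom ((fun i => D.u (eneg i)) i) := fun i => isMonHom_u D _
  haveI : ∀ i, IsMonHom ((fun i => D.u (epos i)) i) := fun i => isMonHom_u D _
  obtain ⟨i, rfl⟩ := hpos.2.symm.subset hb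
  have hl : el ξ (D.u (epos i)) r = pe ξ (fun k => D.u (eneg k)) 0 *
      (((1 : aP ξ K ⟶ D.T) ≫ D.i) * pe ξ (fun k => D.u (epos k)) fun k => if k = i then r else 0) := by
    haveI := isMonHom_i D
    rw [show (0 : Fin n → K) = fun _ => 0 from rfl, pe_zero, pe_single, MonObj.one_comp, _root_.one_mul, _root_.one_mul]
  rcases b.total q with hq | hq
  · obtain ⟨j, rfl⟩ := hpos.2.symm.subset hq
    have hr' : el ξ (D.u (epos j)) s = pe ξ (fun k => D.u (eneg k)) 0 *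
        (((1 : aP ξ K ⟶ D.T) ≫ D.i) * pe ξ (fun k => D.u (epos k)) fun k => if k = j then s else 0) := by
      haveI := isMonHom_i D
      rw [show (0 : Fin n → K) = fun _ => 0 from rfl, pe_zero, pe_single, MonObj.one_comp, _root_.one_mul,
        _root_.one_mul]
    have e := congrFun (cell_inj D b ξ hneg hpos (hl.symm.trans (h.trans hr'))).2.2 i
    simp only [if_pos] at e
    rw [if_neg (fun e' => hne (congrArg epos e'))] at e
    exact hr e
  · obtain ⟨j, rfl⟩ := hneg.2.symm.subset hq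
    have hr' : el ξ (D.u (eneg j)) s = pe ξ (fun k => D.u (eneg k)) (fun k => if k = j then s else 0) *
        (((1 : aP ξ K ⟶ D.T) ≫ D.i) * pe ξ (fun k => D.u (epos k)) 0) := by
      haveI := isMonHom_i D
      rw [show (0 : Fin m → K) = fun _ => 0 from rfl, pe_zero, pe_single, MonObj.one_comp, _root_.mul_one,
        _root_.mul_one]
    have e := congrFun (cell_inj D b ξ hneg hpos (hl.symm.trans (h.trans hr'))).2.2 i
    simp only [if_pos, Pi.zero_apply] at e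
    exact hr e

/-- **The double coset determines the permutation of the roots.** -/
theorem wordPerm_eq (σ : Sides D.P) {l l' : List D.idx} {y y' c c' : aP ξ K ⟶ G} (hy : y ∈ Ux D σ.neg (aP ξ K))
    (hy' : y' ∈ Ux D σ.neg (aP ξ K)) (hc : c ∈ Ux D σ.pos (aP ξ K)) (hc' : c' ∈ Ux D σ.pos (aP ξ K))
    (t t' : aP ξ K ⟶ D.T)
    (h : y * nX nr (aP ξ K) l * ((t ≫ D.i) * c) = y' * nX nr (aP ξ K) l' * ((t' ≫ D.i) * c')) :
    RedSub.wordPerm D.P l = RedSub.wordPerm D.P l' := by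
  haveI := isMonHom_i D
  set N := nX nr (aP ξ K) l with hN
  set N' := nX nr (aP ξ K) l' with hN'
  obtain ⟨u₁, hu₁, u₂, hu₂, hu⟩ := exists_split_mem (flipSides σ)
    (fun k => (RedSub.wordPerm D.P l).symm k ∈ σ.neg) (Subgroup.mul_mem _ (Subgroup.inv_mem _ hy') hy)
  have ha : N⁻¹ * u₁ * N ∈ Ux D σ.neg (aP ξ K) := conj_ux_word' hnr l (fun k hk => hk.2) hu₁
  have hb : N⁻¹ * u₂ * N ∈ Ux D σ.pos (aP ξ K) :=
    conj_ux_word' hnr l (fun k hk => (σ.total _).resolve_right hk.2) hu₂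
  set a₁ := N⁻¹ * u₁ * N with ha₁
  set b₁ := N⁻¹ * u₂ * N with hb₁
  have e0 : N * (a₁ * b₁) = N' * ((t' ≫ D.i) * (c' * c⁻¹) * (t ≫ D.i)⁻¹) := by
    have e1 : N * (a₁ * b₁) = y'⁻¹ * (y * N) := by
      rw [ha₁, hb₁, ← _root_.mul_assoc y'⁻¹, hu]
      group
    rw [e1, eq_mul_inv_of_mul_eq h]
    group
  have hm : N'⁻¹ * N = ((t' * t⁻¹) ≫ D.i) := by
    refine mem_torus_of_cell (flipSides σ) ?_
      (y := (t' ≫ D.i) * (c' * c⁻¹) * (t' ≫ D.i)⁻¹ *
        (((t' * t⁻¹) ≫ D.i) * b₁⁻¹ * ((t' * t⁻¹) ≫ D.i)⁻¹)) ?_ (Subgroup.inv_mem _ ha) _ ?_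
    · exact (normalises_nX_inv hnr l').mul (normalises_nX hnr l)
    · exact Subgroup.mul_mem _ (conj_torus_mem t' (Subgroup.mul_mem _ hc' (Subgroup.inv_mem _ hc)))
        (conj_torus_mem _ (Subgroup.inv_mem _ hb))
    · calc N'⁻¹ * N = N'⁻¹ * (N * (a₁ * b₁)) * b₁⁻¹ * a₁⁻¹ := by group
        _ = _ := by rw [e0, MonObj.mul_comp, GrpObj.inv_comp]; group
  refine Equiv.ext fun k => ?_
  haveI : ∀ k, IsMonHom (D.u k) := isMonHom_u D
  obtain ⟨z, hz⟩ := conj_u_word hnr l k (ptOf (cst ξ K 1))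
  rw [← hN, show N = N' * ((t' * t⁻¹) ≫ D.i) by rw [← hm]; group] at hz
  obtain ⟨w, hw', -⟩ := (D.rootHom k).2.2 _ (t' * t⁻¹) (ptOf (cst ξ K 1))
  obtain ⟨w', hw''⟩ := conj_u_word hnr l' k w
  rw [← hN'] at hw''
  have e : z ≫ D.u (RedSub.wordPerm D.P l k) = w' ≫ D.u (RedSub.wordPerm D.P l' k) := by
    rw [← hz, ← hw'', hw']
    group
  obtain ⟨r, rfl⟩ := ga_cases ξ z
  obtain ⟨s, rfl⟩ := ga_cases ξ w'
  refine eq_of_el_eq ξ (fun hr => ?_) e
  rw [hr] at hz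
  rw [← el_eq, ← el_eq, el_zero, conj_eq_one_iff, ← el_zero ξ (D.u k)] at hz
  haveI := mono_u D k
  exact one_ne_zero (el_injective ξ (D.u k) hz)

end Geom

end Bruhat

end
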