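import Groth.Agent.BruhatLib.Coroot
import Groth.Agent.BruhatLib.Words
import Groth.Agent.BruhatLib.Map

/-!
# The Weyl group in the normaliser of the torus
-/

set_option autoImplicit false
set_option linter.style.haveILetI false
set_option linter.unusedSectionVars false
set_option backward.isDefEq.respectTransparency false
set_option maxHeartbeats 1000000
set_option synthInstance.maxHeartbeats 400000

universe u

open CategoryTheory CategoryTheory.Limits MonoidalCategory CartesianMonoidalCategory AlgebraicGeometry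
open Groth.Agent.GaPts
open Groth.Agent
open scoped MonObj
open Groth.Agent.BorelLib
open CoactBr (sp)

noncomputable section

attribute [-instance] CategoryTheory.Hom.commGroup

namespace Bruhat

open SplitCell SplitFib RootSubgrp

variable {S : Scheme.{u}} {G : Over S} [GrpObj G] (D : Red.SplitRed G)

/-- The linear automorphism by which a word acts on the characters. -/
def wordLin (l : List D.idx) : D.M ≃ₗ[ℤ] D.M := (l.reverse.map fun a => D.P.reflection a).prod

theorem wordLin_nil (m : D.M) : wordLin D [] m = m := rfl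

theorem wordLin_cons (a : D.idx) (l : List D.idx) (m : D.M) :
    wordLin D (a :: l) m = wordLin D l (D.P.reflection a m) := by
  simp only [wordLin, List.reverse_cons, List.map_append, List.map_cons, List.map_nil, List.prod_append,
    List.prod_cons, List.prod_nil, _root_.mul_one]
  rfl

theorem wordLin_root : ∀ (l : List D.idx) (k : D.idx),
    wordLin D l (D.P.root k) = D.P.root ((RedSub.wordPerm D.P l).symm k) := fun l => by
  induction l with
  | nil => exact fun k => rfl
  | cons a l ih => exact fun k => by rw [wordLin_cons, ← RootPairing.root_reflectionPerm, ih, wordPerm_symm_cons]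

theorem coroot'_wordLin : ∀ (l : List D.idx) (c : D.idx) (m : D.M),
    D.P.coroot' c (wordLin D l m) = D.P.coroot' (RedSub.wordPerm D.P l c) m := fun l => by
  induction l with
  | nil => exact fun c m => rfl
  | cons a l ih =>
      intro c m
      rw [wordLin_cons, ih, RootPairing.coroot'_reflection, wordPerm_cons, Equiv.Perm.mul_apply]

theorem wordLin_sub_mem : ∀ (l : List D.idx) (m : D.M), wordLin D l m - m ∈ D.P.rootSpan ℤ := fun l => by
  induction l with
  | nil => intro m; rw [wordLin_nil, sub_self]; exact zero_mem _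
  | cons a l ih =>
    intro m
    have h : D.P.reflection a m - m ∈ D.P.rootSpan ℤ := by
      rw [RootPairing.reflection_apply, sub_sub_cancel_left]
      exact neg_mem (Submodule.smul_mem _ _ (Submodule.subset_span ⟨a, rfl⟩))
    have := add_mem (ih (D.P.reflection a m)) h
    rwa [sub_add_sub_cancel, ← wordLin_cons] at this

/-- The permutation of the roots determines the automorphism of the characters. -/
theorem wordLin_congr {l l' : List D.idx} (h : RedSub.wordPerm D.P l = RedSub.wordPerm D.P l') :
    wordLin D l = wordLin D l' := by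
  classical
  refine LinearEquiv.ext fun m => sub_eq_zero.1 ?_
  have h1 : wordLin D l m - wordLin D l' m ∈ D.P.rootSpan ℤ := by
    have := sub_mem (wordLin_sub_mem D l m) (wordLin_sub_mem D l' m)
    rwa [sub_sub_sub_cancel_right] at this
  refine (Submodule.disjoint_def.1 D.P.disjoint_rootSpan_ker_rootForm) _ h1 ?_
  refine LinearMap.mem_ker.2 (LinearMap.ext fun y => ?_)
  rw [RootPairing.rootForm_apply_apply, LinearMap.zero_apply]
  refine Finset.sum_eq_zero fun c _ => ?_
  rw [map_sub, coroot'_wordLin, coroot'_wordLin, h, sub_self, zero_mul]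

variable {D}

/-- The action of a word on the points of the torus. -/
def tWord (l : List D.idx) {X : Over S} (t : X ⟶ D.T) : X ⟶ D.T :=
  t ≫ D.split.hom.hom.hom ≫ Red.DSmap S (wordLin D l).toLinearMap.toAddMonoidHom ≫ D.split.inv.hom.hom

theorem chars_tWord (l : List D.idx) {X : Over S} (t : X ⟶ D.T) :
    MultSubLib.chars (tWord l t ≫ D.split.hom.hom.hom) =
      (MultSubLib.chars (t ≫ D.split.hom.hom.hom)).comp (wordLin D l).toLinearMap.toAddMonoidHom.toMultiplicative := by
  rw [← Groth.Agent.DSImg.chars_comp_DSmap]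
  congr 1
  have e0 : D.split.inv.hom.hom ≫ D.split.hom.hom.hom = 𝟙 _ := by
    exact congrArg (fun q => q.hom.hom) D.split.inv_hom_id
  simp only [tWord, Category.assoc, e0, Category.comp_id]

variable {nr : D.idx → (𝟙_ (Over S) ⟶ G)} (hnr : ∀ a, IsRefl D a (nr a))

include hnr in
/-- **A word acts on the torus through the product of its reflections.** -/
theorem conj_torus_word_eq : ∀ (l : List D.idx) {X : Over S} (t : X ⟶ D.T),
    nX nr X l * (t ≫ D.i) * (nX nr X l)⁻¹ = tWord l t ≫ D.i := fun l => by
  induction l with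
  | nil =>
    intro X t
    rw [nX_nil, _root_.one_mul, inv_one, _root_.mul_one]
    congr 1
    refine torus_ext ?_
    rw [chars_tWord]
    exact MonoidHom.ext fun m => rfl
  | cons a l ih =>
    intro X t
    have e : tWord (a :: l) t = tRefl a (tWord l t) := by
      refine torus_ext ?_
      rw [chars_tWord, chars_tRefl, chars_tWord]
      refine MonoidHom.ext fun m => ?_
      obtain ⟨m, rfl⟩ := Multiplicative.ofAdd.surjective m
      show MultSubLib.chars _ (Multiplicative.ofAdd (wordLin D (a :: l) m)) =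
        MultSubLib.chars _ (Multiplicative.ofAdd (wordLin D l (D.P.reflection a m)))
      rw [wordLin_cons]
    rw [e, ← (hnr a).conj_torus, ← ih, nX_cons]
    group

variable [Nonempty S]

include hnr in
/-- **Over an algebraically closed field the normaliser of the torus consists of the words times the torus.** -/
theorem exists_word_of_normalises {K : Type u} [Field K] [IsAlgClosed K] (ξ : Spec (CommRingCat.of K) ⟶ S)
    (b : D.P.Base) {g : aP ξ K ⟶ G} (hg : Normalises D g) :
    ∃ (l : List D.idx) (t : aP ξ K ⟶ D.T), g = nX nr (aP ξ K) l * (t ≫ D.i) := by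
  let σ := sidesOfBase D.P b
  obtain ⟨u, hu, l, t, c, hc, hgu⟩ := mem_cells hnr ξ (σ := flipSides σ) (σ' := σ) b
    (fun a ha => ⟨_, Or.inr rfl, (isWall_of_mem_support b ha).flip⟩) g
  obtain ⟨u₁, hu₁, u₂, hu₂, hu12⟩ := exists_split_mem (flipSides σ)
    (fun k => (RedSub.wordPerm D.P l).symm k ∈ σ.neg) hu
  set N := nX nr (aP ξ K) l with hN
  have ha : N⁻¹ * u₁ * N ∈ Ux D σ.neg (aP ξ K) := conj_ux_word' hnr l (fun k hk => hk.2) hu₁
  have hb : N⁻¹ * u₂ * N ∈ Ux D σ.pos (aP ξ K) :=
    conj_ux_word' hnr l (fun k hk => (σ.total _).resolve_right hk.2) hu₂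
  refine ⟨l, t, eq_mul_of_inv_mul_eq ?_⟩
  refine mem_torus_of_cell σ ((normalises_nX_inv hnr l).mul hg) ha
    (c := (t ≫ D.i)⁻¹ * (N⁻¹ * u₂ * N) * (t ≫ D.i) * c)
    (Subgroup.mul_mem _ (conj_torus_mem' t hb) hc) t ?_
  rw [hgu, ← hN, hu12]
  group

/-- A point of the fibre commuting with the torus lies in it. -/
theorem exists_torus_of_commute (s : S) (g : aP (Red.geomPt s) (AlgebraicClosure (S.residueField s)) ⟶ G)
    (h : ∀ t : aP (Red.geomPt s) (AlgebraicClosure (S.residueField s)) ⟶ D.T, g * (t ≫ D.i) = (t ≫ D.i) * g) :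
    ∃ t, g = t ≫ D.i := by
  obtain ⟨ha, hsm, A, _, _, v, hv, hA, hA', hc, hred, hT⟩ := exists_fibre D s
  haveI := ha; haveI := hsm; haveI := hv; haveI := hA; haveI := hA'
  have h1 : ptG (Red.geomPt s) v g ∈ Subgroup.centralizer (Tsub D (Red.geomPt s) v : Set _) := by
    refine Subgroup.mem_centralizer_iff.2 fun w hw => ?_
    obtain ⟨t, rfl⟩ := hw
    show ptG _ v (t ≫ D.i) * _ = _ * ptG _ v (t ≫ D.i)
    rw [← map_mul, ← map_mul, h t]
  rw [hred.centralizer_eq hc hT] at h1
  obtain ⟨t, ht⟩ := h1
  exact ⟨t, ((ptG (Red.geomPt s) v).injective ht).symm⟩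

omit [Nonempty S] [GrpObj G] in
/-- Morphisms over the base agree when they agree on an open cover. -/
theorem eq_of_opens {Y Z : Over S} (f g : Y ⟶ Z)
    (h : ∀ y : Y.left, ∃ U : Y.left.Opens, y ∈ U ∧ U.ι ≫ f.left = U.ι ≫ g.left) : f = g := by
  choose U hy he using h
  refine Over.OverMorphism.ext ((Scheme.openCoverOfIsOpenCover Y.left U ?_).hom_ext _ _ fun y => he y)
  rw [TopologicalSpace.IsOpenCover, eq_top_iff]
  exact fun y _ => TopologicalSpace.Opens.mem_iSup.2 ⟨y, hy y⟩

include hnr in
/-- **Locally a normalising point is a word times a point of the torus.** -/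
theorem exists_word_on_open (b : D.P.Base) {X : Over S} {g : X ⟶ G} (hg : Normalises D g) (x : X.left) :
    ∃ (l : List D.idx) (U : X.left.Opens) (τ : Over.mk (U.ι ≫ X.hom) ⟶ D.T), x ∈ U ∧
      (Over.homMk U.ι : Over.mk (U.ι ≫ X.hom) ⟶ X) ≫ g = nX nr (Over.mk (U.ι ≫ X.hom)) l * (τ ≫ D.i) := by
  let σ := sidesOfBase D.P b
  obtain ⟨n, m, eneg, epos, hneg, hpos⟩ := exists_enum D σ
  obtain ⟨K, _, _, a, p, hp⟩ := Groth.Agent.BigCell.exists_geomPt X x
  let ξ : Spec (CommRingCat.of K) ⟶ S := a
  let q : aP ξ K ⟶ X := Over.homMk p.left (by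
    show p.left ≫ X.hom = Spec.map _ ≫ a
    rw [Over.w p, show CommRingCat.ofHom (algebraMap K K) = 𝟙 _ from rfl, Spec.map_id, Category.id_comp]
    rfl)
  have hq : Normalises D (q ≫ g) := fun X' y t => by rw [← Category.assoc]; exact hg X' (y ≫ q) t
  obtain ⟨l, t, hlt⟩ := exists_word_of_normalises hnr ξ b hq
  haveI := isOpenImmersion_cellMap D σ hneg hpos
  let w := (l.map nr).prod
  haveI := isOpenImmersion_translate w (RedSub.cellMap D eneg epos)
  let F := (toUnit _ ≫ w) * RedSub.cellMap D eneg epos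
  let U : X.left.Opens := g.left ⁻¹ᵁ F.left.opensRange
  let XU : Over S := Over.mk (U.ι ≫ X.hom)
  let ι' : XU ⟶ X := Over.homMk U.ι
  have hxU : x ∈ U := by
    show g.left x ∈ Set.range F.left
    obtain ⟨z⟩ : Nonempty (Spec (CommRingCat.of K) : Scheme.{u}) := inferInstance
    refine mem_range_translate ξ σ hneg hpos (g := q ≫ g) (x := g.left x) (fun z => ?_) w
      ⟨1, Subgroup.one_mem _, t, 1, Subgroup.one_mem _, ?_⟩
    · rw [Over.comp_left, Scheme.Hom.comp_apply]
      exact congrArg g.left (hp z)
    · rw [hlt]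
      simp only [nX, w, _root_.one_mul, _root_.mul_one, inv_mul_cancel_left]
  have hsub : Set.range (ι' ≫ g).left ⊆ Set.range F.left := by
    rintro _ ⟨z, rfl⟩
    exact z.2
  let r : XU ⟶ _ := Over.homMk (IsOpenImmersion.lift F.left (ι' ≫ g).left hsub)
    (by rw [← Over.w F, IsOpenImmersion.lift_fac_assoc]; exact Over.w _)
  have hr : r ≫ F = ι' ≫ g := Over.OverMorphism.ext (IsOpenImmersion.lift_fac _ _ _)
  have hr' : r ≫ RedSub.cellMap D eneg epos = (nX nr XU l)⁻¹ * (ι' ≫ g) := by
    rw [← hr, MonObj.comp_mul, ← Category.assoc, Subsingleton.elim (r ≫ toUnit _) (toUnit XU)]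
    simp only [nX, w, inv_mul_cancel_left]
  have hn : Normalises D ((nX nr XU l)⁻¹ * (ι' ≫ g)) :=
    (normalises_nX_inv hnr l).mul fun X' y t => by rw [← Category.assoc]; exact hg X' (y ≫ ι') t
  have h1 := factors_torus D σ hneg hpos XU r fun X' y t => by rw [hr']; exact hn X' y t
  rw [hr'] at h1
  exact ⟨l, U, r ≫ snd _ _ ≫ fst _ _, hxU, eq_mul_of_inv_mul_eq h1⟩


end Bruhat

end
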