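import Groth.Agent.BruhatLib.Map
import Groth.Agent.BruhatLib.Coroot

/-!
# Generators of the sections of a split group over a local base
-/

set_option autoImplicit false
set_option linter.style.haveILetI false
set_option linter.unusedSectionVars false
set_option backward.isDefEq.respectTransparency false
set_option maxHeartbeats 1000000
set_option synthInstance.maxHeartbeats 400000

universe u

open CategoryTheory CategoryTheory.Limits MonoidalCategory CartesianMonoidalCategory AlgebraicGeometry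
open Groth.Agent.GaPts
open Groth.Agent
open scoped MonObj
open Groth.Agent.BorelLib

noncomputable section

attribute [-instance] CategoryTheory.Hom.commGroup

namespace Bruhat

open SplitCell SplitFib RootSubgrp

/-- The coroot sections lie in any subgroup containing the two root groups. -/
theorem coroot_mem {S : Scheme.{u}} {G : Over S} [GrpObj G] {D : Red.SplitRed G} [Nonempty S] (a : D.idx)
    {X : Over S} (P : Subgroup (X ⟶ G)) (hP : ∀ z : X ⟶ Red.Ga S, z ≫ D.u a ∈ P)
    (hP' : ∀ z : X ⟶ Red.Ga S, z ≫ D.u (D.P.reflectionPerm a a) ∈ P) (e : (Γ(X.left, ⊤))ˣ) :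
    cochT D (coF D a) (GmPts.ptOfUnit e) ≫ D.i ∈ P := by
  obtain ⟨c, hc⟩ := exists_rule a
  let v := GmPts.unitOfPt (toUnit X ≫ c)
  obtain ⟨x', y', -, -, h⟩ := (hc X (ptOf (((e : Γ(X.left, ⊤)) - 1) * (v⁻¹ : (Γ(X.left, ⊤))ˣ))) (ptOf 1)).2 e (by
    rw [gaFn_ptOf, gaFn_ptOf, _root_.mul_one, ← GmPts.val_unitOfPt]
    linear_combination (-((e : Γ(X.left, ⊤)) - 1)) * v.mul_inv)
  rw [show cochT D (coF D a) (GmPts.ptOfUnit e) ≫ D.i =
    (y' ≫ D.u (D.P.reflectionPerm a a))⁻¹ * ((y' ≫ D.u (D.P.reflectionPerm a a)) *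
      (cochT D (coF D a) (GmPts.ptOfUnit e) ≫ D.i) * (x' ≫ D.u a)) * (x' ≫ D.u a)⁻¹ by group, ← h]
  exact P.mul_mem (P.mul_mem (P.inv_mem (hP' _)) (P.mul_mem (hP _) (hP' _))) (P.inv_mem (hP _))

/-- Representatives of all reflections made of the root groups. -/
theorem exists_weyl {S : Scheme.{u}} {G : Over S} [GrpObj G] (D : Red.SplitRed G) [Nonempty S] :
    ∃ nr : D.idx → (𝟙_ (Over S) ⟶ G), (∀ a, IsRefl D a (nr a)) ∧ ∀ (a : D.idx) (P : Subgroup (𝟙_ (Over S) ⟶ G)),
      (∀ z, z ≫ D.u a ∈ P) → (∀ z, z ≫ D.u (D.P.reflectionPerm a a) ∈ P) → nr a ∈ P := by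
  choose c hW hc using exists_rule' (D := D)
  choose x y hxy using hW
  exact ⟨_, hxy, fun a P h h' => P.mul_mem (P.mul_mem (h _) (h' _)) (h _)⟩

/-- **Over a local base the torus and the simple root groups generate the sections.** -/
theorem eq_top_of_local {A : Type u} [CommRing A] [IsLocalRing A] {G : Over (Spec (CommRingCat.of A))} [GrpObj G]
    (D : Red.SplitRed G) (b : D.P.Base) (P : Subgroup (𝟙_ (Over (Spec (CommRingCat.of A))) ⟶ G))
    (hT : ∀ t : 𝟙_ _ ⟶ D.T, t ≫ D.i ∈ P) (hU : ∀ a ∈ b.support, ∀ z : 𝟙_ _ ⟶ Red.Ga _, z ≫ D.u a ∈ P)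
    (hU' : ∀ a ∈ b.support, ∀ z : 𝟙_ _ ⟶ Red.Ga _, z ≫ D.u (D.P.reflectionPerm a a) ∈ P) : P = ⊤ := by
  haveI : Nonempty (Spec (CommRingCat.of A) : Scheme.{u}) := ⟨IsLocalRing.closedPoint A⟩
  obtain ⟨nr, hnr, hmem⟩ := exists_weyl D
  have hall := roots_mem b hnr P (fun a ha => by
    rw [Subsingleton.elim (toUnit (𝟙_ (Over (Spec (CommRingCat.of A))))) (𝟙 _), Category.id_comp]
    exact hmem a P (hU a ha) (hU' a ha)) hU
  refine eq_top_iff.2 fun g _ => ?_
  let x := g.left (IsLocalRing.closedPoint A)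
  obtain ⟨l, m, eneg, epos, hneg, hpos⟩ := exists_enum D (sidesOfBase D.P b)
  haveI := isOpenImmersion_cellMap D (sidesOfBase D.P b) hneg hpos
  obtain ⟨K, _, _, ξ, g₀, hg₀⟩ := exists_geom x
  let φ : (𝟙_ (Over (Spec (CommRingCat.of A))) ⟶ G) →* (aP ξ K ⟶ G) :=
    MonoidHom.mk' (fun w => toUnit _ ≫ w) fun w w' => MonObj.comp_mul _ _ _
  obtain ⟨_, ⟨w, hw, rfl⟩, h⟩ := exists_mem_translate ξ b (P.toSubmonoid.map φ) (fun a ha => by
    obtain ⟨r, hr, hr0⟩ := exists_el_of_section D ξ a (ptOf 1)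
    exact ⟨r, hr0 (by rw [gaFn_ptOf]; exact isUnit_one), _, hU a ha _, hr⟩) g₀
  have hx : x ∈ Set.range ((toUnit _ ≫ w) * RedSub.cellMap D eneg epos).left :=
    mem_range_translate ξ (sidesOfBase D.P b) hneg hpos hg₀ w h
  haveI := isOpenImmersion_translate w (RedSub.cellMap D eneg epos)
  have hsub : Set.range g.left ⊆ Set.range ((toUnit _ ≫ w) * RedSub.cellMap D eneg epos).left := by
    rintro _ ⟨s, rfl⟩
    exact ((IsLocalRing.specializes_closedPoint s).map g.left.continuous).mem_open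
      (Scheme.Hom.isOpenEmbedding _).isOpen_range hx
  let q : 𝟙_ (Over (Spec (CommRingCat.of A))) ⟶ _ := Over.homMk
    (IsOpenImmersion.lift ((toUnit _ ≫ w) * RedSub.cellMap D eneg epos).left g.left hsub)
    (by rw [← Over.w ((toUnit _ ≫ w) * RedSub.cellMap D eneg epos), IsOpenImmersion.lift_fac_assoc]; exact Over.w _)
  have hq : q ≫ ((toUnit _ ≫ w) * RedSub.cellMap D eneg epos) = g :=
    Over.OverMorphism.ext (IsOpenImmersion.lift_fac _ _ _)
  rw [← hq, MonObj.comp_mul, ← Category.assoc, Subsingleton.elim (q ≫ toUnit _) (𝟙 _), Category.id_comp,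
    RedSub.cellMap]
  simp only [MonObj.comp_mul]
  have hux : ∀ {k : ℕ} (e : Fin k → D.idx) (z : 𝟙_ _ ⟶ RedSub.pow (Red.Ga _) k), z ≫ rprod D e ∈ P :=
    fun e z => ux_le (R := Set.univ) (fun k _ => hall k) (rprod_mem e (fun _ => Set.mem_univ _) z)
  refine P.mul_mem hw (P.mul_mem ?_ (P.mul_mem ?_ ?_))
  · rw [← Category.assoc]; exact hux eneg _
  · simp only [← Category.assoc]; exact hT _
  · simp only [← Category.assoc]; exact hux epos _

/-- If the coroots span, every point of the torus is a product of simple coroot points. -/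
theorem torus_mem_of_simplyConnected {S : Scheme.{u}} {G : Over S} [GrpObj G] (D : Red.SplitRed G) (b : D.P.Base)
    (hsc : Submodule.span ℤ (Set.range D.P.coroot) = ⊤) {X : Over S} (P : Subgroup (X ⟶ G))
    (hP : ∀ a ∈ b.support, ∀ e : (Γ(X.left, ⊤))ˣ, cochT D (coF D a) (GmPts.ptOfUnit e) ≫ D.i ∈ P) (t : X ⟶ D.T) :
    t ≫ D.i ∈ P := by
  classical
  haveI := isMonHom_i D
  haveI : IsMonHom D.split.hom.hom.hom := D.split.hom.hom.isMonHom_hom
  let v : ↥b.support → Module.Dual ℤ D.M := fun a => D.P.coroot a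
  have hli : LinearIndependent ℤ v := b.linearIndepOn_coroot
  have hsp : ⊤ ≤ Submodule.span ℤ (Set.range v) := by
    have h := b.span_coroot_support
    rw [RootPairing.corootSpan, hsc] at h
    rw [← h]
    refine Submodule.span_mono ?_
    rintro _ ⟨a, ha, rfl⟩
    exact ⟨⟨a, ha⟩, rfl⟩
  let B := Module.Basis.mk hli hsp
  let ω : ↥b.support → D.M := fun a => (Module.evalEquiv ℤ D.M).symm (B.dualBasis a)
  have hω : ∀ m : D.M, m = ∑ a : ↥b.support, coF D a m • ω a := fun m => by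
    refine (Module.evalEquiv ℤ D.M).injective ?_
    rw [map_sum]
    simp only [map_zsmul, ω, LinearEquiv.apply_symm_apply]
    refine B.ext fun c => ?_
    simp only [LinearMap.coe_sum, Finset.sum_apply, LinearMap.smul_apply, Module.evalEquiv_apply,
      Module.Dual.eval_apply, Module.Basis.dualBasis_apply_self, smul_eq_mul, mul_ite, _root_.mul_one, mul_zero,
      Finset.sum_ite_eq, Finset.mem_univ, if_true]
    simp only [B, Module.Basis.coe_mk, v, coF]
  let χ := (MultSubLib.chars (t ≫ D.split.hom.hom.hom)).toHomUnits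
  let H : Subgroup (X ⟶ D.T) := P.comap (MonoidHom.mk' (fun t => t ≫ D.i) fun t t' => MonObj.mul_comp t t' _)
  suffices h : t = (Finset.univ.toList.map fun a : ↥b.support =>
      cochT D (coF D a) (GmPts.ptOfUnit (χ (Multiplicative.ofAdd (ω a))))).prod by
    show t ∈ H
    rw [h]
    refine Subgroup.list_prod_mem _ fun s hs => ?_
    obtain ⟨a, -, rfl⟩ := List.mem_map.1 hs
    exact hP a a.2 _
  refine torus_ext (MonoidHom.ext fun m => ?_)
  obtain ⟨m, rfl⟩ := Multiplicative.ofAdd.surjective m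
  let ψ : (X ⟶ D.T) →* Γ(X.left, ⊤) :=
    { toFun := fun s => MultSubLib.chars (s ≫ D.split.hom.hom.hom) (Multiplicative.ofAdd m)
      map_one' := by
        show MultSubLib.chars _ _ = _
        rw [MonObj.one_comp, MultSubLib.chars_one, MonoidHom.one_apply]
      map_mul' := fun s s' => by
        show MultSubLib.chars _ _ = MultSubLib.chars _ _ * MultSubLib.chars _ _
        rw [MonObj.mul_comp, MultSubLib.chars_mul, MonoidHom.mul_apply] }
  show _ = ψ _
  rw [map_list_prod, List.map_map, Finset.prod_map_toList]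
  have hψ : ∀ a : ↥b.support, ψ (cochT D (coF D a) (GmPts.ptOfUnit (χ (Multiplicative.ofAdd (ω a))))) =
      ((χ (Multiplicative.ofAdd (coF D a m • ω a)) : (Γ(X.left, ⊤))ˣ) : Γ(X.left, ⊤)) := fun a => by
    show MultSubLib.chars _ _ = _
    rw [← gmFn_chi (cochT D _ _ ≫ _), Category.assoc (cochT D _ _), gmFn_cochT, GmPts.unitOfPt_ptOfUnit,
      ofAdd_zsmul, map_zpow]
  simp only [Function.comp_apply, hψ]
  conv_lhs => rw [hω m]
  rw [← Units.coe_prod, ← map_prod, ← ofAdd_sum]
  rfl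

end Bruhat

end
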