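import Groth.Agent.BruhatLib.Pinned

/-!
# Elements moving root groups up to a sign, and their action on Weyl elements
-/

set_option autoImplicit false
set_option linter.style.haveILetI false
set_option linter.unusedSectionVars false
set_option backward.isDefEq.respectTransparency false
set_option maxHeartbeats 1000000
set_option synthInstance.maxHeartbeats 400000

universe u

open CategoryTheory CategoryTheory.Limits MonoidalCategory CartesianMonoidalCategory AlgebraicGeometry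
open Groth.Agent.GaPts
open Groth.Agent
open Groth.Agent.RankOne (eq_ptOf eq_ptOfUnit comp_ptOf ptOf_add)
open scoped MonObj

noncomputable section

attribute [-instance] CategoryTheory.Hom.commGroup

namespace Bruhat

open SplitCell SplitFib RootSubgrp

variable {S : Scheme.{u}} {G : Over S} [GrpObj G] {D : Red.SplitRed G}

section Coord

variable {X : Over S}

/-- The point of a root group with given coordinate. -/
abbrev ep (D : Red.SplitRed G) (k : D.idx) (r : Γ(X.left, ⊤)) : X ⟶ G := (ptOf r : X ⟶ Red.Ga S) ≫ D.u k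

theorem ep_of (k : D.idx) (z : X ⟶ Red.Ga S) : z ≫ D.u k = ep D k (Red.gaFn z) := by
  rw [ep, ← eq_ptOf z rfl]

theorem ep_add (k : D.idx) (r s : Γ(X.left, ⊤)) : ep D k (r + s) = ep D k r * ep D k s := by
  haveI := isMonHom_u D k
  rw [ep, ep, ep, ← MonObj.mul_comp, ptOf_add]

theorem ep_zero (k : D.idx) : ep D k (0 : Γ(X.left, ⊤)) = 1 := by
  have h := ep_add (D := D) (X := X) k 0 0
  rw [add_zero, left_eq_mul] at h
  exact h

theorem ep_neg (k : D.idx) (r : Γ(X.left, ⊤)) : ep D k (-r) = (ep D k r)⁻¹ := by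
  refine eq_inv_of_mul_eq_one_left ?_
  rw [← ep_add, neg_add_cancel, ep_zero]

theorem comp_ep {X' : Over S} (g : X' ⟶ X) (k : D.idx) (r : Γ(X.left, ⊤)) :
    g ≫ ep D k r = ep D k (g.left.appTop r) := by
  rw [ep, ← Category.assoc, comp_ptOf]

theorem ep_injective (k : D.idx) : Function.Injective (ep D k : Γ(X.left, ⊤) → (X ⟶ G)) := fun r s e => by
  haveI := mono_u D k
  have e' := congrArg Red.gaFn ((cancel_mono (D.u k)).1 e)
  rwa [gaFn_ptOf, gaFn_ptOf] at e'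

end Coord

/-- The element carries one root group onto another one, multiplying by a sign. -/
def Moves (D : Red.SplitRed G) (g : 𝟙_ (Over S) ⟶ G) (k l : D.idx) (ε : ℤ) : Prop :=
  ∀ (X : Over S) (x : X ⟶ Red.Ga S), (toUnit X ≫ g) * (x ≫ D.u k) * (toUnit X ≫ g)⁻¹ = (x ≫ D.u l) ^ ε

theorem Moves.refl (k : D.idx) : Moves D 1 k k 1 := fun X x => by
  rw [MonObj.comp_one, _root_.one_mul, inv_one, _root_.mul_one, zpow_one]

theorem Moves.trans {g h : 𝟙_ (Over S) ⟶ G} {k l m : D.idx} {ε ε' : ℤ} (hg : Moves D g k l ε) (hh : Moves D h l m ε') :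
    Moves D (h * g) k m (ε' * ε) := fun X x => by
  rw [zpow_mul, ← hh X x, conj_zpow, ← hg X x, MonObj.comp_mul]
  group

theorem Moves.sign_congr {g : 𝟙_ (Over S) ⟶ G} {k l : D.idx} {ε ε' : ℤ} (hg : Moves D g k l ε) (e : ε = ε') :
    Moves D g k l ε' := e ▸ hg

theorem Moves.target_congr {g : 𝟙_ (Over S) ⟶ G} {k l l' : D.idx} {ε : ℤ} (hg : Moves D g k l ε) (e : l = l') :
    Moves D g k l' ε := e ▸ hg

/-- The element normalises the torus and permutes the root groups. -/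
structure Perms (D : Red.SplitRed G) (g : 𝟙_ (Over S) ⟶ G) (π : Equiv.Perm D.idx) : Prop where
  torus : ∀ (X : Over S) (t : X ⟶ D.T), ∃ t' : X ⟶ D.T,
    (toUnit X ≫ g) * (t ≫ D.i) * (toUnit X ≫ g)⁻¹ = t' ≫ D.i
  root : ∀ (k : D.idx) (X : Over S) (z : X ⟶ Red.Ga S), ∃ z' : X ⟶ Red.Ga S,
    (toUnit X ≫ g) * (z ≫ D.u k) * (toUnit X ≫ g)⁻¹ = z' ≫ D.u (π k)
  neg : ∀ k : D.idx, π (D.P.reflectionPerm k k) = D.P.reflectionPerm (π k) (π k)

theorem Perms.mul {g h : 𝟙_ (Over S) ⟶ G} {π σ : Equiv.Perm D.idx} (hg : Perms D g π) (hh : Perms D h σ) :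
    Perms D (g * h) (π * σ) := by
  refine ⟨fun X t => ?_, fun k X z => ?_, fun k => ?_⟩
  · obtain ⟨t₁, h₁⟩ := hh.torus X t
    obtain ⟨t₂, h₂⟩ := hg.torus X t₁
    exact ⟨t₂, by rw [← h₂, ← h₁, MonObj.comp_mul]; group⟩
  · obtain ⟨z₁, h₁⟩ := hh.root k X z
    obtain ⟨z₂, h₂⟩ := hg.root (σ k) X z₁
    exact ⟨z₂, by rw [Equiv.Perm.mul_apply, ← h₂, ← h₁, MonObj.comp_mul]; group⟩
  · simp only [Equiv.Perm.mul_apply, hh.neg, hg.neg]

theorem IsRefl.perms [Nonempty S] {a : D.idx} {n : 𝟙_ (Over S) ⟶ G} (hn : IsRefl D a n) :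
    Perms D n (D.P.reflectionPerm a) :=
  ⟨fun X t => ⟨tRefl a t, hn.conj_torus t⟩, fun k X z => hn.conj_u k z, fun k => perm_neg a k⟩

section Conj

variable [Nonempty S] {p q : D.idx} {avp avq : Red.Gm S ⟶ D.T} {wp wq : 𝟙_ (Over S) ⟶ G}

theorem zpow_ep {X : Over S} (k : D.idx) {ε : ℤ} (hε : ε = 1 ∨ ε = -1) (r : Γ(X.left, ⊤)) :
    (ep D k r) ^ ε = ep D k ((ε : Γ(X.left, ⊤)) * r) := by
  rcases hε with rfl | rfl
  · rw [zpow_one, Int.cast_one, _root_.one_mul]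
  · rw [zpow_neg_one, Int.cast_neg, Int.cast_one, neg_one_mul, ep_neg]

/-- **Conjugation carries the unit of the opposite root group along.** -/
theorem Moves.neg_one {g : 𝟙_ (Over S) ⟶ G} {π : Equiv.Perm D.idx} (P : Pin D p avp wp) (Q : Pin D q avq wq)
    (hg : Perms D g π) {ε : ℤ} (hε : ε = 1 ∨ ε = -1) (hx : Moves D g p q ε) (hπ : π p = q) :
    g * ((ptOf 1 : 𝟙_ (Over S) ⟶ Red.Ga S) ≫ D.u (D.P.reflectionPerm p p)) * g⁻¹ =
      ((ptOf 1 : 𝟙_ (Over S) ⟶ Red.Ga S) ≫ D.u (D.P.reflectionPerm q q)) ^ ε := by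
  obtain ⟨c₀, hc₀⟩ := exists_rule (D := D) q
  set p' := D.P.reflectionPerm p p with hp'
  set q' := D.P.reflectionPerm q q with hq'
  have hperm : π p' = q' := by rw [hp', hg.neg, hπ]
  have hexφ : ∀ {X : Over S} (y : X ⟶ Red.Ga S), ∃ y' : X ⟶ Red.Ga S,
      (toUnit X ≫ g) * (y ≫ D.u p') * (toUnit X ≫ g)⁻¹ = y' ≫ D.u q' := fun {X} y => by
    obtain ⟨y', hy'⟩ := hg.root p' X y
    exact ⟨y', by rw [← hperm]; exact hy'⟩
  have hεε : ∀ {X : Over S}, (ε : Γ(X.left, ⊤)) * (ε : Γ(X.left, ⊤)) = 1 := fun {X} => by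
    rcases hε with rfl | rfl <;> simp
  have hx' : ∀ {X : Over S} (x : X ⟶ Red.Ga S),
      (toUnit X ≫ g) * (x ≫ D.u p) * (toUnit X ≫ g)⁻¹ =
        (ptOf ((ε : Γ(X.left, ⊤)) * Red.gaFn x) : X ⟶ Red.Ga S) ≫ D.u q := fun {X} x => by
    rw [hx X x, ep_of, zpow_ep q hε]
  have key : ∀ {X : Over S} (y y' : X ⟶ Red.Ga S), IsUnit (1 + (ε : Γ(X.left, ⊤)) * Red.gaFn y) →
      (toUnit X ≫ g) * (y ≫ D.u p') * (toUnit X ≫ g)⁻¹ = y' ≫ D.u q' →
      Red.gmFn (toUnit X ≫ c₀) * Red.gaFn y' = (ε : Γ(X.left, ⊤)) * Red.gaFn y ∧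
        Red.gmFn (toUnit X ≫ c₀) * ((ε : Γ(X.left, ⊤)) * Red.gaFn y) = (ε : Γ(X.left, ⊤)) * Red.gaFn y := by
    intro X y y' hu hy'
    set one := (ptOf 1 : X ⟶ Red.Ga S) with hone
    set onep := (ptOf (ε : Γ(X.left, ⊤)) : X ⟶ Red.Ga S) with honep
    set ey := (ptOf ((ε : Γ(X.left, ⊤)) * Red.gaFn y) : X ⟶ Red.Ga S) with hey
    have main : ∀ (r : X ⟶ Red.Ga S) (x₁ y₁ : X ⟶ Red.Ga S) (t₁ : X ⟶ D.T),
        (one ≫ D.u q) * (r ≫ D.u q') = (y₁ ≫ D.u q') * (t₁ ≫ D.i) * (x₁ ≫ D.u q) →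
        Red.gaFn x₁ * (1 + (ε : Γ(X.left, ⊤)) * Red.gaFn y) = 1 →
        Red.gmFn (toUnit X ≫ c₀) * Red.gaFn r = (ε : Γ(X.left, ⊤)) * Red.gaFn y := by
      intro r x₁ y₁ t₁ hd hx₁
      have h1 := (hc₀ X one r).1 ⟨y₁, t₁, x₁, hd⟩
      obtain ⟨x₂, y₂, hx₂, -, hd₂⟩ := (hc₀ X one r).2 h1.unit h1.unit_spec
      have hxx := cell_x_eq q (hd₂.symm.trans hd)
      rw [hxx, h1.unit_spec, hone, gaFn_ptOf, _root_.mul_one] at hx₂
      have := (IsUnit.of_mul_eq_one (1 + (ε : Γ(X.left, ⊤)) * Red.gaFn y) hx₁).mul_left_cancel (hx₂.trans hx₁.symm)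
      exact add_left_cancel this
    refine ⟨?_, ?_⟩
    · have he : IsUnit (1 + Red.gaFn onep * Red.gaFn y) := by rwa [honep, gaFn_ptOf]
      obtain ⟨x₁, y₁, z, hz, hx₁, -, hd⟩ := P.hpair X onep y he
      obtain ⟨y₂, hy₂⟩ := hexφ y₁
      obtain ⟨t₂, ht₂⟩ := hg.torus X (z ≫ avp)
      refine main y' (ptOf ((ε : Γ(X.left, ⊤)) * Red.gaFn x₁)) y₂ t₂ ?_ ?_
      · have hd' := congrArg (fun f => (toUnit X ≫ g) * f * (toUnit X ≫ g)⁻¹) hd
        simp only [← Category.assoc z avp] at hd'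
        have e1 := hx' onep
        rw [honep, gaFn_ptOf, hεε] at e1
        rw [hone, ← e1, ← hy', ← hy₂, ← ht₂, ← hx' x₁]
        simpa only [conj_mul, honep] using hd'
      · rw [hz, honep, gaFn_ptOf] at hx₁
        rw [gaFn_ptOf, _root_.mul_assoc, hx₁, hεε]
    · have he : IsUnit (1 + Red.gaFn one * Red.gaFn ey) := by
        rwa [hone, hey, gaFn_ptOf, gaFn_ptOf, _root_.one_mul]
      obtain ⟨x₁, y₁, z, hz, hx₁, -, hd⟩ := Q.hpair X one ey he
      have := main ey x₁ y₁ (z ≫ avq) (by rw [Category.assoc]; exact hd)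
        (by rw [hz, hone, hey, gaFn_ptOf, gaFn_ptOf, _root_.one_mul] at hx₁; exact hx₁)
      rwa [hey, gaFn_ptOf] at this
  obtain ⟨X', π', s, hπ', hs⟩ := RankOne.exists_goldCover (𝟙_ (Over S))
  rw [← cancel_epi π']
  set e : Γ(X'.left, ⊤) := (ε : Γ(X'.left, ⊤)) with he
  obtain ⟨s₁, hs₁⟩ := hexφ (ptOf (e * s) : X' ⟶ Red.Ga S)
  obtain ⟨s₂, hs₂⟩ := hexφ (ptOf (e * (1 - s)) : X' ⟶ Red.Ga S)
  obtain ⟨t₁, ht₁⟩ := hexφ (ptOf e : X' ⟶ Red.Ga S)
  have hunit : IsUnit (Red.gmFn (toUnit X' ≫ c₀)) := by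
    rw [← GmPts.val_unitOfPt]; exact Units.isUnit _
  have heq : ∀ r : Γ(X'.left, ⊤), IsUnit (1 + r) → ∀ r', (toUnit X' ≫ g) * (ep D p' (e * r)) * (toUnit X' ≫ g)⁻¹ =
      r' ≫ D.u q' → r' = ptOf r := fun r hr r' h => by
    have hee : e * (e * r) = r := by rw [← _root_.mul_assoc, he, hεε, _root_.one_mul]
    obtain ⟨k1, k2⟩ := key (ptOf (e * r)) r' (by rw [gaFn_ptOf, ← he, hee]; exact hr) h
    rw [gaFn_ptOf, ← he, hee] at k1 k2
    exact gaFn_injective ((hunit.mul_left_cancel (k1.trans k2.symm)).trans (gaFn_ptOf r).symm)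
  have e1 : s₁ = ptOf s := heq s (IsUnit.of_mul_eq_one (2 - s) (by linear_combination -hs)) s₁ hs₁
  have e2 : s₂ = ptOf (1 - s) := heq (1 - s) (IsUnit.of_mul_eq_one (1 + s) (by linear_combination -hs)) s₂ hs₂
  have e3 : (toUnit X' ≫ g) * ep D p' e * (toUnit X' ≫ g)⁻¹ = ep D q' 1 := by
    rw [show e = e * s + e * (1 - s) by ring, ep_add, ← conj_mul]
    rw [show ep D p' (e * s) = (ptOf (e * s) : X' ⟶ Red.Ga S) ≫ D.u p' from rfl, hs₁,
      show ep D p' (e * (1 - s)) = (ptOf (e * (1 - s)) : X' ⟶ Red.Ga S) ≫ D.u p' from rfl, hs₂, e1, e2]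
    show ep D q' s * ep D q' (1 - s) = ep D q' 1
    rw [← ep_add, add_sub_cancel]
  have e4 : (toUnit X' ≫ g) * ep D p' 1 * (toUnit X' ≫ g)⁻¹ = (ep D q' 1) ^ ε := by
    rw [← e3, conj_zpow, zpow_ep p' hε, he, hεε]
  rw [zpow_ep q' hε] at e4
  rw [show ((ptOf 1 : 𝟙_ (Over S) ⟶ Red.Ga S) ≫ D.u q') ^ ε = ep D q' ((ε : Γ((𝟙_ (Over S)).left, ⊤)) * 1) from
    zpow_ep q' hε 1]
  rw [MonObj.comp_mul, MonObj.comp_mul, GrpObj.comp_inv, Subsingleton.elim π' (toUnit X')]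
  show (toUnit X' ≫ g) * (toUnit X' ≫ ep D p' 1) * (toUnit X' ≫ g)⁻¹ = toUnit X' ≫ ep D q' _
  rw [comp_ep, comp_ep, map_one, map_mul, map_intCast, map_one]
  exact e4

/-- **Conjugation carries the Weyl element along.** -/
theorem Moves.conj_weyl {g : 𝟙_ (Over S) ⟶ G} {π : Equiv.Perm D.idx} (P : Pin D p avp wp) (Q : Pin D q avq wq)
    (hg : Perms D g π) {ε : ℤ} (hε : ε = 1 ∨ ε = -1) (hx : Moves D g p q ε) (hπ : π p = q) :
    g * wp * g⁻¹ = wq ^ ε := by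
  have hn := hx.neg_one P Q hg hε hπ
  have hp := hx (𝟙_ (Over S)) (ptOf 1)
  rw [toUnit_unit, Category.id_comp] at hp
  rcases hε with rfl | rfl
  · rw [zpow_one] at hn hp ⊢
    rw [Q.hw, ← hn, ← hp, P.hw]
    group
  · rw [zpow_neg_one] at hn hp ⊢
    rw [Q.hw, _root_.mul_inv_rev, _root_.mul_inv_rev, inv_inv, ← hp]
    conv_rhs => rw [show ((ptOf 1 : 𝟙_ (Over S) ⟶ Red.Ga S) ≫ D.u (D.P.reflectionPerm q q)) =
      (g * ((ptOf 1 : 𝟙_ (Over S) ⟶ Red.Ga S) ≫ D.u (D.P.reflectionPerm p p)) * g⁻¹)⁻¹ by rw [hn, inv_inv]]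
    rw [P.hw]
    group

end Conj

section Square

variable [Nonempty S] {a : D.idx} {av : Red.Gm S ⟶ D.T} {w : 𝟙_ (Over S) ⟶ G}

/-- The square of a Weyl element acts on a root group through the parity of the pairing. -/
theorem Pin.moves_sq (h : Pin D a av w) (k : D.idx) : Moves D (w * w) k k ((-1) ^ (D.P.pairing k a).natAbs) := by
  intro X x
  obtain ⟨y, hy, he⟩ := (D.rootHom k).2.2 X ((GmPts.ptOfUnit (-1) : X ⟶ Red.Gm S) ≫ av) x
  rw [MonObj.comp_mul, h.w_sq, ← Category.assoc, ← hy]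
  rw [gmFn_avc h.hav, GmPts.unitOfPt_ptOfUnit, ← coroot'_eq, coroot'_root] at he
  rcases Nat.even_or_odd (D.P.pairing k a).natAbs with hp | hp
  · rw [hp.neg_one_pow, zpow_one]
    have h2 : Even (D.P.pairing k a) := Int.natAbs_even.1 hp
    rw [h2.neg_one_zpow, Units.val_one, _root_.one_mul] at he
    rw [gaFn_injective he]
  · rw [hp.neg_one_pow, zpow_neg_one]
    have h2 : Odd (D.P.pairing k a) := Int.natAbs_odd.1 hp
    rw [h2.neg_one_zpow, Units.val_neg, Units.val_one, neg_one_mul] at he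
    rw [ep_of, he, ep_neg, ← ep_of]

/-- A Weyl element fixes the root groups commuting with its two root groups. -/
theorem Pin.moves_of_commute (h : Pin D a av w) (k : D.idx)
    (h1 : ∀ (X : Over S) (x z : X ⟶ Red.Ga S), Commute (x ≫ D.u a) (z ≫ D.u k))
    (h2 : ∀ (X : Over S) (x z : X ⟶ Red.Ga S), Commute (x ≫ D.u (D.P.reflectionPerm a a)) (z ≫ D.u k)) :
    Moves D w k k 1 := by
  intro X x
  rw [zpow_one, h.hw, MonObj.comp_mul, MonObj.comp_mul, GrpObj.comp_inv, ← Category.assoc, ← Category.assoc,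
    (((h1 X _ x).mul_left (h2 X _ x).inv_left).mul_left (h1 X _ x)).eq, mul_inv_cancel_right]

/-- A pinned Weyl element carries its root group to the opposite one. -/
theorem Pin.perms (h : Pin D a av w) : Perms D w (D.P.reflectionPerm a) := h.isRefl.perms

omit [Nonempty S] in
/-- The square of a Weyl element as a torus point. -/
theorem Pin.sq_eq (h : Pin D a av w) : w * w = ((GmPts.ptOfUnit (-1) : 𝟙_ (Over S) ⟶ Red.Gm S) ≫ av) ≫ D.i := by
  have e := h.w_sq (𝟙_ (Over S))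
  rwa [toUnit_unit, Category.id_comp, ← Category.assoc] at e

omit [Nonempty S] in
theorem negOne_mul_self {X : Over S} :
    (GmPts.ptOfUnit (-1) : X ⟶ Red.Gm S) * GmPts.ptOfUnit (-1) = 1 := by
  rw [show (GmPts.ptOfUnit (-1) : X ⟶ Red.Gm S) * GmPts.ptOfUnit (-1) = GmPts.ptOfUnit ((-1) * (-1)) from
    (RankOne.ptOfUnit_mul _ _).symm, neg_mul_neg, _root_.one_mul, ← GmPts.unitOfPt_one, GmPts.ptOfUnit_unitOfPt]

omit [Nonempty S] in
theorem Pin.sq_sq (h : Pin D a av w) : w * w * (w * w) = 1 := by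
  haveI := isMonHom_i D
  haveI := h.setup.mon_av
  rw [h.sq_eq, ← MonObj.mul_comp, ← MonObj.mul_comp, negOne_mul_self, MonObj.one_comp, MonObj.one_comp]

theorem Pin.sq_comm {c : D.idx} {av' : Red.Gm S ⟶ D.T} {w' : 𝟙_ (Over S) ⟶ G} (h : Pin D a av w) (h' : Pin D c av' w') :
    Commute (w * w) (w' * w') := by
  haveI := isMonHom_i D
  rw [h.sq_eq, h'.sq_eq, Commute, SemiconjBy, ← MonObj.mul_comp, ← MonObj.mul_comp, torus_comm D]

/-- A Weyl element acts on the square of another one through the parity of the pairing. -/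
theorem Pin.conj_sq {c : D.idx} {av' : Red.Gm S ⟶ D.T} {w' : 𝟙_ (Over S) ⟶ G} (h : Pin D a av w) (h' : Pin D c av' w') :
    w * (w' * w') * w⁻¹ = (w' * w') * (w * w) ^ (D.P.pairing a c).natAbs := by
  haveI := isMonHom_i D
  haveI := h.setup.mon_av
  set m : 𝟙_ (Over S) ⟶ Red.Gm S := GmPts.ptOfUnit (-1) with hm
  have hc := h.conj_torus (m ≫ av')
  rw [toUnit_unit, Category.id_comp] at hc
  have hsq2 : (w * w)⁻¹ = w * w := inv_eq_of_mul_eq_one_right h.sq_sq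
  rw [h'.sq_eq, hc]
  have hα : GmPts.unitOfPt ((m ≫ av') ≫ alpha D a) = (-1 : Γ((𝟙_ (Over S)).left, ⊤)ˣ) ^ D.P.pairing a c := by
    refine Units.ext ?_
    rw [GmPts.val_unitOfPt, alpha, gmFn_avc h'.hav, ← coroot'_eq, coroot'_root, hm, GmPts.unitOfPt_ptOfUnit]
  rcases Nat.even_or_odd (D.P.pairing a c).natAbs with hp | hp
  · obtain ⟨n, hn⟩ := hp
    rw [hn, ← two_mul, pow_mul, pow_two, h.sq_sq, one_pow, _root_.mul_one]
    have h2 : Even (D.P.pairing a c) := Int.natAbs_even.1 ⟨n, hn⟩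
    rw [h2.neg_one_zpow] at hα
    have hα' : (m ≫ av') ≫ alpha D a = 1 := by
      rw [← GmPts.ptOfUnit_unitOfPt ((m ≫ av') ≫ alpha D a), hα, ← GmPts.unitOfPt_one, GmPts.ptOfUnit_unitOfPt]
    rw [hα', MonObj.one_comp, inv_one, _root_.mul_one]
  · obtain ⟨n, hn⟩ := hp
    rw [hn, pow_succ, pow_mul, pow_two, h.sq_sq, one_pow, _root_.one_mul]
    have h2 : Odd (D.P.pairing a c) := Int.natAbs_odd.1 ⟨n, hn⟩
    rw [h2.neg_one_zpow] at hα
    rw [← GmPts.ptOfUnit_unitOfPt ((m ≫ av') ≫ alpha D a), hα, MonObj.mul_comp, GrpObj.inv_comp]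
    congr 1
    rw [← h.sq_eq, hsq2]

end Square

end Bruhat

end
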