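import Groth.Agent.BruhatLib.WordRel
import Groth.Agent.BruhatLib.System

/-!
# The normaliser of the torus by generators and relations
-/

set_option autoImplicit false
set_option linter.style.haveILetI false
set_option linter.unusedSectionVars false
set_option backward.isDefEq.respectTransparency false
set_option maxHeartbeats 1000000
set_option synthInstance.maxHeartbeats 400000

universe u

open CategoryTheory CategoryTheory.Limits MonoidalCategory CartesianMonoidalCategory AlgebraicGeometry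
open Groth.Agent.GaPts
open Groth.Agent
open Groth.Agent.RankOne (eq_ptOf eq_ptOfUnit comp_ptOf ptOf_add)
open scoped MonObj

noncomputable section

attribute [-instance] CategoryTheory.Hom.commGroup

namespace Bruhat

open SplitCell SplitFib RootSubgrp

variable {S : Scheme.{u}} {G : Over S} [GrpObj G] [Nonempty S] {D : Red.SplitRed G} {b : D.P.Base}
  {av : D.idx → (Red.Gm S ⟶ D.T)} {nr : D.idx → (𝟙_ (Over S) ⟶ G)}

omit [Nonempty S] in
theorem pr_append {H : Over S} [GrpObj H] (φ : D.idx → (𝟙_ (Over S) ⟶ H)) (l l' : List D.idx) :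
    ((l ++ l').map φ).prod = (l.map φ).prod * (l'.map φ).prod := by
  rw [List.map_append, List.prod_append]

omit [Nonempty S] in
theorem pr_alt {H : Over S} [GrpObj H] (φ : D.idx → (𝟙_ (Over S) ⟶ H)) (a c : D.idx) :
    ∀ n, ((alt a c n).map φ).prod = (φ a * φ c) ^ n
  | 0 => by simp [alt]
  | n + 1 => by simp [alt, pr_alt φ a c n, pow_succ', _root_.mul_assoc]

omit [Nonempty S] in
theorem conj_prod {M : Type*} [Group M] {g t t' x y : M} (h : g * t * g⁻¹ = t') (e : x = t * y) :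
    g * x = t' * (g * y) := by
  rw [← h, e]; group

omit [Nonempty S] in
theorem wordPerm_append (l l' : List D.idx) :
    RedSub.wordPerm D.P (l ++ l') = RedSub.wordPerm D.P l * RedSub.wordPerm D.P l' := by
  simp [RedSub.wordPerm]

variable (D nr) in
/-- Words with the same permutation and the same section up to the torus. -/
def TorRel (l l' : List D.idx) : Prop :=
  RedSub.wordPerm D.P l = RedSub.wordPerm D.P l' ∧
    ∃ t : 𝟙_ (Over S) ⟶ D.T, pr D nr l = (t ≫ D.i) * pr D nr l'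

omit [Nonempty S] in
theorem conj_torus_pt {a : D.idx} {n : 𝟙_ (Over S) ⟶ G} (hn : IsRefl D a n) (t : 𝟙_ (Over S) ⟶ D.T) :
    n * (t ≫ D.i) * n⁻¹ = tRefl a t ≫ D.i := by
  have e := hn.conj_torus t
  rwa [toUnit_unit, Category.id_comp] at e

variable (hf : PinFam D b av nr)
include hf

theorem PinFam.orderCases {a c : D.idx} (ha : a ∈ b.support) (hc : c ∈ b.support) (hne : a ≠ c) :
    ∃ m, 0 < m ∧ OrderCases D a c m := by
  rcases pairing_cases ha hc hne with h | h | h | h | h | h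
  · exact ⟨2, by norm_num, Or.inl ⟨rfl, h⟩⟩
  · exact ⟨3, by norm_num, Or.inr (Or.inl ⟨rfl, h⟩)⟩
  · exact ⟨4, by norm_num, Or.inr (Or.inr (Or.inl ⟨rfl, h⟩))⟩
  · exact ⟨4, by norm_num, Or.inr (Or.inr (Or.inr (Or.inl ⟨rfl, h⟩)))⟩
  · exact ⟨6, by norm_num, Or.inr (Or.inr (Or.inr (Or.inr (Or.inl ⟨rfl, h⟩))))⟩
  · exact ⟨6, by norm_num, Or.inr (Or.inr (Or.inr (Or.inr (Or.inr ⟨rfl, h⟩))))⟩

theorem PinFam.pow_mem_torus {a c : D.idx} (ha : a ∈ b.support) (hc : c ∈ b.support) (hne : a ≠ c) {m : ℕ}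
    (h : OrderCases D a c m) : ∃ t : 𝟙_ (Over S) ⟶ D.T, (nr a * nr c) ^ m = t ≫ D.i := by
  haveI := isMonHom_i D
  have A := hf.pin a ha
  have C := hf.pin c hc
  rcases h with ⟨rfl, e1, e2⟩ | ⟨rfl, e1, e2⟩ | ⟨rfl, e1, e2⟩ | ⟨rfl, e1, e2⟩ | ⟨rfl, e1, e2⟩ | ⟨rfl, e1, e2⟩
  · refine ⟨((GmPts.ptOfUnit (-1) : 𝟙_ (Over S) ⟶ Red.Gm S) ≫ av a) *
      ((GmPts.ptOfUnit (-1) : 𝟙_ (Over S) ⟶ Red.Gm S) ≫ av c), ?_⟩
    rw [MonObj.mul_comp, Category.assoc, Category.assoc]
    exact (sq_weyl ha hc hne e1 A C _ (by rw [GmPts.gmFn_ptOfUnit]; simp)).1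
  · refine ⟨1, ?_⟩
    rw [MonObj.one_comp]
    exact (show PairA2 D b a c (av a) (av c) (nr a) (nr c) from ⟨ha, hc, hne, e1, e2, A, C⟩).cube
  · exact ⟨_, ((show PairB2 D b a c (av a) (av c) (nr a) (nr c) from ⟨⟨ha, hc, hne⟩, e1, e2, A, C⟩).pow_four.1).trans
      A.sq_eq⟩
  · exact ⟨_, ((show PairB2 D b c a (av c) (av a) (nr c) (nr a) from
      ⟨⟨hc, ha, Ne.symm hne⟩, e2, e1, C, A⟩).pow_four.2).trans C.sq_eq⟩
  · refine ⟨1, ?_⟩
    rw [MonObj.one_comp]
    exact (show PairG2 D b a c (av a) (av c) (nr a) (nr c) from ⟨⟨ha, hc, hne⟩, e1, e2, A, C⟩).pow_six.1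
  · refine ⟨1, ?_⟩
    rw [MonObj.one_comp]
    exact (show PairG2 D b c a (av c) (av a) (nr c) (nr a) from ⟨⟨hc, ha, Ne.symm hne⟩, e2, e1, C, A⟩).pow_six.2

theorem PinFam.wrel_tor : WRel D b (TorRel D nr) := by
  haveI := isMonHom_i D
  refine ⟨fun h => h.1, fun l => ⟨rfl, 1, by rw [MonObj.one_comp, _root_.one_mul]⟩, ?_, ?_, ?_, ?_, ?_, ?_⟩
  · rintro l l' - - ⟨hp, t, e⟩
    exact ⟨hp.symm, t⁻¹, by rw [GrpObj.inv_comp, e, inv_mul_cancel_left]⟩
  · rintro l l' l'' ⟨hp, t, e⟩ ⟨hp', t', e'⟩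
    exact ⟨hp.trans hp', t * t', by rw [MonObj.mul_comp, e, e', _root_.mul_assoc]⟩
  · rintro l l' r ⟨hp, t, e⟩
    refine ⟨by rw [wordPerm_append, wordPerm_append, hp], t, ?_⟩
    simp only [pr] at e ⊢
    rw [pr_append, pr_append, e, _root_.mul_assoc]
  · intro l l' u hu h
    induction u with
    | nil => exact h
    | cons a u ih =>
      obtain ⟨hp, t, e⟩ := ih fun x hx => hu x (List.mem_cons_of_mem _ hx)
      refine ⟨by rw [List.cons_append, List.cons_append, wordPerm_cons, wordPerm_cons, hp], tRefl a t, ?_⟩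
      simp only [pr, List.cons_append, List.map_cons, List.prod_cons] at e ⊢
      exact conj_prod (conj_torus_pt (hf.refl a) t) e
  · intro d hd
    obtain ⟨hp, -⟩ := hf.eqv_sq hd
    exact ⟨hp, (GmPts.ptOfUnit (-1) : 𝟙_ (Over S) ⟶ Red.Gm S) ≫ av d, by
      simpa [pr, Category.assoc] using (hf.pin d hd).sq_eq⟩
  · intro a c ha hc hne m h
    obtain ⟨t, ht⟩ := hf.pow_mem_torus ha hc hne h
    refine ⟨by rw [perm_alt, pow_perm_eq_one h]; rfl, t, ?_⟩
    simp only [pr, List.map_nil, List.prod_nil, _root_.mul_one, pr_alt]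
    exact ht

/-- A word in the simple reflections acting trivially gives a point of the torus. -/
theorem PinFam.torus_of_perm {l : List D.idx} (hl : InS D b l) (h : RedSub.wordPerm D.P l = 1) :
    ∃ t : 𝟙_ (Over S) ⟶ D.T, pr D nr l = t ≫ D.i := by
  obtain ⟨-, t, e⟩ := hf.wrel_tor.nil_of_perm _ l rfl hl h
  exact ⟨t, by simpa [pr] using e⟩

variable (D nr) in
omit hf in
/-- Words with the same permutation and the same sections in both groups up to the torus. -/
def HomRel {H : Over S} [GrpObj H] (fT : D.T ⟶ H) (h : D.idx → (𝟙_ (Over S) ⟶ H)) (l l' : List D.idx) : Prop :=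
  RedSub.wordPerm D.P l = RedSub.wordPerm D.P l' ∧ ∃ t : 𝟙_ (Over S) ⟶ D.T,
    pr D nr l = (t ≫ D.i) * pr D nr l' ∧ (l.map h).prod = (t ≫ fT) * (l'.map h).prod

theorem PinFam.wrel_hom {H : Over S} [GrpObj H] (fT : D.T ⟶ H) [IsMonHom fT] (h : D.idx → (𝟙_ (Over S) ⟶ H))
    (h1 : ∀ a ∈ b.support, ∀ t : 𝟙_ (Over S) ⟶ D.T, tRefl a t ≫ fT = h a * (t ≫ fT) * (h a)⁻¹)
    (h2 : ∀ a ∈ b.support, ∀ c ∈ b.support, ∀ t : 𝟙_ (Over S) ⟶ D.T,
      t ≫ D.i = (nr a * nr c) ^ orderOf (D.P.reflection a * D.P.reflection c) →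
        t ≫ fT = (h a * h c) ^ orderOf (D.P.reflection a * D.P.reflection c)) :
    WRel D b (HomRel D nr fT h) := by
  haveI := isMonHom_i D
  refine ⟨fun e => e.1, fun l => ⟨rfl, 1, by rw [MonObj.one_comp, _root_.one_mul],
    by rw [MonObj.one_comp, _root_.one_mul]⟩, ?_, ?_, ?_, ?_, ?_, ?_⟩
  · rintro l l' - - ⟨hp, t, e, e'⟩
    exact ⟨hp.symm, t⁻¹, by rw [GrpObj.inv_comp, e, inv_mul_cancel_left],
      by rw [GrpObj.inv_comp, e', inv_mul_cancel_left]⟩
  · rintro l l' l'' ⟨hp, t, e, f⟩ ⟨hp', t', e', f'⟩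
    exact ⟨hp.trans hp', t * t', by rw [MonObj.mul_comp, e, e', _root_.mul_assoc],
      by rw [MonObj.mul_comp, f, f', _root_.mul_assoc]⟩
  · rintro l l' r ⟨hp, t, e, f⟩
    simp only [pr] at e
    refine ⟨by rw [wordPerm_append, wordPerm_append, hp], t, ?_, ?_⟩
    · simp only [pr]; rw [pr_append, pr_append, e, _root_.mul_assoc]
    · rw [pr_append, pr_append, f, _root_.mul_assoc]
  · intro l l' u hu hll
    induction u with
    | nil => exact hll
    | cons a u ih =>
      obtain ⟨hp, t, e, f⟩ := ih fun x hx => hu x (List.mem_cons_of_mem _ hx)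
      refine ⟨by rw [List.cons_append, List.cons_append, wordPerm_cons, wordPerm_cons, hp], tRefl a t, ?_, ?_⟩
      · simp only [pr, List.cons_append, List.map_cons, List.prod_cons] at e ⊢
        exact conj_prod (conj_torus_pt (hf.refl a) t) e
      · simp only [List.cons_append, List.map_cons, List.prod_cons] at f ⊢
        exact conj_prod (h1 a (hu a List.mem_cons_self) t).symm f
  · intro d hd
    obtain ⟨hp, -⟩ := hf.eqv_sq hd
    have ho : orderOf (D.P.reflection d * D.P.reflection d) = 1 := by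
      rw [orderOf_eq_one_iff]
      exact LinearEquiv.ext fun x => D.P.reflection_same d x
    obtain ⟨t, ht⟩ : ∃ t : 𝟙_ (Over S) ⟶ D.T, nr d * nr d = t ≫ D.i := ⟨_, (hf.pin d hd).sq_eq⟩
    have := h2 d hd d hd t (by rw [ho, pow_one, ht])
    rw [ho, pow_one] at this
    exact ⟨hp, t, by simpa [pr] using ht, by simpa using this.symm⟩
  · intro a c ha hc hne m hm
    set n := orderOf (D.P.reflection a * D.P.reflection c) with hn
    obtain ⟨k, rfl⟩ : n ∣ m := orderOf_dvd_of_pow_eq_one (pow_lin_eq_one hm)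
    have hpn : (D.P.reflectionPerm a * D.P.reflectionPerm c) ^ n = 1 :=
      Equiv.ext fun i => D.P.root.injective (by rw [root_pow_perm, hn, pow_orderOf_eq_one]; rfl)
    obtain ⟨t, ht⟩ := hf.torus_of_perm (inS_alt ha hc n) (by rw [perm_alt, hpn])
    simp only [pr, pr_alt] at ht
    have hb : HomRel D nr fT h (alt a c n) [] := ⟨by rw [perm_alt, hpn]; rfl, t, by
      simp only [pr, List.map_nil, List.prod_nil, _root_.mul_one, pr_alt]; exact ht, by
      simp only [List.map_nil, List.prod_nil, _root_.mul_one, pr_alt]; exact (h2 a ha c hc t ht.symm).symm⟩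
    obtain ⟨hp1, t1, e1, f1⟩ := hb
    refine ⟨by rw [perm_alt, pow_mul, hpn, one_pow]; rfl, t ^ k, ?_, ?_⟩
    all_goals simp only [pr, List.map_nil, List.prod_nil, _root_.mul_one, pr_alt] at *
    · rw [pow_mul, ht]
      clear hp1 e1 f1
      induction k with
      | zero => rw [pow_zero, pow_zero, MonObj.one_comp]
      | succ k ih => rw [pow_succ, pow_succ, MonObj.mul_comp]; rw [show (t ≫ D.i) ^ k = (t ^ k) ≫ D.i from by
          clear ih hm; induction k with
          | zero => rw [pow_zero, pow_zero, MonObj.one_comp]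
          | succ k ih => rw [pow_succ, pow_succ, MonObj.mul_comp, ih]]
    · rw [pow_mul, ← h2 a ha c hc t ht.symm]
      clear hp1 e1 f1 hm
      induction k with
      | zero => rw [pow_zero, pow_zero, MonObj.one_comp]
      | succ k ih => rw [pow_succ, pow_succ, MonObj.mul_comp, ih]

/-- Every reflection is given by a word in the simple ones. -/
theorem PinFam.exists_simpleFam : ∃ lw : D.idx → List D.idx, (∀ k, InS D b (lw k)) ∧
    ∀ k, IsRefl D k (pr D nr (lw k)) := by
  have hex : ∀ k, ∃ l : List D.idx, InS D b l ∧ RedSub.wordPerm D.P l = D.P.reflectionPerm k := fun k => by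
    obtain ⟨⟨u, c⟩, hu, hc, hk, -⟩ := exists_rep b k
    dsimp only at hu hc hk
    refine ⟨u ++ [c] ++ u.reverse, fun x hx => ?_, ?_⟩
    · simp only [List.mem_append, List.mem_cons, List.not_mem_nil, or_false, List.mem_reverse] at hx
      rcases hx with (hx | rfl) | hx
      exacts [hu x hx, hc, hu x hx]
    · have hrev : RedSub.wordPerm D.P u * RedSub.wordPerm D.P u.reverse = 1 := by
        clear hk hu
        induction u with
        | nil => simp [RedSub.wordPerm]
        | cons d u ih =>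
          rw [List.reverse_cons, wordPerm_cons, wordPerm_append, _root_.mul_assoc,
            ← _root_.mul_assoc (RedSub.wordPerm D.P u), ih, _root_.one_mul]
          exact Equiv.ext fun j => by simp [RedSub.wordPerm, perm_perm]
      rw [← hk, wordPerm_append, wordPerm_append, show RedSub.wordPerm D.P [c] = D.P.reflectionPerm c by
        simp [RedSub.wordPerm], ← wordPerm_conj, _root_.mul_assoc, hrev, _root_.mul_one]
  choose lw h1 h2 using hex
  refine ⟨lw, h1, fun k X t => ?_⟩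
  have hp : RedSub.wordPerm D.P (lw k) = RedSub.wordPerm D.P [k] := by rw [h2]; simp [RedSub.wordPerm]
  have e := conj_torus_word_eq hf.refl (lw k) t
  rw [tWord, wordLin_congr D hp] at e
  simp only [nX] at e
  refine e.trans ?_
  simp only [Category.assoc]
  rfl

/-- **Locally a normalising point is a word in the simple reflections times a point of the torus.** -/
theorem PinFam.exists_simple_word_on_open {X : Over S} {g : X ⟶ G} (hg : Normalises D g) (x : X.left) :
    ∃ (l : List D.idx) (U : X.left.Opens) (τ : Over.mk (U.ι ≫ X.hom) ⟶ D.T), x ∈ U ∧ InS D b l ∧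
      (Over.homMk U.ι : Over.mk (U.ι ≫ X.hom) ⟶ X) ≫ g = nX nr (Over.mk (U.ι ≫ X.hom)) l * (τ ≫ D.i) := by
  obtain ⟨lw, h1, h2⟩ := hf.exists_simpleFam
  obtain ⟨l, U, τ, hx, e⟩ := exists_word_on_open h2 b hg x
  refine ⟨l.flatMap lw, U, τ, hx, fun y hy => ?_, ?_⟩
  · obtain ⟨k, -, hk⟩ := List.mem_flatMap.1 hy
    exact h1 k y hk
  · have el : ∀ l : List D.idx, (l.map fun k => pr D nr (lw k)).prod = ((l.flatMap lw).map nr).prod := fun l => by
      induction l with
      | nil => rfl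
      | cons k l ih => rw [List.map_cons, List.prod_cons, List.flatMap_cons, pr_append, ih]
    rw [e, nX, nX, ← el]

/-- Two expressions of one point have the same permutation. -/
theorem PinFam.perm_eq_of_eq {Z : Over S} (z₀ : Z.left) {l l' : List D.idx} {t t' : Z ⟶ D.T}
    (e : nX nr Z l * (t ≫ D.i) = nX nr Z l' * (t' ≫ D.i)) :
    RedSub.wordPerm D.P l = RedSub.wordPerm D.P l' := by
  haveI := isMonHom_i D
  by_contra hne
  obtain ⟨k, hk⟩ : ∃ k, (RedSub.wordPerm D.P l).symm k ≠ (RedSub.wordPerm D.P l').symm k := by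
    by_contra h
    push Not at h
    exact hne (Equiv.symm_bijective.injective (Equiv.ext h))
  obtain ⟨f, hfi⟩ := exists_injective_functional (fun i => D.P.root i) D.P.root.injective
  set N : ℤ := f (D.P.root ((RedSub.wordPerm D.P l).symm k)) - f (D.P.root ((RedSub.wordPerm D.P l').symm k))
  have hN : N ≠ 0 := fun h => hk (hfi (sub_eq_zero.1 h))
  obtain ⟨K, _, _, a, p, -⟩ := Groth.Agent.BigCell.exists_geomPt Z z₀
  let ξ : Spec (CommRingCat.of K) ⟶ S := a
  let q : aP ξ K ⟶ Z := Over.homMk p.left (by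
    show p.left ≫ Z.hom = Spec.map _ ≫ a
    rw [Over.w p, show CommRingCat.ofHom (algebraMap K K) = 𝟙 _ from rfl, Spec.map_id, Category.id_comp]
    rfl)
  obtain ⟨w, hw⟩ : ∃ w : Kˣ, w ^ N ≠ 1 := by
    by_contra h
    push Not at h
    have hroot : ∀ r : K, r ≠ 0 → r ^ N.natAbs = 1 := fun r hr => by
      have h' := h (Units.mk0 r hr)
      have h2 : (Units.mk0 r hr) ^ N.natAbs = 1 := pow_natAbs_eq_one.2 h'
      rw [← Units.val_mk0 hr, ← Units.val_pow_eq_pow_val, h2, Units.val_one]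
    have hfin : (Set.univ : Set K).Finite := by
      refine Set.Finite.subset ((Polynomial.finite_setOf_isRoot
        (Polynomial.X_pow_sub_C_ne_zero (Nat.pos_of_ne_zero (Int.natAbs_ne_zero.2 hN)) (1 : K))).union
        (Set.finite_singleton 0)) fun r _ => ?_
      rcases eq_or_ne r 0 with rfl | hr
      · exact Or.inr rfl
      · exact Or.inl (by simp [Polynomial.IsRoot, hroot r hr])
    exact Set.infinite_univ hfin
  have e' := congrArg (q ≫ ·) e
  simp only [MonObj.comp_mul, ← Category.assoc, nX, Subsingleton.elim (q ≫ toUnit Z) (toUnit (aP ξ K))] at e'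
  set s : aP ξ K ⟶ D.T := tc D ξ f w
  have c1 := conj_torus_word_eq hf.refl l s
  have c2 := conj_torus_word_eq hf.refl l' s
  have hcomm : ∀ u : aP ξ K ⟶ D.T, (u ≫ D.i) * (s ≫ D.i) * (u ≫ D.i)⁻¹ = s ≫ D.i := fun u => by
    rw [← MonObj.mul_comp, torus_comm D u s, MonObj.mul_comp, mul_inv_cancel_right]
  have hs : tWord l s ≫ D.i = tWord l' s ≫ D.i := by
    rw [← c1, ← c2]
    simp only [nX]
    calc _ = (toUnit _ ≫ (l.map nr).prod) * (((q ≫ t) ≫ D.i) * (s ≫ D.i) * ((q ≫ t) ≫ D.i)⁻¹) *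
          (toUnit _ ≫ (l.map nr).prod)⁻¹ := by rw [hcomm]
      _ = ((toUnit _ ≫ (l.map nr).prod) * ((q ≫ t) ≫ D.i)) * (s ≫ D.i) *
          ((toUnit _ ≫ (l.map nr).prod) * ((q ≫ t) ≫ D.i))⁻¹ := by group
      _ = ((toUnit _ ≫ (l'.map nr).prod) * ((q ≫ t') ≫ D.i)) * (s ≫ D.i) *
          ((toUnit _ ≫ (l'.map nr).prod) * ((q ≫ t') ≫ D.i))⁻¹ := by rw [e']
      _ = (toUnit _ ≫ (l'.map nr).prod) * (((q ≫ t') ≫ D.i) * (s ≫ D.i) * ((q ≫ t') ≫ D.i)⁻¹) *
          (toUnit _ ≫ (l'.map nr).prod)⁻¹ := by group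
      _ = _ := by rw [hcomm]
  haveI := mono_i D
  have hs' := congrArg (fun u => MultSubLib.chars (u ≫ D.split.hom.hom.hom) (Multiplicative.ofAdd (D.P.root k)))
    ((cancel_mono D.i).1 hs)
  simp only [chars_tWord, MonoidHom.comp_apply] at hs'
  change MultSubLib.chars (s ≫ D.split.hom.hom.hom) (Multiplicative.ofAdd (wordLin D l (D.P.root k))) =
    MultSubLib.chars (s ≫ D.split.hom.hom.hom) (Multiplicative.ofAdd (wordLin D l' (D.P.root k))) at hs'
  rw [wordLin_root, wordLin_root] at hs'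
  have h1 : ch D ξ s (Multiplicative.ofAdd (D.P.root ((RedSub.wordPerm D.P l).symm k))) =
      ch D ξ s (Multiplicative.ofAdd (D.P.root ((RedSub.wordPerm D.P l').symm k))) :=
    Units.ext (congrArg (cstE ξ).symm hs')
  rw [ch_cochT, ch_cochT] at h1
  exact hw (by rw [zpow_sub, h1, mul_inv_cancel])

end Bruhat

end
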