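import Groth.Agent.BruhatLib.Normalizer

/-!
# Homomorphisms out of the normaliser of the torus
-/

set_option autoImplicit false
set_option linter.style.haveILetI false
set_option linter.unusedSectionVars false
set_option backward.isDefEq.respectTransparency false
set_option maxHeartbeats 1000000
set_option synthInstance.maxHeartbeats 400000

universe u

open CategoryTheory CategoryTheory.Limits MonoidalCategory CartesianMonoidalCategory AlgebraicGeometry
open Groth.Agent.GaPts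
open Groth.Agent
open Groth.Agent.RankOne (eq_ptOf eq_ptOfUnit comp_ptOf ptOf_add)
open scoped MonObj

noncomputable section

attribute [-instance] CategoryTheory.Hom.commGroup

namespace Bruhat

open SplitCell SplitFib RootSubgrp

variable {S : Scheme.{u}}

/-- Morphisms on an open cover which agree wherever their domains map equally are glued. -/
theorem exists_glue {X H : Over S} {I : Type u} (U : I → X.left.Opens) (hU : ∀ x, ∃ i, x ∈ U i)
    (f : ∀ i, Over.mk ((U i).ι ≫ X.hom) ⟶ H)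
    (hf : ∀ i j (Z : Over S) (a : Z ⟶ Over.mk ((U i).ι ≫ X.hom)) (c : Z ⟶ Over.mk ((U j).ι ≫ X.hom)),
      a.left ≫ (U i).ι = c.left ≫ (U j).ι → a ≫ f i = c ≫ f j) :
    ∃ g : X ⟶ H, ∀ i, (Over.homMk (U i).ι : Over.mk ((U i).ι ≫ X.hom) ⟶ X) ≫ g = f i := by
  have hcov : TopologicalSpace.IsOpenCover U := by
    rw [TopologicalSpace.IsOpenCover, eq_top_iff]
    exact fun y _ => TopologicalSpace.Opens.mem_iSup.2 (hU y)
  let 𝒰 := Scheme.openCoverOfIsOpenCover X.left U hcov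
  have hag : ∀ i j, pullback.fst (𝒰.f i) (𝒰.f j) ≫ (f i).left = pullback.snd (𝒰.f i) (𝒰.f j) ≫ (f j).left := by
    intro i j
    let Z : Over S := Over.mk (pullback.fst (𝒰.f i) (𝒰.f j) ≫ (U i).ι ≫ X.hom)
    let a : Z ⟶ Over.mk ((U i).ι ≫ X.hom) := Over.homMk (pullback.fst (𝒰.f i) (𝒰.f j)) rfl
    let c : Z ⟶ Over.mk ((U j).ι ≫ X.hom) := Over.homMk (pullback.snd (𝒰.f i) (𝒰.f j)) (by
      show pullback.snd (𝒰.f i) (𝒰.f j) ≫ (U j).ι ≫ X.hom = pullback.fst (𝒰.f i) (𝒰.f j) ≫ (U i).ι ≫ X.hom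
      rw [← Category.assoc, ← Category.assoc]
      exact congrArg (· ≫ X.hom) pullback.condition.symm)
    exact congrArg (fun g => g.left) (hf i j Z a c pullback.condition)
  have hw : 𝒰.glueMorphisms (fun i => (f i).left) hag ≫ H.hom = X.hom :=
    𝒰.hom_ext _ _ fun i => by
      rw [Scheme.Cover.ι_glueMorphisms_assoc]
      exact Over.w (f i)
  have hg : ∀ i, 𝒰.f i ≫ 𝒰.glueMorphisms (fun i => (f i).left) hag = (f i).left := fun i =>
    Scheme.Cover.ι_glueMorphisms 𝒰 (fun i => (f i).left) hag i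
  generalize hgm : 𝒰.glueMorphisms (fun i => (f i).left) hag = gm at hw hg
  refine ⟨Over.homMk gm hw, fun i => Over.OverMorphism.ext ?_⟩
  show (U i).ι ≫ gm = (f i).left
  exact hg i

variable {G : Over S} [GrpObj G] [Nonempty S] {D : Red.SplitRed G} {b : D.P.Base}
  {av : D.idx → (Red.Gm S ⟶ D.T)} {nr : D.idx → (𝟙_ (Over S) ⟶ G)}

omit [Nonempty S] in
/-- The formula of the statements for the reflection of a point of the torus. -/
theorem Pin.tRefl_eq {a : D.idx} {va : Red.Gm S ⟶ D.T} {w : 𝟙_ (Over S) ⟶ G} (A : Pin D a va w) {X : Over S}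
    (t : X ⟶ D.T) : tRefl a t = t * (t ≫ (D.split.hom.hom.hom ≫ Red.chi S (D.P.root a)) ≫ va)⁻¹ := by
  haveI := mono_i D
  refine (cancel_mono D.i).1 (((A.isRefl.conj_torus t).symm.trans (A.conj_torus t)).trans ?_)
  simp only [alpha, Category.assoc]

variable (hf : PinFam D b av nr)
include hf

/-- The Weyl elements lie in the normaliser. -/
theorem PinFam.exists_lift {N : Over S} [GrpObj N] {j : N ⟶ G} (hN : Red.IsNormalizerOf D.i j) (a : D.idx) :
    ∃ n : 𝟙_ (Over S) ⟶ N, n ≫ j = nr a := by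
  refine (hN.2.2 _ (nr a)).2 fun X' x t => ?_
  have e : x ≫ nr a = toUnit X' ≫ nr a := by rw [Subsingleton.elim x (toUnit X')]
  rw [e]
  refine ⟨⟨tRefl a t, (hf.refl a).conj_torus t⟩, tRefl a t, ?_⟩
  have e2 := (hf.refl a).conj_torus (tRefl a t)
  rw [tRefl_tRefl] at e2
  rw [← e2]
  group

variable {N : Over S} [GrpObj N] {j : N ⟶ G} (hN : Red.IsNormalizerOf D.i j) {tN : D.T ⟶ N} [IsMonHom tN]
  (htN : tN ≫ j = D.i) {nN : D.idx → (𝟙_ (Over S) ⟶ N)} (hnN : ∀ a, nN a ≫ j = nr a)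
  {H : Over S} [GrpObj H] (fT : D.T ⟶ H) (h : D.idx → (𝟙_ (Over S) ⟶ H))

omit hf [Nonempty S] in
theorem prod_comp {X Y Z : Over S} [GrpObj Y] [GrpObj Z] (g : Y ⟶ Z) [IsMonHom g] (φ : D.idx → (X ⟶ Y))
    (l : List D.idx) : (l.map φ).prod ≫ g = (l.map fun a => φ a ≫ g).prod := by
  induction l with
  | nil => simp [MonObj.one_comp]
  | cons a l ih => simp [MonObj.mul_comp, ih]

include hN htN hnN

/-- Every point of the normaliser is locally a word times a point of the torus. -/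
theorem PinFam.lift_word_on_open {X : Over S} (z : X ⟶ N) (x : X.left) :
    ∃ (l : List D.idx) (U : X.left.Opens) (τ : Over.mk (U.ι ≫ X.hom) ⟶ D.T), x ∈ U ∧ InS D b l ∧
      (Over.homMk U.ι : Over.mk (U.ι ≫ X.hom) ⟶ X) ≫ z =
        (toUnit (Over.mk (U.ι ≫ X.hom)) ≫ (l.map nN).prod) * (τ ≫ tN) := by
  haveI := hN.1
  haveI := hN.2.1
  have hn : Normalises D (z ≫ j) := fun X' y t => by
    obtain ⟨t', ht'⟩ := ((hN.2.2 X (z ≫ j)).1 ⟨z, rfl⟩ X' y t).1
    exact ⟨t', ht'⟩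
  obtain ⟨l, U, τ, hx, hl, e⟩ := hf.exists_simple_word_on_open hn x
  refine ⟨l, U, τ, hx, hl, (cancel_mono j).1 ?_⟩
  rw [Category.assoc, e, MonObj.mul_comp, Category.assoc, Category.assoc, htN, prod_comp (D := D) j]
  simp only [hnN, nX]

omit hnN in
/-- The value of a homomorphism on a word. -/
theorem PinFam.hom_on_word {f : N ⟶ H} [IsMonHom f] (hft : tN ≫ f = fT) {l : List D.idx}
    (hh : ∀ a ∈ l, nN a ≫ f = h a) {X : Over S} (τ : X ⟶ D.T) :
    ((toUnit X ≫ (l.map nN).prod) * (τ ≫ tN)) ≫ f = (toUnit X ≫ (l.map h).prod) * (τ ≫ fT) := by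
  rw [MonObj.mul_comp, Category.assoc, Category.assoc, hft, prod_comp (D := D) f, List.map_congr_left hh]

/-- The homomorphism is determined. -/
theorem PinFam.hom_unique {f g : N ⟶ H} [IsMonHom f] [IsMonHom g] (hf1 : tN ≫ f = fT) (hg1 : tN ≫ g = fT)
    (hf2 : ∀ a ∈ b.support, nN a ≫ f = h a) (hg2 : ∀ a ∈ b.support, nN a ≫ g = h a) : f = g := by
  refine eq_of_opens f g fun y => ?_
  obtain ⟨l, U, τ, hy, hl, e⟩ := hf.lift_word_on_open hN htN hnN (𝟙 N) y
  rw [Category.comp_id] at e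
  refine ⟨U, hy, ?_⟩
  have e1 := hf.hom_on_word hN htN fT h hf1 (l := l) (nN := nN) (fun a ha => hf2 a (hl a ha)) τ
  have e2 := hf.hom_on_word hN htN fT h hg1 (l := l) (nN := nN) (fun a ha => hg2 a (hl a ha)) τ
  rw [← e] at e1 e2
  exact congrArg (fun q => q.left) (e1.trans e2.symm)

omit hN htN hnN in
/-- Well-definedness. -/
theorem PinFam.value_eq [IsMonHom fT]
    (h1 : ∀ a ∈ b.support, ∀ t : 𝟙_ (Over S) ⟶ D.T, tRefl a t ≫ fT = h a * (t ≫ fT) * (h a)⁻¹)
    (h2 : ∀ a ∈ b.support, ∀ c ∈ b.support, ∀ t : 𝟙_ (Over S) ⟶ D.T,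
      t ≫ D.i = (nr a * nr c) ^ orderOf (D.P.reflection a * D.P.reflection c) →
        t ≫ fT = (h a * h c) ^ orderOf (D.P.reflection a * D.P.reflection c))
    (h1' : ∀ a ∈ b.support, ∀ (X : Over S) (t : X ⟶ D.T),
      tRefl a t ≫ fT = (toUnit X ≫ h a) * (t ≫ fT) * (toUnit X ≫ h a)⁻¹)
    {Z : Over S} {l l' : List D.idx} (hl : InS D b l) (hl' : InS D b l') {t t' : Z ⟶ D.T}
    (e : nX nr Z l * (t ≫ D.i) = nX nr Z l' * (t' ≫ D.i)) :
    (toUnit Z ≫ (l.map h).prod) * (t ≫ fT) = (toUnit Z ≫ (l'.map h).prod) * (t' ≫ fT) := by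
  rcases isEmpty_or_nonempty Z.left with hZ | ⟨⟨z₀⟩⟩
  · exact Over.OverMorphism.ext (isInitialOfIsEmpty.hom_ext _ _)
  haveI := isMonHom_i D
  haveI := mono_i D
  obtain ⟨-, t₀, e0, f0⟩ := (hf.wrel_hom fT h h1 h2).of_perm hl hl' (hf.perm_eq_of_eq z₀ e)
  -- move the point of the torus past the word
  have conjH : ∀ {l : List D.idx}, InS D b l → ∀ (s : Z ⟶ D.T),
      (toUnit Z ≫ (l.map h).prod) * (s ≫ fT) * (toUnit Z ≫ (l.map h).prod)⁻¹ = tWord l s ≫ fT := by
    intro l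
    induction l with
    | nil =>
      intro _ s
      have e : tWord ([] : List D.idx) s = s := by
        refine torus_ext ?_
        rw [chars_tWord]
        exact MonoidHom.ext fun m => rfl
      rw [e, List.map_nil, List.prod_nil, MonObj.comp_one, _root_.one_mul, inv_one, _root_.mul_one]
    | cons a l ih =>
      intro hl s
      have e : tWord (a :: l) s = tRefl a (tWord l s) := by
        refine torus_ext ?_
        rw [chars_tWord, chars_tRefl, chars_tWord]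
        refine MonoidHom.ext fun m => ?_
        obtain ⟨m, rfl⟩ := Multiplicative.ofAdd.surjective m
        show MultSubLib.chars _ (Multiplicative.ofAdd (wordLin D (a :: l) m)) =
          MultSubLib.chars _ (Multiplicative.ofAdd (wordLin D l (D.P.reflection a m)))
        rw [wordLin_cons]
      rw [e, h1' a (hl a List.mem_cons_self), ← ih (fun x hx => hl x (List.mem_cons_of_mem _ hx)) s, List.map_cons,
        List.prod_cons, MonObj.comp_mul]
      group
  have hG := conj_torus_word_eq hf.refl l (t)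
  have hG' := conj_torus_word_eq hf.refl l' (t')
  have eG : nX nr Z l = ((toUnit Z ≫ t₀) ≫ D.i) * nX nr Z l' := by
    have := congrArg (toUnit Z ≫ ·) e0
    simp only [MonObj.comp_mul, ← Category.assoc] at this
    simpa [nX, pr] using this
  have eH : toUnit Z ≫ (l.map h).prod = ((toUnit Z ≫ t₀) ≫ fT) * (toUnit Z ≫ (l'.map h).prod) := by
    have := congrArg (toUnit Z ≫ ·) f0
    simpa only [MonObj.comp_mul, ← Category.assoc] using this
  -- in the group: t₀ * l'(t) = l'(t')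
  have key : (toUnit Z ≫ t₀) * tWord l' t = tWord l' t' := by
    refine (cancel_mono D.i).1 ?_
    rw [MonObj.mul_comp, ← hG', ← conj_torus_word_eq hf.refl l' t, ← mul_assoc, ← mul_assoc, ← eG, e]
  calc (toUnit Z ≫ (l.map h).prod) * (t ≫ fT)
      = ((toUnit Z ≫ t₀) ≫ fT) * ((toUnit Z ≫ (l'.map h).prod) * (t ≫ fT) * (toUnit Z ≫ (l'.map h).prod)⁻¹) *
          (toUnit Z ≫ (l'.map h).prod) := by rw [eH]; group
    _ = (((toUnit Z ≫ t₀) * tWord l' t) ≫ fT) * (toUnit Z ≫ (l'.map h).prod) := by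
      rw [conjH hl', MonObj.mul_comp]
    _ = ((toUnit Z ≫ (l'.map h).prod) * (t' ≫ fT) * (toUnit Z ≫ (l'.map h).prod)⁻¹) * (toUnit Z ≫ (l'.map h).prod) := by
      rw [key, conjH hl']
    _ = _ := inv_mul_cancel_right _ _

/-- **The homomorphism exists.** -/
theorem PinFam.exists_hom [IsMonHom fT]
    (h1 : ∀ a ∈ b.support, ∀ (X : Over S) (t : X ⟶ D.T),
      tRefl a t ≫ fT = (toUnit X ≫ h a) * (t ≫ fT) * (toUnit X ≫ h a)⁻¹)
    (h2 : ∀ a ∈ b.support, ∀ c ∈ b.support, ∀ t : 𝟙_ (Over S) ⟶ D.T,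
      t ≫ D.i = (nr a * nr c) ^ orderOf (D.P.reflection a * D.P.reflection c) →
        t ≫ fT = (h a * h c) ^ orderOf (D.P.reflection a * D.P.reflection c)) :
    ∃ f : N ⟶ H, IsMonHom f ∧ tN ≫ f = fT ∧ ∀ a ∈ b.support, nN a ≫ f = h a := by
  haveI := hN.1
  haveI := hN.2.1
  haveI := isMonHom_i D
  have h1₀ : ∀ a ∈ b.support, ∀ t : 𝟙_ (Over S) ⟶ D.T, tRefl a t ≫ fT = h a * (t ≫ fT) * (h a)⁻¹ := fun a ha t => by
    simpa [toUnit_unit] using h1 a ha _ t
  choose L U τ hU hL hLe using fun y : N.left => hf.lift_word_on_open hN htN hnN (𝟙 N) y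
  simp only [Category.comp_id] at hLe
  let fy : ∀ y, Over.mk ((U y).ι ≫ N.hom) ⟶ H := fun y => (toUnit _ ≫ ((L y).map h).prod) * (τ y ≫ fT)
  have toG : ∀ {Z : Over S} (l : List D.idx) (t : Z ⟶ D.T),
      ((toUnit Z ≫ (l.map nN).prod) * (t ≫ tN)) ≫ j = nX nr Z l * (t ≫ D.i) := fun {Z} l t => by
    rw [MonObj.mul_comp, Category.assoc, Category.assoc, htN, prod_comp (D := D) j]
    simp only [hnN, nX]
  have push : ∀ {Z W : Over S} (a : Z ⟶ W) (l : List D.idx) (φ : D.idx → (𝟙_ (Over S) ⟶ N)) (t : W ⟶ D.T),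
      a ≫ ((toUnit W ≫ (l.map φ).prod) * (t ≫ tN)) = (toUnit Z ≫ (l.map φ).prod) * ((a ≫ t) ≫ tN) :=
    fun {Z W} a l φ t => by
      rw [MonObj.comp_mul, ← Category.assoc, ← Category.assoc, Subsingleton.elim (a ≫ toUnit W) (toUnit Z)]
  have pushH : ∀ {Z W : Over S} (a : Z ⟶ W) (l : List D.idx) (t : W ⟶ D.T),
      a ≫ ((toUnit W ≫ (l.map h).prod) * (t ≫ fT)) = (toUnit Z ≫ (l.map h).prod) * ((a ≫ t) ≫ fT) :=
    fun {Z W} a l t => by
      rw [MonObj.comp_mul, ← Category.assoc, ← Category.assoc, Subsingleton.elim (a ≫ toUnit W) (toUnit Z)]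
  obtain ⟨f, hfy⟩ := exists_glue U (fun y => ⟨y, hU y⟩) fy fun i k Z a c hac => by
    simp only [fy, pushH]
    refine hf.value_eq fT h h1₀ h2 h1 (hL i) (hL k) ?_
    rw [← toG, ← toG, ← push, ← push, ← hLe i, ← hLe k]
    congr 1
    exact Over.OverMorphism.ext hac
  have eval : ∀ {Z : Over S} (g : Z ⟶ N) (l : List D.idx) (t : Z ⟶ D.T), InS D b l →
      g = (toUnit Z ≫ (l.map nN).prod) * (t ≫ tN) → g ≫ f = (toUnit Z ≫ (l.map h).prod) * (t ≫ fT) := by
    intro Z g l t hl hg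
    refine eq_of_opens _ _ fun z => ?_
    let y := g.left z
    refine ⟨g.left ⁻¹ᵁ U y, hU y, ?_⟩
    let Z' : Over S := Over.mk ((g.left ⁻¹ᵁ U y).ι ≫ Z.hom)
    let ι' : Z' ⟶ Z := Over.homMk (g.left ⁻¹ᵁ U y).ι
    let r : Z' ⟶ Over.mk ((U y).ι ≫ N.hom) := Over.homMk (g.left ∣_ U y) (by
      show (g.left ∣_ U y) ≫ (U y).ι ≫ N.hom = (g.left ⁻¹ᵁ U y).ι ≫ Z.hom
      rw [← Category.assoc, morphismRestrict_ι, Category.assoc, Over.w g])
    have hr : ι' ≫ g = r ≫ Over.homMk (U y).ι := Over.OverMorphism.ext (morphismRestrict_ι _ _).symm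
    have e : ι' ≫ (g ≫ f) = ι' ≫ ((toUnit Z ≫ (l.map h).prod) * (t ≫ fT)) := by
      rw [← Category.assoc, hr, Category.assoc, hfy y, pushH]
      simp only [fy, pushH]
      refine hf.value_eq fT h h1₀ h2 h1 (hL y) hl ?_
      rw [← toG, ← toG, ← push, ← push, ← hLe y, ← hr, hg]
    exact congrArg (fun q => q.left) e
  have hT : tN ≫ f = fT := by
    have := eval tN ([] : List D.idx) (𝟙 D.T) (fun x hx => absurd hx (by simp)) (by simp [MonObj.comp_one])
    simpa [MonObj.comp_one] using this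
  have hn : ∀ a ∈ b.support, nN a ≫ f = h a := fun a ha => by
    have := eval (nN a) [a] (1 : 𝟙_ (Over S) ⟶ D.T) (fun x hx => List.mem_singleton.1 hx ▸ ha)
      (by simp [MonObj.one_comp, toUnit_unit])
    simpa [MonObj.one_comp, toUnit_unit] using this
  have hloc : ∀ {Z : Over S} (g g' : Z ⟶ N) (z : Z.left), ∃ (W : Z.left.Opens) (l l' : List D.idx)
      (t t' : Over.mk (W.ι ≫ Z.hom) ⟶ D.T), z ∈ W ∧ InS D b l ∧ InS D b l' ∧
      (Over.homMk W.ι : Over.mk (W.ι ≫ Z.hom) ⟶ Z) ≫ g = (toUnit _ ≫ (l.map nN).prod) * (t ≫ tN) ∧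
      (Over.homMk W.ι : Over.mk (W.ι ≫ Z.hom) ⟶ Z) ≫ g' = (toUnit _ ≫ (l'.map nN).prod) * (t' ≫ tN) := by
    intro Z g g' z
    obtain ⟨l, V, t, hz, hl, e⟩ := hf.lift_word_on_open hN htN hnN g z
    obtain ⟨l', V', t', hz', hl', e'⟩ := hf.lift_word_on_open hN htN hnN g' z
    let a : Over.mk ((V ⊓ V').ι ≫ Z.hom) ⟶ Over.mk (V.ι ≫ Z.hom) :=
      Over.homMk (Z.left.homOfLE inf_le_left) (by
        show Z.left.homOfLE inf_le_left ≫ V.ι ≫ Z.hom = _
        rw [Scheme.homOfLE_ι_assoc]; rfl)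
    let a' : Over.mk ((V ⊓ V').ι ≫ Z.hom) ⟶ Over.mk (V'.ι ≫ Z.hom) :=
      Over.homMk (Z.left.homOfLE inf_le_right) (by
        show Z.left.homOfLE inf_le_right ≫ V'.ι ≫ Z.hom = _
        rw [Scheme.homOfLE_ι_assoc]; rfl)
    refine ⟨V ⊓ V', l, l', a ≫ t, a' ≫ t', ⟨hz, hz'⟩, hl, hl', ?_, ?_⟩
    · rw [← push, ← e, ← Category.assoc]
      congr 1
      exact Over.OverMorphism.ext (Scheme.homOfLE_ι _ (by simp)).symm
    · rw [← push, ← e', ← Category.assoc]
      congr 1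
      exact Over.OverMorphism.ext (Scheme.homOfLE_ι _ (by simp)).symm
  have hswap : ∀ {Zw : Over S} (l' : List D.idx), InS D b l' → ∀ t : Zw ⟶ D.T, ∃ s : Zw ⟶ D.T,
      (t ≫ tN) * (toUnit Zw ≫ (l'.map nN).prod) = (toUnit Zw ≫ (l'.map nN).prod) * (s ≫ tN) ∧
      (t ≫ fT) * (toUnit Zw ≫ (l'.map h).prod) = (toUnit Zw ≫ (l'.map h).prod) * (s ≫ fT) := by
    intro Zw l'
    induction l' with
    | nil => exact fun _ t => ⟨t, by simp [MonObj.comp_one], by simp [MonObj.comp_one]⟩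
    | cons c l' ih =>
      intro hl' t
      have g1 : (t ≫ tN) * (toUnit Zw ≫ nN c) = (toUnit Zw ≫ nN c) * (tRefl c t ≫ tN) := by
        refine (cancel_mono j).1 ?_
        simp only [MonObj.mul_comp, Category.assoc, htN, hnN]
        have := (hf.refl c).conj_torus (tRefl c t)
        rw [tRefl_tRefl] at this
        rw [← this]; group
      have g2 : (t ≫ fT) * (toUnit Zw ≫ h c) = (toUnit Zw ≫ h c) * (tRefl c t ≫ fT) := by
        have := h1 c (hl' c List.mem_cons_self) Zw (tRefl c t)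
        rw [tRefl_tRefl] at this
        rw [this]; group
      obtain ⟨s, s1, s2⟩ := ih (fun x hx => hl' x (List.mem_cons_of_mem _ hx)) (tRefl c t)
      refine ⟨s, ?_, ?_⟩
      · simp only [List.map_cons, List.prod_cons, MonObj.comp_mul]
        rw [← mul_assoc, g1, mul_assoc, s1, mul_assoc]
      · simp only [List.map_cons, List.prod_cons, MonObj.comp_mul]
        rw [← mul_assoc, g2, mul_assoc, s2, mul_assoc]
  have hmul : ∀ {Z : Over S} (g g' : Z ⟶ N), (g * g') ≫ f = (g ≫ f) * (g' ≫ f) := by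
    intro Z g g'
    refine eq_of_opens _ _ fun z => ?_
    obtain ⟨W, l, l', t, t', hz, hl, hl', e, e'⟩ := hloc g g' z
    refine ⟨W, hz, ?_⟩
    let Zw := Over.mk (W.ι ≫ Z.hom)
    let ι' : Zw ⟶ Z := Over.homMk W.ι
    have hll : InS D b (l ++ l') := fun x hx => (List.mem_append.1 hx).elim (hl x) (hl' x)
    obtain ⟨s, hsG, hsH⟩ := hswap l' hl' t
    have eg : ι' ≫ (g * g') = (toUnit Zw ≫ ((l ++ l').map nN).prod) * ((s * t') ≫ tN) := by
      rw [MonObj.comp_mul, e, e', pr_append, MonObj.comp_mul, MonObj.mul_comp]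
      rw [mul_assoc, ← mul_assoc (t ≫ tN), hsG]
      simp only [mul_assoc]
      rfl
    have q := eval _ _ _ hll eg
    rw [pr_append, MonObj.comp_mul (toUnit Zw) (l.map h).prod (l'.map h).prod, MonObj.mul_comp s t' fT, mul_assoc,
      ← mul_assoc (toUnit Zw ≫ (l'.map h).prod), ← hsH] at q
    have q1 := eval _ _ _ hl e
    have q2 := eval _ _ _ hl' e'
    have q3 : ι' ≫ ((g * g') ≫ f) = ι' ≫ ((g ≫ f) * (g' ≫ f)) := by
      rw [MonObj.comp_mul ι' (g ≫ f) (g' ≫ f), ← Category.assoc, ← Category.assoc, ← Category.assoc, q, q1, q2]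
      simp only [mul_assoc]
      rfl
    exact congrArg (fun q => q.left) q3
  have hone : (1 : 𝟙_ (Over S) ⟶ N) ≫ f = 1 := by
    have := hmul (1 : 𝟙_ (Over S) ⟶ N) 1
    rwa [_root_.one_mul, left_eq_mul] at this
  refine ⟨f, ⟨?_, ?_⟩, hT, hn⟩
  · have := hone
    rwa [MonObj.one_eq_one, MonObj.one_eq_one] at *
  · have := hmul (fst N N) (snd N N)
    rw [MonObj.mul_eq_mul, MonObj.mul_eq_mul] at *
    simpa [MonObj.comp_mul] using this

end Bruhat

end
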