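import Groth.Agent.BruhatLib.NormalizerHom
import Groth.Agent.BruhatLib.DualHom

/-!
# Morphisms of pinned root data and pairs of points
-/

set_option autoImplicit false
set_option linter.style.haveILetI false
set_option linter.unusedSectionVars false
set_option backward.isDefEq.respectTransparency false
set_option maxHeartbeats 1000000
set_option synthInstance.maxHeartbeats 400000

universe u

open CategoryTheory CategoryTheory.Limits MonoidalCategory CartesianMonoidalCategory AlgebraicGeometry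
open Groth.Agent.GaPts
open Groth.Agent
open Groth.Agent.RankOne (eq_ptOf eq_ptOfUnit comp_ptOf ptOf_add)
open scoped MonObj

noncomputable section

attribute [-instance] CategoryTheory.Hom.commGroup

namespace Bruhat

open SplitCell SplitFib RootSubgrp

variable {S : Scheme.{u}} {G G' : Over S} [GrpObj G] [GrpObj G']

/-- A p-morphism of two pinned root data. -/
structure PMor (D : Red.SplitRed G) (D' : Red.SplitRed G') (b : D.P.Base) (b' : D'.P.Base)
    (av : D.idx → (Red.Gm S ⟶ D.T)) (av' : D'.idx → (Red.Gm S ⟶ D'.T))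
    (nr : D.idx → (𝟙_ (Over S) ⟶ G)) (nr' : D'.idx → (𝟙_ (Over S) ⟶ G')) where
  hf : PinFam D b av nr
  hf' : PinFam D' b' av' nr'
  hav : ∀ a, av a = Red.DSmap S (D.P.coroot a).toAddMonoidHom ≫ D.split.inv.hom.hom
  hav' : ∀ a, av' a = Red.DSmap S (D'.P.coroot a).toAddMonoidHom ≫ D'.split.inv.hom.hom
  hM : D'.M →ₗ[ℤ] D.M
  d : D.idx ≃ D'.idx
  p : ℕ
  q : D.idx → ℕ
  p_pos : 0 < p
  p_add : ∀ (X : Over S) (a b : Γ(X.left, ⊤)), (a + b) ^ p = a ^ p + b ^ p
  q_pow : ∀ a, ∃ n : ℕ, q a = p ^ n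
  hroot : ∀ a, hM (D'.P.root (d a)) = (q a : ℤ) • D.P.root a
  hcoroot : ∀ a, hM.dualMap (D.P.coroot a) = (q a : ℤ) • D'.P.coroot (d a)
  hΔ : ∀ a, a ∈ b.support ↔ d a ∈ b'.support

variable {D : Red.SplitRed G} {D' : Red.SplitRed G'} {b : D.P.Base} {b' : D'.P.Base}
  {av : D.idx → (Red.Gm S ⟶ D.T)} {av' : D'.idx → (Red.Gm S ⟶ D'.T)}
  {nr : D.idx → (𝟙_ (Over S) ⟶ G)} {nr' : D'.idx → (𝟙_ (Over S) ⟶ G')}
  (m : PMor D D' b b' av av' nr nr')

section Data

theorem PMor.q_pos (a : D.idx) : 0 < m.q a := by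
  obtain ⟨n, hn⟩ := m.q_pow a
  rw [hn]
  exact pow_pos m.p_pos n

theorem PMor.add_pow_pow (n : ℕ) {X : Over S} (x y : Γ(X.left, ⊤)) :
    (x + y) ^ m.p ^ n = x ^ m.p ^ n + y ^ m.p ^ n := by
  induction n with
  | zero => simp
  | succ n ih => rw [pow_succ, pow_mul, pow_mul, pow_mul, ih, m.p_add]

theorem PMor.q_add (a : D.idx) {X : Over S} (x y : Γ(X.left, ⊤)) :
    (x + y) ^ m.q a = x ^ m.q a + y ^ m.q a := by
  obtain ⟨n, hn⟩ := m.q_pow a
  rw [hn, m.add_pow_pow]

theorem PMor.q_neg (a : D.idx) {X : Over S} (x : Γ(X.left, ⊤)) : (-x) ^ m.q a = -x ^ m.q a :=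
  Groth.Agent.BigCell.neg_pow_of_add (m.q_pos a) (fun x y => m.q_add a x y) x

theorem PMor.q_sign (a : D.idx) {X : Over S} {ε : ℤ} (hε : ε = 1 ∨ ε = -1) (x : Γ(X.left, ⊤)) :
    ((ε : Γ(X.left, ⊤)) * x) ^ m.q a = (ε : Γ(X.left, ⊤)) * x ^ m.q a := by
  rcases hε with rfl | rfl
  · simp
  · simp [m.q_neg]

theorem PMor.coF_hM (a : D.idx) (x : D'.M) : coF D a (m.hM x) = m.q a * coF D' (m.d a) x := by
  have := congrArg (fun f : Module.Dual ℤ D'.M => f x) (m.hcoroot a)
  simpa [LinearMap.dualMap_apply, coF] using this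

/-- The pairings of the two root data. -/
theorem PMor.pairing_eq (k a : D.idx) :
    (m.q a : ℤ) * D'.P.pairing (m.d k) (m.d a) = m.q k * D.P.pairing k a := by
  have := m.coF_hM a (D'.P.root (m.d k))
  rw [m.hroot, map_zsmul, smul_eq_mul, ← coroot'_eq, coroot'_root D, ← coroot'_eq, coroot'_root D'] at this
  exact this.symm

theorem PMor.hM_reflection (a : D.idx) (x : D'.M) :
    m.hM (D'.P.reflection (m.d a) x) = D.P.reflection a (m.hM x) := by
  rw [reflection_eq, reflection_eq, map_sub, map_zsmul, m.hroot, m.coF_hM, smul_smul, mul_comm]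

variable [Nonempty S]

include m in
theorem PMor.eq_of_smul_root {j k : D.idx} (r s : ℕ) (hr : 0 < r) (hs : 0 < s)
    (e : (r : ℤ) • D.P.root j = (s : ℤ) • D.P.root k) : j = k ∧ r = s := by
  have hd : ¬ LinearIndependent ℤ ![D.P.root j, D.P.root k] := fun hli => by
    have := (LinearIndependent.pair_iff.1 hli (r : ℤ) (-(s : ℤ)) (by rw [e]; module)).1
    omega
  haveI := isReduced_root D
  rcases RootPairing.IsReduced.eq_or_eq_neg j k hd with h | h
  · rw [h] at e
    exact ⟨D.P.root.injective h, by exact_mod_cast smul_left_injective ℤ (D.P.ne_zero k) e⟩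
  · exfalso
    rw [h, smul_neg, ← neg_smul] at e
    have := smul_left_injective ℤ (D.P.ne_zero k) e
    omega

/-- The bijection of the roots commutes with the reflections. -/
theorem PMor.d_refl (a c : D.idx) :
    m.d (D.P.reflectionPerm a c) = D'.P.reflectionPerm (m.d a) (m.d c) ∧ m.q (D.P.reflectionPerm a c) = m.q c := by
  obtain ⟨k, hk⟩ := m.d.surjective (D'.P.reflectionPerm (m.d a) (m.d c))
  have e := congrArg m.hM (congrArg D'.P.root hk)
  rw [RootPairing.root_reflectionPerm, m.hM_reflection, m.hroot, m.hroot, map_zsmul,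
    ← RootPairing.root_reflectionPerm] at e
  obtain ⟨rfl, hq⟩ := m.eq_of_smul_root _ _ (m.q_pos k) (m.q_pos c) e
  exact ⟨hk, hq⟩

theorem PMor.d_perm (l : List D.idx) (c : D.idx) :
    m.d (RedSub.wordPerm D.P l c) = RedSub.wordPerm D'.P (l.map m.d) (m.d c) ∧
      m.q (RedSub.wordPerm D.P l c) = m.q c := by
  induction l with
  | nil => exact ⟨rfl, rfl⟩
  | cons a l ih =>
    rw [wordPerm_cons, List.map_cons, wordPerm_cons, Equiv.Perm.mul_apply, Equiv.Perm.mul_apply]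
    obtain ⟨h1, h2⟩ := m.d_refl a (RedSub.wordPerm D.P l c)
    exact ⟨by rw [h1, ih.1], h2.trans ih.2⟩

theorem PMor.map_inS {l : List D.idx} (hl : InS D b l) : InS D' b' (l.map m.d) := fun x hx => by
  obtain ⟨a, ha, rfl⟩ := List.mem_map.1 hx
  exact (m.hΔ a).1 (hl a ha)

end Data

section Torus

/-- The homomorphism of the tori. -/
def PMor.phi : D.T ⟶ D'.T :=
  D.split.hom.hom.hom ≫ Red.DSmap S m.hM.toAddMonoidHom ≫ D'.split.inv.hom.hom

instance : IsMonHom m.phi := by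
  haveI : IsMonHom D.split.hom.hom.hom := D.split.hom.hom.isMonHom_hom
  haveI : IsMonHom D'.split.inv.hom.hom := D'.split.inv.hom.isMonHom_hom
  haveI : IsMonHom (Red.DSmap S m.hM.toAddMonoidHom) := Groth.Agent.DSImg.isMonHom_DSmap _
  unfold PMor.phi
  infer_instance

theorem PMor.chars_phi {X : Over S} (t : X ⟶ D.T) (x : D'.M) :
    MultSubLib.chars ((t ≫ m.phi) ≫ D'.split.hom.hom.hom) (Multiplicative.ofAdd x) =
      MultSubLib.chars (t ≫ D.split.hom.hom.hom) (Multiplicative.ofAdd (m.hM x)) := by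
  have e0 : D'.split.inv.hom.hom ≫ D'.split.hom.hom.hom = 𝟙 _ :=
    congrArg (fun q => q.hom.hom) D'.split.inv_hom_id
  simp only [PMor.phi, Category.assoc, e0, Category.comp_id]
  rw [← Category.assoc t, Groth.Agent.DSImg.chars_comp_DSmap]
  rfl

theorem PMor.chi_phi (a : D.idx) {X : Over S} (t : X ⟶ D.T) :
    Red.gmFn ((t ≫ m.phi) ≫ D'.split.hom.hom.hom ≫ Red.chi S (D'.P.root (m.d a))) =
      Red.gmFn (t ≫ D.split.hom.hom.hom ≫ Red.chi S (D.P.root a)) ^ m.q a := by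
  rw [← Category.assoc, gmFn_chi, m.chars_phi, m.hroot, ← Category.assoc t, gmFn_chi, natCast_zsmul,
    ofAdd_nsmul, map_pow]

theorem PMor.tRefl_phi (a : D.idx) {X : Over S} (t : X ⟶ D.T) :
    tRefl a t ≫ m.phi = tRefl (D := D') (m.d a) (t ≫ m.phi) := by
  refine torus_ext (MonoidHom.ext fun x => ?_)
  obtain ⟨x, rfl⟩ := Multiplicative.ofAdd.surjective x
  rw [m.chars_phi, chars_tRefl, chars_tRefl]
  show MultSubLib.chars _ (Multiplicative.ofAdd (D.P.reflection a (m.hM x))) =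
    MultSubLib.chars _ (Multiplicative.ofAdd (D'.P.reflection (m.d a) x))
  rw [m.chars_phi, m.hM_reflection]

theorem PMor.av_phi (a : D.idx) {X : Over S} (z : (Γ(X.left, ⊤))ˣ) :
    ((GmPts.ptOfUnit z : X ⟶ Red.Gm S) ≫ av a) ≫ m.phi =
      (GmPts.ptOfUnit (z ^ m.q a) : X ⟶ Red.Gm S) ≫ av' (m.d a) := by
  refine torus_ext (MonoidHom.ext fun x => ?_)
  obtain ⟨x, rfl⟩ := Multiplicative.ofAdd.surjective x
  rw [m.chars_phi, ← gmFn_chi, Category.assoc, gmFn_avc (m.hav a), ← gmFn_chi, Category.assoc,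
    gmFn_avc (m.hav' _), GmPts.unitOfPt_ptOfUnit, GmPts.unitOfPt_ptOfUnit, m.coF_hM, ← zpow_natCast,
    ← zpow_mul]

end Torus

section Pairs

/-- A pair of points of the two groups. -/
abbrev Pt2 (G G' X : Over S) := (X ⟶ G) × (X ⟶ G')

/-- Pull a pair back. -/
def pull2 {X X' : Over S} (g : X' ⟶ X) : Pt2 G G' X →* Pt2 G G' X' where
  toFun p := (g ≫ p.1, g ≫ p.2)
  map_one' := Prod.ext (MonObj.comp_one g) (MonObj.comp_one g)
  map_mul' p p' := Prod.ext (MonObj.comp_mul g p.1 p'.1) (MonObj.comp_mul g p.2 p'.2)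

theorem pull2_apply {X X' : Over S} (g : X' ⟶ X) (p : Pt2 G G' X) : pull2 g p = (g ≫ p.1, g ≫ p.2) := rfl

theorem pull2_comp {X X' X'' : Over S} (g : X' ⟶ X) (h : X'' ⟶ X') (p : Pt2 G G' X) :
    pull2 h (pull2 g p) = pull2 (h ≫ g) p := by
  simp [pull2_apply, Category.assoc]

/-- The graph of the homomorphism of the tori. -/
def PMor.Tp {X : Over S} : (X ⟶ D.T) →* Pt2 G G' X where
  toFun t := (t ≫ D.i, (t ≫ m.phi) ≫ D'.i)
  map_one' := by
    haveI := isMonHom_i D
    haveI := isMonHom_i D'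
    exact Prod.ext (MonObj.one_comp _) ((congrArg (· ≫ D'.i) (MonObj.one_comp _)).trans (MonObj.one_comp _))
  map_mul' t t' := by
    haveI := isMonHom_i D
    haveI := isMonHom_i D'
    exact Prod.ext (MonObj.mul_comp _ _ _) ((congrArg (· ≫ D'.i) (MonObj.mul_comp _ _ _)).trans (MonObj.mul_comp _ _ _))

theorem PMor.Tp_apply {X : Over S} (t : X ⟶ D.T) : m.Tp t = (t ≫ D.i, (t ≫ m.phi) ≫ D'.i) := rfl

theorem PMor.pull_Tp {X X' : Over S} (g : X' ⟶ X) (t : X ⟶ D.T) : pull2 g (m.Tp t) = m.Tp (g ≫ t) := by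
  simp [pull2_apply, PMor.Tp_apply, Category.assoc]

/-- The pair of a point of the root group of a simple root, or of its opposite. -/
def PMor.E (a : D.idx) {X : Over S} (r : Γ(X.left, ⊤)) : Pt2 G G' X :=
  (ep D a r, ep D' (m.d a) (r ^ m.q a))

theorem PMor.E_add (a : D.idx) {X : Over S} (r s : Γ(X.left, ⊤)) : m.E a (r + s) = m.E a r * m.E a s := by
  exact Prod.ext (ep_add a r s) ((congrArg (ep D' (m.d a)) (m.q_add a r s)).trans (ep_add _ _ _))

theorem PMor.E_neg (a : D.idx) {X : Over S} (r : Γ(X.left, ⊤)) : m.E a (-r) = (m.E a r)⁻¹ := by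
  exact Prod.ext (ep_neg a r) ((congrArg (ep D' (m.d a)) (m.q_neg a r)).trans (ep_neg _ _))

theorem PMor.pull_E {X X' : Over S} (g : X' ⟶ X) (a : D.idx) (r : Γ(X.left, ⊤)) :
    pull2 g (m.E a r) = m.E a (g.left.appTop r) := by
  refine Prod.ext (comp_ep g a r) ((comp_ep g _ _).trans ?_)
  rw [map_pow]
  rfl

/-- The pair of the word. -/
def PMor.NP (l : List D.idx) (X : Over S) : Pt2 G G' X := (nX nr X l, nX nr' X (l.map m.d))

theorem PMor.NP_append (l l' : List D.idx) (X : Over S) : m.NP (l ++ l') X = m.NP l X * m.NP l' X := by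
  refine Prod.ext ?_ ?_ <;> simp [PMor.NP, nX, MonObj.comp_mul]

theorem PMor.NP_nil (X : Over S) : m.NP [] X = 1 := Prod.ext nX_nil nX_nil

theorem PMor.NP_cons (a : D.idx) (l : List D.idx) (X : Over S) : m.NP (a :: l) X = m.NP [a] X * m.NP l X :=
  m.NP_append [a] l X

theorem PMor.pull_NP {X X' : Over S} (g : X' ⟶ X) (l : List D.idx) : pull2 g (m.NP l X) = m.NP l X' :=
  Prod.ext (comp_nX g l) (comp_nX g _)

/-- Pairs conjugate in the two factors separately. -/
theorem conj2 {X : Over S} (g p : Pt2 G G' X) :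
    g * p * g⁻¹ = (g.1 * p.1 * g.1⁻¹, g.2 * p.2 * g.2⁻¹) := rfl

end Pairs

end Bruhat

end
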