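import Groth.Agent.BruhatLib.B2
import Groth.Agent.BruhatLib.G2Deriv
import Groth.Agent.BruhatLib.G2Comm

/-!
# The relations of a plane as pinned, after a change of parameter, and with the lengths exchanged
-/

set_option autoImplicit false
set_option linter.style.haveILetI false
set_option linter.unusedSectionVars false
set_option backward.isDefEq.respectTransparency false
set_option maxHeartbeats 1000000
set_option synthInstance.maxHeartbeats 400000

universe u

open CategoryTheory CategoryTheory.Limits MonoidalCategory CartesianMonoidalCategory AlgebraicGeometry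
open Groth.Agent.GaPts
open Groth.Agent
open Groth.Agent.RankOne (eq_ptOf eq_ptOfUnit comp_ptOf ptOf_add)
open scoped MonObj

noncomputable section

attribute [-instance] CategoryTheory.Hom.commGroup

namespace Bruhat

open SplitCell SplitFib RootSubgrp

section Abstract

variable {R : Type*} [CommRing R] {M N : Type*} [Group M] [Group N] {P Q A B C E : R → M}

theorem RelsB2.comp (h : RelsB2 P Q A B) (φ : R →+* R) :
    RelsB2 (fun r => P (φ r)) (fun r => Q (φ r)) (fun r => A (φ r)) (fun r => B (φ r)) where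
  addP x y := by rw [map_add, h.addP]
  addA x y := by rw [map_add, h.addA]
  addB x y := by rw [map_add, h.addB]
  r1 x y := by simpa only [map_mul, map_pow] using h.r1 (φ x) (φ y)
  r2 x y := by simpa only [map_mul, map_ofNat] using h.r2 (φ x) (φ y)
  cQA _ _ := h.cQA _ _
  cQB _ _ := h.cQB _ _
  cPB _ _ := h.cPB _ _
  cAB _ _ := h.cAB _ _

theorem RelsG2.comp (h : RelsG2 P Q A B C E) (φ : R →+* R) :
    RelsG2 (fun r => P (φ r)) (fun r => Q (φ r)) (fun r => A (φ r)) (fun r => B (φ r)) (fun r => C (φ r))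
      (fun r => E (φ r)) where
  addP x y := by rw [map_add, h.addP]
  addQ x y := by rw [map_add, h.addQ]
  addA x y := by rw [map_add, h.addA]
  addB x y := by rw [map_add, h.addB]
  addC x y := by rw [map_add, h.addC]
  addE x y := by rw [map_add, h.addE]
  r1 x y := by simpa only [map_mul, map_pow] using h.r1 (φ x) (φ y)
  r2 x y := by simpa only [map_mul, map_pow, map_ofNat] using h.r2 (φ x) (φ y)
  r3 x y := by simpa only [map_mul, map_ofNat] using h.r3 (φ x) (φ y)
  r4 x y := by simpa only [map_mul, map_neg] using h.r4 (φ x) (φ y)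
  r5 x y := by simpa only [map_mul, map_ofNat] using h.r5 (φ x) (φ y)
  cQA _ _ := h.cQA _ _
  cQB _ _ := h.cQB _ _
  cQE _ _ := h.cQE _ _
  cPC _ _ := h.cPC _ _
  cPE _ _ := h.cPE _ _
  cAC _ _ := h.cAC _ _
  cAE _ _ := h.cAE _ _
  cBC _ _ := h.cBC _ _
  cBE _ _ := h.cBE _ _
  cCE _ _ := h.cCE _ _

theorem RelsB2.prod {P' Q' A' B' : R → N} (h : RelsB2 P Q A B) (h' : RelsB2 P' Q' A' B') :
    RelsB2 (fun r => (P r, P' r)) (fun r => (Q r, Q' r)) (fun r => (A r, A' r)) (fun r => (B r, B' r)) where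
  addP x y := Prod.ext (h.addP x y) (h'.addP x y)
  addA x y := Prod.ext (h.addA x y) (h'.addA x y)
  addB x y := Prod.ext (h.addB x y) (h'.addB x y)
  r1 x y := Prod.ext (h.r1 x y) (h'.r1 x y)
  r2 x y := Prod.ext (h.r2 x y) (h'.r2 x y)
  cQA x y := Prod.ext (h.cQA x y) (h'.cQA x y)
  cQB x y := Prod.ext (h.cQB x y) (h'.cQB x y)
  cPB x y := Prod.ext (h.cPB x y) (h'.cPB x y)
  cAB x y := Prod.ext (h.cAB x y) (h'.cAB x y)

theorem RelsG2.prod {P' Q' A' B' C' E' : R → N} (h : RelsG2 P Q A B C E) (h' : RelsG2 P' Q' A' B' C' E') :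
    RelsG2 (fun r => (P r, P' r)) (fun r => (Q r, Q' r)) (fun r => (A r, A' r)) (fun r => (B r, B' r))
      (fun r => (C r, C' r)) (fun r => (E r, E' r)) where
  addP x y := Prod.ext (h.addP x y) (h'.addP x y)
  addQ x y := Prod.ext (h.addQ x y) (h'.addQ x y)
  addA x y := Prod.ext (h.addA x y) (h'.addA x y)
  addB x y := Prod.ext (h.addB x y) (h'.addB x y)
  addC x y := Prod.ext (h.addC x y) (h'.addC x y)
  addE x y := Prod.ext (h.addE x y) (h'.addE x y)
  r1 x y := Prod.ext (h.r1 x y) (h'.r1 x y)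
  r2 x y := Prod.ext (h.r2 x y) (h'.r2 x y)
  r3 x y := Prod.ext (h.r3 x y) (h'.r3 x y)
  r4 x y := Prod.ext (h.r4 x y) (h'.r4 x y)
  r5 x y := Prod.ext (h.r5 x y) (h'.r5 x y)
  cQA x y := Prod.ext (h.cQA x y) (h'.cQA x y)
  cQB x y := Prod.ext (h.cQB x y) (h'.cQB x y)
  cQE x y := Prod.ext (h.cQE x y) (h'.cQE x y)
  cPC x y := Prod.ext (h.cPC x y) (h'.cPC x y)
  cPE x y := Prod.ext (h.cPE x y) (h'.cPE x y)
  cAC x y := Prod.ext (h.cAC x y) (h'.cAC x y)
  cAE x y := Prod.ext (h.cAE x y) (h'.cAE x y)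
  cBC x y := Prod.ext (h.cBC x y) (h'.cBC x y)
  cBE x y := Prod.ext (h.cBE x y) (h'.cBE x y)
  cCE x y := Prod.ext (h.cCE x y) (h'.cCE x y)

/-- In characteristic two the lengths can be exchanged by squaring one parameter. -/
theorem RelsB2.flip (h : RelsB2 P Q A B) (hQ : ∀ x y, Q (x + y) = Q x * Q y) (h2 : (2 : R) = 0) :
    RelsB2 (fun r => Q (r ^ 2)) P (fun r => B (r ^ 2)) A := by
  have sq : ∀ x y : R, (x + y) ^ 2 = x ^ 2 + y ^ 2 := fun x y => by linear_combination x * y * h2
  have ng : ∀ x : R, -x = x := fun x => by linear_combination -x * h2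
  have cPA : ∀ x y, Commute (P x) (A y) := fun x y => by
    have e := h.r2 x y
    rw [h2, zero_mul, zero_mul, map_zero_of_add h.addB, _root_.mul_one] at e
    exact e.symm
  refine ⟨fun x y => by rw [sq, hQ], fun x y => by rw [sq, h.addB], h.addA, fun x y => ?_, fun x y => ?_,
    fun x y => h.cPB x _, fun x y => cPA x y, fun x y => h.cQA _ y, fun x y => (h.cAB y _).symm⟩
  · show _ = _
    set W := A (y * x ^ 2) * B (y ^ 2 * x ^ 2)
    have e : Q (x ^ 2) * P y = P y * Q (x ^ 2) * W := by rw [h.r1, _root_.mul_assoc _ (A _)]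
    have hW : W⁻¹ = B ((x * y) ^ 2) * A (x ^ 2 * y) := by
      rw [_root_.mul_inv_rev, ← map_neg_of_add h.addB, ← map_neg_of_add h.addA, ng, ng]
      congr 2 <;> ring
    rw [e, _root_.mul_assoc _ (B _) (A _), ← hW, mul_inv_cancel_right]
  · show _ = _
    rw [h2, zero_mul, zero_mul, map_zero_of_add h.addA, _root_.mul_one]
    exact (h.cQB _ _).symm.eq

/-- In characteristic three the lengths can be exchanged by cubing one parameter. -/
theorem RelsG2.flip (h : RelsG2 P Q A B C E) (h3 : (3 : R) = 0) :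
    RelsG2 (fun r => Q (r ^ 3)) P (fun r => C (-r ^ 3)) (fun r => E (-r ^ 3)) (fun r => A (-r)) (fun r => B (-r)) := by
  have cube : ∀ x y : R, (x + y) ^ 3 = x ^ 3 + y ^ 3 := fun x y => by linear_combination (x ^ 2 * y + x * y ^ 2) * h3
  have n2 : ∀ x : R, 2 * x = -x := fun x => by linear_combination x * h3
  have zB : B 0 = 1 := map_zero_of_add h.addB
  have zC : C 0 = 1 := map_zero_of_add h.addC
  have zE : E 0 = 1 := map_zero_of_add h.addE
  have zA : A 0 = 1 := map_zero_of_add h.addA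
  have cPB : ∀ x y, Commute (P x) (B y) := fun x y => by
    have e := h.r3 x y
    rw [h3, zero_mul, zero_mul, zC, _root_.mul_one] at e
    exact e.symm
  have cAB : ∀ x y, Commute (A x) (B y) := fun x y => by
    have e := h.r5 x y
    rw [h3, zero_mul, zero_mul, zE, _root_.mul_one] at e
    exact e.symm
  refine
    { addP := fun x y => by rw [cube, h.addQ]
      addQ := h.addP
      addA := fun x y => by rw [cube, neg_add, h.addC]
      addB := fun x y => by rw [cube, neg_add, h.addE]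
      addC := fun x y => by rw [neg_add, h.addA]
      addE := fun x y => by rw [neg_add, h.addB]
      r1 := fun x y => ?_
      r2 := fun x y => ?_
      r3 := fun x y => ?_
      r4 := fun x y => ?_
      r5 := fun x y => ?_
      cQA := fun x y => h.cPC _ _
      cQB := fun x y => h.cPE _ _
      cQE := fun x y => cPB _ _
      cPC := fun x y => h.cQA _ _
      cPE := fun x y => h.cQB _ _
      cAC := fun x y => (h.cAC _ _).symm
      cAE := fun x y => (h.cBC _ _).symm
      cBC := fun x y => (h.cAE _ _).symm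
      cBE := fun x y => (h.cBE _ _).symm
      cCE := fun x y => cAB _ _ }
  · set a := A (-(x ^ 3 * y))
    set bb := B (-(x ^ 3 * y ^ 2))
    set c := C (-(x * y) ^ 3)
    set e := E (-(x ^ 2 * y) ^ 3)
    have hW : (A (y * x ^ 3) * B (y ^ 2 * x ^ 3) * C (y ^ 3 * x ^ 3) * E (y ^ 3 * (x ^ 3) ^ 2))⁻¹ = c * e * a * bb := by
      rw [_root_.mul_inv_rev, _root_.mul_inv_rev, _root_.mul_inv_rev, ← map_neg_of_add h.addA,
        ← map_neg_of_add h.addB, ← map_neg_of_add h.addC, ← map_neg_of_add h.addE,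
        show -(y ^ 3 * (x ^ 3) ^ 2) = -(x ^ 2 * y) ^ 3 by ring, show -(y ^ 3 * x ^ 3) = -(x * y) ^ 3 by ring,
        show -(y ^ 2 * x ^ 3) = -(x ^ 3 * y ^ 2) by ring, show -(y * x ^ 3) = -(x ^ 3 * y) by ring]
      show e * (c * (bb * a)) = c * e * a * bb
      rw [← (cAB _ _).eq, ← _root_.mul_assoc e, ← (h.cCE _ _).eq]
      simp only [_root_.mul_assoc, a, bb, c, e]
    have e1 : Q (x ^ 3) * P y =
        P y * Q (x ^ 3) * (A (y * x ^ 3) * B (y ^ 2 * x ^ 3) * C (y ^ 3 * x ^ 3) * E (y ^ 3 * (x ^ 3) ^ 2)) := by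
      rw [h.r1]; simp only [_root_.mul_assoc]
    show P y * Q (x ^ 3) = Q (x ^ 3) * P y * c * e * a * bb
    rw [show Q (x ^ 3) * P y * c * e * a * bb = Q (x ^ 3) * P y * (c * e * a * bb) by simp only [_root_.mul_assoc],
      ← hW, e1, mul_inv_cancel_right]
  · rw [h.r4, show -(3 * x ^ 2 * y) = 0 by rw [h3]; ring, show -(3 * x * y ^ 2) = 0 by rw [h3]; ring, zA, zB,
      _root_.mul_one, _root_.mul_one]
    congr 2
    linear_combination (3 * x ^ 3 * y ^ 3) * h3
  · rw [show -(3 * x * y) = 0 by rw [h3]; ring, zA, _root_.mul_one]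
    exact (h.cQE _ _).symm.eq
  · rw [h.r2, show 3 * x ^ 2 * -y = 0 by rw [h3]; ring, show 3 * x * (-y) ^ 2 = 0 by rw [h3]; ring, zC, zE,
      _root_.mul_one, _root_.mul_one]
    congr 2
    linear_combination -(x * y) * h3
  · rw [show -(3 * x * y) = 0 by rw [h3]; ring, zB, _root_.mul_one]
    exact (h.cCE _ _).symm.eq

end Abstract

section Geometric

variable {S : Scheme.{u}} {G : Over S} [GrpObj G] [Nonempty S] {D : Red.SplitRed G} {b : D.P.Base}
  {p q : D.idx} {avp avq : Red.Gm S ⟶ D.T} {wp wq : 𝟙_ (Over S) ⟶ G}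

/-- The element of a conjugated root group. -/
abbrev cj (w : 𝟙_ (Over S) ⟶ G) {X : Over S} (g : X ⟶ G) : X ⟶ G := (toUnit X ≫ w) * g * (toUnit X ≫ w)⁻¹

theorem Pin.exists_cj {a : D.idx} {va : Red.Gm S ⟶ D.T} {w : 𝟙_ (Over S) ⟶ G} (A : Pin D a va w) (k : D.idx)
    {X : Over S} (r : Γ(X.left, ⊤)) : ∃ s, cj w (ep D k r) = ep D (D.P.reflectionPerm a k) s := by
  obtain ⟨z, hz⟩ := A.isRefl.conj_u k (ptOf r : X ⟶ Red.Ga S)
  exact ⟨Red.gaFn z, hz.trans (ep_of _ z)⟩

theorem cj_mul (w : 𝟙_ (Over S) ⟶ G) {X : Over S} (g g' : X ⟶ G) : cj w (g * g') = cj w g * cj w g' := by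
  simp only [cj]; group

theorem cj_inv (w : 𝟙_ (Over S) ⟶ G) {X : Over S} (g : X ⟶ G) : cj w g⁻¹ = (cj w g)⁻¹ := by
  simp only [cj]; group

/-- The relations of a pinned pair of type B₂. -/
theorem PairB2.rels (h : PairB2 D b p q avp avq wp wq) (X : Over S) :
    RelsB2 (fun r : Γ(X.left, ⊤) => ep D p r) (fun r => ep D q r) (fun r => cj wq (ep D p r))
      (fun r => cj wp (ep D q r)) := by
  have hc : ∀ {d e : D.idx} {i j k l : ℤ}, IsComb D p q d i j → IsComb D p q e k l →
      ((i + k = 3 ∧ j + l = 1) ∨ (i + k = 1 ∧ j + l = 2) ∨ (i + k = 2 ∧ j + l = 2) ∨ (i + k = 3 ∧ j + l = 2)) →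
      ∀ r s : Γ(X.left, ⊤), Commute (ep D d r) (ep D e s) := fun hd he hno r s => h.comm hd he (by omega) r s
  exact
    { addP := ep_add p
      addA := fun x y => by rw [ep_add, cj_mul]
      addB := fun x y => by rw [ep_add, cj_mul]
      r1 := fun x y => (h.formulas x y).1
      r2 := fun x y => (h.formulas x y).2
      cQA := fun x y => by
        obtain ⟨s, hs⟩ := h.Q.exists_cj p y
        rw [hs]; exact hc isComb_right h.comb_ab (by norm_num) _ _
      cQB := fun x y => by
        obtain ⟨s, hs⟩ := h.P.exists_cj q y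
        rw [hs]; exact hc isComb_right h.comb_aab (by norm_num) _ _
      cPB := fun x y => by
        obtain ⟨s, hs⟩ := h.P.exists_cj q y
        rw [hs]; exact hc isComb_left h.comb_aab (by norm_num) _ _
      cAB := fun x y => by
        obtain ⟨s, hs⟩ := h.P.exists_cj q y
        obtain ⟨t, ht⟩ := h.Q.exists_cj p x
        rw [hs, ht]; exact hc h.comb_ab h.comb_aab (by norm_num) _ _ }

/-- The relations of a pinned pair of type G₂. -/
theorem PairG2.rels (h : PairG2 D b p q avp avq wp wq) (X : Over S) :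
    RelsG2 (fun r : Γ(X.left, ⊤) => ep D p r) (fun r => ep D q r) (fun r => cj wq (ep D p r))
      (fun r => cj wp (cj wq (ep D p r))) (fun r => cj wp (ep D q (-r))) (fun r => cj wq (cj wp (ep D q (-r)))) := by
  have hc : ∀ {d e : D.idx} {i j k l : ℤ}, IsComb D p q d i j → IsComb D p q e k l →
      ¬ ((i + k = 1 ∧ j + l = 0) ∨ (i + k = 0 ∧ j + l = 1) ∨ (1 ≤ i + k ∧ i + k ≤ 3 ∧ j + l = 1) ∨
        (i + k = 3 ∧ j + l = 2)) → 0 ≤ i + k → 0 ≤ j + l → 0 < i + k + j + l →
      ∀ r s : Γ(X.left, ⊤), Commute (ep D d r) (ep D e s) := fun hd he hno h1 h2 h0 r s =>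
    h.comm hd he (by omega) (by omega) r s
  have hA := fun r : Γ(X.left, ⊤) => h.Q.exists_cj p r
  have hB : ∀ r : Γ(X.left, ⊤), ∃ s,
      cj wp (cj wq (ep D p r)) = ep D (D.P.reflectionPerm p (D.P.reflectionPerm q p)) s := fun r => by
    obtain ⟨s, hs⟩ := hA r
    rw [hs]; exact h.P.exists_cj _ s
  have hC := fun r : Γ(X.left, ⊤) => h.P.exists_cj q (-r)
  have hE : ∀ r : Γ(X.left, ⊤), ∃ s,
      cj wq (cj wp (ep D q (-r))) = ep D (D.P.reflectionPerm q (D.P.reflectionPerm p q)) s := fun r => by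
    obtain ⟨s, hs⟩ := hC r
    rw [hs]; exact h.Q.exists_cj _ s
  have F := fun x y : Γ(X.left, ⊤) => h.formulas x y
  have n1 : ∀ (w v : 𝟙_ (Over S) ⟶ G) (g : X ⟶ G),
      (toUnit X ≫ (w * v)) * g * (toUnit X ≫ (w * v))⁻¹ = cj w (cj v g) := fun w v g => by
    simp only [cj, MonObj.comp_mul]; group
  simp only [n1, ← ep_neg] at F
  refine
    { addP := ep_add p
      addQ := ep_add q
      addA := fun x y => by rw [ep_add, cj_mul]
      addB := fun x y => (congrArg (cj wp) (by rw [ep_add, cj_mul])).trans (cj_mul _ _ _)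
      addC := fun x y => by rw [neg_add, ep_add, cj_mul]
      addE := fun x y => (congrArg (cj wq) (by rw [neg_add, ep_add, cj_mul])).trans (cj_mul _ _ _)
      r1 := fun x y => ?_
      r2 := fun x y => ?_
      r3 := fun x y => ?_
      r4 := fun x y => ?_
      r5 := fun x y => ?_
      cQA := fun x y => ?_
      cQB := fun x y => ?_
      cQE := fun x y => ?_
      cPC := fun x y => ?_
      cPE := fun x y => ?_
      cAC := fun x y => ?_
      cAE := fun x y => ?_
      cBC := fun x y => ?_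
      cBE := fun x y => ?_
      cCE := fun x y => ?_ }
  rotate_left 5
  · obtain ⟨s, hs⟩ := hA y; rw [hs]
    exact hc isComb_right h.comb11 (by norm_num) (by norm_num) (by norm_num) (by norm_num) _ _
  · obtain ⟨s, hs⟩ := hB y; rw [hs]
    exact hc isComb_right h.comb21 (by norm_num) (by norm_num) (by norm_num) (by norm_num) _ _
  · obtain ⟨s, hs⟩ := hE y; rw [hs]
    exact hc isComb_right h.comb32 (by norm_num) (by norm_num) (by norm_num) (by norm_num) _ _
  · obtain ⟨s, hs⟩ := hC y; rw [hs]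
    exact hc isComb_left h.comb31 (by norm_num) (by norm_num) (by norm_num) (by norm_num) _ _
  · obtain ⟨s, hs⟩ := hE y; rw [hs]
    exact hc isComb_left h.comb32 (by norm_num) (by norm_num) (by norm_num) (by norm_num) _ _
  · obtain ⟨s, hs⟩ := hC y; obtain ⟨t, ht⟩ := hA x; rw [hs, ht]
    exact hc h.comb11 h.comb31 (by norm_num) (by norm_num) (by norm_num) (by norm_num) _ _
  · obtain ⟨s, hs⟩ := hE y; obtain ⟨t, ht⟩ := hA x; rw [hs, ht]
    exact hc h.comb11 h.comb32 (by norm_num) (by norm_num) (by norm_num) (by norm_num) _ _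
  · obtain ⟨s, hs⟩ := hC y; obtain ⟨t, ht⟩ := hB x; rw [hs, ht]
    exact hc h.comb21 h.comb31 (by norm_num) (by norm_num) (by norm_num) (by norm_num) _ _
  · obtain ⟨s, hs⟩ := hE y; obtain ⟨t, ht⟩ := hB x; rw [hs, ht]
    exact hc h.comb21 h.comb32 (by norm_num) (by norm_num) (by norm_num) (by norm_num) _ _
  · obtain ⟨s, hs⟩ := hE y; obtain ⟨t, ht⟩ := hC x; rw [hs, ht]
    exact hc h.comb31 h.comb32 (by norm_num) (by norm_num) (by norm_num) (by norm_num) _ _
  all_goals
    obtain ⟨u11, u21, u31, u32, a1, a2, a3, a4, g⟩ := F x y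
    simp only [a1, a2, a3, a4] at g
  · exact g.1
  · exact g.2.1
  · exact g.2.2.1
  · exact g.2.2.2.1
  · exact g.2.2.2.2

end Geometric

end Bruhat

end
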