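import Groth.Agent.BruhatLib.WordRel
import Groth.Agent.BruhatLib.PlaneBase

/-!
# Two roots can be moved into the plane of two simple roots
-/

set_option autoImplicit false
set_option linter.style.haveILetI false
set_option linter.unusedSectionVars false
set_option backward.isDefEq.respectTransparency false
set_option maxHeartbeats 1000000
set_option synthInstance.maxHeartbeats 400000

universe u

open CategoryTheory CategoryTheory.Limits MonoidalCategory CartesianMonoidalCategory AlgebraicGeometry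
open Groth.Agent
open scoped MonObj

noncomputable section

attribute [-instance] CategoryTheory.Hom.commGroup

namespace Bruhat

open SplitCell SplitFib RootSubgrp

variable {S : Scheme.{u}} {G : Over S} [GrpObj G] [Nonempty S] {D : Red.SplitRed G} {b : D.P.Base}

/-- Every regular functional is carried to a dominant one by a word. -/
theorem exists_dominant_word (F : D.M →ₗ[ℤ] ℤ) (hF : ∀ k, F (D.P.root k) ≠ 0) :
    ∃ l : List D.idx, InS D b l ∧ ∀ a ∈ b.support, 0 < F (D.P.root ((RedSub.wordPerm D.P l).symm a)) := by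
  classical
  suffices h : ∀ n : ℕ, ∀ F : D.M →ₗ[ℤ] ℤ, (∀ k, F (D.P.root k) ≠ 0) →
      (Finset.univ.filter fun k => k ∈ (sidesOfBase D.P b).pos ∧ F (D.P.root k) < 0).card ≤ n →
      ∃ l : List D.idx, InS D b l ∧ ∀ a ∈ b.support, 0 < F (D.P.root ((RedSub.wordPerm D.P l).symm a)) from
    h _ F hF le_rfl
  intro n
  induction n with
  | zero =>
    intro F hF hn
    refine ⟨[], fun x hx => absurd hx (by simp), fun a ha => ?_⟩
    simp only [RedSub.wordPerm, List.map_nil, List.prod_nil]
    show 0 < F (D.P.root a)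
    rcases lt_or_gt_of_ne (hF a) with h | h
    · exact absurd hn (by
        rw [not_le, Finset.card_pos]
        exact ⟨a, Finset.mem_filter.2 ⟨Finset.mem_univ _, simple_mem_pos ha, h⟩⟩)
    · exact h
  | succ n ih =>
    intro F hF hn
    by_cases hall : ∀ a ∈ b.support, 0 < F (D.P.root a)
    · exact ⟨[], fun x hx => absurd hx (by simp), hall⟩
    push Not at hall
    obtain ⟨a, ha, hFa⟩ := hall
    have hFa' : F (D.P.root a) < 0 := lt_of_le_of_ne hFa (hF a)
    let F' : D.M →ₗ[ℤ] ℤ := F.comp (D.P.reflection a).toLinearMap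
    have hF' : ∀ k, F' (D.P.root k) = F (D.P.root (D.P.reflectionPerm a k)) := fun k => by
      rw [RootPairing.root_reflectionPerm]; rfl
    set T := Finset.univ.filter fun k => k ∈ (sidesOfBase D.P b).pos ∧ F (D.P.root k) < 0
    have haT : a ∈ T := Finset.mem_filter.2 ⟨Finset.mem_univ _, simple_mem_pos ha, hFa'⟩
    obtain ⟨l, hl, hpos⟩ := ih F' (fun k => by rw [hF']; exact hF _) (by
      refine le_trans (Finset.card_le_card_of_injOn (t := T.erase a) (D.P.reflectionPerm a) (fun k hk => ?_)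
        (Equiv.injective _).injOn) ?_
      · rw [Finset.mem_coe, Finset.mem_filter] at hk
        obtain ⟨-, hk1, hk2⟩ := hk
        rw [hF'] at hk2
        have hka : k ≠ a := by
          rintro rfl
          rw [RootSubgrp.root_neg, map_neg] at hk2
          omega
        refine Finset.mem_coe.2 (Finset.mem_erase.2 ⟨fun e => ?_, Finset.mem_filter.2 ⟨Finset.mem_univ _, ?_, hk2⟩⟩)
        · refine not_pos_and_neg hk1 ?_
          rw [show k = D.P.reflectionPerm a a by rw [← perm_perm a k, e]]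
          exact neg_mem_neg _ (simple_mem_pos ha)
        · exact (((sidesOfBase D.P b).total _).resolve_right fun h => hka (eq_of_flip ha hk1 h))
      · rw [Finset.card_erase_of_mem haT]
        omega)
    refine ⟨l ++ [a], fun x hx => (List.mem_append.1 hx).elim (hl x) fun h => List.mem_singleton.1 h ▸ ha,
      fun c hc => ?_⟩
    have e : (RedSub.wordPerm D.P (l ++ [a])).symm c = D.P.reflectionPerm a ((RedSub.wordPerm D.P l).symm c) := by
      rw [Equiv.symm_apply_eq]
      simp [RedSub.wordPerm, perm_perm]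
    rw [e, ← hF']
    exact hpos c hc

/-- **Two independent roots are moved into the positive plane of two simple roots by a word.** -/
theorem exists_plane_word {c e : D.idx} (hli : LinearIndependent ℤ ![D.P.root c, D.P.root e]) :
    ∃ (l : List D.idx) (a a' : D.idx), InS D b l ∧ SimplePair D b a a' ∧
      (∃ i j : ℤ, IsComb D a a' (RedSub.wordPerm D.P l c) i j ∧ 0 ≤ i ∧ 0 ≤ j) ∧
      ∃ i j : ℤ, IsComb D a a' (RedSub.wordPerm D.P l e) i j ∧ 0 ≤ i ∧ 0 ≤ j := by
  classical
  obtain ⟨σ, hc, he⟩ := exists_sides_pair D.P hli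
  obtain ⟨g, hgp, hgn⟩ := σ.regular
  have hg0 : ∀ k, g (D.P.root k) ≠ 0 := fun k => by
    rcases σ.total k with h | h
    · have := hgp k h; omega
    · have := hgn k h; omega
  let W := Submodule.span ℤ ({D.P.root c, D.P.root e} : Set D.M)
  let Q := (D.M ⧸ W) ⧸ Submodule.torsion ℤ (D.M ⧸ W)
  haveI : Module.IsTorsionFree ℤ Q := inferInstance
  haveI : Module.Free ℤ Q := Module.free_of_finite_type_torsion_free'
  let π : D.M →ₗ[ℤ] Q := (Submodule.torsion ℤ (D.M ⧸ W)).mkQ.comp W.mkQ
  let T : Finset Q := insert 0 (Finset.univ.image fun k => π (D.P.root k))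
  obtain ⟨φ, hφ⟩ := exists_injective_functional (fun x : T => (x : Q)) Subtype.val_injective
  let h : D.M →ₗ[ℤ] ℤ := φ.comp π
  have hW : ∀ v ∈ W, h v = 0 := fun v hv => by
    show φ ((Submodule.torsion ℤ (D.M ⧸ W)).mkQ (W.mkQ v)) = 0
    rw [show W.mkQ v = 0 from (Submodule.Quotient.mk_eq_zero W).2 hv, map_zero, map_zero]
  have hc0 : h (D.P.root c) = 0 := hW _ (Submodule.subset_span (by simp))
  have he0 : h (D.P.root e) = 0 := hW _ (Submodule.subset_span (by simp))
  have hin : ∀ k, h (D.P.root k) = 0 → InPlane D c e k := fun k hk => by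
    have h0 : π (D.P.root k) = 0 := congrArg Subtype.val (@hφ ⟨π (D.P.root k), by simp [T]⟩ ⟨0, by simp [T]⟩
      (by show φ (π (D.P.root k)) = φ 0; rw [map_zero]; exact hk))
    have h1 : W.mkQ (D.P.root k) ∈ Submodule.torsion ℤ (D.M ⧸ W) := by
      rw [← Submodule.Quotient.mk_eq_zero]; exact h0
    obtain ⟨⟨m, hm⟩, hm'⟩ := (Submodule.mem_torsion_iff _).1 h1
    have h2 : m • D.P.root k ∈ W := by
      rw [← Submodule.Quotient.mk_eq_zero, Submodule.Quotient.mk_smul]; exact hm'
    obtain ⟨i, j, hij⟩ := Submodule.mem_span_pair.1 h2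
    exact ⟨m, i, j, nonZeroDivisors.ne_zero hm, hij.symm⟩
  let K : ℤ := 1 + ∑ k, |g (D.P.root k)|
  have hK : ∀ k, |g (D.P.root k)| < K := fun k => by
    have := Finset.single_le_sum (f := fun k : D.idx => |g (D.P.root k)|) (fun k _ => abs_nonneg _) (Finset.mem_univ k)
    omega
  let F : D.M →ₗ[ℤ] ℤ := K • h + g
  have hF : ∀ k, F (D.P.root k) = K * h (D.P.root k) + g (D.P.root k) := fun k => rfl
  have hsgn : ∀ k, (0 < F (D.P.root k) → 0 ≤ h (D.P.root k)) ∧ F (D.P.root k) ≠ 0 := fun k => by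
    have hk := abs_lt.1 (hK k)
    rw [hF]
    rcases lt_trichotomy (h (D.P.root k)) 0 with h1 | h1 | h1
    · have : K * h (D.P.root k) ≤ K * (-1) := mul_le_mul_of_nonneg_left (by omega) (by omega)
      exact ⟨fun _ => by omega, by omega⟩
    · rw [h1, mul_zero, zero_add]; exact ⟨fun _ => le_rfl, hg0 k⟩
    · have : K * 1 ≤ K * h (D.P.root k) := mul_le_mul_of_nonneg_left (by omega) (by omega)
      exact ⟨fun _ => h1.le, by omega⟩
  have hFc : 0 < F (D.P.root c) := by rw [hF, hc0, mul_zero, zero_add]; have := hgp c hc; omega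
  have hFe : 0 < F (D.P.root e) := by rw [hF, he0, mul_zero, zero_add]; have := hgp e he; omega
  obtain ⟨l, hl, hdom⟩ := exists_dominant_word (b := b) F fun k => (hsgn k).2
  set π' := RedSub.wordPerm D.P l
  set L := wordLin D l
  have hLr : ∀ k, D.P.root (π'.symm k) = L (D.P.root k) := fun k => (wordLin_root D l k).symm
  set Δ₀ := b.support.filter fun a => h (L (D.P.root a)) = 0
  -- expansion of a root of the plane
  have expand : ∀ k, h (D.P.root k) = 0 → 0 < F (D.P.root k) → ∃ n : D.idx → ℤ, (∀ a, 0 ≤ n a) ∧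
      D.P.root (π' k) = ∑ a ∈ Δ₀, n a • D.P.root a := by
    intro k hk0 hkF
    obtain ⟨n, -, hn, hsum⟩ := b.exists_root_eq_sum_int (π' k)
    have e1 : D.P.root k = ∑ a ∈ b.support, n a • L (D.P.root a) := by
      rw [← π'.symm_apply_apply k, hLr, hsum, map_sum]
      simp only [map_zsmul]
    have hge : ∀ a, 0 ≤ n a := by
      rcases hn with hn | hn
      · exact fun a => hn.le a
      · exfalso
        have : F (D.P.root k) ≤ 0 := by
          rw [e1, map_sum]
          refine Finset.sum_nonpos fun a ha => ?_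
          rw [map_zsmul, smul_eq_mul]
          exact mul_nonpos_of_nonpos_of_nonneg (hn.le a) (by rw [← hLr]; exact (hdom a ha).le)
        omega
    refine ⟨n, hge, hsum.trans (Finset.sum_subset (Finset.filter_subset _ _) fun a ha hna => ?_).symm⟩
    have h0 : ∀ a ∈ b.support, n a * h (L (D.P.root a)) = 0 := by
      refine (Finset.sum_eq_zero_iff_of_nonneg fun a ha => mul_nonneg (hge a) ?_).1 ?_
      · rw [← hLr]; exact (hsgn _).1 (hdom a ha)
      · rw [← hk0, e1, map_sum]
        simp [map_zsmul]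
    have hne : h (L (D.P.root a)) ≠ 0 := fun h' => hna (Finset.mem_filter.2 ⟨ha, h'⟩)
    rw [(mul_eq_zero.1 (h0 a ha)).resolve_right hne, zero_smul]
  have plane : ∀ a ∈ Δ₀, ∃ m i j : ℤ, m ≠ 0 ∧
      m • D.P.root a = i • D.P.root (π' c) + j • D.P.root (π' e) := fun a ha => by
    obtain ⟨m, i, j, hm, e1⟩ := hin (π'.symm a) (by rw [hLr]; exact (Finset.mem_filter.1 ha).2)
    refine ⟨m, i, j, hm, L.injective ?_⟩
    simp only [map_add, map_zsmul, ← hLr, Equiv.symm_apply_apply]
    exact e1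
  have hli' : ∀ r s : ℤ, r • D.P.root (π' c) + s • D.P.root (π' e) = 0 → r = 0 ∧ s = 0 := fun r s h' => by
    have := congrArg L h'
    simp only [map_add, map_zsmul, map_zero, ← hLr, Equiv.symm_apply_apply] at this
    exact LinearIndependent.pair_iff.1 hli r s this
  obtain ⟨n₁, hn₁, hsum₁⟩ := expand c hc0 hFc
  obtain ⟨n₂, hn₂, hsum₂⟩ := expand e he0 hFe
  have hlin : ∀ x ∈ Δ₀, ∀ y ∈ Δ₀, x ≠ y → ∀ r s : ℤ, r • D.P.root x + s • D.P.root y = 0 → r = 0 ∧ s = 0 :=
    fun x hx y hy hxy r s h' => LinearIndependent.pair_iff.1 (b.linearIndependent_pair_of_ne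
      (i := ⟨x, (Finset.mem_filter.1 hx).1⟩) (j := ⟨y, (Finset.mem_filter.1 hy).1⟩)
      fun e' => hxy (congrArg Subtype.val e')) r s h'
  have hlin3 : ∀ f : D.idx → ℤ, ∑ x ∈ Δ₀, f x • D.P.root x = 0 → ∀ x ∈ Δ₀, f x = 0 := fun f hf x hx =>
    (linearIndepOn_iff'.1 b.linearIndepOn_root) Δ₀ f (Finset.coe_subset.2 (Finset.filter_subset _ _)) hf x hx
  have htwo : Δ₀.card = 2 := by
    refine le_antisymm ?_ ?_
    · by_contra h3
      obtain ⟨x, y, z, hx, hy, hz, hxy, hxz, hyz⟩ := Finset.two_lt_card_iff.1 (not_le.1 h3)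
      obtain ⟨m1, i1, j1, hm1, e1⟩ := plane x hx
      obtain ⟨m2, i2, j2, hm2, e2⟩ := plane y hy
      obtain ⟨m3, i3, j3, hm3, e3⟩ := plane z hz
      have key : ((i2 * j3 - i3 * j2) * m1) • D.P.root x + ((i3 * j1 - i1 * j3) * m2) • D.P.root y +
          ((i1 * j2 - i2 * j1) * m3) • D.P.root z = 0 := by
        rw [mul_smul, mul_smul, mul_smul, e1, e2, e3]
        module
      have hzero := hlin3 (fun w => (if w = x then (i2 * j3 - i3 * j2) * m1 else 0) +
        (if w = y then (i3 * j1 - i1 * j3) * m2 else 0) + (if w = z then (i1 * j2 - i2 * j1) * m3 else 0)) (by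
          rw [← key]
          simp only [add_smul, ite_smul, zero_smul, Finset.sum_add_distrib, Finset.sum_ite_eq', hx, hy, hz, if_true])
      have hd := hzero z hz
      simp only [if_neg hxz.symm, if_neg hyz.symm, if_true, zero_add, mul_eq_zero, hm3, or_false] at hd
      have e4 : (j2 * m1) • D.P.root x + (-(j1 * m2)) • D.P.root y = 0 := by
        rw [neg_smul, mul_smul, mul_smul, e1, e2, smul_add, smul_add, smul_smul, smul_smul, smul_smul, smul_smul,
          show j1 * i2 = j2 * i1 by linear_combination -hd, show j1 * j2 = j2 * j1 by ring]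
        module
      obtain ⟨f1, f2⟩ := hlin x hx y hy hxy _ _ e4
      have hj1 : j1 = 0 := by simpa [hm2] using f2
      have hj2 : j2 = 0 := by simpa [hm1] using f1
      rw [hj1, zero_smul, add_zero] at e1
      rw [hj2, zero_smul, add_zero] at e2
      obtain ⟨g1, g2⟩ := hlin x hx y hy hxy (i2 * m1) (-(i1 * m2)) (by
        rw [neg_smul, mul_smul, mul_smul, e1, e2]; module)
      have hi1 : i1 = 0 := by simpa [hm2] using g2
      rw [hi1, zero_smul, smul_eq_zero] at e1
      exact e1.elim hm1 (D.P.ne_zero x)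
    · by_contra h2
      haveI : Nonempty D.idx := ⟨c⟩
      rcases Finset.card_le_one_iff_subset_singleton.1 (Nat.lt_succ_iff.1 (not_le.1 h2)) with ⟨x, hx⟩
      have hs : ∀ n : D.idx → ℤ, ∃ r : ℤ, ∑ a ∈ Δ₀, n a • D.P.root a = r • D.P.root x := fun n => by
        rcases Finset.subset_singleton_iff.1 hx with h' | h'
        · exact ⟨0, by rw [h', Finset.sum_empty, zero_smul]⟩
        · exact ⟨n x, by rw [h', Finset.sum_singleton]⟩
      obtain ⟨r, hr⟩ := hs n₁
      obtain ⟨s, hs'⟩ := hs n₂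
      obtain ⟨g1, g2⟩ := hli' s (-r) (by rw [hsum₁, hsum₂, hr, hs']; module)
      rw [neg_eq_zero] at g2
      exact D.P.ne_zero (π' c) (by rw [hsum₁, hr, g2, zero_smul])
  obtain ⟨x, y, hxy, hΔ⟩ := Finset.card_eq_two.1 htwo
  have hxm : x ∈ Δ₀ := by rw [hΔ]; simp
  have hym : y ∈ Δ₀ := by rw [hΔ]; simp
  refine ⟨l, x, y, hl, ⟨(Finset.mem_filter.1 hxm).1, (Finset.mem_filter.1 hym).1, hxy⟩,
    ⟨n₁ x, n₁ y, ?_, hn₁ x, hn₁ y⟩, ⟨n₂ x, n₂ y, ?_, hn₂ x, hn₂ y⟩⟩
  · show D.P.root _ = _
    rw [hsum₁, hΔ, Finset.sum_pair hxy]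
  · show D.P.root _ = _
    rw [hsum₂, hΔ, Finset.sum_pair hxy]

end Bruhat

end
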