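import Groth.Agent.BruhatLib.PMorSys
import Groth.Agent.BruhatLib.PlaneRels
import Groth.Agent.BruhatLib.PlaneWord

/-!
# Commutation of the pairs of root groups
-/

set_option autoImplicit false
set_option linter.style.haveILetI false
set_option linter.unusedSectionVars false
set_option backward.isDefEq.respectTransparency false
set_option maxHeartbeats 1000000
set_option synthInstance.maxHeartbeats 400000

universe u

open CategoryTheory CategoryTheory.Limits MonoidalCategory CartesianMonoidalCategory AlgebraicGeometry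
open Groth.Agent.GaPts
open Groth.Agent
open Groth.Agent.RankOne (eq_ptOf eq_ptOfUnit comp_ptOf ptOf_add)
open scoped MonObj

noncomputable section

attribute [-instance] CategoryTheory.Hom.commGroup

namespace Bruhat

open SplitCell SplitFib RootSubgrp

variable {S : Scheme.{u}} {G G' : Over S} [GrpObj G] [GrpObj G'] [Nonempty S]
  {D : Red.SplitRed G} {D' : Red.SplitRed G'} {b : D.P.Base} {b' : D'.P.Base}
  {av : D.idx → (Red.Gm S ⟶ D.T)} {av' : D'.idx → (Red.Gm S ⟶ D'.T)}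
  {nr : D.idx → (𝟙_ (Over S) ⟶ G)} {nr' : D'.idx → (𝟙_ (Over S) ⟶ G')}
  (m : PMor D D' b b' av av' nr nr')

section Defs

/-- The pairs of the roots which are combinations with positive coefficients. -/
def PMor.gen (c e : D.idx) (X : Over S) : Set (Pt2 G G' X) :=
  {p | ∃ (k : D.idx) (i j : ℤ) (z : Γ(X.left, ⊤)), IsComb D c e k i j ∧ 1 ≤ i ∧ 1 ≤ j ∧ p = m.Ev k z}

/-- The commutator of two root groups consists of positive combinations. -/
def PMor.Comm (c e : D.idx) : Prop :=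
  ∀ (X : Over S) (x y : Γ(X.left, ⊤)),
    m.Ev c x * m.Ev e y * (m.Ev c x)⁻¹ * (m.Ev e y)⁻¹ ∈ Subgroup.closure (m.gen c e X)

theorem PMor.gen_swap (c e : D.idx) (X : Over S) : m.gen c e X ⊆ m.gen e c X := by
  rintro p ⟨k, i, j, z, h, hi, hj, rfl⟩
  exact ⟨k, j, i, z, by rw [IsComb] at h ⊢; rw [h]; abel, hj, hi, rfl⟩

theorem PMor.Comm.symm {c e : D.idx} (h : m.Comm c e) : m.Comm e c := fun X y x => by
  have e1 : m.Ev e y * m.Ev c x * (m.Ev e y)⁻¹ * (m.Ev c x)⁻¹ =
      (m.Ev c x * m.Ev e y * (m.Ev c x)⁻¹ * (m.Ev e y)⁻¹)⁻¹ := by group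
  rw [e1]
  exact inv_mem (Subgroup.closure_mono (m.gen_swap c e X) (h X x y))

theorem PMor.Comm.transport {c e : D.idx} (h : m.Comm c e) {l : List D.idx} (hl : InS D b l) :
    m.Comm (RedSub.wordPerm D.P l c) (RedSub.wordPerm D.P l e) := by
  intro X x y
  obtain ⟨ε, hε, hc⟩ := m.exists_conj_Ev hl c
  obtain ⟨δ, hδ, he⟩ := m.exists_conj_Ev hl e
  have key : ∀ {ζ : ℤ}, (ζ = 1 ∨ ζ = -1) → ∀ r : Γ(X.left, ⊤), (ζ : Γ(X.left, ⊤)) * ((ζ : Γ(X.left, ⊤)) * r) = r :=
    fun {ζ} hζ r => by rcases hζ with rfl | rfl <;> simp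
  have hc' := hc X ((ε : Γ(X.left, ⊤)) * x)
  have he' := he X ((δ : Γ(X.left, ⊤)) * y)
  rw [key hε] at hc'
  rw [key hδ] at he'
  rw [← hc', ← he']
  let φ := (MulAut.conj (m.NP l X)).toMonoidHom
  have hin : φ (m.Ev c ((ε : Γ(X.left, ⊤)) * x) * m.Ev e ((δ : Γ(X.left, ⊤)) * y) *
      (m.Ev c ((ε : Γ(X.left, ⊤)) * x))⁻¹ * (m.Ev e ((δ : Γ(X.left, ⊤)) * y))⁻¹) ∈
      Subgroup.closure (φ '' m.gen c e X) := by
    rw [← MonoidHom.map_closure]
    exact Subgroup.mem_map_of_mem φ (h X _ _)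
  rw [map_mul, map_mul, map_mul, map_inv, map_inv] at hin
  refine Subgroup.closure_mono ?_ hin
  rintro p ⟨p, ⟨k, i, j, z, hk, hi, hj, rfl⟩, rfl⟩
  obtain ⟨ζ, -, hz⟩ := m.exists_conj_Ev hl k
  refine ⟨RedSub.wordPerm D.P l k, i, j, (ζ : Γ(X.left, ⊤)) * z, ?_, hi, hj, hz X z⟩
  refine (wordLin D l).injective ?_
  simp only [map_add, map_zsmul, wordLin_root, Equiv.symm_apply_apply]
  exact hk

theorem PMor.comm_of_fun {kF kH : D.idx} {εF εH : ℤ} (hεF : εF = 1 ∨ εF = -1) (hεH : εH = 1 ∨ εH = -1)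
    (h : ∀ (X : Over S) (x y : Γ(X.left, ⊤)),
      m.Ev kH ((εH : Γ(X.left, ⊤)) * y) * m.Ev kF ((εF : Γ(X.left, ⊤)) * x) *
        (m.Ev kH ((εH : Γ(X.left, ⊤)) * y))⁻¹ * (m.Ev kF ((εF : Γ(X.left, ⊤)) * x))⁻¹ ∈
          Subgroup.closure (m.gen kH kF X)) : m.Comm kH kF := fun X y x => by
  have key : ∀ {ζ : ℤ}, (ζ = 1 ∨ ζ = -1) → ∀ r : Γ(X.left, ⊤), (ζ : Γ(X.left, ⊤)) * ((ζ : Γ(X.left, ⊤)) * r) = r :=
    fun {ζ} hζ r => by rcases hζ with rfl | rfl <;> simp
  have := h X ((εF : Γ(X.left, ⊤)) * x) ((εH : Γ(X.left, ⊤)) * y)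
  rwa [key hεF, key hεH] at this

/-- Conjugation by the pair of a word. -/
def PMor.cjP (l : List D.idx) {X : Over S} (p : Pt2 G G' X) : Pt2 G G' X := m.NP l X * p * (m.NP l X)⁻¹

theorem PMor.cjP_one (a : D.idx) {X : Over S} (p : Pt2 G G' X) :
    m.cjP [a] p = (cj (nr a) p.1, cj (nr' (m.d a)) p.2) := by
  refine Prod.ext ?_ ?_ <;> simp [PMor.cjP, PMor.NP, cj, nX]

/-- A family of pairs which is the group of a root up to a sign. -/
def PMor.IsEv (k : D.idx) (F : ∀ X : Over S, Γ(X.left, ⊤) → Pt2 G G' X) : Prop :=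
  ∃ ε : ℤ, (ε = 1 ∨ ε = -1) ∧ ∀ (X : Over S) (r : Γ(X.left, ⊤)), F X r = m.Ev k ((ε : Γ(X.left, ⊤)) * r)

theorem PMor.isEv_E {a : D.idx} (ha : a ∈ b.support) : m.IsEv a fun _ r => m.E a r :=
  ⟨1, Or.inl rfl, fun X r => by rw [Int.cast_one, _root_.one_mul, m.Ev_simple ha]⟩

theorem PMor.isEv_neg {k : D.idx} {F : ∀ X : Over S, Γ(X.left, ⊤) → Pt2 G G' X} (h : m.IsEv k F) :
    m.IsEv k fun X r => F X (-r) := by
  obtain ⟨ε, hε, e⟩ := h
  refine ⟨-ε, by omega, fun X r => ?_⟩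
  dsimp only
  rw [e]
  congr 1
  push_cast; ring

theorem PMor.isEv_cjP {a k : D.idx} (ha : a ∈ b.support) {F : ∀ X : Over S, Γ(X.left, ⊤) → Pt2 G G' X}
    (h : m.IsEv k F) : m.IsEv (D.P.reflectionPerm a k) fun X r => m.cjP [a] (F X r) := by
  obtain ⟨ε, hε, e⟩ := h
  obtain ⟨δ, hδ, hc⟩ := m.exists_conj_Ev (inS1 ha) k
  simp only [show RedSub.wordPerm D.P [a] k = D.P.reflectionPerm a k by simp [RedSub.wordPerm]] at hc
  refine ⟨δ * ε, by rcases hε with rfl | rfl <;> rcases hδ with rfl | rfl <;> norm_num, fun X r => ?_⟩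
  dsimp only
  rw [e, PMor.cjP, hc, Int.cast_mul, _root_.mul_assoc]

theorem PMor.IsEv.mem_gen {k : D.idx} {F : ∀ X : Over S, Γ(X.left, ⊤) → Pt2 G G' X} (h : m.IsEv k F)
    {c e : D.idx} {i j : ℤ} (hk : IsComb D c e k i j) (hi : 1 ≤ i) (hj : 1 ≤ j) (X : Over S) (r : Γ(X.left, ⊤)) :
    F X r ∈ Subgroup.closure (m.gen c e X) := by
  obtain ⟨ε, -, e'⟩ := h
  exact Subgroup.subset_closure ⟨k, i, j, _, hk, hi, hj, e' X r⟩

theorem PMor.comm_of_isEv {kF kH : D.idx} {F H : ∀ X : Over S, Γ(X.left, ⊤) → Pt2 G G' X} (hF : m.IsEv kF F)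
    (hH : m.IsEv kH H)
    (h : ∀ (X : Over S) (x y : Γ(X.left, ⊤)),
      H X y * F X x * (H X y)⁻¹ * (F X x)⁻¹ ∈ Subgroup.closure (m.gen kH kF X)) : m.Comm kH kF := by
  obtain ⟨εF, hεF, eF⟩ := hF
  obtain ⟨εH, hεH, eH⟩ := hH
  refine m.comm_of_fun hεF hεH fun X x y => ?_
  rw [← eF, ← eH]
  exact h X x y

theorem PMor.comm_of_commute {kF kH : D.idx} {F H : ∀ X : Over S, Γ(X.left, ⊤) → Pt2 G G' X} (hF : m.IsEv kF F)
    (hH : m.IsEv kH H) (h : ∀ (X : Over S) (x y : Γ(X.left, ⊤)), Commute (H X y) (F X x)) : m.Comm kH kF :=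
  m.comm_of_isEv hF hH fun X x y => by
    rw [(h X x y).eq, mul_inv_cancel_right, mul_inv_cancel]
    exact one_mem _

/-- A power is a ring endomorphism. -/
def PMor.qHom (a : D.idx) (X : Over S) : Γ(X.left, ⊤) →+* Γ(X.left, ⊤) where
  toFun r := r ^ m.q a
  map_one' := one_pow _
  map_mul' x y := mul_pow x y _
  map_zero' := zero_pow (m.q_pos a).ne'
  map_add' x y := m.q_add a x y

omit [Nonempty S] in
theorem isComb_trans {p q c e k : D.idx} {i j i1 j1 i2 j2 u v : ℤ} (hc : IsComb D p q c i1 j1)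
    (he : IsComb D p q e i2 j2) (hk : IsComb D p q k i j) (h1 : i = u * i1 + v * i2) (h2 : j = u * j1 + v * j2) :
    IsComb D c e k u v := by
  rw [IsComb] at *
  rw [hk, hc, he, h1, h2]
  module

end Defs

section Plane

variable {a c : D.idx} (ha : a ∈ b.support) (hc : c ∈ b.support) (hne : a ≠ c)
include ha hc hne

theorem PMor.relsB2 (h1 : D.P.pairing a c = -1) (h2 : D.P.pairing c a = -2) (X : Over S) :
    RelsB2 (fun r : Γ(X.left, ⊤) => m.E a r) (fun r => m.E c r) (fun r => m.cjP [c] (m.E a r))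
      (fun r => m.cjP [a] (m.E c r)) := by
  have hda := (m.hΔ a).1 ha
  have hdc := (m.hΔ c).1 hc
  have hD := (show PairB2 D b a c (av a) (av c) (nr a) (nr c) from
    ⟨⟨ha, hc, hne⟩, h1, h2, m.hf.pin a ha, m.hf.pin c hc⟩).rels X
  simp only [m.cjP_one]
  obtain ⟨-, -, k3, -⟩ := m.pairing_cases' ha hc hne
  rcases k3 ⟨h1, h2⟩ with ⟨g1, g2, g3⟩ | ⟨g1, g2, g3⟩
  · have hD' := ((show PairB2 D' b' (m.d a) (m.d c) (av' _) (av' _) (nr' _) (nr' _) from
      ⟨⟨hda, hdc, ne_map m hne⟩, g1, g2, m.hf'.pin _ hda, m.hf'.pin _ hdc⟩).rels X).comp (m.qHom c X)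
    convert hD.prod hD' using 1 <;> funext r <;> simp [PMor.E, PMor.qHom, g3]
  · have hD' := (((show PairB2 D' b' (m.d c) (m.d a) (av' _) (av' _) (nr' _) (nr' _) from
      ⟨⟨hdc, hda, (ne_map m hne).symm⟩, g2, g1, m.hf'.pin _ hdc, m.hf'.pin _ hda⟩).rels X).flip (ep_add _)
        (m.two_eq_zero g3 X)).comp (m.qHom c X)
    convert hD.prod hD' using 1 <;> funext r <;>
      simp [PMor.E, PMor.qHom, g3, ← pow_mul, Nat.mul_comm (m.q c) 2]

theorem PMor.relsG2 (h1 : D.P.pairing a c = -1) (h2 : D.P.pairing c a = -3) (X : Over S) :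
    RelsG2 (fun r : Γ(X.left, ⊤) => m.E a r) (fun r => m.E c r) (fun r => m.cjP [c] (m.E a r))
      (fun r => m.cjP [a] (m.cjP [c] (m.E a r))) (fun r => m.cjP [a] (m.E c (-r)))
      (fun r => m.cjP [c] (m.cjP [a] (m.E c (-r)))) := by
  have hda := (m.hΔ a).1 ha
  have hdc := (m.hΔ c).1 hc
  have hD := (show PairG2 D b a c (av a) (av c) (nr a) (nr c) from
    ⟨⟨ha, hc, hne⟩, h1, h2, m.hf.pin a ha, m.hf.pin c hc⟩).rels X
  simp only [m.cjP_one]
  obtain ⟨-, -, -, k4⟩ := m.pairing_cases' ha hc hne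
  rcases k4 ⟨h1, h2⟩ with ⟨g1, g2, g3⟩ | ⟨g1, g2, g3⟩
  · have hD' := ((show PairG2 D' b' (m.d a) (m.d c) (av' _) (av' _) (nr' _) (nr' _) from
      ⟨⟨hda, hdc, ne_map m hne⟩, g1, g2, m.hf'.pin _ hda, m.hf'.pin _ hdc⟩).rels X).comp (m.qHom c X)
    convert hD.prod hD' using 1 <;> funext r <;> simp [PMor.E, PMor.qHom, g3, m.q_neg]
  · have hD' := (((show PairG2 D' b' (m.d c) (m.d a) (av' _) (av' _) (nr' _) (nr' _) from
      ⟨⟨hdc, hda, (ne_map m hne).symm⟩, g2, g1, m.hf'.pin _ hdc, m.hf'.pin _ hda⟩).rels X).flip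
        (m.three_eq_zero g3 X)).comp (m.qHom c X)
    convert hD.prod hD' using 1 <;> funext r <;>
      simp [PMor.E, PMor.qHom, g3, ← pow_mul, Nat.mul_comm (m.q c) 3, m.q_neg, cj_inv]

theorem PMor.comm_B2 (h1 : D.P.pairing a c = -1) (h2 : D.P.pairing c a = -2) {k k' : D.idx} {i j i' j' : ℤ}
    (hk : IsComb D a c k i j) (hi : 0 ≤ i) (hj : 0 ≤ j) (hk' : IsComb D a c k' i' j') (hi' : 0 ≤ i') (hj' : 0 ≤ j')
    (hd : k ≠ k') : m.Comm k k' := by
  have H : PairB2 D b a c (av a) (av c) (nr a) (nr c) := ⟨⟨ha, hc, hne⟩, h1, h2, m.hf.pin a ha, m.hf.pin c hc⟩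
  have R := m.relsB2 ha hc hne h1 h2
  set A := D.P.reflectionPerm c a
  set B := D.P.reflectionPerm a c
  have fP := m.isEv_E ha
  have fQ := m.isEv_E hc
  have fA := m.isEv_cjP hc fP
  have fB := m.isEv_cjP ha fQ
  have cQP : m.Comm c a := m.comm_of_isEv fP fQ fun X x y => by
    rw [(R X).comm_PQ x y]
    exact mul_mem (fA.mem_gen m (isComb_trans isComb_right isComb_left H.comb_ab (u := 1) (v := 1) rfl rfl) le_rfl le_rfl X _)
      (fB.mem_gen m (isComb_trans isComb_right isComb_left H.comb_aab (u := 1) (v := 2) rfl rfl) le_rfl (by norm_num) X _)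
  have cAP : m.Comm A a := m.comm_of_isEv fP fA fun X x y => by
    rw [commutator_of_rule ((R X).r2 x y), ((R X).cAB y _).eq, mul_inv_cancel_right, ((R X).cPB x _).eq,
      mul_inv_cancel_right]
    exact fB.mem_gen m (isComb_trans H.comb_ab isComb_left H.comb_aab (u := 1) (v := 1) rfl rfl) le_rfl le_rfl X _
  have cQA : m.Comm c A := m.comm_of_commute fA fQ fun X x y => (R X).cQA y x
  have cQB : m.Comm c B := m.comm_of_commute fB fQ fun X x y => (R X).cQB y x
  have cPB : m.Comm a B := m.comm_of_commute fB fP fun X x y => (R X).cPB y x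
  have cAB : m.Comm A B := m.comm_of_commute fB fA fun X x y => (R X).cAB y x
  have hroots : ∀ {k : D.idx} {i j : ℤ}, IsComb D a c k i j → 0 ≤ i → 0 ≤ j → k = a ∨ k = c ∨ k = A ∨ k = B :=
    fun {k i j} hk hi hj => by
      rcases H.no hk with ⟨h', rfl⟩ | ⟨rfl, h'⟩ | ⟨rfl, rfl⟩ | ⟨rfl, rfl⟩ | ⟨rfl, rfl⟩ | ⟨rfl, rfl⟩
      · obtain rfl : i = 1 := by omega
        exact Or.inl (hk.unique isComb_left)
      · obtain rfl : j = 1 := by omega
        exact Or.inr (Or.inl (hk.unique isComb_right))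
      · exact Or.inr (Or.inr (Or.inl (hk.unique H.comb_ab)))
      · exact Or.inr (Or.inr (Or.inr (hk.unique H.comb_aab)))
      all_goals omega
  rcases hroots hk hi hj with rfl | rfl | rfl | rfl <;> rcases hroots hk' hi' hj' with rfl | rfl | rfl | rfl <;>
    first
      | exact absurd rfl hd
      | assumption
      | exact PMor.Comm.symm m (by assumption)

theorem PMor.comm_G2 (h1 : D.P.pairing a c = -1) (h2 : D.P.pairing c a = -3) {k k' : D.idx} {i j i' j' : ℤ}
    (hk : IsComb D a c k i j) (hi : 0 ≤ i) (hj : 0 ≤ j) (hk' : IsComb D a c k' i' j') (hi' : 0 ≤ i') (hj' : 0 ≤ j')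
    (hd : k ≠ k') : m.Comm k k' := by
  have H : PairG2 D b a c (av a) (av c) (nr a) (nr c) := ⟨⟨ha, hc, hne⟩, h1, h2, m.hf.pin a ha, m.hf.pin c hc⟩
  have R := m.relsG2 ha hc hne h1 h2
  set A := D.P.reflectionPerm c a
  set B := D.P.reflectionPerm a (D.P.reflectionPerm c a)
  set C := D.P.reflectionPerm a c
  set E := D.P.reflectionPerm c (D.P.reflectionPerm a c)
  have fP := m.isEv_E ha
  have fQ := m.isEv_E hc
  have fA := m.isEv_cjP hc fP
  have fB := m.isEv_cjP ha fA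
  have fC := m.isEv_cjP ha (m.isEv_neg fQ)
  have fE := m.isEv_cjP hc fC
  have cQP : m.Comm c a := m.comm_of_isEv fP fQ fun X x y => by
    rw [(R X).comm_PQ x y]
    exact mul_mem (mul_mem (mul_mem
      (fA.mem_gen m (isComb_trans isComb_right isComb_left H.comb11 (u := 1) (v := 1) rfl rfl) le_rfl le_rfl X _)
      (fB.mem_gen m (isComb_trans isComb_right isComb_left H.comb21 (u := 1) (v := 2) rfl rfl) le_rfl (by norm_num) X _))
      (fC.mem_gen m (isComb_trans isComb_right isComb_left H.comb31 (u := 1) (v := 3) rfl rfl) le_rfl (by norm_num) X _))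
      (fE.mem_gen m (isComb_trans isComb_right isComb_left H.comb32 (u := 2) (v := 3) rfl rfl) (by norm_num) (by norm_num) X _)
  have cAP : m.Comm A a := m.comm_of_isEv fP fA fun X x y => by
    rw [(R X).comm_PA x y]
    exact mul_mem (mul_mem
      (fB.mem_gen m (isComb_trans H.comb11 isComb_left H.comb21 (u := 1) (v := 1) rfl rfl) le_rfl le_rfl X _)
      (fC.mem_gen m (isComb_trans H.comb11 isComb_left H.comb31 (u := 1) (v := 2) rfl rfl) le_rfl (by norm_num) X _))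
      (fE.mem_gen m (isComb_trans H.comb11 isComb_left H.comb32 (u := 2) (v := 1) rfl rfl) (by norm_num) le_rfl X _)
  have cBP : m.Comm B a := m.comm_of_isEv fP fB fun X x y => by
    rw [(R X).comm_PB x y]
    exact fC.mem_gen m (isComb_trans H.comb21 isComb_left H.comb31 (u := 1) (v := 1) rfl rfl) le_rfl le_rfl X _
  have cCQ : m.Comm C c := m.comm_of_isEv fQ fC fun X x y => by
    rw [(R X).comm_QC x y]
    exact fE.mem_gen m (isComb_trans H.comb31 isComb_right H.comb32 (u := 1) (v := 1) rfl rfl) le_rfl le_rfl X _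
  have cBA : m.Comm B A := m.comm_of_isEv fA fB fun X x y => by
    rw [commutator_of_rule ((R X).r5 x y), ((R X).cBE y _).eq, mul_inv_cancel_right, ((R X).cAE x _).eq,
      mul_inv_cancel_right]
    exact fE.mem_gen m (isComb_trans H.comb21 H.comb11 H.comb32 (u := 1) (v := 1) rfl rfl) le_rfl le_rfl X _
  have cQA : m.Comm c A := m.comm_of_commute fA fQ fun X x y => (R X).cQA y x
  have cQB : m.Comm c B := m.comm_of_commute fB fQ fun X x y => (R X).cQB y x
  have cQE : m.Comm c E := m.comm_of_commute fE fQ fun X x y => (R X).cQE y x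
  have cPC : m.Comm a C := m.comm_of_commute fC fP fun X x y => (R X).cPC y x
  have cPE : m.Comm a E := m.comm_of_commute fE fP fun X x y => (R X).cPE y x
  have cAC : m.Comm A C := m.comm_of_commute fC fA fun X x y => (R X).cAC y x
  have cAE : m.Comm A E := m.comm_of_commute fE fA fun X x y => (R X).cAE y x
  have cBC : m.Comm B C := m.comm_of_commute fC fB fun X x y => (R X).cBC y x
  have cBE : m.Comm B E := m.comm_of_commute fE fB fun X x y => (R X).cBE y x
  have cCE : m.Comm C E := m.comm_of_commute fE fC fun X x y => (R X).cCE y x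
  have hroots : ∀ {k : D.idx} {i j : ℤ}, IsComb D a c k i j → 0 ≤ i → 0 ≤ j →
      k = a ∨ k = c ∨ k = A ∨ k = B ∨ k = C ∨ k = E :=
    fun {k i j} hk hi hj => by
      rcases H.no hk with ⟨h', rfl⟩ | ⟨rfl, h'⟩ | ⟨h', h'', rfl⟩ | ⟨rfl, rfl⟩ | ⟨h', h'', rfl⟩ | ⟨rfl, rfl⟩
      · obtain rfl : i = 1 := by omega
        exact Or.inl (hk.unique isComb_left)
      · obtain rfl : j = 1 := by omega
        exact Or.inr (Or.inl (hk.unique isComb_right))
      · obtain rfl | rfl | rfl : i = 1 ∨ i = 2 ∨ i = 3 := by omega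
        · exact Or.inr (Or.inr (Or.inl (hk.unique H.comb11)))
        · exact Or.inr (Or.inr (Or.inr (Or.inl (hk.unique H.comb21))))
        · exact Or.inr (Or.inr (Or.inr (Or.inr (Or.inl (hk.unique H.comb31)))))
      · exact Or.inr (Or.inr (Or.inr (Or.inr (Or.inr (hk.unique H.comb32)))))
      all_goals omega
  rcases hroots hk hi hj with rfl | rfl | rfl | rfl | rfl | rfl <;>
    rcases hroots hk' hi' hj' with rfl | rfl | rfl | rfl | rfl | rfl <;>
    first
      | exact absurd rfl hd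
      | assumption
      | exact PMor.Comm.symm m (by assumption)

theorem PMor.comm_A2 (h1 : D.P.pairing a c = -1) (h2 : D.P.pairing c a = -1) {k k' : D.idx} {i j i' j' : ℤ}
    (hk : IsComb D a c k i j) (hi : 0 ≤ i) (hj : 0 ≤ j) (hk' : IsComb D a c k' i' j') (hi' : 0 ≤ i') (hj' : 0 ≤ j')
    (hd : k ≠ k') : m.Comm k k' := by
  have hda := (m.hΔ a).1 ha
  have hdc := (m.hΔ c).1 hc
  obtain ⟨-, k2, -, -⟩ := m.pairing_cases' ha hc hne
  obtain ⟨g1, g2⟩ := k2 ⟨h1, h2⟩
  have H : PairA2 D b a c (av a) (av c) (nr a) (nr c) := ⟨ha, hc, hne, h1, h2, m.hf.pin a ha, m.hf.pin c hc⟩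
  have H' : PairA2 D' b' (m.d a) (m.d c) (av' _) (av' _) (nr' _) (nr' _) :=
    ⟨hda, hdc, ne_map m hne, g1, g2, m.hf'.pin _ hda, m.hf'.pin _ hdc⟩
  have hq : m.q a = m.q c := by
    have e := m.pairing_eq c a
    rw [g2, h2] at e
    omega
  set A := D.P.reflectionPerm c a
  have hA : IsComb D a c A 1 1 := by
    show D.P.root _ = _
    rw [show D.P.root A = D.P.root a + D.P.root c from H.root_sum]; module
  have fP := m.isEv_E ha
  have fQ := m.isEv_E hc
  have fA := m.isEv_cjP hc fP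
  have cPA : ∀ (X : Over S) (x y : Γ(X.left, ⊤)), Commute (m.E a x) (m.cjP [c] (m.E a y)) := fun X x y => by
    rw [m.cjP_one]
    obtain ⟨s, hs⟩ := (m.hf.pin c hc).exists_cj a y
    obtain ⟨t, ht⟩ := (m.hf'.pin _ hdc).exists_cj (m.d a) (y ^ m.q a)
    exact Prod.ext (hs ▸ H.comm_sum _ _) (by
      show ep D' _ _ * cj _ _ = cj _ _ * ep D' _ _
      rw [show cj (nr' (m.d c)) (m.E a y).2 = ep D' (D'.P.reflectionPerm (m.d c) (m.d a)) t from ht]
      exact H'.comm_sum _ _)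
  have cQA : ∀ (X : Over S) (x y : Γ(X.left, ⊤)), Commute (m.E c x) (m.cjP [c] (m.E a y)) := fun X x y => by
    rw [m.cjP_one]
    obtain ⟨s, hs⟩ := (m.hf.pin c hc).exists_cj a y
    obtain ⟨t, ht⟩ := (m.hf'.pin _ hdc).exists_cj (m.d a) (y ^ m.q a)
    exact Prod.ext (hs ▸ H.comm_sum' _ _) (by
      show ep D' _ _ * cj _ _ = cj _ _ * ep D' _ _
      rw [show cj (nr' (m.d c)) (m.E a y).2 = ep D' (D'.P.reflectionPerm (m.d c) (m.d a)) t from ht]
      exact H'.comm_sum' _ _)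
  have rule : ∀ (X : Over S) (x y : Γ(X.left, ⊤)),
      m.E c y * m.E a x = m.E a x * m.E c y * m.cjP [c] (m.E a (x * y)) := fun X x y => by
    rw [m.cjP_one]
    refine Prod.ext ?_ ?_
    · exact H.commutator (ptOf x) (ptOf y) (ptOf (x * y)) (by rw [gaFn_ptOf, gaFn_ptOf, gaFn_ptOf])
    · exact H'.commutator (ptOf (x ^ m.q a)) (ptOf (y ^ m.q c)) (ptOf ((x * y) ^ m.q a))
        (by rw [gaFn_ptOf, gaFn_ptOf, gaFn_ptOf, mul_pow, hq])
  have cQP : m.Comm c a := m.comm_of_isEv fP fQ fun X x y => by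
    rw [commutator_of_rule (rule X x y), (cQA X y _).eq, mul_inv_cancel_right, (cPA X x _).eq, mul_inv_cancel_right]
    exact fA.mem_gen m (isComb_trans isComb_right isComb_left hA (u := 1) (v := 1) rfl rfl) le_rfl le_rfl X _
  have cPA' : m.Comm a A := m.comm_of_commute fA fP fun X x y => cPA X y x
  have cQA' : m.Comm c A := m.comm_of_commute fA fQ fun X x y => cQA X y x
  have hroots : ∀ {k : D.idx} {i j : ℤ}, IsComb D a c k i j → 0 ≤ i → 0 ≤ j → k = a ∨ k = c ∨ k = A :=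
    fun {k i j} hk hi hj => by
      rcases eq_or_ne i 0 with rfl | hi0
      · obtain rfl : j = 1 := by rcases hk.right_eq_one with h | h <;> omega
        exact Or.inr (Or.inl (hk.unique isComb_right))
      rcases eq_or_ne j 0 with rfl | hj0
      · obtain rfl : i = 1 := by rcases hk.left_eq_one with h | h <;> omega
        exact Or.inl (hk.unique isComb_left)
      obtain ⟨rfl, rfl⟩ := H.comb (m := i) (n := j) (by omega) (by omega) hk
      exact Or.inr (Or.inr (hk.unique hA))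
  rcases hroots hk hi hj with rfl | rfl | rfl <;> rcases hroots hk' hi' hj' with rfl | rfl | rfl <;>
    first
      | exact absurd rfl hd
      | assumption
      | exact PMor.Comm.symm m (by assumption)

theorem PMor.comm_A1 (h1 : D.P.pairing a c = 0) (h2 : D.P.pairing c a = 0) {k k' : D.idx} {i j i' j' : ℤ}
    (hk : IsComb D a c k i j) (hi : 0 ≤ i) (hj : 0 ≤ j) (hk' : IsComb D a c k' i' j') (hi' : 0 ≤ i') (hj' : 0 ≤ j')
    (hd : k ≠ k') : m.Comm k k' := by
  have hda := (m.hΔ a).1 ha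
  have hdc := (m.hΔ c).1 hc
  obtain ⟨k1, -, -, -⟩ := m.pairing_cases' ha hc hne
  obtain ⟨g1, g2⟩ := k1 ⟨h1, h2⟩
  have hs : SimplePair D b a c := ⟨ha, hc, hne⟩
  have hs' : SimplePair D' b' (m.d a) (m.d c) := ⟨hda, hdc, ne_map m hne⟩
  have cPQ : m.Comm a c := m.comm_of_commute (m.isEv_E hc) (m.isEv_E ha) fun X x y => Prod.ext
    (hs.commute isComb_left isComb_right (by omega) (fun d ed => by have := not_root_A1 hs h1 ed; omega) _ _)
    (hs'.commute isComb_left isComb_right (by omega) (fun d ed => by have := not_root_A1 hs' g1 ed; omega) _ _)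
  have hroots : ∀ {k : D.idx} {i j : ℤ}, IsComb D a c k i j → 0 ≤ i → 0 ≤ j → k = a ∨ k = c :=
    fun {k i j} hk hi hj => by
      rcases not_root_A1 hs h1 hk with rfl | rfl
      · obtain rfl : j = 1 := by rcases hk.right_eq_one with h | h <;> omega
        exact Or.inr (hk.unique isComb_right)
      · obtain rfl : i = 1 := by rcases hk.left_eq_one with h | h <;> omega
        exact Or.inl (hk.unique isComb_left)
  rcases hroots hk hi hj with rfl | rfl <;> rcases hroots hk' hi' hj' with rfl | rfl <;>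
    first
      | exact absurd rfl hd
      | assumption
      | exact PMor.Comm.symm m (by assumption)

end Plane

/-- **The pairs of two independent roots have commutators in the pairs of their positive combinations.** -/
theorem PMor.comm_of_li {c e : D.idx} (hli : LinearIndependent ℤ ![D.P.root c, D.P.root e]) : m.Comm c e := by
  obtain ⟨l, a, a', hl, hs, ⟨i, j, hc, hi, hj⟩, ⟨i', j', he, hi', hj'⟩⟩ := exists_plane_word (b := b) hli
  have hd : RedSub.wordPerm D.P l c ≠ RedSub.wordPerm D.P l e := fun h => by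
    have := (RedSub.wordPerm D.P l).injective h
    subst this
    exact one_ne_zero (LinearIndependent.pair_iff.1 hli 1 (-1) (by module)).1
  have swap : ∀ {k : D.idx} {i j : ℤ}, IsComb D a a' k i j → IsComb D a' a k j i := fun {k i j} h => by
    rw [IsComb] at h ⊢; rw [h]; abel
  have hC : m.Comm (RedSub.wordPerm D.P l c) (RedSub.wordPerm D.P l e) := by
    rcases pairing_cases hs.hp hs.hq hs.hne with ⟨h1, h2⟩ | ⟨h1, h2⟩ | ⟨h1, h2⟩ | ⟨h1, h2⟩ | ⟨h1, h2⟩ | ⟨h1, h2⟩
    · exact m.comm_A1 hs.hp hs.hq hs.hne h1 h2 hc hi hj he hi' hj' hd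
    · exact m.comm_A2 hs.hp hs.hq hs.hne h1 h2 hc hi hj he hi' hj' hd
    · exact m.comm_B2 hs.hp hs.hq hs.hne h1 h2 hc hi hj he hi' hj' hd
    · exact m.comm_B2 hs.hq hs.hp hs.hne.symm h2 h1 (swap hc) hj hi (swap he) hj' hi' hd
    · exact m.comm_G2 hs.hp hs.hq hs.hne h1 h2 hc hi hj he hi' hj' hd
    · exact m.comm_G2 hs.hq hs.hp hs.hne.symm h2 h1 (swap hc) hj hi (swap he) hj' hi' hd
  have hrev : InS D b l.reverse := fun x hx => hl x (List.mem_reverse.1 hx)
  have h1 : ∀ x, RedSub.wordPerm D.P l.reverse (RedSub.wordPerm D.P l x) = x := fun x => by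
    have := (m.hf.eqv_reverse hl).1
    rw [wordPerm_append] at this
    have h2 := congrArg (fun π : Equiv.Perm D.idx => π x) this
    simpa [RedSub.wordPerm] using h2
  simpa [h1] using hC.transport m hrev

end Bruhat

end
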