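import Groth.Agent.BruhatLib.PMorUnip
import Groth.Agent.SplitCellLib.GermGen
import Groth.Agent.SplitCellLib.Center
import Groth.Agent.BigCellLib.Coroot

/-!
# The homomorphism of a morphism of pinned root data

The map of the big cells given by the pairs is compatible with translates of the cell, so it extends.
-/

set_option autoImplicit false
set_option linter.style.haveILetI false
set_option linter.unusedSectionVars false
set_option backward.isDefEq.respectTransparency false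
set_option maxHeartbeats 1000000
set_option synthInstance.maxHeartbeats 400000

universe u

open CategoryTheory CategoryTheory.Limits MonoidalCategory CartesianMonoidalCategory AlgebraicGeometry
open Groth.Agent.GaPts
open Groth.Agent
open Groth.Agent.RankOne (eq_ptOf eq_ptOfUnit comp_ptOf ptOf_add)
open scoped MonObj

noncomputable section

attribute [-instance] CategoryTheory.Hom.commGroup

namespace Bruhat

open SplitCell SplitFib RootSubgrp
open Groth.Agent.BigCell (fieldPt fieldFn isUnit_of_field)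

variable {S : Scheme.{u}} {G G' : Over S} [GrpObj G] [GrpObj G'] [Nonempty S]
  {D : Red.SplitRed G} {D' : Red.SplitRed G'} {b : D.P.Base} {b' : D'.P.Base}
  {av : D.idx → (Red.Gm S ⟶ D.T)} {av' : D'.idx → (Red.Gm S ⟶ D'.T)}
  {nr : D.idx → (𝟙_ (Over S) ⟶ G)} {nr' : D'.idx → (𝟙_ (Over S) ⟶ G')}
  (m : PMor D D' b b' av av' nr nr')

section Simple

/-- The negative roots other than the opposite of a simple root. -/
def negRest (b : D.P.Base) (a : D.idx) : Set D.idx :=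
  {k | k ∈ (sidesOfBase D.P b).neg ∧ k ≠ D.P.reflectionPerm a a}

theorem negOpp_mem {a : D.idx} (ha : a ∈ b.support) : D.P.reflectionPerm a a ∈ (sidesOfBase D.P b).neg :=
  neg_mem_neg _ (simple_mem_pos ha)

theorem li_negOpp {a c : D.idx} (ha : a ∈ b.support) (hc : c ∈ negRest b a) :
    LinearIndependent ℤ ![D.P.root (D.P.reflectionPerm a a), D.P.root c] := by
  obtain ⟨g, -, hn⟩ := (sidesOfBase D.P b).regular
  refine li_of_pos (g := -g) ?_ ?_ (Ne.symm hc.2)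
  · have := hn _ (negOpp_mem ha)
    simp only [LinearMap.neg_apply]
    omega
  · have := hn _ hc.1
    simp only [LinearMap.neg_apply]
    omega

theorem li_simple {a c : D.idx} (ha : a ∈ b.support) (hc : c ∈ negRest b a) :
    LinearIndependent ℤ ![D.P.root a, D.P.root c] := by
  refine LinearIndependent.pair_iff.2 fun s t e => ?_
  have h := LinearIndependent.pair_iff.1 (li_negOpp ha hc) (-s) t (by rw [root_neg, neg_smul_neg]; exact e)
  exact ⟨by simpa using h.1, h.2⟩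

theorem comb_negOpp {a c d : D.idx} (ha : a ∈ b.support) (hc : c ∈ negRest b a) {i j : ℤ}
    (hd : IsComb D (D.P.reflectionPerm a a) c d i j) (hi : 1 ≤ i) (hj : 1 ≤ j) : d ∈ negRest b a := by
  refine ⟨mem_neg_of_not_pos fun hp => ?_, fun e => ?_⟩
  · obtain ⟨g, hg, hn⟩ := (sidesOfBase D.P b).regular
    have h1 := hg _ hp
    have h2 := hn _ (negOpp_mem ha)
    have h3 := hn _ hc.1
    rw [hd, map_add, map_zsmul, map_zsmul, smul_eq_mul, smul_eq_mul] at h1
    nlinarith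
  · rw [IsComb, e] at hd
    have h := LinearIndependent.pair_iff.1 (li_negOpp ha hc) (i - 1) j (by linear_combination (norm := module) (-1 : ℤ) • hd)
    omega

theorem refl_negRest {a k : D.idx} (ha : a ∈ b.support) (hk : k ∈ negRest b a) :
    D.P.reflectionPerm a k ∈ negRest b a := by
  refine ⟨mem_neg_of_not_pos fun hp => ?_, fun e => ?_⟩
  · exact hk.2 (by
      have h := eq_of_flip ha hp (by rw [perm_perm]; exact hk.1)
      have h' := congrArg (D.P.reflectionPerm a) h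
      rwa [perm_perm] at h')
  · have h' := congrArg (D.P.reflectionPerm a) e
    rw [perm_perm, perm_perm] at h'
    exact not_pos_and_neg (simple_mem_pos ha) (h' ▸ hk.1)

theorem comb_simple {a c d : D.idx} (ha : a ∈ b.support) (hc : c ∈ negRest b a) {i j : ℤ}
    (hd : IsComb D a c d i j) (hi : 1 ≤ i) (hj : 1 ≤ j) : d ∈ negRest b a := by
  have h : IsComb D (D.P.reflectionPerm a a) (D.P.reflectionPerm a c) (D.P.reflectionPerm a d) i j := by
    rw [IsComb, RootPairing.root_reflectionPerm, RootPairing.root_reflectionPerm, RootPairing.root_reflectionPerm, hd,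
      map_add, map_zsmul, map_zsmul]
  have h' := refl_negRest ha (comb_negOpp ha (refl_negRest ha hc) h hi hj)
  rwa [perm_perm] at h'

end Simple

section Cell

theorem PMor.pair_prod {n : ℕ} (e : Fin n → D.idx) {X : Over S} (x : X ⟶ RedSub.pow (Red.Ga S) n) :
    ((x ≫ RedSub.prodMap (Red.Ga S) n fun k => m.vS (e k), x ≫ RedSub.prodMap (Red.Ga S) n fun k => m.fS (e k)) :
      Pt2 G G' X) = (List.ofFn fun k => m.Ev (e k) (Red.gaFn (x ≫ prj S k))).prod := by
  refine Prod.ext ?_ ?_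
  · refine Eq.trans ?_ (map_list_prod (MonoidHom.fst (X ⟶ G) (X ⟶ G')) _).symm
    show x ≫ RedSub.prodMap (Red.Ga S) n _ = _
    rw [prodMap_eq, List.map_ofFn]
    refine congrArg List.prod (congrArg List.ofFn (funext fun k => ?_))
    show _ = (m.Ev (e k) (Red.gaFn (x ≫ prj S k))).1
    simp only [m.Ev_eq, Category.assoc]
  · refine Eq.trans ?_ (map_list_prod (MonoidHom.snd (X ⟶ G) (X ⟶ G')) _).symm
    show x ≫ RedSub.prodMap (Red.Ga S) n _ = _
    rw [prodMap_eq, List.map_ofFn]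
    refine congrArg List.prod (congrArg List.ofFn (funext fun k => ?_))
    show _ = (m.Ev (e k) (Red.gaFn (x ≫ prj S k))).2
    simp only [m.Ev_eq, Category.assoc]

/-- Ordered enumerations of the two sides. -/
structure PMor.Enum {n n' : ℕ} (eneg : Fin n → D.idx) (epos : Fin n' → D.idx) : Prop where
  hneg : RedSub.Enumerates (sidesOfBase D.P b).neg eneg
  hpos : RedSub.Enumerates (sidesOfBase D.P b).pos epos
  pneg : ∀ (X : Over S) (p : Pt2 G G' X), p ∈ m.KS (sidesOfBase D.P b).neg X →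
    ∃ r : Fin n → Γ(X.left, ⊤), p = (List.ofFn fun i => m.Ev (eneg i) (r i)).prod
  ppos : ∀ (X : Over S) (p : Pt2 G G' X), p ∈ m.KS (sidesOfBase D.P b).pos X →
    ∃ r : Fin n' → Γ(X.left, ⊤), p = (List.ofFn fun i => m.Ev (epos i) (r i)).prod

theorem PMor.exists_Enum : ∃ (n n' : ℕ) (eneg : Fin n → D.idx) (epos : Fin n' → D.idx), m.Enum eneg epos := by
  obtain ⟨g, hg, hn⟩ := (sidesOfBase D.P b).regular
  have h1 : {k | 0 < g (D.P.root k)} = (sidesOfBase D.P b).pos := Set.ext fun k =>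
    ⟨fun h => ((sidesOfBase D.P b).total k).resolve_right fun h' => not_lt.2 (hn k h').le h, hg k⟩
  have h2 : {k | 0 < (-g) (D.P.root k)} = (sidesOfBase D.P b).neg := Set.ext fun k =>
    ⟨fun h => ((sidesOfBase D.P b).total k).resolve_left fun h' => by
        have := hg k h'
        simp only [Set.mem_setOf_eq, LinearMap.neg_apply] at h
        omega,
      fun h => by
        have := hn k h
        simp only [Set.mem_setOf_eq, LinearMap.neg_apply]
        omega⟩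
  obtain ⟨n, eneg, h3, h4⟩ := m.exists_enum_prod (-g)
  obtain ⟨n', epos, h5, h6⟩ := m.exists_enum_prod g
  rw [h2] at h3 h4
  rw [h1] at h5 h6
  exact ⟨n, n', eneg, epos, h3, h5, h4, h6⟩

variable {n n' : ℕ} (eneg : Fin n → D.idx) (epos : Fin n' → D.idx)

/-- The big cell of the source. -/
def PMor.cG : RedSub.pow (Red.Ga S) n ⊗ (D.T ⊗ RedSub.pow (Red.Ga S) n') ⟶ G :=
  RedSub.cellMap m.D2 eneg epos

/-- The map of the big cell. -/
def PMor.fG : RedSub.pow (Red.Ga S) n ⊗ (D.T ⊗ RedSub.pow (Red.Ga S) n') ⟶ G' :=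
  (fst _ _ ≫ RedSub.prodMap (Red.Ga S) n fun k => m.fS (eneg k)) *
    ((snd _ _ ≫ fst _ _ ≫ m.phi ≫ D'.i) * (snd _ _ ≫ snd _ _ ≫ RedSub.prodMap (Red.Ga S) n' fun k => m.fS (epos k)))

/-- A pair decomposed along the sides. -/
def PMor.InBig {X : Over S} (p : Pt2 G G' X) : Prop :=
  ∃ κ ∈ m.KS (sidesOfBase D.P b).neg X, ∃ t : X ⟶ D.T, ∃ κ' ∈ m.KS (sidesOfBase D.P b).pos X, p = κ * m.Tp t * κ'

theorem PMor.InBig.left_neg {X : Over S} {κ p : Pt2 G G' X} (hκ : κ ∈ m.KS (sidesOfBase D.P b).neg X)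
    (hp : m.InBig p) : m.InBig (κ * p) := by
  obtain ⟨u₁, hu₁, t, u₂, hu₂, rfl⟩ := hp
  exact ⟨κ * u₁, mul_mem hκ hu₁, t, u₂, hu₂, by group⟩

theorem PMor.InBig.right_pos {X : Over S} {κ p : Pt2 G G' X} (hκ : κ ∈ m.KS (sidesOfBase D.P b).pos X)
    (hp : m.InBig p) : m.InBig (p * κ) := by
  obtain ⟨u₁, hu₁, t, u₂, hu₂, rfl⟩ := hp
  exact ⟨u₁, hu₁, t, u₂ * κ, mul_mem hu₂ hκ, by group⟩

theorem PMor.InBig.left_Tp {X : Over S} (s : X ⟶ D.T) {p : Pt2 G G' X} (hp : m.InBig p) :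
    m.InBig (m.Tp s * p) := by
  obtain ⟨u₁, hu₁, t, u₂, hu₂, rfl⟩ := hp
  exact ⟨m.Tp s * u₁ * (m.Tp s)⁻¹, m.Tp_conj_KS s hu₁, s * t, u₂, hu₂, by rw [map_mul]; group⟩

theorem PMor.InBig.right_Tp {X : Over S} (s : X ⟶ D.T) {p : Pt2 G G' X} (hp : m.InBig p) :
    m.InBig (p * m.Tp s) := by
  obtain ⟨u₁, hu₁, t, u₂, hu₂, rfl⟩ := hp
  exact ⟨u₁, hu₁, t * s, m.Tp s⁻¹ * u₂ * (m.Tp s⁻¹)⁻¹, m.Tp_conj_KS s⁻¹ hu₂, by rw [map_mul, map_inv]; group⟩

variable {eneg epos} (he : m.Enum eneg epos)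
include he

theorem PMor.grel_iff {X : Over S} (p : Pt2 G G' X) :
    GRel (m.cG eneg epos) (m.fG eneg epos) p.1 p.2 ↔ m.InBig p := by
  haveI := isMonHom_i D
  have hpair : ∀ z : X ⟶ RedSub.pow (Red.Ga S) n ⊗ (D.T ⊗ RedSub.pow (Red.Ga S) n'),
      ((z ≫ m.cG eneg epos, z ≫ m.fG eneg epos) : Pt2 G G' X) =
        (List.ofFn fun k => m.Ev (eneg k) (Red.gaFn ((z ≫ fst _ _) ≫ prj S k))).prod *
          (m.Tp (z ≫ snd _ _ ≫ fst _ _) *
            (List.ofFn fun k => m.Ev (epos k) (Red.gaFn ((z ≫ snd _ _ ≫ snd _ _) ≫ prj S k))).prod) := fun z => by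
    rw [← m.pair_prod, ← m.pair_prod, m.Tp_apply, PMor.cG, PMor.fG, RedSub.cellMap]
    simp only [Prod.mk_mul_mk, MonObj.comp_mul, Category.assoc]
  constructor
  · rintro ⟨z, h1, h2⟩
    refine ⟨_, m.prod_mem eneg (fun i => he.hneg.2 ▸ ⟨i, rfl⟩)
        (fun k => Red.gaFn ((z ≫ fst _ _) ≫ prj S k)), z ≫ snd _ _ ≫ fst _ _, _,
      m.prod_mem epos (fun i => he.hpos.2 ▸ ⟨i, rfl⟩)
        (fun k => Red.gaFn ((z ≫ snd _ _ ≫ snd _ _) ≫ prj S k)), ?_⟩
    rw [_root_.mul_assoc, ← hpair z, h1, h2]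
  · rintro ⟨κ, hκ, t, κ', hκ', rfl⟩
    obtain ⟨r, rfl⟩ := he.pneg X κ hκ
    obtain ⟨r', rfl⟩ := he.ppos X κ' hκ'
    let z : X ⟶ RedSub.pow (Red.Ga S) n ⊗ (D.T ⊗ RedSub.pow (Red.Ga S) n') :=
      lift (tup fun k => ptOf (r k)) (lift t (tup fun k => ptOf (r' k)))
    refine ⟨z, ?_, ?_⟩
    all_goals
      have h := hpair z
      simp only [z, lift_fst, lift_snd, lift_snd_assoc, tup_prj, gaFn_ptOf, ← _root_.mul_assoc] at h
    · exact congrArg Prod.fst h
    · exact congrArg Prod.snd h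

theorem PMor.isGerm_cG : IsGerm (m.cG eneg epos) :=
  isGerm_cell m.D2 (sidesOfBase D.P b) he.hneg he.hpos

theorem PMor.isUnit_of_inGerm {a : D.idx} (ha : a ∈ b.support) {X : Over S} (r s : Γ(X.left, ⊤))
    (hin : InGerm (m.cG eneg epos) (ep D a r * ep D (D.P.reflectionPerm a a) s)) : IsUnit (1 + r * s) := by
  refine isUnit_of_field _ fun K _ _ k p h0 => ?_
  haveI : Nontrivial Γ((fieldPt K k).left, ⊤) := (fieldFn K k).toEquiv.nontrivial
  obtain ⟨z, hz⟩ := hin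
  have hz' : (p ≫ z) ≫ m.cG eneg epos =
      ep D a (p.left.appTop r) * ep D (D.P.reflectionPerm a a) (p.left.appTop s) := by
    rw [Category.assoc, hz, MonObj.comp_mul, comp_ep, comp_ep]
  rw [map_add, map_one, map_mul] at h0
  generalize hr : p.left.appTop r = r₀ at h0 hz'
  generalize hs : p.left.appTop s = s₀ at h0 hz'
  let x : (Γ((fieldPt K k).left, ⊤))ˣ := ⟨r₀, -s₀, by linear_combination -h0, by linear_combination -h0⟩
  have hA := m.hf.pin a ha
  let d := hA.setup.data (fieldPt K k)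
  have hxs : -((x⁻¹ : (Γ((fieldPt K k).left, ⊤))ˣ) : Γ((fieldPt K k).left, ⊤)) = s₀ := neg_neg s₀
  have hw : InGerm (m.cG eneg epos) (d.w x) := by
    obtain ⟨v, hv⟩ := exists_grel (f := m.fG eneg epos) (g := (p ≫ z) ≫ m.cG eneg epos) ⟨_, rfl⟩
    have h := (m.grel_iff he (((p ≫ z) ≫ m.cG eneg epos, v) : Pt2 G G' _)).1 hv
    have h' := (m.grel_iff he _).2 (PMor.InBig.right_pos m (m.Ev_mem (simple_mem_pos ha) r₀) h)
    refine cast (congrArg (InGerm (m.cG eneg epos)) ?_) h'.inGerm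
    rw [Prod.fst_mul, m.Ev_simple ha, hz', RankOne.Data.w, hxs]
    rfl
  obtain ⟨y, hy⟩ := hw
  have hy' : y ≫ m.cG eneg epos = (y ≫ snd _ _ ≫ fst _ _) ≫ D.i := by
    refine factors_torus m.D2 (sidesOfBase D.P b) he.hneg he.hpos _ y fun X' q t => ?_
    change ∃ t', (q ≫ y ≫ m.cG eneg epos) * (t ≫ D.i) * (q ≫ y ≫ m.cG eneg epos)⁻¹ = t' ≫ D.i
    let d' := hA.setup.data X'
    have e : q ≫ d.w x = d'.w (Units.map q.left.appTop.hom.toMonoidHom x) := by
      simp only [d, d', RankOne.Data.w, RankOne.Setup.data, MonObj.comp_mul, ← Category.assoc, comp_ptOf, map_neg]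
      rfl
    refine ⟨(d'.c (d'.a t))⁻¹ * t, ?_⟩
    rw [hy, e]
    exact (d'.w_conj t _).trans (by rw [RankOne.Data.h, MonoidHom.comp_apply, ← map_inv, ← map_mul]; rfl)
  rw [hy] at hy'
  set τ := y ≫ snd _ _ ≫ fst _ _
  have e1 := hA.setup.w_P (fieldPt K k) x
  change d.w x * d.P x * (d.w x)⁻¹ = d.M _ at e1
  rw [hy', hxs] at e1
  have e2 : d.P ((d.a τ : Γ((fieldPt K k).left, ⊤)) * x) = d.M s₀ := (d.conjP τ _).symm.trans e1
  have e3 : (ptOf ((d.a τ : Γ((fieldPt K k).left, ⊤)) * x) : fieldPt K k ⟶ Red.Ga S) = ptOf 0 := by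
    refine cell_x_eq (D := D) a (y := ptOf 0) (y' := ptOf s₀) (t := 1) (t' := 1) ?_
    haveI := isMonHom_i D
    rw [MonObj.one_comp, _root_.mul_one, _root_.mul_one]
    show d.M 0 * d.P _ = d.M s₀ * d.P 0
    rw [d.M_zero, d.P_zero, _root_.one_mul, _root_.mul_one, e2]
  have e4 := congrArg Red.gaFn e3
  rw [gaFn_ptOf, gaFn_ptOf] at e4
  exact x.ne_zero ((Units.mul_right_eq_zero _).1 e4)

omit he in
/-- The exchange of the pairs of a simple root and of its opposite. -/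
theorem PMor.E_swap {a : D.idx} (ha : a ∈ b.support) {X : Over S} (r s : Γ(X.left, ⊤)) (z : (Γ(X.left, ⊤))ˣ)
    (hz : (z : Γ(X.left, ⊤)) = 1 + r * s) :
    m.E a r * m.E (D.P.reflectionPerm a a) s =
      m.E (D.P.reflectionPerm a a) (s * ((z⁻¹ : (Γ(X.left, ⊤))ˣ) : Γ(X.left, ⊤))) * m.Tp (GmPts.ptOfUnit z ≫ av a) *
        m.E a (r * ((z⁻¹ : (Γ(X.left, ⊤))ˣ) : Γ(X.left, ⊤))) := by
  refine Prod.ext (((m.hf.pin a ha).setup.data X).F r s z hz) ?_
  show ep D' (m.d a) (r ^ m.q a) * ep D' (m.d (D.P.reflectionPerm a a)) (s ^ m.q (D.P.reflectionPerm a a)) =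
    ep D' (m.d (D.P.reflectionPerm a a)) ((s * ((z⁻¹ : (Γ(X.left, ⊤))ˣ) : Γ(X.left, ⊤))) ^ m.q (D.P.reflectionPerm a a)) *
      (((GmPts.ptOfUnit z : X ⟶ Red.Gm S) ≫ av a) ≫ m.phi) ≫ D'.i * ep D' (m.d a) ((r * ((z⁻¹ : (Γ(X.left, ⊤))ˣ) : Γ(X.left, ⊤))) ^ m.q a)
  rw [(m.d_refl a a).1, (m.d_refl a a).2, m.av_phi, mul_pow, mul_pow, ← Units.val_pow_eq_pow_val, inv_pow]
  exact ((m.hf'.pin _ ((m.hΔ a).1 ha)).setup.data X).F (r ^ m.q a) (s ^ m.q a) (z ^ m.q a)
    (by rw [Units.val_pow_eq_pow_val, hz, m.q_add, one_pow, mul_pow])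

/-- The pair is compatible with translates of the cell. -/
def PMor.Good {X : Over S} (p : Pt2 G G' X) : Prop :=
  GoodPt (m.cG eneg epos) (m.fG eneg epos) p.1 p.2

theorem PMor.good_exact {X : Over S} (p : Pt2 G G' X)
    (h : ∀ (X' : Over S) (π : X' ⟶ X) (q : Pt2 G G' X'), m.InBig q → m.InBig (pull2 π p * q)) :
    m.Good (eneg := eneg) (epos := epos) p :=
  ⟨[], fun X' π g w hg _ => (m.grel_iff he (pull2 π p * (g, w))).2 (h X' π _ ((m.grel_iff he (g, w)).1 hg))⟩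

theorem PMor.good_simple {a : D.idx} (ha : a ∈ b.support) {X : Over S} (r : Γ(X.left, ⊤)) :
    m.Good (eneg := eneg) (epos := epos) (m.E a r) := by
  refine ⟨[(m.E a r).1], fun X' π g w hg hcond => ?_⟩
  refine (m.grel_iff he (pull2 π (m.E a r) * (g, w))).2 ?_
  have hin := hcond _ (List.mem_singleton_self _)
  replace hin : InGerm (m.cG eneg epos) ((pull2 π (m.E a r) * (g, w)).1) := hin
  rw [m.pull_E] at hin ⊢
  generalize π.left.appTop r = r' at hin ⊢
  obtain ⟨κ, hκ, t, κ', hκ', e⟩ := (m.grel_iff he (g, w)).1 hg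
  rw [e] at hin ⊢
  obtain ⟨ε, hε, hEn⟩ := m.exists_Ev_neg ha
  have hEE : ∀ x : Γ(X'.left, ⊤), m.E (D.P.reflectionPerm a a) x ∈ m.KS (sidesOfBase D.P b).neg X' := fun x => by
    rw [← hEn]; exact m.Ev_mem (negOpp_mem ha) _
  have hsub : (sidesOfBase D.P b).neg ⊆ insert (D.P.reflectionPerm a a) (negRest b a) := fun k hk => by
    by_cases hka : k = D.P.reflectionPerm a a
    exacts [Or.inl hka, Or.inr ⟨hk, hka⟩]
  have hrest : negRest b a ⊆ (sidesOfBase D.P b).neg := fun k hk => hk.1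
  obtain ⟨s₀, κ₁, hκ₁, rfl⟩ := m.exists_split_root (fun c hc => li_negOpp ha hc)
    (fun c hc d i j hd hi hj => comb_negOpp ha hc hd hi hj) (m.KS_mono hsub X' hκ)
  have hB : m.Ev (D.P.reflectionPerm a a) s₀ = m.E (D.P.reflectionPerm a a) ((ε : Γ(X'.left, ⊤)) * s₀) := by
    rw [← hEn]; rcases hε with rfl | rfl <;> simp
  have hA : ∀ (x : Γ(X'.left, ⊤)) {q : Pt2 G G' X'}, q ∈ m.KS (negRest b a) X' →
      m.E a x * q * (m.E a x)⁻¹ ∈ m.KS (negRest b a) X' := fun x q hq => by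
    rw [← m.Ev_simple ha]
    exact m.conj_Ev_KS (fun c hc => li_simple ha hc) (fun c hc d i j hd hi hj => comb_simple ha hc hd hi hj) x hq
  have hκ₂ : m.E a r' * (m.Ev (D.P.reflectionPerm a a) s₀ * κ₁ * (m.Ev (D.P.reflectionPerm a a) s₀)⁻¹) *
      (m.E a r')⁻¹ ∈ m.KS (negRest b a) X' :=
    hA r' (m.conj_Ev_KS (fun c hc => li_negOpp ha hc) (fun c hc d i j hd hi hj => comb_negOpp ha hc hd hi hj) s₀ hκ₁)
  rw [hB] at hin hκ₂ ⊢
  set s := (ε : Γ(X'.left, ⊤)) * s₀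
  have hu : IsUnit (1 + r' * s) := by
    refine m.isUnit_of_inGerm he ha r' s ?_
    obtain ⟨v, hv⟩ := exists_grel (f := m.fG eneg epos) hin
    have h1 := (m.grel_iff he ((_, v) : Pt2 G G' X')).1 hv
    have h2 := PMor.InBig.left_neg m (inv_mem (m.KS_mono hrest X' hκ₂))
      (PMor.InBig.right_Tp m t⁻¹ (PMor.InBig.right_pos m (inv_mem hκ') h1))
    refine cast (congrArg (InGerm (m.cG eneg epos)) ?_) ((m.grel_iff he _).2 h2).inGerm
    have key : ∀ A B K T K' : Pt2 G G' X',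
        (A * (B * K * B⁻¹) * A⁻¹)⁻¹ * ((A * (B * K * T * K')) * K'⁻¹ * T⁻¹) = A * B := fun A B K T K' => by group
    have := congrArg Prod.fst (key (m.E a r') (m.E (D.P.reflectionPerm a a) s) κ₁ (m.Tp t) κ')
    rw [map_inv]
    exact this
  obtain ⟨z, hz⟩ := hu
  have key : ∀ A B K T K' N Tz C : Pt2 G G' X', A * B = N * Tz * C →
      A * (B * K * T * K') = (N * (Tz * (C * K * C⁻¹) * Tz⁻¹)) * (Tz * T) * ((T⁻¹ * C * T⁻¹⁻¹) * K') :=
    fun A B K T K' N Tz C h => by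
      calc A * (B * K * T * K') = (A * B) * K * T * K' := by group
        _ = _ := by rw [h]; group
  rw [key _ _ _ _ _ _ _ _ (m.E_swap ha r' s z hz), ← map_mul]
  refine ⟨_, mul_mem (hEE _) (m.KS_mono hrest X' (m.Tp_conj_KS _ (hA _ hκ₁))), _, _,
    mul_mem ?_ hκ', rfl⟩
  rw [← map_inv (m.Tp (X := X')), ← m.Ev_simple ha]
  exact m.Tp_conj_KS _ (m.Ev_mem (simple_mem_pos ha) _)

theorem PMor.good_negSimple {a : D.idx} (ha : a ∈ b.support) {X : Over S} (r : Γ(X.left, ⊤)) :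
    m.Good (eneg := eneg) (epos := epos) (m.E (D.P.reflectionPerm a a) r) := by
  refine m.good_exact he _ fun X' π q hq => ?_
  obtain ⟨ε, -, hEn⟩ := m.exists_Ev_neg ha
  rw [m.pull_E, ← hEn]
  exact PMor.InBig.left_neg m (m.Ev_mem (negOpp_mem ha) _) hq

theorem PMor.good_Tp {X : Over S} (t : X ⟶ D.T) : m.Good (eneg := eneg) (epos := epos) (m.Tp t) := by
  refine m.good_exact he _ fun X' π q hq => ?_
  rw [m.pull_Tp]
  exact PMor.InBig.left_Tp m _ hq

/-- The pairs compatible with translates together with their inverses. -/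
def PMor.goodGrp (he : m.Enum eneg epos) (X : Over S) : Subgroup (Pt2 G G' X) where
  carrier := {p | m.Good (eneg := eneg) (epos := epos) p ∧ m.Good (eneg := eneg) (epos := epos) p⁻¹}
  one_mem' := ⟨goodPt_one, by rw [inv_one]; exact goodPt_one⟩
  mul_mem' := fun {p q} hp hq => ⟨GoodPt.mul hp.1 hq.1, by rw [mul_inv_rev]; exact GoodPt.mul hq.2 hp.2⟩
  inv_mem' := fun {p} hp => ⟨hp.2, by rw [inv_inv]; exact hp.1⟩

theorem PMor.E_mem_good {a : D.idx} (ha : a ∈ b.support) {X : Over S} (r : Γ(X.left, ⊤)) :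
    m.E a r ∈ m.goodGrp he X ∧ m.E (D.P.reflectionPerm a a) r ∈ m.goodGrp he X :=
  ⟨⟨m.good_simple he ha r, by rw [← m.E_neg]; exact m.good_simple he ha _⟩,
    m.good_negSimple he ha r, by rw [← m.E_neg]; exact m.good_negSimple he ha _⟩

theorem PMor.Tp_mem_good {X : Over S} (t : X ⟶ D.T) : m.Tp t ∈ m.goodGrp he X :=
  ⟨m.good_Tp he t, by rw [← map_inv]; exact m.good_Tp he _⟩

omit he in
theorem PMor.NP_single {a : D.idx} (ha : a ∈ b.support) (X : Over S) :
    m.NP [a] X = m.E a 1 * (m.E (D.P.reflectionPerm a a) 1)⁻¹ * m.E a 1 := by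
  refine Prod.ext ?_ ?_
  · show toUnit X ≫ ([a].map nr).prod = _
    simp only [List.map_cons, List.map_nil, List.prod_cons, List.prod_nil, _root_.mul_one]
    refine (congrArg (toUnit X ≫ ·) (m.hf.pin a ha).hw).trans ?_
    simp only [MonObj.comp_mul, GrpObj.comp_inv, ← Category.assoc, comp_ptOf, map_one]
    rfl
  · show toUnit X ≫ (([a].map m.d).map nr').prod = _
    simp only [List.map_cons, List.map_nil, List.prod_cons, List.prod_nil, _root_.mul_one]
    refine (congrArg (toUnit X ≫ ·) (m.hf'.pin _ ((m.hΔ a).1 ha)).hw).trans ?_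
    simp only [MonObj.comp_mul, GrpObj.comp_inv, ← Category.assoc, comp_ptOf, map_one]
    show _ = ep D' (m.d a) ((1 : Γ(X.left, ⊤)) ^ m.q a) *
      (ep D' (m.d (D.P.reflectionPerm a a)) ((1 : Γ(X.left, ⊤)) ^ m.q (D.P.reflectionPerm a a)))⁻¹ *
      ep D' (m.d a) ((1 : Γ(X.left, ⊤)) ^ m.q a)
    rw [one_pow, one_pow, (m.d_refl a a).1]

theorem PMor.NP_mem_good : ∀ {l : List D.idx}, InS D b l → ∀ X : Over S, m.NP l X ∈ m.goodGrp he X := by
  intro l
  induction l with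
  | nil => intro _ X; rw [m.NP_nil]; exact one_mem _
  | cons a l ih =>
    intro hl X
    have ha := hl a List.mem_cons_self
    rw [m.NP_cons, m.NP_single ha]
    exact mul_mem (mul_mem (mul_mem (m.E_mem_good he ha 1).1 (inv_mem (m.E_mem_good he ha 1).2))
      (m.E_mem_good he ha 1).1) (ih (fun x hx => hl x (List.mem_cons_of_mem _ hx)) X)

theorem PMor.KS_le_good (R : Set D.idx) (X : Over S) : m.KS R X ≤ m.goodGrp he X := by
  refine (Subgroup.closure_le _).2 ?_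
  rintro _ ⟨k, -, z, rfl⟩
  obtain ⟨h1, h2, -, -⟩ := m.rep_spec k
  exact mul_mem (mul_mem (m.NP_mem_good he h1 X) (m.E_mem_good he h2 z).1) (inv_mem (m.NP_mem_good he h1 X))

theorem PMor.good_of_grel {X : Over S} (g : X ⟶ G) (v : X ⟶ G')
    (h : GRel (m.cG eneg epos) (m.fG eneg epos) g v) : GoodPt (m.cG eneg epos) (m.fG eneg epos) g v := by
  obtain ⟨κ, hκ, t, κ', hκ', e⟩ := (m.grel_iff he (g, v)).1 h
  have hmem : ((g, v) : Pt2 G G' X) ∈ m.goodGrp he X := by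
    rw [e]
    exact mul_mem (mul_mem (m.KS_le_good he _ X hκ) (m.Tp_mem_good he t)) (m.KS_le_good he _ X hκ')
  exact hmem.1

end Cell

/-- **The homomorphism of a morphism of pinned root data.** -/
theorem PMor.exists_hom : ∃ F : G ⟶ G', IsMonHom F ∧ D.i ≫ F = m.phi ≫ D'.i ∧
    ∀ a ∈ b.support, ∀ (X : Over S) (r : Γ(X.left, ⊤)), ep D a r ≫ F = ep D' (m.d a) (r ^ m.q a) ∧
      ep D (D.P.reflectionPerm a a) r ≫ F = ep D' (D'.P.reflectionPerm (m.d a) (m.d a)) (r ^ m.q a) := by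
  obtain ⟨n, n', eneg, epos, he⟩ := m.exists_Enum
  obtain ⟨F, ⟨hF, hcF⟩, -⟩ :=
    existsUnique_extend' (fun X g v h => m.good_of_grel he g v h) (m.isGerm_cG he)
  have key : ∀ {X : Over S} (p : Pt2 G G' X), m.InBig p → p.1 ≫ F = p.2 := fun {X} p hp => by
    obtain ⟨z, h1, h2⟩ := (m.grel_iff he p).2 hp
    rw [← h1, ← h2, Category.assoc, hcF]
  refine ⟨F, hF, ?_, fun a ha X r => ⟨?_, ?_⟩⟩
  · have h := key (m.Tp (𝟙 D.T)) ⟨1, one_mem _, 𝟙 _, 1, one_mem _, by rw [_root_.one_mul, _root_.mul_one]⟩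
    simpa [PMor.Tp_apply] using h
  · exact key (m.E a r) ⟨1, one_mem _, 1, m.E a r, m.Ev_simple ha r ▸ m.Ev_mem (simple_mem_pos ha) r,
      by rw [map_one, _root_.one_mul, _root_.one_mul]⟩
  · obtain ⟨ε, -, hEn⟩ := m.exists_Ev_neg ha
    have h := key (m.E (D.P.reflectionPerm a a) r) ⟨m.E _ r, hEn X r ▸ m.Ev_mem (negOpp_mem ha) _, 1, 1, one_mem _,
      by rw [map_one, _root_.mul_one, _root_.mul_one]⟩
    refine h.trans ?_
    show ep D' (m.d (D.P.reflectionPerm a a)) (r ^ m.q (D.P.reflectionPerm a a)) = _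
    rw [(m.d_refl a a).1, (m.d_refl a a).2]

end Bruhat

end
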