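import Groth.Agent.BruhatLib.PMorBase

/-!
# The dihedral relations are preserved by a morphism of pinned root data
-/

set_option autoImplicit false
set_option linter.style.haveILetI false
set_option linter.unusedSectionVars false
set_option backward.isDefEq.respectTransparency false
set_option maxHeartbeats 1000000
set_option synthInstance.maxHeartbeats 400000

universe u

open CategoryTheory CategoryTheory.Limits MonoidalCategory CartesianMonoidalCategory AlgebraicGeometry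
open Groth.Agent.GaPts
open Groth.Agent
open Groth.Agent.RankOne (eq_ptOf eq_ptOfUnit comp_ptOf ptOf_add)
open scoped MonObj

noncomputable section

attribute [-instance] CategoryTheory.Hom.commGroup

namespace Bruhat

open SplitCell SplitFib RootSubgrp

variable {S : Scheme.{u}} {G G' : Over S} [GrpObj G] [GrpObj G'] [Nonempty S]
  {D : Red.SplitRed G} {D' : Red.SplitRed G'} {b : D.P.Base} {b' : D'.P.Base}
  {av : D.idx → (Red.Gm S ⟶ D.T)} {av' : D'.idx → (Red.Gm S ⟶ D'.T)}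
  {nr : D.idx → (𝟙_ (Over S) ⟶ G)} {nr' : D'.idx → (𝟙_ (Over S) ⟶ G')}
  (m : PMor D D' b b' av av' nr nr')

section Arith

theorem ne_map {a c : D.idx} (hne : a ≠ c) : m.d a ≠ m.d c := fun e => hne (m.d.injective e)

/-- The pairings of the images of two simple roots. -/
theorem PMor.pairing_cases' {a c : D.idx} (ha : a ∈ b.support) (hc : c ∈ b.support) (hne : a ≠ c) :
    (D.P.pairing a c = 0 ∧ D.P.pairing c a = 0 → D'.P.pairing (m.d a) (m.d c) = 0 ∧ D'.P.pairing (m.d c) (m.d a) = 0) ∧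
    (D.P.pairing a c = -1 ∧ D.P.pairing c a = -1 →
      D'.P.pairing (m.d a) (m.d c) = -1 ∧ D'.P.pairing (m.d c) (m.d a) = -1) ∧
    (D.P.pairing a c = -1 ∧ D.P.pairing c a = -2 →
      (D'.P.pairing (m.d a) (m.d c) = -1 ∧ D'.P.pairing (m.d c) (m.d a) = -2 ∧ m.q a = m.q c) ∨
        (D'.P.pairing (m.d a) (m.d c) = -2 ∧ D'.P.pairing (m.d c) (m.d a) = -1 ∧ m.q a = 2 * m.q c)) ∧
    (D.P.pairing a c = -1 ∧ D.P.pairing c a = -3 →
      (D'.P.pairing (m.d a) (m.d c) = -1 ∧ D'.P.pairing (m.d c) (m.d a) = -3 ∧ m.q a = m.q c) ∨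
        (D'.P.pairing (m.d a) (m.d c) = -3 ∧ D'.P.pairing (m.d c) (m.d a) = -1 ∧ m.q a = 3 * m.q c)) := by
  have e1 := m.pairing_eq a c
  have e2 := m.pairing_eq c a
  have := m.q_pos a
  have := m.q_pos c
  refine ⟨?_, ?_, ?_, ?_⟩ <;> rintro ⟨h1, h2⟩ <;> rw [h1] at e1 <;> rw [h2] at e2 <;>
    rcases pairing_cases (b := b') ((m.hΔ a).1 ha) ((m.hΔ c).1 hc) (ne_map m hne) with
      ⟨g1, g2⟩ | ⟨g1, g2⟩ | ⟨g1, g2⟩ | ⟨g1, g2⟩ | ⟨g1, g2⟩ | ⟨g1, g2⟩ <;>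
    rw [g1] at e1 <;> rw [g2] at e2 <;> rw [g1, g2] <;> omega

omit [Nonempty S] in
theorem PMor.eq_of_q_ratio {a c : D.idx} {k : ℕ} (hk : k.Prime) (h : m.q a = k * m.q c) : m.p = k := by
  obtain ⟨i, hi⟩ := m.q_pow a
  obtain ⟨j, hj⟩ := m.q_pow c
  rw [hi, hj] at h
  have hp1 : 2 ≤ m.p := by
    by_contra hlt
    have hp : m.p = 1 := by have := m.p_pos; omega
    rw [hp, one_pow, one_pow, mul_one] at h
    exact hk.one_lt.ne h
  have hji : j < i := by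
    by_contra hle
    have h1 := Nat.pow_le_pow_right m.p_pos (not_lt.1 hle)
    have h2 : 0 < m.p ^ j := pow_pos m.p_pos j
    rw [h] at h1
    nlinarith [hk.two_le]
  obtain ⟨e, rfl⟩ : ∃ e, i = j + (e + 1) := ⟨i - j - 1, by omega⟩
  rw [pow_add, mul_comm] at h
  have h3 : m.p ^ (e + 1) = k := Nat.eq_of_mul_eq_mul_right (pow_pos m.p_pos j) h
  rcases (Nat.dvd_prime hk).1 (h3 ▸ dvd_pow_self m.p (Nat.succ_ne_zero e)) with h4 | h4
  · omega
  · exact h4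

omit [Nonempty S] in
theorem PMor.two_eq_zero {a c : D.idx} (h : m.q a = 2 * m.q c) (X : Over S) : (2 : Γ(X.left, ⊤)) = 0 := by
  have e := m.p_add X 1 1
  rw [m.eq_of_q_ratio Nat.prime_two h] at e
  linear_combination e

theorem PMor.three_eq_zero {a c : D.idx} (h : m.q a = 3 * m.q c) (X : Over S) : (3 : Γ(X.left, ⊤)) = 0 := by
  obtain ⟨X', π, s, hπ, hs⟩ := RankOne.exists_goldCover X
  haveI := hπ
  have e := m.p_add X' s 1
  rw [m.eq_of_q_ratio Nat.prime_three h] at e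
  have h3 : (3 : Γ(X'.left, ⊤)) = 0 := by linear_combination (2 * s - 3) * e - (6 * s + 3) * hs
  refine ep_injective (D := D) a ((cancel_epi π).1 ?_)
  rw [comp_ep, comp_ep, map_ofNat, map_zero, h3]

end Arith

section Rel

theorem PMor.conj_Tp (a : D.idx) {X : Over S} (t : X ⟶ D.T) :
    m.NP [a] X * m.Tp t * (m.NP [a] X)⁻¹ = m.Tp (tRefl a t) := by
  rw [conj2]
  refine Prod.ext ?_ ?_
  · simpa [PMor.NP, PMor.Tp_apply, nX] using (m.hf.refl a).conj_torus t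
  · have h := (m.hf'.refl (m.d a)).conj_torus (t ≫ m.phi)
    simpa [PMor.NP, PMor.Tp_apply, nX, m.tRefl_phi] using h

theorem PMor.NP_sq {a : D.idx} (ha : a ∈ b.support) :
    m.NP [a, a] (𝟙_ (Over S)) = m.Tp ((GmPts.ptOfUnit (-1) : 𝟙_ (Over S) ⟶ Red.Gm S) ≫ av a) := by
  have hu : ((-1 : (Γ((𝟙_ (Over S)).left, ⊤))ˣ)) ^ m.q a = -1 := Units.ext (by
    rw [Units.val_pow_eq_pow_val, Units.val_neg, Units.val_one, m.q_neg, one_pow])
  refine Prod.ext ?_ ?_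
  · simpa [PMor.NP, PMor.Tp_apply, nX, toUnit_unit, Category.assoc] using (m.hf.pin a ha).sq_eq
  · show _ = (((GmPts.ptOfUnit (-1) : 𝟙_ (Over S) ⟶ Red.Gm S) ≫ av a) ≫ m.phi) ≫ D'.i
    rw [m.av_phi, hu]
    simpa [PMor.NP, nX, toUnit_unit, Category.assoc] using (m.hf'.pin _ ((m.hΔ a).1 ha)).sq_eq

theorem PMor.sq_one {a : D.idx} (ha : a ∈ b.support) (h2 : (2 : Γ((𝟙_ (Over S)).left, ⊤)) = 0) :
    nr' (m.d a) * nr' (m.d a) = 1 := by
  have hu : (-1 : (Γ((𝟙_ (Over S)).left, ⊤))ˣ) = 1 := Units.ext (by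
    rw [Units.val_neg, Units.val_one]; linear_combination -h2)
  haveI := isMonHom_i D'
  haveI : IsMonHom (av' (m.d a)) := by
    rw [m.hav']
    haveI : IsMonHom D'.split.inv.hom.hom := D'.split.inv.hom.isMonHom_hom
    haveI : IsMonHom (Red.DSmap S (D'.P.coroot (m.d a)).toAddMonoidHom) := Groth.Agent.DSImg.isMonHom_DSmap _
    infer_instance
  rw [(m.hf'.pin _ ((m.hΔ a).1 ha)).sq_eq, hu]
  have : (GmPts.ptOfUnit (1 : (Γ((𝟙_ (Over S)).left, ⊤))ˣ) : 𝟙_ (Over S) ⟶ Red.Gm S) = 1 := by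
    have h := RankOne.ptOfUnit_mul (X := 𝟙_ (Over S)) (1 : (Γ((𝟙_ (Over S)).left, ⊤))ˣ) 1
    rw [_root_.one_mul, left_eq_mul] at h
    exact h
  rw [this, MonObj.one_comp, MonObj.one_comp]

omit [Nonempty S] in
theorem PMor.map_alt (a c : D.idx) : ∀ n, (alt a c n).map m.d = alt (m.d a) (m.d c) n
  | 0 => rfl
  | n + 1 => by simp [alt, PMor.map_alt a c n]

theorem PMor.NP_alt (a c : D.idx) (n : ℕ) :
    m.NP (alt a c n) (𝟙_ (Over S)) = ((nr a * nr c) ^ n, (nr' (m.d a) * nr' (m.d c)) ^ n) := by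
  simp [PMor.NP, nX, toUnit_unit, m.map_alt, pr_alt]

/-- Words with the same permutation and the same pair of sections up to a sign of the torus. -/
def PMor.PRel (l l' : List D.idx) : Prop :=
  RedSub.wordPerm D.P l = RedSub.wordPerm D.P l' ∧ ∃ t : 𝟙_ (Over S) ⟶ D.T, IsSgn D (t ≫ D.i) ∧
    m.NP l (𝟙_ (Over S)) = m.Tp t * m.NP l' (𝟙_ (Over S))

theorem PMor.prel_alt {a c : D.idx} (ha : a ∈ b.support) (hc : c ∈ b.support) (hne : a ≠ c) {n : ℕ}
    (h : OrderCases D a c n) : ∃ t : 𝟙_ (Over S) ⟶ D.T, IsSgn D (t ≫ D.i) ∧ m.NP (alt a c n) (𝟙_ (Over S)) = m.Tp t := by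
  haveI := isMonHom_i D
  have A := m.hf.pin a ha
  have C := m.hf.pin c hc
  have hda := (m.hΔ a).1 ha
  have hdc := (m.hΔ c).1 hc
  have A' := m.hf'.pin _ hda
  have C' := m.hf'.pin _ hdc
  have hsgn : ∀ {x : D.idx}, x ∈ b.support →
      IsSgn D (((GmPts.ptOfUnit (-1) : 𝟙_ (Over S) ⟶ Red.Gm S) ≫ av x) ≫ D.i) := fun {x} hx => by
    have h := (m.hf.pin x hx).isSgn_sq
    rw [(m.hf.pin x hx).sq_eq] at h
    simpa [Category.assoc] using h
  have one : IsSgn D ((1 : 𝟙_ (Over S) ⟶ D.T) ≫ D.i) := by rw [MonObj.one_comp]; exact isSgn_one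
  have sq : ∀ {x : D.idx}, x ∈ b.support → (nr x * nr x, nr' (m.d x) * nr' (m.d x)) =
      m.Tp ((GmPts.ptOfUnit (-1) : 𝟙_ (Over S) ⟶ Red.Gm S) ≫ av x) := fun {x} hx => by
    rw [← m.NP_sq hx]; simp [PMor.NP, nX, toUnit_unit]
  obtain ⟨k1, k2, k3, k4⟩ := m.pairing_cases' ha hc hne
  obtain ⟨-, -, k3', k4'⟩ := m.pairing_cases' hc ha (Ne.symm hne)
  rw [m.NP_alt]
  rcases h with ⟨rfl, e1, e2⟩ | ⟨rfl, e1, e2⟩ | ⟨rfl, e1, e2⟩ | ⟨rfl, e1, e2⟩ | ⟨rfl, e1, e2⟩ | ⟨rfl, e1, e2⟩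
  · refine ⟨((GmPts.ptOfUnit (-1) : 𝟙_ (Over S) ⟶ Red.Gm S) ≫ av a) *
      ((GmPts.ptOfUnit (-1) : 𝟙_ (Over S) ⟶ Red.Gm S) ≫ av c), ?_, ?_⟩
    · rw [MonObj.mul_comp]; exact (hsgn ha).mul (hsgn hc)
    · rw [map_mul, ← sq ha, ← sq hc]
      obtain ⟨g1, g2⟩ := k1 ⟨e1, e2⟩
      have w1 := commute_weyl ha hc hne e1 A C
      have w2 := commute_weyl hda hdc (ne_map m hne) g1 A' C'
      exact Prod.ext ((w1.mul_pow 2).trans (by rw [pow_two, pow_two]; rfl))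
        ((w2.mul_pow 2).trans (by rw [pow_two, pow_two]; rfl))
  · obtain ⟨g1, g2⟩ := k2 ⟨e1, e2⟩
    refine ⟨1, one, ?_⟩
    rw [map_one]
    exact Prod.ext (show PairA2 D b a c (av a) (av c) (nr a) (nr c) from ⟨ha, hc, hne, e1, e2, A, C⟩).cube
      (show PairA2 D' b' (m.d a) (m.d c) (av' _) (av' _) (nr' _) (nr' _) from
        ⟨hda, hdc, ne_map m hne, g1, g2, A', C'⟩).cube
  · refine ⟨_, hsgn ha, ?_⟩
    rw [← sq ha]
    refine Prod.ext (show PairB2 D b a c (av a) (av c) (nr a) (nr c) from ⟨⟨ha, hc, hne⟩, e1, e2, A, C⟩).pow_four.1 ?_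
    rcases k3 ⟨e1, e2⟩ with ⟨g1, g2, -⟩ | ⟨g1, g2, g3⟩
    · exact (show PairB2 D' b' (m.d a) (m.d c) (av' _) (av' _) (nr' _) (nr' _) from
        ⟨⟨hda, hdc, ne_map m hne⟩, g1, g2, A', C'⟩).pow_four.1
    · refine ((show PairB2 D' b' (m.d c) (m.d a) (av' _) (av' _) (nr' _) (nr' _) from
        ⟨⟨hdc, hda, (ne_map m hne).symm⟩, g2, g1, C', A'⟩).pow_four.2).trans ?_
      exact (m.sq_one hc (m.two_eq_zero g3 _)).trans (m.sq_one ha (m.two_eq_zero g3 _)).symm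
  · refine ⟨_, hsgn hc, ?_⟩
    rw [← sq hc]
    refine Prod.ext (show PairB2 D b c a (av c) (av a) (nr c) (nr a) from
      ⟨⟨hc, ha, Ne.symm hne⟩, e2, e1, C, A⟩).pow_four.2 ?_
    rcases k3' ⟨e2, e1⟩ with ⟨g1, g2, -⟩ | ⟨g1, g2, g3⟩
    · exact (show PairB2 D' b' (m.d c) (m.d a) (av' _) (av' _) (nr' _) (nr' _) from
        ⟨⟨hdc, hda, (ne_map m hne).symm⟩, g1, g2, C', A'⟩).pow_four.2
    · refine ((show PairB2 D' b' (m.d a) (m.d c) (av' _) (av' _) (nr' _) (nr' _) from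
        ⟨⟨hda, hdc, ne_map m hne⟩, g2, g1, A', C'⟩).pow_four.1).trans ?_
      exact (m.sq_one ha (m.two_eq_zero g3 _)).trans (m.sq_one hc (m.two_eq_zero g3 _)).symm
  · refine ⟨1, one, ?_⟩
    rw [map_one]
    refine Prod.ext (show PairG2 D b a c (av a) (av c) (nr a) (nr c) from ⟨⟨ha, hc, hne⟩, e1, e2, A, C⟩).pow_six.1 ?_
    rcases k4 ⟨e1, e2⟩ with ⟨g1, g2, -⟩ | ⟨g1, g2, -⟩
    · exact (show PairG2 D' b' (m.d a) (m.d c) (av' _) (av' _) (nr' _) (nr' _) from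
        ⟨⟨hda, hdc, ne_map m hne⟩, g1, g2, A', C'⟩).pow_six.1
    · exact (show PairG2 D' b' (m.d c) (m.d a) (av' _) (av' _) (nr' _) (nr' _) from
        ⟨⟨hdc, hda, (ne_map m hne).symm⟩, g2, g1, C', A'⟩).pow_six.2
  · refine ⟨1, one, ?_⟩
    rw [map_one]
    refine Prod.ext (show PairG2 D b c a (av c) (av a) (nr c) (nr a) from
      ⟨⟨hc, ha, Ne.symm hne⟩, e2, e1, C, A⟩).pow_six.2 ?_
    rcases k4' ⟨e2, e1⟩ with ⟨g1, g2, -⟩ | ⟨g1, g2, -⟩
    · exact (show PairG2 D' b' (m.d c) (m.d a) (av' _) (av' _) (nr' _) (nr' _) from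
        ⟨⟨hdc, hda, (ne_map m hne).symm⟩, g1, g2, C', A'⟩).pow_six.2
    · exact (show PairG2 D' b' (m.d a) (m.d c) (av' _) (av' _) (nr' _) (nr' _) from
        ⟨⟨hda, hdc, ne_map m hne⟩, g2, g1, A', C'⟩).pow_six.1

theorem PMor.wrel : WRel D b m.PRel := by
  haveI := isMonHom_i D
  refine ⟨fun e => e.1, fun l => ⟨rfl, 1, by rw [MonObj.one_comp]; exact isSgn_one, by
    rw [map_one, _root_.one_mul]⟩, ?_, ?_, ?_, ?_, ?_, ?_⟩
  · rintro l l' - - ⟨hp, t, hs, e⟩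
    refine ⟨hp.symm, t⁻¹, by rw [GrpObj.inv_comp]; exact hs.inv, ?_⟩
    rw [map_inv, e, inv_mul_cancel_left]
  · rintro l l' l'' ⟨hp, t, hs, e⟩ ⟨hp', t', hs', e'⟩
    exact ⟨hp.trans hp', t * t', by rw [MonObj.mul_comp]; exact hs.mul hs',
      by rw [map_mul, e, e', _root_.mul_assoc]⟩
  · rintro l l' r ⟨hp, t, hs, e⟩
    exact ⟨by rw [wordPerm_append, wordPerm_append, hp], t, hs, by
      rw [m.NP_append, m.NP_append, e, _root_.mul_assoc]⟩
  · intro l l' u hu h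
    induction u with
    | nil => exact h
    | cons a u ih =>
      obtain ⟨hp, t, hs, e⟩ := ih fun x hx => hu x (List.mem_cons_of_mem _ hx)
      refine ⟨by rw [List.cons_append, List.cons_append, wordPerm_cons, wordPerm_cons, hp], tRefl a t, ?_, ?_⟩
      · have h1 := (m.hf.refl a).conj_sgn hs
        rwa [show nr a * (t ≫ D.i) * (nr a)⁻¹ = tRefl a t ≫ D.i from conj_torus_pt (m.hf.refl a) t] at h1
      · rw [List.cons_append, List.cons_append, m.NP_cons a (u ++ l), m.NP_cons a (u ++ l'), e, ← m.conj_Tp]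
        group
  · intro x hx
    refine ⟨(m.hf.eqv_sq hx).1, _, ?_, by rw [m.NP_nil, _root_.mul_one]; exact m.NP_sq hx⟩
    have h := (m.hf.pin x hx).isSgn_sq
    rw [(m.hf.pin x hx).sq_eq] at h
    simpa [Category.assoc] using h
  · intro a c ha hc hne n h
    obtain ⟨t, hs, e⟩ := m.prel_alt ha hc hne h
    refine ⟨by rw [perm_alt, pow_perm_eq_one h]; rfl, t, hs, by rw [m.NP_nil, _root_.mul_one]; exact e⟩

/-- Words with the same permutation give the same pair up to a sign. -/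
theorem PMor.prel_of_perm {l l' : List D.idx} (hl : InS D b l) (hl' : InS D b l')
    (h : RedSub.wordPerm D.P l = RedSub.wordPerm D.P l') : m.PRel l l' :=
  m.wrel.of_perm hl hl' h

end Rel

end Bruhat

end
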