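import Groth.Agent.BruhatLib.PMorRel

/-!
# Signs are preserved by a morphism of pinned root data
-/

set_option autoImplicit false
set_option linter.style.haveILetI false
set_option linter.unusedSectionVars false
set_option backward.isDefEq.respectTransparency false
set_option maxHeartbeats 1000000
set_option synthInstance.maxHeartbeats 400000

universe u

open CategoryTheory CategoryTheory.Limits MonoidalCategory CartesianMonoidalCategory AlgebraicGeometry
open Groth.Agent.GaPts
open Groth.Agent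
open Groth.Agent.RankOne (eq_ptOf eq_ptOfUnit comp_ptOf ptOf_add)
open scoped MonObj

noncomputable section

attribute [-instance] CategoryTheory.Hom.commGroup

namespace Bruhat

open SplitCell SplitFib RootSubgrp

variable {S : Scheme.{u}} {G G' : Over S} [GrpObj G] [GrpObj G'] [Nonempty S]
  {D : Red.SplitRed G} {D' : Red.SplitRed G'} {b : D.P.Base} {b' : D'.P.Base}
  {av : D.idx → (Red.Gm S ⟶ D.T)} {av' : D'.idx → (Red.Gm S ⟶ D'.T)}
  {nr : D.idx → (𝟙_ (Over S) ⟶ G)} {nr' : D'.idx → (𝟙_ (Over S) ⟶ G')}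
  (m : PMor D D' b b' av av' nr nr')

section Helpers

omit [Nonempty S] in
theorem inS1 {a : D.idx} (ha : a ∈ b.support) : InS D b [a] := fun _ hx => List.mem_singleton.1 hx ▸ ha

omit [Nonempty S] in
theorem inS2 {a c : D.idx} (ha : a ∈ b.support) (hc : c ∈ b.support) : InS D b [a, c] := fun x hx => by
  simp only [List.mem_cons, List.not_mem_nil, or_false] at hx
  rcases hx with rfl | rfl
  exacts [ha, hc]

omit [Nonempty S] in
theorem inS3 {a c : D.idx} (ha : a ∈ b.support) (hc : c ∈ b.support) : InS D b [a, c, a] := fun x hx => by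
  simp only [List.mem_cons, List.not_mem_nil, or_false] at hx
  rcases hx with rfl | rfl | rfl
  exacts [ha, hc, ha]

omit [Nonempty S] in
theorem inS5 {a c : D.idx} (ha : a ∈ b.support) (hc : c ∈ b.support) : InS D b [a, c, a, c, a] := fun x hx => by
  simp only [List.mem_cons, List.not_mem_nil, or_false] at hx
  rcases hx with rfl | rfl | rfl | rfl | rfl
  exacts [ha, hc, ha, hc, ha]

omit [Nonempty S] in
theorem PMor.Tp_conj_E (t : 𝟙_ (Over S) ⟶ D.T) (k : D.idx) {X : Over S} (r : Γ(X.left, ⊤)) :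
    m.Tp (toUnit X ≫ t) * m.E k r * (m.Tp (toUnit X ≫ t))⁻¹ =
      m.E k (Red.gmFn ((toUnit X ≫ t) ≫ D.split.hom.hom.hom ≫ Red.chi S (D.P.root k)) * r) := by
  rw [conj2]
  refine Prod.ext ?_ ?_
  · obtain ⟨y, hy, he⟩ := (D.rootHom k).2.2 X (toUnit X ≫ t) (ptOf r)
    rw [gaFn_ptOf] at he
    exact hy.symm.trans (by rw [eq_ptOf y he]; rfl)
  · obtain ⟨y, hy, he⟩ := (D'.rootHom (m.d k)).2.2 X ((toUnit X ≫ t) ≫ m.phi) (ptOf (r ^ m.q k))
    rw [gaFn_ptOf, m.chi_phi, ← mul_pow] at he
    exact hy.symm.trans (by rw [eq_ptOf y he]; rfl)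

/-- A word moves the pairs of a simple root to those of a simple root by a sign. -/
def PMor.PMoves (l : List D.idx) (a a₀ : D.idx) (ε : ℤ) : Prop :=
  ∀ (X : Over S) (r : Γ(X.left, ⊤)), m.NP l X * m.E a r * (m.NP l X)⁻¹ = m.E a₀ ((ε : Γ(X.left, ⊤)) * r)

/-- The statement for words shorter than the bound. -/
def PMor.PSign (n : ℕ) : Prop :=
  ∀ l : List D.idx, l.length < n → InS D b l → ∀ a ∈ b.support, ∀ a₀ ∈ b.support,
    RedSub.wordPerm D.P l a = a₀ → ∃ ε : ℤ, (ε = 1 ∨ ε = -1) ∧ m.PMoves l a a₀ ε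

omit [Nonempty S] in
theorem PMor.pmoves_nil (a : D.idx) : m.PMoves [] a a 1 := fun X r => by
  rw [m.NP_nil, _root_.one_mul, inv_one, _root_.mul_one, Int.cast_one, _root_.one_mul]

theorem PMor.pmoves_of {L : List D.idx} (_hL : InS D b L) {a a₀ : D.idx} (_ha : a ∈ b.support)
    (hp : RedSub.wordPerm D.P L a = a₀) {ε : ℤ} (hε : ε = 1 ∨ ε = -1) (h : Moves D (pr D nr L) a a₀ ε)
    (h' : Moves D' (pr D' nr' (L.map m.d)) (m.d a) (m.d a₀) ε) : m.PMoves L a a₀ ε := fun X r => by
  rw [conj2]
  refine Prod.ext ((h X (ptOf r)).trans (zpow_ep a₀ hε r)) ?_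
  refine ((h' X (ptOf (r ^ m.q a))).trans (zpow_ep _ hε (r ^ m.q a))).trans ?_
  have hq : m.q a₀ = m.q a := hp ▸ (m.d_perm L a).2
  show _ = ep D' (m.d a₀) (((ε : Γ(X.left, ⊤)) * r) ^ m.q a₀)
  rw [m.q_sign a₀ hε, hq]

theorem PMor.moves_of_perm {l l' : List D.idx} (hl : InS D b l) (hl' : InS D b l')
    (h : RedSub.wordPerm D.P l = RedSub.wordPerm D.P l') {a a₀ : D.idx} (_ha₀ : a₀ ∈ b.support) {ε : ℤ}
    (hε : ε = 1 ∨ ε = -1) (hm : m.PMoves l' a a₀ ε) : ∃ ε' : ℤ, (ε' = 1 ∨ ε' = -1) ∧ m.PMoves l a a₀ ε' := by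
  obtain ⟨-, t, hs, e⟩ := m.prel_of_perm hl hl' h
  obtain ⟨δ, hδ, hmv⟩ := hs.moves a₀
  refine ⟨δ * ε, ?_, fun X r => ?_⟩
  · rcases hε with rfl | rfl <;> rcases hδ with rfl | rfl <;> norm_num
  have e' := congrArg (pull2 (toUnit X)) e
  rw [map_mul, m.pull_NP, m.pull_NP, m.pull_Tp] at e'
  rw [e', mul_inv_rev, show ∀ A B C : Pt2 G G' X, A * B * C * (B⁻¹ * A⁻¹) = A * (B * C * B⁻¹) * A⁻¹ from
    fun A B C => by group, hm X r, m.Tp_conj_E]
  refine congrArg (m.E a₀) ?_
  have e1 := congrArg Prod.fst (m.Tp_conj_E t a₀ ((ε : Γ(X.left, ⊤)) * r))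
  have e2 := hmv X (ptOf ((ε : Γ(X.left, ⊤)) * r))
  simp only [conj2, PMor.Tp_apply, PMor.E, Category.assoc] at e1
  rw [zpow_ep a₀ hδ, e1] at e2
  rw [Category.assoc, ep_injective a₀ e2, Int.cast_mul, _root_.mul_assoc]

/-- Combine a descent with the movement along it. -/
theorem PMor.finish {n : ℕ} (hP : m.PSign n) {l v L : List D.idx} (he : RedSub.wordPerm D.P l = RedSub.wordPerm D.P (v ++ L))
    (hin : InS D b l) (hL : InS D b L) (hlen : v.length < n) (hv' : InS D b v) {a a' a₀ : D.idx}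
    (ha' : a' ∈ b.support) (ha₀ : a₀ ∈ b.support) (hv : RedSub.wordPerm D.P v a' = a₀) {δ : ℤ}
    (hδ : δ = 1 ∨ δ = -1) (hLm : m.PMoves L a a' δ) :
    ∃ ε : ℤ, (ε = 1 ∨ ε = -1) ∧ m.PMoves l a a₀ ε := by
  obtain ⟨ε, hε, hm⟩ := hP v hlen hv' a' ha' a₀ ha₀ hv
  refine m.moves_of_perm hin (fun x hx => (List.mem_append.1 hx).elim (hv' x) (hL x)) he ha₀ (ε := ε * δ) ?_ ?_
  · rcases hε with rfl | rfl <;> rcases hδ with rfl | rfl <;> norm_num
  · intro X r
    rw [m.NP_append, mul_inv_rev, show ∀ A B C : Pt2 G G' X, A * B * C * (B⁻¹ * A⁻¹) = A * (B * C * B⁻¹) * A⁻¹ from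
      fun A B C => by group, hLm X r, hm X, Int.cast_mul, _root_.mul_assoc]

end Helpers

theorem PMor.signBelow : ∀ n : ℕ, m.PSign n := by
  have hf := m.hf
  intro n
  induction n with
  | zero => exact fun l hl => absurd hl (Nat.not_lt_zero _)
  | succ n hP =>
    intro l hl hin a ha a₀ ha₀ hla
    have hP' := hf.signBelow n
    rcases List.eq_nil_or_concat l with rfl | ⟨l₁, c, rfl⟩
    · have e : a = a₀ := by simpa [RedSub.wordPerm] using hla
      subst e
      exact ⟨1, Or.inl rfl, m.pmoves_nil a⟩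
    rw [List.concat_eq_append] at hl hin hla ⊢
    rw [List.length_append, List.length_singleton] at hl
    have hc : c ∈ b.support := hin c (List.mem_append_right _ List.mem_cons_self)
    have hin₁ : InS D b l₁ := fun x hx => hin x (List.mem_append_left _ hx)
    have hlast : ∀ k, RedSub.wordPerm D.P (l₁ ++ [c]) k = RedSub.wordPerm D.P l₁ (D.P.reflectionPerm c k) :=
      fun k => by simp [RedSub.wordPerm]
    by_cases hcase : RedSub.wordPerm D.P l₁ c ∈ (sidesOfBase D.P b).neg
    · obtain ⟨l₂, hl₂, hin₂, he⟩ := hf.exchange hP' l₁ (by omega) hin₁ c hc hcase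
      have he' : Eqv D nr (l₁ ++ [c]) l₂ := by
        refine (he.append_right [c]).trans ?_
        have := Eqv.append_left hf (hf.eqv_sq hc) l₂
        simpa [List.append_assoc] using this
      obtain ⟨ε, hε, hm⟩ := hP l₂ (by omega) hin₂ a ha a₀ ha₀ (by rw [← hla, he'.1])
      exact m.moves_of_perm hin hin₂ he'.1 ha₀ hε hm
    · have hpos := ((sidesOfBase D.P b).total _).resolve_right hcase
      rw [hlast] at hla
      have hne : a ≠ c := by
        rintro rfl
        rw [wordPerm_neg] at hla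
        exact not_pos_and_neg (hla ▸ simple_mem_pos ha₀) (neg_mem_neg (sidesOfBase D.P b) hpos)
      have A := hf.pin a ha
      have C := hf.pin c hc
      have hda := (m.hΔ a).1 ha
      have hdc := (m.hΔ c).1 hc
      have A' := m.hf'.pin _ hda
      have C' := m.hf'.pin _ hdc
      obtain ⟨k1, k2, k3, k4⟩ := m.pairing_cases' ha hc hne
      obtain ⟨-, -, k3', k4'⟩ := m.pairing_cases' hc ha (Ne.symm hne)
      have hd' : ∀ {L : List D.idx}, InS D b L → RedSub.wordPerm D.P L a = a → Moves D (pr D nr L) a a 1 →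
          Moves D' (pr D' nr' (L.map m.d)) (m.d a) (m.d a) 1 → m.PMoves L a a 1 := fun {L} hL hp h h' =>
        m.pmoves_of hL ha hp (Or.inl rfl) h h'
      rcases pairing_cases ha hc hne with ⟨h1, h2⟩ | ⟨h1, h2⟩ | ⟨h1, h2⟩ | ⟨h1, h2⟩ | ⟨h1, h2⟩ | ⟨h1, h2⟩
      · have hsp : SimplePair D b a c := ⟨ha, hc, hne⟩
        have hfix : Moves D (nr c) a a 1 := hsp.moves_fix C isComb_right isComb_left (by omega) (by omega)
          (fun d ed => by have := not_root_A1 hsp h1 ed; omega) (fun d ed => by have := not_root_A1 hsp h1 ed; omega)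
        have e0 : D.P.reflectionPerm c a = a := D.P.root.injective (by
          rw [RootPairing.root_reflectionPerm, reflection_root, h1, zero_smul, sub_zero])
        rw [e0] at hla
        obtain ⟨g1, g2⟩ := k1 ⟨h1, h2⟩
        have hsp' : SimplePair D' b' (m.d a) (m.d c) := ⟨hda, hdc, ne_map m hne⟩
        have hfix' : Moves D' (nr' (m.d c)) (m.d a) (m.d a) 1 := hsp'.moves_fix C' isComb_right isComb_left (by omega) (by omega)
          (fun x ex => by have := not_root_A1 hsp' g1 ex; omega) (fun x ex => by have := not_root_A1 hsp' g1 ex; omega)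
        exact m.finish hP (l := l₁ ++ [c]) (v := l₁) (L := [c]) rfl hin (fun x hx => List.mem_singleton.1 hx ▸ hc) (by omega) hin₁ ha ha₀ hla (Or.inl rfl) (m.pmoves_of (inS1 hc) ha (show RedSub.wordPerm D.P [c] a = a by simp [RedSub.wordPerm, e0]) (Or.inl rfl) (by simpa [pr] using hfix) (by simpa [pr] using hfix'))
      · -- A₂
        have hsp : SimplePair D b a c := ⟨ha, hc, hne⟩
        have hA : PairA2 D b a c (av a) (av c) (nr a) (nr c) := ⟨ha, hc, hne, h1, h2, A, C⟩
        have hr : IsComb D c a (D.P.reflectionPerm c a) 1 1 := by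
          rw [IsComb, hA.root_sum]; module
        obtain ⟨v, hlv, hinv, hev, hpv, hv⟩ := hf.step hP' (v := l₁) (by omega) hin₁ ha ha₀ hr le_rfl le_rfl hla hpos
        have e' : D.P.reflectionPerm a (D.P.reflectionPerm c a) = c := by
          rw [← hA.perm_eq, perm_perm]
        rw [e'] at hv
        refine m.finish hP (l := l₁ ++ [c]) ?_ hin (L := [a, c]) (inS2 ha hc) (by omega) hinv hc ha₀ hv (Or.inl rfl) ?_
        · exact ((hev.append_right [c]).trans (by rw [List.append_assoc]; exact Eqv.refl _)).1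
        · obtain ⟨g1, g2⟩ := k2 ⟨h1, h2⟩
          have hA' : PairA2 D' b' (m.d a) (m.d c) (av' _) (av' _) (nr' _) (nr' _) :=
            ⟨hda, hdc, ne_map m hne, g1, g2, A', C'⟩
          refine m.pmoves_of (inS2 ha hc) ha (by simp [RedSub.wordPerm, e']) (Or.inl rfl) (fun X x => ?_) (fun X x => ?_)
          · simpa [pr, MonObj.comp_mul, _root_.mul_assoc] using hA.conj_conj x
          · simpa [pr, MonObj.comp_mul, _root_.mul_assoc] using hA'.conj_conj x
      · -- B₂, short
        have hB : PairB2 D b a c (av a) (av c) (nr a) (nr c) := ⟨⟨ha, hc, hne⟩, h1, h2, A, C⟩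
        have hr : IsComb D c a (D.P.reflectionPerm c a) 1 1 := by
          have := hB.comb_ab; rw [IsComb] at this ⊢; rw [this]; module
        obtain ⟨v, hlv, hinv, hev, hpv, hv⟩ := hf.step hP' (v := l₁) (by omega) hin₁ ha ha₀ hr le_rfl le_rfl hla hpos
        have e : D.P.reflectionPerm a (D.P.reflectionPerm c a) = D.P.reflectionPerm c a := by
          refine D.P.root.injective ?_
          rw [hB.base.refl_B2_left h1 h2 hB.comb_ab, hB.comb_ab]; norm_num
        rw [e] at hv
        obtain ⟨v', hlv', hinv', hev', -, hv'⟩ := hf.step hP' (v := v) (by omega) hinv hc ha₀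
          (x := a) (y := c) hB.comb_ab le_rfl le_rfl hv hpv
        rw [perm_perm] at hv'
        refine m.finish hP (l := l₁ ++ [c]) (Eqv.trans (D := D) (hev.append_right [c]) ?_).1 hin (L := [c, a, c]) (inS3 hc ha) (by omega) hinv' ha ha₀ hv' (Or.inl rfl) ?_
        · have := hev'.append_right [a, c]
          simpa [List.append_assoc] using this
        · refine hd' (inS3 hc ha) (by simp [RedSub.wordPerm, e, perm_perm])
            (by simpa [pr, _root_.mul_assoc] using hB.moves_short) ?_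
          rcases k3 ⟨h1, h2⟩ with ⟨g1, g2, -⟩ | ⟨g1, g2, -⟩
          · simpa [pr, _root_.mul_assoc] using (show PairB2 D' b' (m.d a) (m.d c) (av' _) (av' _) (nr' _) (nr' _) from
              ⟨⟨hda, hdc, ne_map m hne⟩, g1, g2, A', C'⟩).moves_short
          · simpa [pr, _root_.mul_assoc] using (show PairB2 D' b' (m.d c) (m.d a) (av' _) (av' _) (nr' _) (nr' _) from
              ⟨⟨hdc, hda, (ne_map m hne).symm⟩, g2, g1, C', A'⟩).moves_long
      · -- B₂, long
        have hB : PairB2 D b c a (av c) (av a) (nr c) (nr a) := ⟨⟨hc, ha, Ne.symm hne⟩, h2, h1, C, A⟩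
        obtain ⟨v, hlv, hinv, hev, hpv, hv⟩ := hf.step hP' (v := l₁) (by omega) hin₁ ha ha₀
          (x := c) (y := a) hB.comb_aab (by norm_num) le_rfl hla hpos
        have e : D.P.reflectionPerm a (D.P.reflectionPerm c a) = D.P.reflectionPerm c a := by
          refine D.P.root.injective ?_
          rw [hB.base.refl_B2_right h2 h1 hB.comb_aab, hB.comb_aab]; norm_num
        rw [e] at hv
        have hr' : IsComb D a c (D.P.reflectionPerm c a) 1 2 := by
          have := hB.comb_aab; rw [IsComb] at this ⊢; rw [this]; module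
        obtain ⟨v', hlv', hinv', hev', -, hv'⟩ := hf.step hP' (v := v) (by omega) hinv hc ha₀ hr' le_rfl (by norm_num) hv hpv
        rw [perm_perm] at hv'
        refine m.finish hP (l := l₁ ++ [c]) (Eqv.trans (D := D) (hev.append_right [c]) ?_).1 hin (L := [c, a, c]) (inS3 hc ha) (by omega) hinv' ha ha₀ hv' (Or.inl rfl) ?_
        · have := hev'.append_right [a, c]
          simpa [List.append_assoc] using this
        · refine hd' (inS3 hc ha) (by simp [RedSub.wordPerm, e, perm_perm])
            (by simpa [pr, _root_.mul_assoc] using hB.moves_long) ?_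
          rcases k3' ⟨h2, h1⟩ with ⟨g1, g2, -⟩ | ⟨g1, g2, -⟩
          · simpa [pr, _root_.mul_assoc] using (show PairB2 D' b' (m.d c) (m.d a) (av' _) (av' _) (nr' _) (nr' _) from
              ⟨⟨hdc, hda, (ne_map m hne).symm⟩, g1, g2, C', A'⟩).moves_long
          · simpa [pr, _root_.mul_assoc] using (show PairB2 D' b' (m.d a) (m.d c) (av' _) (av' _) (nr' _) (nr' _) from
              ⟨⟨hda, hdc, ne_map m hne⟩, g2, g1, A', C'⟩).moves_short
      · -- G₂, short
        have hG : PairG2 D b a c (av a) (av c) (nr a) (nr c) := ⟨⟨ha, hc, hne⟩, h1, h2, A, C⟩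
        have swap : ∀ {d : D.idx} {i j : ℤ}, IsComb D a c d i j → IsComb D c a d j i := fun {d i j} e => by
          rw [IsComb] at e ⊢; rw [e]; module
        obtain ⟨v1, hl1, hin1, he1, hp1, hv1⟩ := hf.step hP' (v := l₁) (by omega) hin₁ ha ha₀
          (swap hG.comb11) le_rfl le_rfl hla hpos
        obtain ⟨v2, hl2, hin2, he2, hp2, hv2⟩ := hf.step hP' (v := v1) (by omega) hin1 hc ha₀
          (x := a) (y := c) hG.comb21 (by norm_num) le_rfl hv1 hp1
        have e : D.P.reflectionPerm c (D.P.reflectionPerm a (D.P.reflectionPerm c a)) =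
            D.P.reflectionPerm a (D.P.reflectionPerm c a) := by
          refine D.P.root.injective ?_
          rw [hG.base.refl_G2_right h1 h2 hG.comb21, hG.comb21]; norm_num
        rw [e] at hv2
        obtain ⟨v3, hl3, hin3, he3, hp3, hv3⟩ := hf.step hP' (v := v2) (by omega) hin2 ha ha₀
          (swap hG.comb21) le_rfl (by norm_num) hv2 hp2
        rw [perm_perm] at hv3
        obtain ⟨v4, hl4, hin4, he4, -, hv4⟩ := hf.step hP' (v := v3) (by omega) hin3 hc ha₀
          (x := a) (y := c) hG.comb11 le_rfl le_rfl hv3 hp3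
        rw [perm_perm] at hv4
        refine m.finish hP (l := l₁ ++ [c]) (((he1.trans ((he2.trans ((he3.trans ((he4.append_right [a]))).append_right [c])).append_right
          [a])).append_right [c]).trans ?_).1 hin (L := [c, a, c, a, c]) (inS5 hc ha) (by omega) hin4 ha ha₀ hv4 (Or.inl rfl) ?_
        · simp only [List.append_assoc, List.cons_append, List.nil_append]; exact Eqv.refl _
        · refine hd' (inS5 hc ha) (by simp [RedSub.wordPerm, e, perm_perm])
            (by simpa [pr, _root_.mul_assoc] using hG.moves_short) ?_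
          rcases k4 ⟨h1, h2⟩ with ⟨g1, g2, -⟩ | ⟨g1, g2, -⟩
          · simpa [pr, _root_.mul_assoc] using (show PairG2 D' b' (m.d a) (m.d c) (av' _) (av' _) (nr' _) (nr' _) from
              ⟨⟨hda, hdc, ne_map m hne⟩, g1, g2, A', C'⟩).moves_short
          · simpa [pr, _root_.mul_assoc] using (show PairG2 D' b' (m.d c) (m.d a) (av' _) (av' _) (nr' _) (nr' _) from
              ⟨⟨hdc, hda, (ne_map m hne).symm⟩, g2, g1, C', A'⟩).moves_long
      · -- G₂, long
        have hG : PairG2 D b c a (av c) (av a) (nr c) (nr a) := ⟨⟨hc, ha, Ne.symm hne⟩, h2, h1, C, A⟩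
        have swap : ∀ {d : D.idx} {i j : ℤ}, IsComb D c a d i j → IsComb D a c d j i := fun {d i j} e => by
          rw [IsComb] at e ⊢; rw [e]; module
        obtain ⟨v1, hl1, hin1, he1, hp1, hv1⟩ := hf.step hP' (v := l₁) (by omega) hin₁ ha ha₀
          (x := c) (y := a) hG.comb31 (by norm_num) le_rfl hla hpos
        obtain ⟨v2, hl2, hin2, he2, hp2, hv2⟩ := hf.step hP' (v := v1) (by omega) hin1 hc ha₀
          (swap hG.comb32) (by norm_num) (by norm_num) hv1 hp1
        have e : D.P.reflectionPerm c (D.P.reflectionPerm a (D.P.reflectionPerm c a)) =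
            D.P.reflectionPerm a (D.P.reflectionPerm c a) := by
          refine D.P.root.injective ?_
          rw [hG.base.refl_G2_left h2 h1 hG.comb32, hG.comb32]; norm_num
        rw [e] at hv2
        obtain ⟨v3, hl3, hin3, he3, hp3, hv3⟩ := hf.step hP' (v := v2) (by omega) hin2 ha ha₀
          (x := c) (y := a) hG.comb32 (by norm_num) (by norm_num) hv2 hp2
        rw [perm_perm] at hv3
        obtain ⟨v4, hl4, hin4, he4, -, hv4⟩ := hf.step hP' (v := v3) (by omega) hin3 hc ha₀
          (swap hG.comb31) le_rfl (by norm_num) hv3 hp3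
        rw [perm_perm] at hv4
        refine m.finish hP (l := l₁ ++ [c]) (((he1.trans ((he2.trans ((he3.trans ((he4.append_right [a]))).append_right [c])).append_right
          [a])).append_right [c]).trans ?_).1 hin (L := [c, a, c, a, c]) (inS5 hc ha) (by omega) hin4 ha ha₀ hv4 (Or.inl rfl) ?_
        · simp only [List.append_assoc, List.cons_append, List.nil_append]; exact Eqv.refl _
        · refine hd' (inS5 hc ha) (by simp [RedSub.wordPerm, e, perm_perm])
            (by simpa [pr, _root_.mul_assoc] using hG.moves_long) ?_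
          rcases k4' ⟨h2, h1⟩ with ⟨g1, g2, -⟩ | ⟨g1, g2, -⟩
          · simpa [pr, _root_.mul_assoc] using (show PairG2 D' b' (m.d c) (m.d a) (av' _) (av' _) (nr' _) (nr' _) from
              ⟨⟨hdc, hda, (ne_map m hne).symm⟩, g1, g2, C', A'⟩).moves_long
          · simpa [pr, _root_.mul_assoc] using (show PairG2 D' b' (m.d a) (m.d c) (av' _) (av' _) (nr' _) (nr' _) from
              ⟨⟨hda, hdc, ne_map m hne⟩, g2, g1, A', C'⟩).moves_short

/-- **A word carrying a simple root to a simple root moves the pair by a sign.** -/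
theorem PMor.exists_sign {l : List D.idx} (hl : InS D b l) {a a₀ : D.idx} (ha : a ∈ b.support) (ha₀ : a₀ ∈ b.support)
    (h : RedSub.wordPerm D.P l a = a₀) : ∃ ε : ℤ, (ε = 1 ∨ ε = -1) ∧ m.PMoves l a a₀ ε :=
  m.signBelow _ l (Nat.lt_succ_self _) hl a ha a₀ ha₀ h

end Bruhat

end
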