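import Groth.Agent.BruhatLib.PMorSign

/-!
# The pairs of all root groups of a morphism of pinned root data
-/

set_option autoImplicit false
set_option linter.style.haveILetI false
set_option linter.unusedSectionVars false
set_option backward.isDefEq.respectTransparency false
set_option maxHeartbeats 1000000
set_option synthInstance.maxHeartbeats 400000

universe u

open CategoryTheory CategoryTheory.Limits MonoidalCategory CartesianMonoidalCategory AlgebraicGeometry
open Groth.Agent.GaPts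
open Groth.Agent
open Groth.Agent.RankOne (eq_ptOf eq_ptOfUnit comp_ptOf ptOf_add)
open scoped MonObj

noncomputable section

attribute [-instance] CategoryTheory.Hom.commGroup

namespace Bruhat

open SplitCell SplitFib RootSubgrp

variable {S : Scheme.{u}} {G G' : Over S} [GrpObj G] [GrpObj G'] [Nonempty S]
  {D : Red.SplitRed G} {D' : Red.SplitRed G'} {b : D.P.Base} {b' : D'.P.Base}
  {av : D.idx → (Red.Gm S ⟶ D.T)} {av' : D'.idx → (Red.Gm S ⟶ D'.T)}
  {nr : D.idx → (𝟙_ (Over S) ⟶ G)} {nr' : D'.idx → (𝟙_ (Over S) ⟶ G')}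
  (m : PMor D D' b b' av av' nr nr')

/-- The Weyl element carries the whole root group to the opposite one. -/
theorem Pin.conj_self {a : D.idx} {va : Red.Gm S ⟶ D.T} {w : 𝟙_ (Over S) ⟶ G} (A : Pin D a va w) {X : Over S}
    (r : Γ(X.left, ⊤)) :
    (toUnit X ≫ w) * ep D a r * (toUnit X ≫ w)⁻¹ = ep D (D.P.reflectionPerm a a) (-r) := by
  have key : ∀ (Y : Over S) (z : (Γ(Y.left, ⊤))ˣ),
      (toUnit Y ≫ w) * ep D a ((z : Γ(Y.left, ⊤)) - 1) * (toUnit Y ≫ w)⁻¹ =
        ep D (D.P.reflectionPerm a a) (-((z : Γ(Y.left, ⊤)) - 1)) := by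
    intro Y z
    let d := A.setup.data Y
    have e := weyl_conj_of_unit (P := d.P) (M := d.M) (h := d.tor.comp d.c) d.P_add d.M_add
      (fun v x => by
        have h := d.conjP (d.c v) x
        rw [mul_inv_eq_iff_eq_mul, d.a_c, Units.val_pow_eq_pow_val] at h
        exact h)
      (fun x y v hv => d.F x y v hv) ((z : Γ(Y.left, ⊤)) - 1) z (by ring)
    have hw : toUnit Y ≫ w = d.P 1 * (d.M 1)⁻¹ * d.P 1 := by
      refine (congrArg (toUnit Y ≫ ·) A.hw).trans ?_
      simp only [MonObj.comp_mul, GrpObj.comp_inv, ← Category.assoc, comp_ptOf, map_one]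
      rfl
    rw [hw]
    exact e
  obtain ⟨X', π, z, z', hπ, hy⟩ := exists_unitCover X (-r)
  haveI := hπ
  rw [← cancel_epi π]
  rw [MonObj.comp_mul, MonObj.comp_mul, GrpObj.comp_inv, comp_ep, comp_ep, map_neg, ← Category.assoc π,
    Subsingleton.elim (π ≫ toUnit X) (toUnit X')]
  have e : π.left.appTop r = ((z : Γ(X'.left, ⊤)) - 1) + ((z' : Γ(X'.left, ⊤)) - 1) := by
    rw [map_neg] at hy; linear_combination -hy
  rw [e, ep_add, neg_add, ep_add, ← key X' z, ← key X' z']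
  group

theorem PMor.Tp_conj_E' {X : Over S} (t : X ⟶ D.T) (k : D.idx) (r : Γ(X.left, ⊤)) :
    m.Tp t * m.E k r * (m.Tp t)⁻¹ =
      m.E k (Red.gmFn (t ≫ D.split.hom.hom.hom ≫ Red.chi S (D.P.root k)) * r) := by
  rw [conj2]
  refine Prod.ext ?_ ?_
  · obtain ⟨y, hy, he⟩ := (D.rootHom k).2.2 X t (ptOf r)
    rw [gaFn_ptOf] at he
    exact hy.symm.trans (by rw [eq_ptOf y he]; rfl)
  · obtain ⟨y, hy, he⟩ := (D'.rootHom (m.d k)).2.2 X (t ≫ m.phi) (ptOf (r ^ m.q k))
    rw [gaFn_ptOf, m.chi_phi, ← mul_pow] at he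
    exact hy.symm.trans (by rw [eq_ptOf y he]; rfl)

theorem PMor.conj_Tp_word (l : List D.idx) {X : Over S} (t : X ⟶ D.T) :
    m.NP l X * m.Tp t * (m.NP l X)⁻¹ = m.Tp (tWord l t) := by
  induction l with
  | nil =>
    have e : tWord ([] : List D.idx) t = t := torus_ext (by rw [chars_tWord]; exact MonoidHom.ext fun x => rfl)
    rw [m.NP_nil, _root_.one_mul, inv_one, _root_.mul_one, e]
  | cons a l ih =>
    have e : tWord (a :: l) t = tRefl a (tWord l t) := by
      refine torus_ext ?_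
      rw [chars_tWord, chars_tRefl, chars_tWord]
      refine MonoidHom.ext fun x => ?_
      obtain ⟨x, rfl⟩ := Multiplicative.ofAdd.surjective x
      show MultSubLib.chars _ (Multiplicative.ofAdd (wordLin D (a :: l) x)) =
        MultSubLib.chars _ (Multiplicative.ofAdd (wordLin D l (D.P.reflection a x)))
      rw [wordLin_cons]
    rw [e, m.NP_cons, ← m.conj_Tp, ← ih]
    group

section System

/-- A simple root and a word carrying it to the given root. -/
def PMor.rep (_m : PMor D D' b b' av av' nr nr') (c : D.idx) : List D.idx × D.idx :=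
  Classical.choose (exists_rep b c)

theorem PMor.rep_spec (c : D.idx) : InS D b (m.rep c).1 ∧ (m.rep c).2 ∈ b.support ∧
    RedSub.wordPerm D.P (m.rep c).1 (m.rep c).2 = c ∧ (c ∈ b.support → m.rep c = ([], c)) :=
  Classical.choose_spec (exists_rep b c)

/-- The Chevalley system of the source. -/
def PMor.vS (c : D.idx) : Red.Ga S ⟶ G := sysHom nr (m.rep c).1 (m.rep c).2

theorem PMor.hv (c : D.idx) : Red.IsRootHom D.i (D.split.hom.hom.hom ≫ Red.chi S (D.P.root c)) (m.vS c) := by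
  have h := m.hf.isRootHom_sysHom (m.rep c).1 (m.rep c).2
  rwa [(m.rep_spec c).2.2.1] at h

/-- The source splitting with the Chevalley system. -/
@[reducible] def PMor.D2 : Red.SplitRed G := withU D m.vS m.hv

/-- The pair of a point of any root group. -/
def PMor.Ev (c : D.idx) {X : Over S} (r : Γ(X.left, ⊤)) : Pt2 G G' X :=
  m.NP (m.rep c).1 X * m.E (m.rep c).2 r * (m.NP (m.rep c).1 X)⁻¹

/-- The images of the root groups. -/
def PMor.fS (c : D.idx) : Red.Ga S ⟶ G' := (m.Ev c (Red.gaFn (𝟙 (Red.Ga S)))).2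

theorem PMor.pull_Ev {X X' : Over S} (g : X' ⟶ X) (c : D.idx) (r : Γ(X.left, ⊤)) :
    pull2 g (m.Ev c r) = m.Ev c (g.left.appTop r) := by
  simp only [PMor.Ev, map_mul, map_inv, m.pull_NP, m.pull_E]

theorem PMor.Ev_fst (c : D.idx) {X : Over S} (r : Γ(X.left, ⊤)) :
    (m.Ev c r).1 = (ptOf r : X ⟶ Red.Ga S) ≫ m.vS c := by
  rw [PMor.vS, comp_sysHom]
  rfl

theorem PMor.Ev_snd (c : D.idx) {X : Over S} (r : Γ(X.left, ⊤)) :
    (m.Ev c r).2 = (ptOf r : X ⟶ Red.Ga S) ≫ m.fS c := by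
  have h := congrArg Prod.snd (m.pull_Ev (ptOf r : X ⟶ Red.Ga S) c (Red.gaFn (𝟙 (Red.Ga S))))
  rw [pull2_apply] at h
  rw [PMor.fS]
  refine Eq.trans ?_ h.symm
  congr 2
  rw [← gaFn_comp, Category.comp_id, gaFn_ptOf]

theorem PMor.Ev_eq (c : D.idx) {X : Over S} (x : X ⟶ Red.Ga S) :
    m.Ev c (Red.gaFn x) = (x ≫ m.vS c, x ≫ m.fS c) := by
  refine Prod.ext ?_ ?_
  · rw [m.Ev_fst, ← eq_ptOf x rfl]
  · rw [m.Ev_snd, ← eq_ptOf x rfl]

theorem PMor.Ev_injective (c : D.idx) {X : Over S} : Function.Injective (m.Ev c : Γ(X.left, ⊤) → Pt2 G G' X) :=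
  fun r s e => by
    have h := congrArg Prod.fst e
    rw [m.Ev_fst, m.Ev_fst] at h
    exact ep_injective (D := m.D2) c h

theorem PMor.Ev_add (c : D.idx) {X : Over S} (r s : Γ(X.left, ⊤)) : m.Ev c (r + s) = m.Ev c r * m.Ev c s := by
  simp only [PMor.Ev, m.E_add]
  group

theorem PMor.Ev_zero (c : D.idx) {X : Over S} : m.Ev c (0 : Γ(X.left, ⊤)) = 1 := by
  have h := m.Ev_add c (0 : Γ(X.left, ⊤)) 0
  rwa [add_zero, left_eq_mul] at h

theorem PMor.Ev_neg (c : D.idx) {X : Over S} (r : Γ(X.left, ⊤)) : m.Ev c (-r) = (m.Ev c r)⁻¹ := by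
  refine eq_inv_of_mul_eq_one_left ?_
  rw [← m.Ev_add, neg_add_cancel, m.Ev_zero]

theorem PMor.Ev_simple {a : D.idx} (ha : a ∈ b.support) {X : Over S} (r : Γ(X.left, ⊤)) :
    m.Ev a r = m.E a r := by
  rw [PMor.Ev, (m.rep_spec a).2.2.2 ha, m.NP_nil, _root_.one_mul, inv_one, _root_.mul_one]

/-- The torus acts on the pairs of a root group through the root. -/
theorem PMor.Tp_conj_Ev (c : D.idx) {X : Over S} (t : X ⟶ D.T) (r : Γ(X.left, ⊤)) :
    m.Tp t * m.Ev c r * (m.Tp t)⁻¹ =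
      m.Ev c (Red.gmFn (t ≫ D.split.hom.hom.hom ≫ Red.chi S (D.P.root c)) * r) := by
  obtain ⟨-, -, hp, -⟩ := m.rep_spec c
  set l := (m.rep c).1
  set a := (m.rep c).2
  let s : X ⟶ D.T :=
    t ≫ D.split.hom.hom.hom ≫ Red.DSmap S (wordLin D l).symm.toLinearMap.toAddMonoidHom ≫ D.split.inv.hom.hom
  have e0 : D.split.inv.hom.hom ≫ D.split.hom.hom.hom = 𝟙 _ := congrArg (fun q => q.hom.hom) D.split.inv_hom_id
  have hs : ∀ x, MultSubLib.chars (s ≫ D.split.hom.hom.hom) (Multiplicative.ofAdd x) =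
      MultSubLib.chars (t ≫ D.split.hom.hom.hom) (Multiplicative.ofAdd ((wordLin D l).symm x)) := fun x => by
    simp only [s, Category.assoc, e0, Category.comp_id]
    rw [← Category.assoc t, Groth.Agent.DSImg.chars_comp_DSmap]
    rfl
  have ht : tWord l s = t := by
    refine torus_ext (MonoidHom.ext fun x => ?_)
    obtain ⟨x, rfl⟩ := Multiplicative.ofAdd.surjective x
    rw [chars_tWord]
    refine (hs (wordLin D l x)).trans ?_
    rw [LinearEquiv.symm_apply_apply]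
  have hchi : Red.gmFn (s ≫ D.split.hom.hom.hom ≫ Red.chi S (D.P.root a)) =
      Red.gmFn (t ≫ D.split.hom.hom.hom ≫ Red.chi S (D.P.root c)) := by
    rw [← Category.assoc, gmFn_chi, hs, ← Category.assoc t, gmFn_chi]
    congr 2
    rw [LinearEquiv.symm_apply_eq, wordLin_root, ← hp, Equiv.symm_apply_apply]
  show m.Tp t * (m.NP l X * m.E a r * (m.NP l X)⁻¹) * (m.Tp t)⁻¹ = m.NP l X * m.E a _ * (m.NP l X)⁻¹
  rw [← hchi, ← m.Tp_conj_E' s a r, ← ht, ← m.conj_Tp_word l s]
  group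

omit [Nonempty S] in
theorem conj_mul3 {M : Type*} [Group M] (A B C : M) : A * B * C * (A * B)⁻¹ = A * (B * C * B⁻¹) * A⁻¹ := by group

/-- **A word moves the pairs of the root groups by signs.** -/
theorem PMor.exists_conj_Ev {l : List D.idx} (hl : InS D b l) (c : D.idx) :
    ∃ ε : ℤ, (ε = 1 ∨ ε = -1) ∧ ∀ (X : Over S) (r : Γ(X.left, ⊤)),
      m.NP l X * m.Ev c r * (m.NP l X)⁻¹ = m.Ev (RedSub.wordPerm D.P l c) ((ε : Γ(X.left, ⊤)) * r) := by
  obtain ⟨hlc, hac, hpc, -⟩ := m.rep_spec c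
  set k := RedSub.wordPerm D.P l c with hk
  obtain ⟨hlk, hak, hpk, -⟩ := m.rep_spec k
  set lc := (m.rep c).1
  set ac := (m.rep c).2
  set lk := (m.rep k).1
  set ak := (m.rep k).2
  have hrev : InS D b lk.reverse := fun x hx => hlk x (List.mem_reverse.1 hx)
  have hkk : RedSub.wordPerm D.P lk.reverse * RedSub.wordPerm D.P lk = 1 := by
    have := (m.hf.eqv_reverse hlk).1
    rw [wordPerm_append] at this
    simpa [RedSub.wordPerm] using this
  set L := lk.reverse ++ (l ++ lc) with hL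
  have hLin : InS D b L := fun x hx => by
    simp only [hL, List.mem_append] at hx
    rcases hx with hx | hx | hx
    exacts [hrev x hx, hl x hx, hlc x hx]
  have hLa : RedSub.wordPerm D.P L ac = ak := by
    rw [hL, wordPerm_append, wordPerm_append, Equiv.Perm.mul_apply, Equiv.Perm.mul_apply, hpc, ← hk, ← hpk,
      ← Equiv.Perm.mul_apply, hkk, Equiv.Perm.one_apply]
  obtain ⟨ε, hε, hm⟩ := m.exists_sign hLin hac hak hLa
  have hperm : RedSub.wordPerm D.P (l ++ lc) = RedSub.wordPerm D.P (lk ++ L) := by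
    rw [hL, wordPerm_append lk, wordPerm_append lk.reverse, ← _root_.mul_assoc, mul_eq_one_comm.1 hkk,
      _root_.one_mul]
  obtain ⟨-, t, ⟨t', ht', hts⟩, e⟩ := m.prel_of_perm (fun x hx => (List.mem_append.1 hx).elim (hl x) (hlc x))
    (fun x hx => (List.mem_append.1 hx).elim (hlk x) (hLin x)) hperm
  haveI := mono_i D
  obtain rfl : t = t' := (cancel_mono D.i).1 ht'
  obtain ⟨δ, hδ, hχ⟩ : ∃ δ : ℤ, (δ = 1 ∨ δ = -1) ∧
      MultSubLib.chars (t ≫ D.split.hom.hom.hom) (Multiplicative.ofAdd (D.P.root k)) = (δ : Γ((𝟙_ (Over S)).left, ⊤)) := by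
    rcases hts (D.P.root k) with h | h
    · exact ⟨1, Or.inl rfl, by rw [h, Int.cast_one]⟩
    · exact ⟨-1, Or.inr rfl, by rw [h, Int.cast_neg, Int.cast_one]⟩
  refine ⟨δ * ε, ?_, fun X r => ?_⟩
  · rcases hε with rfl | rfl <;> rcases hδ with rfl | rfl <;> norm_num
  have e' := congrArg (pull2 (toUnit X)) e
  rw [map_mul, m.pull_NP, m.pull_NP, m.pull_Tp, m.NP_append, m.NP_append lk] at e'
  have hχ' : Red.gmFn ((toUnit X ≫ t) ≫ D.split.hom.hom.hom ≫ Red.chi S (D.P.root k)) = (δ : Γ(X.left, ⊤)) := by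
    rw [← Category.assoc, gmFn_chi, Category.assoc, MultSubLib.chars_comp]
    show (toUnit X).left.appTop (MultSubLib.chars (t ≫ D.split.hom.hom.hom) (Multiplicative.ofAdd (D.P.root k))) = _
    rw [hχ, map_intCast]
  show m.NP l X * (m.NP lc X * m.E ac r * (m.NP lc X)⁻¹) * (m.NP l X)⁻¹ = _
  have key := m.Tp_conj_Ev k (toUnit X ≫ t) ((ε : Γ(X.left, ⊤)) * r)
  rw [hχ'] at key
  rw [← conj_mul3, e', conj_mul3, conj_mul3, hm X r, Int.cast_mul, _root_.mul_assoc (δ : Γ(X.left, ⊤)), ← key]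
  rfl

/-- The pair of the opposite root group of a simple root. -/
theorem PMor.exists_Ev_neg {a : D.idx} (ha : a ∈ b.support) :
    ∃ ε : ℤ, (ε = 1 ∨ ε = -1) ∧ ∀ (X : Over S) (r : Γ(X.left, ⊤)),
      m.Ev (D.P.reflectionPerm a a) ((ε : Γ(X.left, ⊤)) * r) = m.E (D.P.reflectionPerm a a) r := by
  obtain ⟨ε, hε, h⟩ := m.exists_conj_Ev (inS1 ha) a
  refine ⟨-ε, by omega, fun X r => ?_⟩
  have e := h X (-r)
  simp only [show RedSub.wordPerm D.P [a] a = D.P.reflectionPerm a a by simp [RedSub.wordPerm]] at e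
  rw [show ((-ε : ℤ) : Γ(X.left, ⊤)) * r = (ε : Γ(X.left, ⊤)) * -r by push_cast; ring, ← e, m.Ev_simple ha, conj2]
  refine Prod.ext ?_ ?_
  · show (toUnit X ≫ ([a].map nr).prod) * ep D a (-r) * (toUnit X ≫ ([a].map nr).prod)⁻¹ = ep D _ r
    simp only [List.map_cons, List.map_nil, List.prod_cons, List.prod_nil, _root_.mul_one]
    rw [(m.hf.pin a ha).conj_self, neg_neg]
  · show (toUnit X ≫ (([a].map m.d).map nr').prod) * ep D' (m.d a) ((-r) ^ m.q a) *
      (toUnit X ≫ (([a].map m.d).map nr').prod)⁻¹ = ep D' (m.d (D.P.reflectionPerm a a)) (r ^ m.q (D.P.reflectionPerm a a))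
    simp only [List.map_cons, List.map_nil, List.prod_cons, List.prod_nil, _root_.mul_one]
    rw [(m.hf'.pin _ ((m.hΔ a).1 ha)).conj_self, (m.d_refl a a).1, (m.d_refl a a).2, m.q_neg, neg_neg]

end System

end Bruhat

end
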