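import Groth.Agent.BruhatLib.PMorComm

/-!
# The pairs over a side of the roots
-/

set_option autoImplicit false
set_option linter.style.haveILetI false
set_option linter.unusedSectionVars false
set_option backward.isDefEq.respectTransparency false
set_option maxHeartbeats 1000000
set_option synthInstance.maxHeartbeats 400000

universe u

open CategoryTheory CategoryTheory.Limits MonoidalCategory CartesianMonoidalCategory AlgebraicGeometry
open Groth.Agent.GaPts
open Groth.Agent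
open Groth.Agent.RankOne (eq_ptOf eq_ptOfUnit comp_ptOf ptOf_add)
open scoped MonObj

noncomputable section

attribute [-instance] CategoryTheory.Hom.commGroup

namespace Bruhat

open SplitCell SplitFib RootSubgrp

variable {S : Scheme.{u}} {G G' : Over S} [GrpObj G] [GrpObj G'] [Nonempty S]
  {D : Red.SplitRed G} {D' : Red.SplitRed G'} {b : D.P.Base} {b' : D'.P.Base}
  {av : D.idx → (Red.Gm S ⟶ D.T)} {av' : D'.idx → (Red.Gm S ⟶ D'.T)}
  {nr : D.idx → (𝟙_ (Over S) ⟶ G)} {nr' : D'.idx → (𝟙_ (Over S) ⟶ G')}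
  (m : PMor D D' b b' av av' nr nr')

/-- The subgroup of pairs generated by a set of roots. -/
def PMor.KS (R : Set D.idx) (X : Over S) : Subgroup (Pt2 G G' X) :=
  Subgroup.closure {p | ∃ k ∈ R, ∃ z : Γ(X.left, ⊤), p = m.Ev k z}

theorem PMor.Ev_mem {R : Set D.idx} {k : D.idx} (hk : k ∈ R) {X : Over S} (z : Γ(X.left, ⊤)) :
    m.Ev k z ∈ m.KS R X :=
  Subgroup.subset_closure ⟨k, hk, z, rfl⟩

theorem PMor.KS_mono {R R' : Set D.idx} (h : R ⊆ R') (X : Over S) : m.KS R X ≤ m.KS R' X :=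
  Subgroup.closure_mono fun _ ⟨k, hk, z, e⟩ => ⟨k, h hk, z, e⟩

/-- Conjugation by a pair preserves the subgroup if it does so on the generators. -/
theorem PMor.conj_KS_mem {R R' : Set D.idx} {X : Over S} (g : Pt2 G G' X)
    (h : ∀ k ∈ R, ∀ z : Γ(X.left, ⊤), g * m.Ev k z * g⁻¹ ∈ m.KS R' X) {p : Pt2 G G' X} (hp : p ∈ m.KS R X) :
    g * p * g⁻¹ ∈ m.KS R' X := by
  induction hp using Subgroup.closure_induction with
  | mem p hp => obtain ⟨k, hk, z, rfl⟩ := hp; exact h k hk z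
  | one => simp
  | mul p p' _ _ hp hp' =>
    rw [show g * (p * p') * g⁻¹ = (g * p * g⁻¹) * (g * p' * g⁻¹) by group]; exact mul_mem hp hp'
  | inv p _ hp => rw [show g * p⁻¹ * g⁻¹ = (g * p * g⁻¹)⁻¹ by group]; exact inv_mem hp

theorem PMor.Tp_conj_KS {R : Set D.idx} {X : Over S} (t : X ⟶ D.T) {p : Pt2 G G' X} (hp : p ∈ m.KS R X) :
    m.Tp t * p * (m.Tp t)⁻¹ ∈ m.KS R X :=
  m.conj_KS_mem _ (fun k hk z => by rw [m.Tp_conj_Ev]; exact m.Ev_mem hk _) hp

theorem PMor.pull_KS {R : Set D.idx} {X X' : Over S} (π : X' ⟶ X) {p : Pt2 G G' X} (hp : p ∈ m.KS R X) :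
    pull2 π p ∈ m.KS R X' := by
  induction hp using Subgroup.closure_induction with
  | mem p hp => obtain ⟨k, hk, z, rfl⟩ := hp; rw [m.pull_Ev]; exact m.Ev_mem hk _
  | one => simp
  | mul p p' _ _ hp hp' => rw [map_mul]; exact mul_mem hp hp'
  | inv p _ hp => rw [map_inv]; exact inv_mem hp

/-- Roots of a side are not proportional. -/
theorem li_of_pos {g : D.M →ₗ[ℤ] ℤ} {c e : D.idx} (hc : 0 < g (D.P.root c)) (he : 0 < g (D.P.root e)) (hne : c ≠ e) :
    LinearIndependent ℤ ![D.P.root c, D.P.root e] := by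
  haveI := SplitFib.isReduced_root D
  refine RootPairing.IsReduced.linearIndependent (P := D.P) hne fun h => ?_
  rw [h, map_neg] at hc
  omega

/-- A root of a set closed under combinations normalises it. -/
theorem PMor.conj_Ev_KS {R : Set D.idx} {k : D.idx}
    (hli : ∀ c ∈ R, LinearIndependent ℤ ![D.P.root k, D.P.root c])
    (hcl : ∀ c ∈ R, ∀ (d : D.idx) (i j : ℤ), IsComb D k c d i j → 1 ≤ i → 1 ≤ j → d ∈ R)
    {X : Over S} (r : Γ(X.left, ⊤)) {p : Pt2 G G' X} (hp : p ∈ m.KS R X) :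
    m.Ev k r * p * (m.Ev k r)⁻¹ ∈ m.KS R X := by
  refine m.conj_KS_mem _ (fun c hc z => ?_) hp
  have h := m.comm_of_li (hli c hc) X r z
  have hle : Subgroup.closure (m.gen k c X) ≤ m.KS R X := by
    refine (Subgroup.closure_le _).2 ?_
    rintro q ⟨d, i, j, w, hd, hi, hj, rfl⟩
    exact m.Ev_mem (hcl c hc d i j hd hi hj) w
  have e : m.Ev k r * m.Ev c z * (m.Ev k r)⁻¹ =
      (m.Ev k r * m.Ev c z * (m.Ev k r)⁻¹ * (m.Ev c z)⁻¹) * m.Ev c z := (inv_mul_cancel_right _ _).symm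
  rw [e]
  exact mul_mem (hle h) (m.Ev_mem hc z)

/-- Elements of the subgroup of one root and a subgroup which it normalises split. -/
theorem PMor.exists_split_root {R : Set D.idx} {k : D.idx}
    (hli : ∀ c ∈ R, LinearIndependent ℤ ![D.P.root k, D.P.root c])
    (hcl : ∀ c ∈ R, ∀ (d : D.idx) (i j : ℤ), IsComb D k c d i j → 1 ≤ i → 1 ≤ j → d ∈ R)
    {X : Over S} {p : Pt2 G G' X} (hp : p ∈ m.KS (insert k R) X) :
    ∃ (r : Γ(X.left, ⊤)) (q : Pt2 G G' X), q ∈ m.KS R X ∧ p = m.Ev k r * q := by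
  let P : Subgroup (Pt2 G G' X) :=
    { carrier := {p | ∃ (r : Γ(X.left, ⊤)) (q : Pt2 G G' X), q ∈ m.KS R X ∧ p = m.Ev k r * q}
      one_mem' := ⟨0, 1, one_mem _, by rw [m.Ev_zero, _root_.one_mul]⟩
      mul_mem' := by
        rintro _ _ ⟨r, q, hq, rfl⟩ ⟨r', q', hq', rfl⟩
        refine ⟨r + r', (m.Ev k (-r') * q * (m.Ev k (-r'))⁻¹) * q', mul_mem (m.conj_Ev_KS hli hcl _ hq) hq', ?_⟩
        rw [m.Ev_add, m.Ev_neg]
        group
      inv_mem' := by
        rintro _ ⟨r, q, hq, rfl⟩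
        refine ⟨-r, m.Ev k r * q⁻¹ * (m.Ev k r)⁻¹, m.conj_Ev_KS hli hcl _ (inv_mem hq), ?_⟩
        rw [m.Ev_neg]
        group }
  refine (Subgroup.closure_le P).2 ?_ hp
  rintro _ ⟨c, hc, z, rfl⟩
  rcases Set.mem_insert_iff.1 hc with rfl | hc
  · exact ⟨z, 1, one_mem _, (_root_.mul_one _).symm⟩
  · exact ⟨0, m.Ev c z, m.Ev_mem hc z, by rw [m.Ev_zero, _root_.one_mul]⟩

omit [Nonempty S] in
theorem exists_sorted {J : Type} (f : J → ℤ) (s : Finset J) :
    ∃ L : List J, L.Nodup ∧ (∀ x, x ∈ L ↔ x ∈ s) ∧ L.Pairwise fun x y => f x ≤ f y := by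
  classical
  induction hn : s.card generalizing s with
  | zero => exact ⟨[], List.nodup_nil, by simp [Finset.card_eq_zero.1 hn], List.Pairwise.nil⟩
  | succ n ih =>
    obtain ⟨x, hx, hmin⟩ := Finset.exists_min_image s f (Finset.card_pos.1 (by omega))
    obtain ⟨L, h1, h2, h3⟩ := ih (s.erase x) (by rw [Finset.card_erase_of_mem hx]; omega)
    refine ⟨x :: L, List.nodup_cons.2 ⟨fun h => by simpa using (h2 x).1 h, h1⟩, fun y => ?_,
      List.pairwise_cons.2 ⟨fun y hy => hmin y (Finset.mem_of_mem_erase ((h2 y).1 hy)), h3⟩⟩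
    rw [List.mem_cons, h2, Finset.mem_erase]
    by_cases hy : y = x
    · simp [hy, hx]
    · simp [hy]

omit [Nonempty S] in
theorem ofFn_cons_prod {M A B : Type*} [Monoid M] (F : A → B → M) (k : A) (L : List A) (r : B)
    (r' : Fin L.length → B) :
    F k r * (List.ofFn fun i => F (L.get i) (r' i)).prod =
      (List.ofFn fun i : Fin (k :: L).length => F ((k :: L).get i) (Fin.cons (α := fun _ => B) r r' i)).prod := by
  simp [List.ofFn_succ]

/-- **The pairs over a side are ordered products.** -/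
theorem PMor.exists_enum_prod (g : D.M →ₗ[ℤ] ℤ) :
    ∃ (n : ℕ) (e : Fin n → D.idx), RedSub.Enumerates {k | 0 < g (D.P.root k)} e ∧
      ∀ (X : Over S) (p : Pt2 G G' X), p ∈ m.KS {k | 0 < g (D.P.root k)} X →
        ∃ r : Fin n → Γ(X.left, ⊤), p = (List.ofFn fun i => m.Ev (e i) (r i)).prod := by
  classical
  obtain ⟨L, hnd, hmem, hsort⟩ :=
    exists_sorted (fun k => g (D.P.root k)) (Finset.univ.filter fun k => 0 < g (D.P.root k))
  have hmem' : ∀ x, x ∈ L ↔ 0 < g (D.P.root x) := fun x => by rw [hmem]; simp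
  have key : ∀ L' : List D.idx, L'.Nodup → L'.Pairwise (fun x y => g (D.P.root x) ≤ g (D.P.root y)) →
      (∀ x ∈ L', 0 < g (D.P.root x)) →
      (∀ x ∈ L', ∀ d : D.idx, g (D.P.root x) < g (D.P.root d) → d ∈ L') →
      ∀ (X : Over S) (p : Pt2 G G' X), p ∈ m.KS {k | k ∈ L'} X →
        ∃ r : Fin L'.length → Γ(X.left, ⊤), p = (List.ofFn fun i => m.Ev (L'.get i) (r i)).prod := by
    intro L'
    induction L' with
    | nil =>
      intro _ _ _ _ X p hp
      refine ⟨fun i => i.elim0, ?_⟩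
      have : p = 1 := by
        have h0 : {p : Pt2 G G' X | ∃ k ∈ {k | k ∈ ([] : List D.idx)}, ∃ z : Γ(X.left, ⊤), p = m.Ev k z} = ∅ :=
          Set.eq_empty_iff_forall_notMem.2 fun x ⟨k, hk, _⟩ => by simp at hk
        rw [PMor.KS, h0, Subgroup.closure_empty] at hp
        exact Subgroup.mem_bot.1 hp
      simpa using this
    | cons k L' ih =>
      intro hnd hs hpos hup X p hp
      obtain ⟨hk, hnd'⟩ := List.nodup_cons.1 hnd
      obtain ⟨hle, hs'⟩ := List.pairwise_cons.1 hs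
      have hk0 : 0 < g (D.P.root k) := hpos k List.mem_cons_self
      have hpos' : ∀ x ∈ L', 0 < g (D.P.root x) := fun x hx => hpos x (List.mem_cons_of_mem _ hx)
      have hup' : ∀ x ∈ L', ∀ d : D.idx, g (D.P.root x) < g (D.P.root d) → d ∈ L' := fun x hx d hd => by
        rcases List.mem_cons.1 (hup x (List.mem_cons_of_mem _ hx) d hd) with rfl | h
        · have := hle x hx; omega
        · exact h
      have hp' : p ∈ m.KS (insert k {x | x ∈ L'}) X := by
        refine m.KS_mono (fun x hx => ?_) X hp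
        rcases List.mem_cons.1 hx with rfl | h
        exacts [Set.mem_insert _ _, Set.mem_insert_of_mem _ h]
      obtain ⟨r, q, hq, rfl⟩ := m.exists_split_root
        (fun c hc => li_of_pos hk0 (hpos' c hc) fun e => hk (e ▸ hc))
        (fun c hc d i j hd hi hj => hup' c hc d (by
          rw [hd, map_add, map_zsmul, map_zsmul, smul_eq_mul, smul_eq_mul]
          nlinarith [hpos' c hc]))
        hp'
      obtain ⟨r', rfl⟩ := ih hnd' hs' hpos' hup' X q hq
      exact ⟨_, ofFn_cons_prod (fun c (z : Γ(X.left, ⊤)) => m.Ev c z) k L' r r'⟩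
  refine ⟨L.length, L.get, ⟨List.nodup_iff_injective_get.1 hnd, ?_⟩, fun X p hp => ?_⟩
  · ext x
    simp only [Set.mem_range, Set.mem_setOf_eq]
    rw [← hmem', List.mem_iff_get]
  · refine key L hnd hsort (fun x hx => (hmem' x).1 hx)
      (fun x hx d hd => (hmem' d).2 (lt_trans ((hmem' x).1 hx) hd)) X p (m.KS_mono (fun x hx => (hmem' x).2 hx) X hp)

theorem PMor.prod_mem {R : Set D.idx} {n : ℕ} (e : Fin n → D.idx) (he : ∀ i, e i ∈ R) {X : Over S}
    (r : Fin n → Γ(X.left, ⊤)) : (List.ofFn fun i => m.Ev (e i) (r i)).prod ∈ m.KS R X := by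
  refine list_prod_mem fun p hp => ?_
  obtain ⟨i, rfl⟩ := List.mem_ofFn.1 hp
  exact m.Ev_mem (he i) _

end Bruhat

end
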