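import Groth.Agent.BruhatLib.PinIso
import Groth.Agent.S5522

/-!
# Isomorphisms of root data of split groups
-/

set_option autoImplicit false
set_option linter.style.haveILetI false
set_option linter.unusedSectionVars false
set_option backward.isDefEq.respectTransparency false
set_option maxHeartbeats 1000000
set_option synthInstance.maxHeartbeats 400000

universe u

open CategoryTheory CategoryTheory.Limits MonoidalCategory CartesianMonoidalCategory AlgebraicGeometry

noncomputable section



namespace Bruhat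

variable {S : Scheme.{u}} {G G' : Over S} [GrpObj G] [GrpObj G']

theorem coroot_eval {D : Red.SplitRed G} {ι M N : Type} [AddCommGroup M] [Module ℤ M] [AddCommGroup N]
    [Module ℤ N] {Q : RootPairing ι ℤ M N} (e : RootPairing.Equiv D.P Q) (a : D.idx) (x : D.M) :
    coF D a x = Q.toLinearMap (e.toHom.weightMap x) (Q.coroot (e.toHom.indexEquiv a)) := by
  have h := congrArg (fun f : Module.Dual ℤ D.M => f x)
    (RootPairing.Hom.weight_coweight_transpose_apply D.P Q (Q.coroot (e.toHom.indexEquiv a)) e.toHom)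
  simp only [LinearMap.dualMap_apply, LinearMap.toPerfPair_apply, RootPairing.flip, LinearMap.flip_apply] at h
  rw [RootPairing.Hom.coroot_coweightMap_apply, Equiv.symm_apply_apply, D.pairing_eq] at h
  exact h.symm

variable [Nonempty S]

omit [Nonempty S] in
/-- An isomorphism of root data transports a base. -/
theorem exists_base_map {D : Red.SplitRed G} {D' : Red.SplitRed G'} (hM : D'.M ≃ₗ[ℤ] D.M) (d : D.idx ≃ D'.idx)
    (hroot : ∀ a, hM (D'.P.root (d a)) = D.P.root a)
    (hcoroot : ∀ a, hM.toLinearMap.dualMap (D.P.coroot a) = D'.P.coroot (d a)) (b : D.P.Base) :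
    ∃ b' : D'.P.Base, ∀ a, a ∈ b.support ↔ d a ∈ b'.support := by
  classical
  let hN : Module.Dual ℤ D.M ≃ₗ[ℤ] Module.Dual ℤ D'.M := hM.dualMap
  have hroot' : ∀ a, hM.symm (D.P.root a) = D'.P.root (d a) := fun a => by
    rw [← hroot, LinearEquiv.symm_apply_apply]
  have hco' : ∀ a, hN (D.P.coroot a) = D'.P.coroot (d a) := fun a => hcoroot a
  have key : ∀ {V W : Type} [AddCommGroup V] [Module ℤ V] [AddCommGroup W] [Module ℤ W] (f : V ≃ₗ[ℤ] W)
      (r : D.idx → V) (r' : D'.idx → W), (∀ a, f (r a) = r' (d a)) → LinearIndepOn ℤ r (b.support : Set D.idx) →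
      (∀ a, r a ∈ AddSubmonoid.closure (r '' (b.support : Set D.idx)) ∨
        -r a ∈ AddSubmonoid.closure (r '' (b.support : Set D.idx))) →
      LinearIndepOn ℤ r' ((b.support.map d.toEmbedding : Finset D'.idx) : Set D'.idx) ∧
        ∀ i, r' i ∈ AddSubmonoid.closure (r' '' ((b.support.map d.toEmbedding : Finset D'.idx) : Set D'.idx)) ∨
          -r' i ∈ AddSubmonoid.closure (r' '' ((b.support.map d.toEmbedding : Finset D'.idx) : Set D'.idx)) := by
    intro V W _ _ _ _ f r r' h hli hcl
    rw [Finset.coe_map]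
    have hfun : r' ∘ (d.toEmbedding : D.idx → D'.idx) = f.toLinearMap ∘ r := funext fun a => (h a).symm
    refine ⟨LinearIndepOn.image_of_comp _ _ ?_, fun i => ?_⟩
    · rw [hfun]
      exact LinearIndependent.map' (v := fun x : (b.support : Set D.idx) => r x) hli f.toLinearMap f.ker
    · have himg : AddSubmonoid.closure (r' '' ((d.toEmbedding : D.idx → D'.idx) '' (b.support : Set D.idx))) =
          (AddSubmonoid.closure (r '' (b.support : Set D.idx))).map f.toLinearMap.toAddMonoidHom := by
        rw [AddMonoidHom.map_mclosure, Set.image_image, Set.image_image]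
        exact congrArg _ (Set.image_congr fun a _ => congrFun hfun a)
      obtain ⟨a, rfl⟩ := d.surjective i
      rw [himg, ← h a]
      rcases hcl a with ha | ha
      · exact Or.inl ⟨r a, ha, rfl⟩
      · exact Or.inr ⟨-r a, ha, map_neg f _⟩
  obtain ⟨h1, h2⟩ := key hM.symm _ _ hroot' b.linearIndepOn_root b.root_mem_or_neg_mem
  obtain ⟨h3, h4⟩ := key hN _ _ hco' b.linearIndepOn_coroot b.coroot_mem_or_neg_mem
  exact ⟨⟨b.support.map d.toEmbedding, h1, h3, h2, h4⟩, fun a => (Finset.mem_map' d.toEmbedding).symm⟩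

/-- Split groups with isomorphic root data are isomorphic. -/
theorem nonempty_grp_iso (D : Red.SplitRed G) (D' : Red.SplitRed G') (hM : D'.M ≃ₗ[ℤ] D.M) (d : D.idx ≃ D'.idx)
    (hroot : ∀ a, hM (D'.P.root (d a)) = D.P.root a)
    (hcoroot : ∀ a, hM.toLinearMap.dualMap (D.P.coroot a) = D'.P.coroot (d a)) :
    Nonempty (Grp.mk G ≅ Grp.mk G') := by
  obtain ⟨b, -⟩ := Groth.Agent.S5522.result D ∅ (fun _ _ _ h => absurd h (Set.notMem_empty _))
    (fun _ h => absurd h (Set.notMem_empty _))
  obtain ⟨b', hb⟩ := exists_base_map hM d hroot hcoroot b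
  obtain ⟨f, ⟨hf, -, -⟩, -⟩ := existsUnique_iso (⟨D, b⟩ : Red.Pinning G) (⟨D', b'⟩ : Red.Pinning G')
    ⟨hM, d, hroot, hcoroot, hb⟩
  haveI := hf
  exact ⟨Grp.mkIso' f⟩

end Bruhat

end
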