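import Groth.Agent.BruhatLib.Coroot

/-!
# Pinned groups: rank one systems of the simple roots and the relations of a pair of simple roots
-/

set_option autoImplicit false
set_option linter.style.haveILetI false
set_option linter.unusedSectionVars false
set_option backward.isDefEq.respectTransparency false
set_option maxHeartbeats 1000000
set_option synthInstance.maxHeartbeats 400000

universe u

open CategoryTheory CategoryTheory.Limits MonoidalCategory CartesianMonoidalCategory AlgebraicGeometry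
open Groth.Agent.GaPts
open Groth.Agent
open Groth.Agent.RankOne (eq_ptOf eq_ptOfUnit comp_ptOf ptOf_add)
open scoped MonObj

noncomputable section

attribute [-instance] CategoryTheory.Hom.commGroup

namespace Bruhat

open SplitCell SplitFib RootSubgrp

variable {S : Scheme.{u}} {G : Over S} [GrpObj G]

section Combination

variable (D : Red.SplitRed G) (b : D.P.Base)

/-- The coefficients of a root in two simple roots have one sign. -/
theorem comb2_sign {p q d : D.idx} (hp : p ∈ b.support) (hq : q ∈ b.support) (hne : p ≠ q) {m n : ℤ}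
    (hd : D.P.root d = m • D.P.root p + n • D.P.root q) : (0 ≤ m ∧ 0 ≤ n) ∨ (m ≤ 0 ∧ n ≤ 0) := by
  classical
  let f : D.idx → ℤ := fun k => (if k = p then m else 0) + (if k = q then n else 0)
  have hf : ∑ k ∈ b.support, f k • D.P.root k = D.P.root d := by
    simp only [f, add_smul, ite_smul, zero_smul, Finset.sum_add_distrib, Finset.sum_ite_eq', hp, hq, if_true]
    exact hd.symm
  have hsupp : f.support ⊆ b.support := by
    intro k hk
    simp only [f, Function.mem_support] at hk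
    by_cases h1 : k = p
    · exact h1 ▸ hp
    · by_cases h2 : k = q
      · exact h2 ▸ hq
      · simp [h1, h2] at hk
  have hp' : f p = m := by simp [f, hne]
  have hq' : f q = n := by simp [f, hne.symm]
  rcases b.pos_or_neg_of_sum_smul_root_mem f ⟨d, hf.symm⟩ hsupp with h | h
  · exact Or.inl ⟨hp' ▸ h.le p, hq' ▸ h.le q⟩
  · exact Or.inr ⟨hp' ▸ h.le p, hq' ▸ h.le q⟩

theorem coroot'_root (i j : D.idx) : D.P.coroot' j (D.P.root i) = D.P.pairing i j :=
  RootPairing.root_coroot'_eq_pairing ..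

theorem reflection_root (i j : D.idx) :
    D.P.reflection j (D.P.root i) = D.P.root i - D.P.pairing i j • D.P.root j := by
  rw [RootPairing.reflection_apply, coroot'_root]

theorem reflection_comb (j p q : D.idx) (m n : ℤ) :
    D.P.reflection j (m • D.P.root p + n • D.P.root q) =
      m • D.P.root p + n • D.P.root q - (m * D.P.pairing p j + n * D.P.pairing q j) • D.P.root j := by
  rw [map_add, map_zsmul, map_zsmul, reflection_root, reflection_root]
  module

variable [Nonempty S] {D b} {p q c : D.idx} (hp : p ∈ b.support) (hq : q ∈ b.support) (hne : p ≠ q)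
  (hpq : D.P.pairing p q = -1) (hqp : D.P.pairing q p = -1)
include hp hq hne hpq hqp

/-- The roots in the plane of a pair of type A₂. -/
theorem comb2_A2 {d : D.idx} {m n : ℤ} (hm : 1 ≤ m) (hn : 1 ≤ n)
    (hd : D.P.root d = m • D.P.root p + n • D.P.root q) : m = 1 ∧ n = 1 := by
  haveI := SplitFib.isReduced_root D
  have h1 : D.P.root (D.P.reflectionPerm p d) = (n - m) • D.P.root p + n • D.P.root q := by
    rw [RootPairing.root_reflectionPerm, hd, reflection_comb, hqp, RootPairing.pairing_same]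
    module
  have h2 : D.P.root (D.P.reflectionPerm q d) = m • D.P.root p + (m - n) • D.P.root q := by
    rw [RootPairing.root_reflectionPerm, hd, reflection_comb, hpq, RootPairing.pairing_same]
    module
  have e1 := comb2_sign D b hp hq hne h1
  have e2 := comb2_sign D b hp hq hne h2
  have hmn : n = m := by omega
  subst hmn
  refine ⟨?_, ?_⟩ <;>
  · by_contra hne1
    have hc : D.P.root (D.P.reflectionPerm p q) = D.P.root p + D.P.root q := by
      rw [RootPairing.root_reflectionPerm, reflection_root, hqp]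
      module
    have hd' : D.P.root d = n • D.P.root (D.P.reflectionPerm p q) := by rw [hd, hc, smul_add]
    have hdn : d ≠ D.P.reflectionPerm p q := fun e => by
      have hz : (n - 1) • D.P.root d = 0 := by
        rw [sub_smul, one_smul, sub_eq_zero]; rw [← e] at hd'; exact hd'.symm
      rcases smul_eq_zero.1 hz with h | h
      · omega
      · exact D.P.ne_zero d h
    have hdn' : D.P.root d ≠ -D.P.root (D.P.reflectionPerm p q) := fun e => by
      rw [hd', eq_neg_iff_add_eq_zero, ← add_one_zsmul] at e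
      rcases smul_eq_zero.1 e with h | h
      · omega
      · exact D.P.ne_zero _ h
    exact one_ne_zero (LinearIndependent.pair_iff.1
      (RootPairing.IsReduced.linearIndependent (P := D.P) hdn hdn') 1 (-n)
      (by rw [one_smul, neg_smul, hd', add_neg_cancel])).1

omit hq hne hpq hqp in
theorem ne_neg_of_base {p' : D.idx} (hp' : p' ∈ b.support) (hne' : p ≠ p') : D.P.root p + D.P.root p' ≠ 0 := by
  intro e
  have hli := b.linearIndependent_pair_of_ne (i := ⟨p, hp⟩) (j := ⟨p', hp'⟩) (fun h => hne' (congrArg Subtype.val h))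
  exact one_ne_zero ((LinearIndependent.pair_iff.1 hli 1 1 (by rw [one_smul, one_smul]; exact e))).1

end Combination

section RankOneSetup

variable {D : Red.SplitRed G} {a : D.idx} {av : Red.Gm S ⟶ D.T}

/-- The coroot of the root datum as a cocharacter has the expected points. -/
theorem chars_avc (hav : av = Red.DSmap S (D.P.coroot a).toAddMonoidHom ≫ D.split.inv.hom.hom) {X : Over S}
    (z : X ⟶ Red.Gm S) : z ≫ av = cochT D (coF D a) z := by
  subst hav
  have e : Red.DSmap S (D.P.coroot a).toAddMonoidHom = MultSubLib.dd S (coF D a).toAddMonoidHom.toMultiplicative := by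
    refine MultSubLib.chars_injective ?_
    rw [← Category.id_comp (Red.DSmap S (D.P.coroot a).toAddMonoidHom),
      ← Category.id_comp (MultSubLib.dd S (coF D a).toAddMonoidHom.toMultiplicative),
      Groth.Agent.DSImg.chars_comp_DSmap, MultSubLib.chars_comp_dd]
    rfl
  rw [e]
  rfl

theorem gmFn_avc (hav : av = Red.DSmap S (D.P.coroot a).toAddMonoidHom ≫ D.split.inv.hom.hom) {X : Over S}
    (z : X ⟶ Red.Gm S) (m : D.M) : Red.gmFn ((z ≫ av) ≫ D.split.hom.hom.hom ≫ Red.chi S m) =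
      ((GmPts.unitOfPt z ^ coF D a m : (Γ(X.left, ⊤))ˣ) : Γ(X.left, ⊤)) := by
  rw [chars_avc hav, gmFn_cochT]

variable (hav : av = Red.DSmap S (D.P.coroot a).toAddMonoidHom ≫ D.split.inv.hom.hom)
  (hpair : ∀ (X : Over S) (x y : X ⟶ Red.Ga S), IsUnit (1 + Red.gaFn x * Red.gaFn y) →
    ∃ (x' y' : X ⟶ Red.Ga S) (z : X ⟶ Red.Gm S), Red.gmFn z = 1 + Red.gaFn x * Red.gaFn y ∧
      Red.gaFn x' * Red.gmFn z = Red.gaFn x ∧ Red.gaFn y' * Red.gmFn z = Red.gaFn y ∧
      (x ≫ D.u a) * (y ≫ D.u (D.P.reflectionPerm a a)) =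
        (y' ≫ D.u (D.P.reflectionPerm a a)) * (z ≫ av ≫ D.i) * (x' ≫ D.u a))

include hav hpair

/-- The rank one system of a pinned simple root. -/
theorem pinSetup : RankOne.Setup D.i (alpha D a) (D.u a) (D.u (D.P.reflectionPerm a a)) av := by
  haveI hinv : IsMonHom D.split.inv.hom.hom := D.split.inv.hom.isMonHom_hom
  refine ⟨isMonHom_i D, isMonHom_alpha D a, isMonHom_u D _, isMonHom_u D _, ?_, ?_, ?_, ?_, hpair⟩
  · subst hav
    haveI : IsMonHom (Red.DSmap S (D.P.coroot a).toAddMonoidHom) := Groth.Agent.DSImg.isMonHom_DSmap _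
    exact inferInstanceAs (IsMonHom (Red.DSmap S (D.P.coroot a).toAddMonoidHom ≫ D.split.inv.hom.hom))
  · intro X t x
    obtain ⟨y, hy, he⟩ := (D.rootHom a).2.2 X t x
    exact ⟨y, hy, he⟩
  · intro X t x
    obtain ⟨y, hy, he⟩ := (D.rootHom (D.P.reflectionPerm a a)).2.2 X t x
    refine ⟨y, hy, ?_⟩
    rw [he]
    have h1 : Red.gmFn (t ≫ D.split.hom.hom.hom ≫ Red.chi S (D.P.root (D.P.reflectionPerm a a))) *
        Red.gmFn (t ≫ alpha D a) = 1 := by
      simp only [alpha, ← Category.assoc, gmFn_chi]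
      rw [← map_mul, ← ofAdd_add, RootPairing.root_reflectionPerm, D.P.reflection_apply_self, neg_add_cancel, ofAdd_zero, map_one]
    rw [mul_right_comm, h1, _root_.one_mul]
  · refine (eq_ptOfUnit _ (gmFn_avc hav (𝟙 (Red.Gm S)) (D.P.root a) |>.trans ?_) |>.trans
      (GmPts.ptOfUnit_unitOfPt ((𝟙 (Red.Gm S)) ^ 2)))
    rw [coF_root, pow_two, GmPts.unitOfPt_mul, ← pow_two]
    rfl

end RankOneSetup

section WeylElement

/-- A simple root with its pinned coroot and Weyl element. -/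
structure Pin (D : Red.SplitRed G) (a : D.idx) (av : Red.Gm S ⟶ D.T) (w : 𝟙_ (Over S) ⟶ G) : Prop where
  hav : av = Red.DSmap S (D.P.coroot a).toAddMonoidHom ≫ D.split.inv.hom.hom
  hpair : ∀ (X : Over S) (x y : X ⟶ Red.Ga S), IsUnit (1 + Red.gaFn x * Red.gaFn y) →
    ∃ (x' y' : X ⟶ Red.Ga S) (z : X ⟶ Red.Gm S), Red.gmFn z = 1 + Red.gaFn x * Red.gaFn y ∧
      Red.gaFn x' * Red.gmFn z = Red.gaFn x ∧ Red.gaFn y' * Red.gmFn z = Red.gaFn y ∧
      (x ≫ D.u a) * (y ≫ D.u (D.P.reflectionPerm a a)) =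
        (y' ≫ D.u (D.P.reflectionPerm a a)) * (z ≫ av ≫ D.i) * (x' ≫ D.u a)
  hw : w = (ptOf 1 ≫ D.u a) * (ptOf 1 ≫ D.u (D.P.reflectionPerm a a))⁻¹ * (ptOf 1 ≫ D.u a)

namespace Pin

variable {D : Red.SplitRed G} {a : D.idx} {av : Red.Gm S ⟶ D.T} {w : 𝟙_ (Over S) ⟶ G} (h : Pin D a av w)
include h

theorem setup : RankOne.Setup D.i (alpha D a) (D.u a) (D.u (D.P.reflectionPerm a a)) av :=
  pinSetup h.hav h.hpair

theorem w_eq (X : Over S) : toUnit X ≫ w = (h.setup.data X).w 1 := by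
  haveI := isMonHom_u D (D.P.reflectionPerm a a)
  have e : ∀ r : Γ((𝟙_ (Over S)).left, ⊤), ((ptOf r : 𝟙_ (Over S) ⟶ Red.Ga S) ≫ D.u (D.P.reflectionPerm a a))⁻¹ =
      ptOf (-r) ≫ D.u (D.P.reflectionPerm a a) := fun r => by
    refine (eq_inv_of_mul_eq_one_left ?_).symm
    rw [← MonObj.mul_comp, ← ptOf_add, neg_add_cancel]
    exact (h.setup.data _).M_zero
  refine (congrArg (toUnit X ≫ ·) h.hw).trans ?_
  rw [e]
  simp only [RankOne.Data.w, RankOne.Setup.data, MonObj.comp_mul, ← Category.assoc, comp_ptOf, map_neg, inv_one,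
    Units.val_one, map_one]

theorem w_sq (X : Over S) :
    (toUnit X ≫ w) * (toUnit X ≫ w) = (GmPts.ptOfUnit (-1) : X ⟶ Red.Gm S) ≫ av ≫ D.i := by
  rw [h.w_eq, ← pow_two, RankOne.Data.w_sq, ← Category.assoc]
  rfl

theorem conj_torus {X : Over S} (t : X ⟶ D.T) : (toUnit X ≫ w) * (t ≫ D.i) * (toUnit X ≫ w)⁻¹ =
    (t * ((t ≫ alpha D a) ≫ av)⁻¹) ≫ D.i := by
  haveI := isMonHom_i D
  have hc := (h.setup.data X).w_conj t 1
  rw [← h.w_eq] at hc
  refine hc.trans ?_
  rw [MonObj.mul_comp, GrpObj.inv_comp, ← GrpObj.inv_comp, ← MonObj.mul_comp, torus_comm D t, MonObj.mul_comp,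
    GrpObj.inv_comp]
  congr 2
  refine (h.setup.gm_eq (t ≫ alpha D a)).symm.trans (Category.assoc _ _ _).symm

theorem isRefl : IsRefl D a w := fun X t => by
  haveI := isMonHom_i D
  rw [h.conj_torus]
  suffices e : t * ((t ≫ alpha D a) ≫ av)⁻¹ = tRefl a t by
    rw [e]; simp only [tRefl, Category.assoc]
  refine torus_ext ?_
  haveI : IsMonHom D.split.hom.hom.hom := D.split.hom.hom.isMonHom_hom
  rw [chars_tRefl, MonObj.mul_comp, GrpObj.inv_comp, MultSubLib.chars_mul]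
  refine MonoidHom.ext fun m => ?_
  obtain ⟨m, rfl⟩ := Multiplicative.ofAdd.surjective m
  show MultSubLib.chars (t ≫ D.split.hom.hom.hom) (Multiplicative.ofAdd m) *
      MultSubLib.chars (((t ≫ alpha D a) ≫ av) ≫ D.split.hom.hom.hom)⁻¹ (Multiplicative.ofAdd m) =
    MultSubLib.chars (t ≫ D.split.hom.hom.hom) (Multiplicative.ofAdd (D.P.reflection a m))
  have hu : ∀ (q : X ⟶ Red.DS S D.M), MultSubLib.chars q⁻¹ (Multiplicative.ofAdd m) *
      MultSubLib.chars q (Multiplicative.ofAdd m) = 1 := fun q => by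
    have := congrArg (fun f => f (Multiplicative.ofAdd m)) (MultSubLib.chars_mul q⁻¹ q)
    simp only [inv_mul_cancel, MultSubLib.chars_one, MonoidHom.one_apply, MonoidHom.mul_apply] at this
    exact this.symm
  have hq : MultSubLib.chars (((t ≫ alpha D a) ≫ av) ≫ D.split.hom.hom.hom) (Multiplicative.ofAdd m) =
      MultSubLib.chars (t ≫ D.split.hom.hom.hom) (Multiplicative.ofAdd (coF D a m • D.P.root a)) := by
    rw [chars_zpow_alpha, ← gmFn_avc h.hav, ← gmFn_chi, Category.assoc]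
  have hsum : D.P.reflection a m + coF D a m • D.P.root a = m := by rw [reflection_eq, sub_add_cancel]
  have hm : MultSubLib.chars (t ≫ D.split.hom.hom.hom) (Multiplicative.ofAdd m) =
      MultSubLib.chars (t ≫ D.split.hom.hom.hom) (Multiplicative.ofAdd (D.P.reflection a m)) *
        MultSubLib.chars (((t ≫ alpha D a) ≫ av) ≫ D.split.hom.hom.hom) (Multiplicative.ofAdd m) := by
    rw [hq, ← map_mul, ← ofAdd_add, hsum]
  rw [hm, _root_.mul_assoc, _root_.mul_comm (MultSubLib.chars _ _) (MultSubLib.chars _ _),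
    hu (((t ≫ alpha D a) ≫ av) ≫ D.split.hom.hom.hom), _root_.mul_one]

theorem conj_one (X : Over S) : (toUnit X ≫ w) * (ptOf 1 ≫ D.u a) * (toUnit X ≫ w)⁻¹ =
    (ptOf (-1) : X ⟶ Red.Ga S) ≫ D.u (D.P.reflectionPerm a a) := by
  have e := h.setup.w_P X 1
  rw [← h.w_eq, inv_one, Units.val_one] at e
  exact e

end Pin

end WeylElement

section Helpers

variable [Nonempty S] {D : Red.SplitRed G}

/-- A multiple of a root which is a root. -/
theorem eq_one_of_root_eq_smul {d e : D.idx} {m : ℤ} (hm : 1 ≤ m) (hd : D.P.root d = m • D.P.root e) : m = 1 := by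
  haveI := SplitFib.isReduced_root D
  by_contra hne1
  have hdn : d ≠ e := fun e' => by
    subst e'
    have hz : (m - 1) • D.P.root d = 0 := by rw [sub_smul, one_smul, sub_eq_zero]; exact hd.symm
    rcases smul_eq_zero.1 hz with h | h
    · omega
    · exact D.P.ne_zero d h
  have hdn' : D.P.root d ≠ -D.P.root e := fun e' => by
    rw [hd, eq_neg_iff_add_eq_zero, ← add_one_zsmul] at e'
    rcases smul_eq_zero.1 e' with h | h
    · omega
    · exact D.P.ne_zero _ h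
  exact one_ne_zero (LinearIndependent.pair_iff.1
    (RootPairing.IsReduced.linearIndependent (P := D.P) hdn hdn') 1 (-m)
    (by rw [one_smul, neg_smul, hd, add_neg_cancel])).1

omit [Nonempty S] in
theorem inv_u (k : D.idx) {X : Over S} (x : X ⟶ Red.Ga S) : (x ≫ D.u k)⁻¹ = x⁻¹ ≫ D.u k := by
  haveI := isMonHom_u D k
  rw [GrpObj.inv_comp]

omit [Nonempty S] in
theorem ptOf_neg {X : Over S} (r : Γ(X.left, ⊤)) : (ptOf (-r) : X ⟶ Red.Ga S) = (ptOf r)⁻¹ := by
  refine eq_inv_of_mul_eq_one_left ?_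
  rw [← ptOf_add, neg_add_cancel]
  refine gaFn_injective ?_
  show Red.gaFn _ = Red.gaFn _
  have h := gaFn_mul (1 : X ⟶ Red.Ga S) 1
  rw [_root_.one_mul, left_eq_add] at h
  rw [gaFn_ptOf, h]

/-- The coordinate on a root group of a decomposition in the cell is unique. -/
theorem cell_x_eq (a : D.idx) {X : Over S} {y y' x x' : X ⟶ Red.Ga S} {t t' : X ⟶ D.T}
    (h : (y ≫ D.u (D.P.reflectionPerm a a)) * (t ≫ D.i) * (x ≫ D.u a) =
      (y' ≫ D.u (D.P.reflectionPerm a a)) * (t' ≫ D.i) * (x' ≫ D.u a)) : x = x' := by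
  obtain ⟨σ, hσ⟩ := exists_sides_mem D a
  obtain ⟨n, m, eneg, epos, hneg, hpos⟩ := exists_enum D σ
  obtain ⟨i, hi⟩ := hneg.2.symm.subset (neg_mem_neg σ hσ)
  obtain ⟨j, hj⟩ := hpos.2.symm.subset hσ
  obtain ⟨wn, hwn⟩ := exists_u_rprod (D := D) (e := eneg) i
  obtain ⟨wp, hwp⟩ := exists_u_rprod (D := D) (e := epos) j
  rw [hi] at hwn
  rw [hj] at hwp
  haveI := mono_cellMap D σ hneg hpos
  have hcell : ∀ (y x : X ⟶ Red.Ga S) (t : X ⟶ D.T), lift (y ≫ wn) (lift t (x ≫ wp)) ≫ RedSub.cellMap D eneg epos =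
      (y ≫ D.u (D.P.reflectionPerm a a)) * (t ≫ D.i) * (x ≫ D.u a) := fun y x t => by
    rw [RedSub.cellMap, MonObj.comp_mul, MonObj.comp_mul, lift_fst_assoc, lift_snd_assoc, lift_fst_assoc,
      lift_snd_assoc, lift_snd_assoc, Category.assoc, Category.assoc, ← _root_.mul_assoc]
    congr 1
    · congr 1
      exact congrArg (y ≫ ·) hwn
    · exact congrArg (x ≫ ·) hwp
  rw [← hcell, ← hcell, cancel_mono] at h
  haveI := mono_u D a
  refine (cancel_mono (D.u a)).1 ?_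
  have h' := congrArg (fun q => (q ≫ snd _ _) ≫ snd _ _ ≫ rprod D epos) h
  simp only [lift_snd, lift_snd_assoc, Category.assoc, hwp] at h'
  exact h'

/-- Two root groups whose roots add up to neither zero nor a root commute. -/
theorem commute_u {k l : D.idx} (h0 : D.P.root k + D.P.root l ≠ 0)
    (hkl : D.P.root k + D.P.root l ∉ Set.range D.P.root) {X : Over S} (x y : X ⟶ Red.Ga S) :
    Commute (x ≫ D.u k) (y ≫ D.u l) :=
  comm_rootGroups D h0 hkl x y

/-- The square of a Weyl element inverts a root group with pairing minus one. -/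
theorem Pin.sq_conj {a : D.idx} {av : Red.Gm S ⟶ D.T} {w : 𝟙_ (Over S) ⟶ G} (h : Pin D a av w) {k : D.idx}
    (hk : D.P.pairing k a = -1) {X : Over S} (x : X ⟶ Red.Ga S) :
    (toUnit X ≫ w) * ((toUnit X ≫ w) * (x ≫ D.u k) * (toUnit X ≫ w)⁻¹) * (toUnit X ≫ w)⁻¹ = x⁻¹ ≫ D.u k := by
  rw [show ∀ W U : X ⟶ G, W * (W * U * W⁻¹) * W⁻¹ = (W * W) * U * (W * W)⁻¹ from fun W U => by group, h.w_sq,
    ← Category.assoc]
  obtain ⟨y, hy, he⟩ := (D.rootHom k).2.2 X ((GmPts.ptOfUnit (-1) : X ⟶ Red.Gm S) ≫ av) x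
  rw [← hy]
  congr 1
  rw [gmFn_avc h.hav, GmPts.unitOfPt_ptOfUnit, ← coroot'_eq, coroot'_root, hk] at he
  rw [eq_ptOf y he, zpow_neg_one, inv_neg, inv_one, Units.val_neg, Units.val_one, neg_one_mul, ptOf_neg,
    ← eq_ptOf x rfl]

end Helpers

section A2

variable [Nonempty S] {D : Red.SplitRed G} {b : D.P.Base} {p q : D.idx} {avp avq : Red.Gm S ⟶ D.T}
  {wp wq : 𝟙_ (Over S) ⟶ G}

/-- A pair of pinned simple roots of type A₂. -/
structure PairA2 (D : Red.SplitRed G) (b : D.P.Base) (p q : D.idx) (avp avq : Red.Gm S ⟶ D.T)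
    (wp wq : 𝟙_ (Over S) ⟶ G) : Prop where
  hp : p ∈ b.support
  hq : q ∈ b.support
  hne : p ≠ q
  hpq : D.P.pairing p q = -1
  hqp : D.P.pairing q p = -1
  P : Pin D p avp wp
  Q : Pin D q avq wq

omit [Nonempty S] in
theorem PairA2.symm (h : PairA2 D b p q avp avq wp wq) : PairA2 D b q p avq avp wq wp :=
  ⟨h.hq, h.hp, h.hne.symm, h.hqp, h.hpq, h.Q, h.P⟩

variable (h : PairA2 D b p q avp avq wp wq)
include h

/-- The third positive root of the pair. -/
theorem PairA2.root_sum : D.P.root (D.P.reflectionPerm q p) = D.P.root p + D.P.root q := by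
  rw [RootPairing.root_reflectionPerm, reflection_root, h.hpq]
  module

theorem PairA2.perm_eq : D.P.reflectionPerm p q = D.P.reflectionPerm q p :=
  D.P.root.injective (by rw [h.root_sum, h.symm.root_sum, add_comm])

theorem PairA2.comb {d : D.idx} {m n : ℤ} (hm : 1 ≤ m) (hn : 1 ≤ n)
    (hd : D.P.root d = m • D.P.root p + n • D.P.root q) : m = 1 ∧ n = 1 :=
  comb2_A2 h.hp h.hq h.hne h.hpq h.hqp hm hn hd

theorem PairA2.comm_sum {X : Over S} (x z : X ⟶ Red.Ga S) :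
    Commute (x ≫ D.u p) (z ≫ D.u (D.P.reflectionPerm q p)) := by
  refine commute_u ?_ ?_ x z
  · rw [h.root_sum, ← add_assoc, ← two_zsmul]
    intro e
    have hli := b.linearIndependent_pair_of_ne (i := ⟨p, h.hp⟩) (j := ⟨q, h.hq⟩)
      (fun e' => h.hne (congrArg Subtype.val e'))
    exact one_ne_zero ((LinearIndependent.pair_iff.1 hli 2 1 (by rw [one_smul]; exact e))).2
  · rintro ⟨d, hd⟩
    have := h.comb (d := d) (m := 2) (n := 1) (by norm_num) le_rfl (by rw [hd, h.root_sum]; module)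
    omega

theorem PairA2.comm_sum' {X : Over S} (y z : X ⟶ Red.Ga S) :
    Commute (y ≫ D.u q) (z ≫ D.u (D.P.reflectionPerm q p)) := by
  rw [← h.perm_eq]
  exact h.symm.comm_sum y z

theorem PairA2.comm_neg {X : Over S} (x y : X ⟶ Red.Ga S) :
    Commute (x ≫ D.u p) (y ≫ D.u (D.P.reflectionPerm q q)) := by
  refine commute_u ?_ ?_ x y
  · rw [RootSubgrp.root_neg, ← sub_eq_add_neg, sub_ne_zero]
    exact fun e => h.hne (D.P.root.injective e)
  · rw [RootSubgrp.root_neg, ← sub_eq_add_neg]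
    exact b.sub_notMem_range_root h.hp h.hq

/-- **The commutation formula of the pair.** -/
theorem PairA2.exists_C : ∃ C : Γ(S, ⊤), ∀ (X : Over S) (x y : X ⟶ Red.Ga S),
    (y ≫ D.u q) * (x ≫ D.u p) = (x ≫ D.u p) * (y ≫ D.u q) *
      (ptOf (X.hom.appTop C * Red.gaFn x * Red.gaFn y) ≫ D.u (D.P.reflectionPerm q p)) := by
  obtain ⟨C, hC, -⟩ := existsUnique_coefficients D (sidesOfBase D.P b)
    (show p ∈ (sidesOfBase D.P b).pos from AddSubmonoid.subset_closure ⟨p, h.hp, rfl⟩)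
    (show q ∈ (sidesOfBase D.P b).pos from AddSubmonoid.subset_closure ⟨q, h.hq, rfl⟩)
    ![D.P.reflectionPerm q p] (fun _ => 1) (fun _ => 1) (Function.injective_of_subsingleton _)
    (fun k => by fin_cases k; exact ⟨le_rfl, le_rfl, by simpa using h.root_sum⟩)
    fun d m n hm hn hd => by
      obtain ⟨rfl, rfl⟩ : m = 1 ∧ n = 1 := by
        have := h.comb (d := d) (m := (m : ℤ)) (n := (n : ℤ)) (by omega) (by omega) hd
        omega
      exact ⟨0, D.P.root.injective (by rw [hd]; simpa using h.root_sum)⟩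
  refine ⟨-C 0, fun X x y => ?_⟩
  have e := hC X x y (fun _ => ptOf (X.hom.appTop (C 0) * Red.gaFn x * Red.gaFn y)) fun k => by
    fin_cases k; simp [gaFn_ptOf]
  simp only [List.ofFn_succ, List.ofFn_zero, List.prod_cons, List.prod_nil, _root_.mul_one,
    Matrix.cons_val_zero, gcm] at e
  rw [map_neg, neg_mul, neg_mul, ptOf_neg, ← inv_u]
  set Z := ptOf (X.hom.appTop (C 0) * Red.gaFn x * Red.gaFn y) ≫ D.u (D.P.reflectionPerm q p) with hZ
  have c1 : Commute (x ≫ D.u p) Z := h.comm_sum x _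
  have e' : (x ≫ D.u p) * (y ≫ D.u q) = (y ≫ D.u q) * (x ≫ D.u p) * Z := by
    rw [_root_.mul_assoc (y ≫ D.u q), c1.eq, ← e]; group
  rw [e', mul_inv_cancel_right]

/-- Conjugation by an element of the opposite root group. -/
theorem PairA2.conj_neg_sum {X : Over S} (v z : X ⟶ Red.Ga S) : ∃ r : X ⟶ Red.Ga S,
    (v ≫ D.u (D.P.reflectionPerm q q)) * (z ≫ D.u (D.P.reflectionPerm q p)) *
      (v ≫ D.u (D.P.reflectionPerm q q))⁻¹ = (z ≫ D.u (D.P.reflectionPerm q p)) * (r ≫ D.u p) := by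
  haveI := SplitFib.isReduced_root D
  set c := D.P.reflectionPerm q p with hc
  set q' := D.P.reflectionPerm q q with hq'
  have hli := b.linearIndependent_pair_of_ne (i := ⟨p, h.hp⟩) (j := ⟨q, h.hq⟩)
    (fun e' => h.hne (congrArg Subtype.val e'))
  have hne1 : q' ≠ c := fun e => by
    have e1 := congrArg D.P.root e
    rw [RootSubgrp.root_neg, h.root_sum] at e1
    exact one_ne_zero ((LinearIndependent.pair_iff.1 hli 1 2 (by
      rw [one_smul, two_smul, ← add_assoc, ← e1, neg_add_cancel]))).1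
  have hne2 : D.P.root q' ≠ -D.P.root c := fun e1 => by
    rw [RootSubgrp.root_neg, h.root_sum, neg_inj, right_eq_add] at e1
    exact D.P.ne_zero _ e1
  have hind := RootPairing.IsReduced.linearIndependent (P := D.P) hne1 hne2
  obtain ⟨σ, hs1, hs2⟩ := exists_sides_pair D.P hind
  obtain ⟨C, hC, -⟩ := existsUnique_coefficients D σ hs2 hs1
    ![p] (fun _ => 1) (fun _ => 1) (Function.injective_of_subsingleton _)
    (fun k => by
      fin_cases k
      refine ⟨le_rfl, le_rfl, ?_⟩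
      simp only [Fin.zero_eta, Matrix.cons_val_zero, Nat.cast_one, one_smul]
      rw [h.root_sum, RootSubgrp.root_neg, add_neg_cancel_right])
    fun d m n hm hn hd => by
      rw [h.root_sum, RootSubgrp.root_neg] at hd
      have hd' : D.P.root d = (m : ℤ) • D.P.root p + ((m : ℤ) - n) • D.P.root q := by rw [hd]; module
      have hmn : (m : ℤ) - n = 0 := by
        rcases comb2_sign D b h.hp h.hq h.hne hd' with h1 | h1
        · by_contra h2
          have := h.comb (d := d) (m := (m : ℤ)) (by omega) (by omega) hd'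
          omega
        · omega
      rw [hmn, zero_smul, add_zero] at hd'
      have hm1 := eq_one_of_root_eq_smul (by omega) hd'
      rw [hm1, one_smul] at hd'
      exact ⟨0, D.P.root.injective hd'.symm⟩
  have e := hC X z v⁻¹ (fun _ => ptOf (X.hom.appTop (C 0) * Red.gaFn z * Red.gaFn v⁻¹)) fun k => by
    fin_cases k; simp [gaFn_ptOf]
  simp only [List.ofFn_succ, List.ofFn_zero, List.prod_cons, List.prod_nil, _root_.mul_one,
    Matrix.cons_val_zero, gcm, ← inv_u, inv_inv] at e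
  refine ⟨ptOf (X.hom.appTop (C 0) * Red.gaFn z * Red.gaFn v⁻¹), ?_⟩
  rw [← (h.comm_sum _ z).eq, ← e]
  simp only [hc]
  group

/-- **The Weyl element of one root carries the other root group onto that of the sum.** -/
theorem PairA2.conj_u_eq {X : Over S} (x z : X ⟶ Red.Ga S)
    (hz : ((ptOf 1 : X ⟶ Red.Ga S) ≫ D.u q) * (x ≫ D.u p) = (x ≫ D.u p) * ((ptOf 1 : X ⟶ Red.Ga S) ≫ D.u q) *
      (z ≫ D.u (D.P.reflectionPerm q p))) :
    (toUnit X ≫ wq) * (x ≫ D.u p) * (toUnit X ≫ wq)⁻¹ = z ≫ D.u (D.P.reflectionPerm q p) := by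
  haveI := isMonHom_u D p
  haveI := isMonHom_u D (D.P.reflectionPerm q p)
  haveI := mono_u D (D.P.reflectionPerm q p)
  obtain ⟨C, hC⟩ := h.exists_C
  set c := D.P.reflectionPerm q p with hc
  set Q := (ptOf 1 : X ⟶ Red.Ga S) ≫ D.u q with hQdef
  set N := ((ptOf 1 : X ⟶ Red.Ga S) ≫ D.u (D.P.reflectionPerm q q))⁻¹ with hN
  have hw : toUnit X ≫ wq = Q * N * Q := by
    refine (congrArg (toUnit X ≫ ·) h.Q.hw).trans ?_
    simp only [Q, N, MonObj.comp_mul, GrpObj.comp_inv, ← Category.assoc, comp_ptOf, map_one]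
  obtain ⟨z', hz'⟩ := h.Q.isRefl.conj_u p x (X := X)
  have step1 : Q * (x ≫ D.u p) * Q⁻¹ = (x ≫ D.u p) * (z ≫ D.u c) := by
    rw [hz, _root_.mul_assoc (x ≫ D.u p), (h.comm_sum' (ptOf 1) z).eq]
    simp only [hc, hQdef]
    group
  obtain ⟨r, hr⟩ := h.conj_neg_sum ((ptOf 1 : X ⟶ Red.Ga S)⁻¹) z
  rw [← inv_u, ← hN] at hr
  have step2 : N * ((x ≫ D.u p) * (z ≫ D.u c)) * N⁻¹ = ((x * r) ≫ D.u p) * (z ≫ D.u c) := by
    have c2 : N * (x ≫ D.u p) * N⁻¹ = x ≫ D.u p := by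
      rw [hN, inv_u, ← (h.comm_neg x _).eq, mul_inv_cancel_right]
    calc N * ((x ≫ D.u p) * (z ≫ D.u c)) * N⁻¹ = (N * (x ≫ D.u p) * N⁻¹) * (N * (z ≫ D.u c) * N⁻¹) := by group
      _ = (x ≫ D.u p) * ((z ≫ D.u c) * (r ≫ D.u p)) := by rw [c2, hr]
      _ = _ := by rw [← (h.comm_sum r z).eq, ← _root_.mul_assoc, MonObj.mul_comp]
  set z₂ : X ⟶ Red.Ga S := ptOf (X.hom.appTop C * Red.gaFn (x * r) * Red.gaFn (ptOf 1 : X ⟶ Red.Ga S)) with hz₂
  have step3 : Q * (((x * r) ≫ D.u p) * (z ≫ D.u c)) * Q⁻¹ = ((x * r) ≫ D.u p) * ((z₂ * z) ≫ D.u c) := by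
    rw [MonObj.mul_comp z₂ z (D.u c), ← _root_.mul_assoc Q, hC X (x * r) (ptOf 1), _root_.mul_assoc (((x * r) ≫ D.u p) * Q),
      ← MonObj.mul_comp, _root_.mul_assoc ((x * r) ≫ D.u p), (h.comm_sum' (ptOf 1) _).eq]
    simp only [hc, hQdef, hz₂]
    group
  have total : ((x * r) ≫ D.u p) * ((z₂ * z) ≫ D.u c) = z' ≫ D.u c := by
    rw [← hz', hw, ← step3, ← step2, ← step1]
    group
  have hinj : Function.Injective ![p, c] := by
    intro i j e
    fin_cases i <;> fin_cases j <;> simp only [Fin.zero_eta, Fin.mk_one, Matrix.cons_val_zero,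
      Matrix.cons_val_one] at e ⊢
    · exact absurd (congrArg D.P.root e) (by rw [h.root_sum, left_eq_add]; exact D.P.ne_zero q)
    · exact absurd (congrArg D.P.root e.symm) (by rw [h.root_sum, left_eq_add]; exact D.P.ne_zero q)
  have hmem : ∀ k, ![p, c] k ∈ (sidesOfBase D.P b).pos := by
    intro k
    fin_cases k
    · exact AddSubmonoid.subset_closure ⟨p, h.hp, rfl⟩
    · show D.P.root c ∈ AddSubmonoid.closure _
      rw [h.root_sum]
      exact add_mem (AddSubmonoid.subset_closure ⟨p, h.hp, rfl⟩) (AddSubmonoid.subset_closure ⟨q, h.hq, rfl⟩)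
  have hind := prod_injective D (sidesOfBase D.P b) hinj hmem (z := ![x * r, z₂ * z]) (z' := ![1, z'])
    (by simpa [List.ofFn_succ, MonObj.one_comp] using total)
  have hxr : x * r = 1 := by simpa using congrFun hind 0
  have hz2' : z₂ * z = z' := by simpa using congrFun hind 1
  have hz21 : z₂ ≫ D.u c = 1 := by
    have := hC X (x * r) (ptOf 1)
    rwa [← hz₂, hxr, MonObj.one_comp, _root_.mul_one, _root_.one_mul, left_eq_mul] at this
  rw [hz', ← hz2', MonObj.mul_comp, hz21, _root_.one_mul]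

/-- The three relations between the Weyl elements and the root groups of the pair. -/
theorem PairA2.commutator {X : Over S} (x y xy : X ⟶ Red.Ga S) (hxy : Red.gaFn xy = Red.gaFn x * Red.gaFn y) :
    (y ≫ D.u q) * (x ≫ D.u p) =
      (x ≫ D.u p) * (y ≫ D.u q) * ((toUnit X ≫ wq) * (xy ≫ D.u p) * (toUnit X ≫ wq)⁻¹) := by
  obtain ⟨C, hC⟩ := h.exists_C
  rw [h.conj_u_eq xy _ (hC X xy (ptOf 1)), hC X x y, gaFn_ptOf, _root_.mul_one, hxy, _root_.mul_assoc (X.hom.appTop C)]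

theorem PairA2.swap_eq {X : Over S} (x : X ⟶ Red.Ga S) :
    (toUnit X ≫ wp) * (x ≫ D.u q) * (toUnit X ≫ wp)⁻¹ =
      ((toUnit X ≫ wq) * (x ≫ D.u p) * (toUnit X ≫ wq)⁻¹)⁻¹ := by
  obtain ⟨C, hC⟩ := h.exists_C
  set z := (ptOf (X.hom.appTop C * Red.gaFn x) : X ⟶ Red.Ga S) with hz
  have h1 : (toUnit X ≫ wq) * (x ≫ D.u p) * (toUnit X ≫ wq)⁻¹ = z ≫ D.u (D.P.reflectionPerm q p) := by
    refine h.conj_u_eq x z ?_
    rw [hC X x (ptOf 1), gaFn_ptOf, _root_.mul_one]
  have h2 : (toUnit X ≫ wp) * (x ≫ D.u q) * (toUnit X ≫ wp)⁻¹ = z⁻¹ ≫ D.u (D.P.reflectionPerm p q) := by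
    refine h.symm.conj_u_eq x z⁻¹ ?_
    rw [h.perm_eq, ← inv_u, hC X (ptOf 1) x, gaFn_ptOf, _root_.mul_one]
    simp only [hz, mul_inv_cancel_right]
  rw [h1, h2, h.perm_eq, inv_u]

theorem PairA2.conj_conj {X : Over S} (x : X ⟶ Red.Ga S) :
    (toUnit X ≫ wp) * ((toUnit X ≫ wq) * (x ≫ D.u p) * (toUnit X ≫ wq)⁻¹) * (toUnit X ≫ wp)⁻¹ = x ≫ D.u q := by
  have e := congrArg Inv.inv (h.swap_eq x)
  rw [inv_inv] at e
  have e2 := h.P.sq_conj h.hqp x⁻¹
  rw [inv_inv x, ← inv_u] at e2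
  refine Eq.trans ?_ e2
  rw [← e]
  group

theorem PairA2.sq_conj {X : Over S} (x : X ⟶ Red.Ga S) :
    (toUnit X ≫ wq) * ((toUnit X ≫ wq) * (x ≫ D.u p) * (toUnit X ≫ wq)⁻¹) * (toUnit X ≫ wq)⁻¹ = x⁻¹ ≫ D.u p :=
  h.Q.sq_conj h.hpq x

/-- The product of the two Weyl elements carries the negative root group onto the negative root group. -/
theorem PairA2.conj_neg_one : wp * wq * ((ptOf 1 : 𝟙_ (Over S) ⟶ Red.Ga S) ≫ D.u (D.P.reflectionPerm p p)) *
    (wp * wq)⁻¹ = (ptOf 1 : 𝟙_ (Over S) ⟶ Red.Ga S) ≫ D.u (D.P.reflectionPerm q q) := by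
  obtain ⟨c₀, hc₀⟩ := exists_rule (D := D) q
  set p' := D.P.reflectionPerm p p with hp'
  set q' := D.P.reflectionPerm q q with hq'
  have hperm : D.P.reflectionPerm p (D.P.reflectionPerm q p') = q' := by
    refine D.P.root.injective ?_
    rw [RootPairing.root_reflectionPerm, RootPairing.root_reflectionPerm, RootSubgrp.root_neg, RootSubgrp.root_neg,
      map_neg, reflection_root, h.hpq, map_neg, map_sub, map_zsmul, D.P.reflection_apply_self, reflection_root,
      h.hqp]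
    module
  have hexφ : ∀ {X : Over S} (y : X ⟶ Red.Ga S), ∃ y' : X ⟶ Red.Ga S,
      (toUnit X ≫ (wp * wq)) * (y ≫ D.u p') * (toUnit X ≫ (wp * wq))⁻¹ = y' ≫ D.u q' := fun {X} y => by
    obtain ⟨y₁, hy₁⟩ := h.Q.isRefl.conj_u p' y (X := X)
    obtain ⟨y₂, hy₂⟩ := h.P.isRefl.conj_u (D.P.reflectionPerm q p') y₁ (X := X)
    rw [hperm] at hy₂
    refine ⟨y₂, ?_⟩
    rw [← hy₂, ← hy₁, MonObj.comp_mul]
    group
  have hx : ∀ {X : Over S} (x : X ⟶ Red.Ga S),
      (toUnit X ≫ (wp * wq)) * (x ≫ D.u p) * (toUnit X ≫ (wp * wq))⁻¹ = x ≫ D.u q := fun {X} x => by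
    rw [← h.conj_conj x, MonObj.comp_mul]
    group
  have ht : ∀ {X : Over S} (t : X ⟶ D.T), ∃ t' : X ⟶ D.T,
      (toUnit X ≫ (wp * wq)) * (t ≫ D.i) * (toUnit X ≫ (wp * wq))⁻¹ = t' ≫ D.i := fun {X} t => by
    refine ⟨tRefl p (tRefl q t), ?_⟩
    rw [← h.P.isRefl.conj_torus, ← h.Q.isRefl.conj_torus, MonObj.comp_mul]
    group
  have key : ∀ {X : Over S} (y y' : X ⟶ Red.Ga S), IsUnit (1 + Red.gaFn y) →
      (toUnit X ≫ (wp * wq)) * (y ≫ D.u p') * (toUnit X ≫ (wp * wq))⁻¹ = y' ≫ D.u q' →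
      Red.gmFn (toUnit X ≫ c₀) * Red.gaFn y' = Red.gaFn y ∧ Red.gmFn (toUnit X ≫ c₀) * Red.gaFn y = Red.gaFn y := by
    intro X y y' hu hy'
    set one := (ptOf 1 : X ⟶ Red.Ga S) with hone
    have he : IsUnit (1 + Red.gaFn one * Red.gaFn y) := by rwa [hone, gaFn_ptOf, _root_.one_mul]
    have main : ∀ (r : X ⟶ Red.Ga S) (x₁ y₁ : X ⟶ Red.Ga S) (t₁ : X ⟶ D.T),
        (one ≫ D.u q) * (r ≫ D.u q') = (y₁ ≫ D.u q') * (t₁ ≫ D.i) * (x₁ ≫ D.u q) →
        Red.gaFn x₁ * (1 + Red.gaFn y) = 1 → Red.gmFn (toUnit X ≫ c₀) * Red.gaFn r = Red.gaFn y := by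
      intro r x₁ y₁ t₁ hd hx₁
      have h1 := (hc₀ X one r).1 ⟨y₁, t₁, x₁, hd⟩
      obtain ⟨x₂, y₂, hx₂, -, hd₂⟩ := (hc₀ X one r).2 h1.unit h1.unit_spec
      have hxx := cell_x_eq q (hd₂.symm.trans hd)
      rw [hxx, h1.unit_spec, hone, gaFn_ptOf, _root_.mul_one] at hx₂
      have := (IsUnit.of_mul_eq_one (1 + Red.gaFn y) hx₁).mul_left_cancel (hx₂.trans hx₁.symm)
      exact add_left_cancel this
    refine ⟨?_, ?_⟩
    · obtain ⟨x₁, y₁, z, hz, hx₁, -, hd⟩ := h.P.hpair X one y he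
      obtain ⟨y₂, hy₂⟩ := hexφ y₁
      obtain ⟨t₂, ht₂⟩ := ht (z ≫ avp)
      refine main y' x₁ y₂ t₂ ?_ (by rw [hz, hone, gaFn_ptOf, _root_.one_mul] at hx₁; exact hx₁)
      have hd' := congrArg (fun g => (toUnit X ≫ (wp * wq)) * g * (toUnit X ≫ (wp * wq))⁻¹) hd
      simp only [← Category.assoc z avp] at hd'
      rw [← hx one, ← hy', ← hy₂, ← ht₂, ← hx x₁]
      simpa only [conj_mul] using hd'
    · obtain ⟨x₁, y₁, z, hz, hx₁, -, hd⟩ := h.Q.hpair X one y he
      refine main y x₁ y₁ (z ≫ avq) ?_ (by rw [hz, hone, gaFn_ptOf, _root_.one_mul] at hx₁; exact hx₁)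
      rw [Category.assoc]
      exact hd
  obtain ⟨X', π, s, hπ, hs⟩ := RankOne.exists_goldCover (𝟙_ (Over S))
  rw [← cancel_epi π]
  obtain ⟨s₁, hs₁⟩ := hexφ (ptOf s : X' ⟶ Red.Ga S)
  obtain ⟨s₂, hs₂⟩ := hexφ (ptOf (1 - s) : X' ⟶ Red.Ga S)
  have u1 : IsUnit (1 + Red.gaFn (ptOf s : X' ⟶ Red.Ga S)) := by
    rw [gaFn_ptOf]; exact IsUnit.of_mul_eq_one (2 - s) (by linear_combination -hs)
  have u2 : IsUnit (1 + Red.gaFn (ptOf (1 - s) : X' ⟶ Red.Ga S)) := by
    rw [gaFn_ptOf]; exact IsUnit.of_mul_eq_one (1 + s) (by linear_combination -hs)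
  have hunit : IsUnit (Red.gmFn (toUnit X' ≫ c₀)) := by
    rw [← GmPts.val_unitOfPt]; exact Units.isUnit _
  have e1 : s₁ = ptOf s := gaFn_injective (hunit.mul_left_cancel ((key _ _ u1 hs₁).1.trans (key _ _ u1 hs₁).2.symm))
  have e2 : s₂ = ptOf (1 - s) :=
    gaFn_injective (hunit.mul_left_cancel ((key _ _ u2 hs₂).1.trans (key _ _ u2 hs₂).2.symm))
  haveI := isMonHom_u D p'
  haveI := isMonHom_u D q'
  have hone' : (ptOf 1 : X' ⟶ Red.Ga S) = ptOf s * ptOf (1 - s) := by rw [← ptOf_add, add_sub_cancel]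
  have e3 : (toUnit X' ≫ (wp * wq)) * ((ptOf 1 : X' ⟶ Red.Ga S) ≫ D.u p') * (toUnit X' ≫ (wp * wq))⁻¹ =
      (ptOf 1 : X' ⟶ Red.Ga S) ≫ D.u q' := by
    rw [hone', MonObj.mul_comp, MonObj.mul_comp, ← conj_mul, hs₁, hs₂, e1, e2]
  simpa only [MonObj.comp_mul, GrpObj.comp_inv, ← Category.assoc, comp_ptOf, map_one,
    Subsingleton.elim π (toUnit X')] using e3

theorem PairA2.conj_weyl : wp * wq * wp * (wp * wq)⁻¹ = wq := by
  have hx : ∀ x : 𝟙_ (Over S) ⟶ Red.Ga S, wp * wq * (x ≫ D.u p) * (wp * wq)⁻¹ = x ≫ D.u q := fun x => by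
    have := h.conj_conj x
    rw [toUnit_unit, Category.id_comp, Category.id_comp] at this
    rw [← this]; group
  conv_rhs => rw [h.Q.hw, ← h.conj_neg_one, ← hx]
  conv_lhs => arg 1; arg 2; rw [h.P.hw]
  group

theorem PairA2.cube : (wp * wq) ^ 3 = 1 := by
  haveI := isMonHom_i D
  have hb : wp * wq * wp = wq * wp * wq := by
    conv_rhs => rw [_root_.mul_assoc]; arg 1; rw [← h.conj_weyl]
    group
  let m : 𝟙_ (Over S) ⟶ Red.Gm S := GmPts.ptOfUnit (-1)
  have sqp : wp * wp = (m ≫ avp) ≫ D.i := by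
    have := h.P.w_sq (𝟙_ (Over S)); rwa [toUnit_unit, Category.id_comp, ← Category.assoc] at this
  have sqq : wq * wq = (m ≫ avq) ≫ D.i := by
    have := h.Q.w_sq (𝟙_ (Over S)); rwa [toUnit_unit, Category.id_comp, ← Category.assoc] at this
  have hm : m * m = 1 := by
    rw [show m * m = GmPts.ptOfUnit ((-1) * (-1)) from (RankOne.ptOfUnit_mul _ _).symm, neg_mul_neg, _root_.one_mul,
      ← GmPts.unitOfPt_one, GmPts.ptOfUnit_unitOfPt]
  haveI := h.Q.setup.mon_av
  haveI := h.P.setup.mon_av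
  have hα : (m ≫ avp) ≫ alpha D q = m := by
    rw [← GmPts.ptOfUnit_unitOfPt ((m ≫ avp) ≫ alpha D q)]
    refine congrArg GmPts.ptOfUnit (Units.ext ?_)
    rw [GmPts.val_unitOfPt, alpha, gmFn_avc h.P.hav, ← coroot'_eq, coroot'_root, h.hqp, GmPts.unitOfPt_ptOfUnit,
      zpow_neg_one, inv_neg, inv_one]
  have hconj : wq * ((m ≫ avp) ≫ D.i) * wq⁻¹ = ((m ≫ avp) * (m ≫ avq)) ≫ D.i := by
    have := h.Q.conj_torus (m ≫ avp)
    rw [toUnit_unit, Category.id_comp, hα, ← GrpObj.inv_comp m avq] at this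
    rwa [inv_eq_of_mul_eq_one_right hm] at this
  have hα' : (m ≫ avp) ≫ alpha D p = 1 := by
    rw [Category.assoc, h.P.setup.h2, pow_two, MonObj.comp_mul, Category.comp_id, hm]
  have hcomm : wp * ((m ≫ avp) ≫ D.i) = ((m ≫ avp) ≫ D.i) * wp := by
    have := h.P.conj_torus (m ≫ avp)
    rw [toUnit_unit, Category.id_comp, hα', MonObj.one_comp, inv_one, _root_.mul_one, mul_inv_eq_iff_eq_mul] at this
    exact this
  have hp2 : ((m ≫ avp) ≫ D.i) * ((m ≫ avp) ≫ D.i) = 1 := by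
    rw [← MonObj.mul_comp, ← MonObj.mul_comp, hm, MonObj.one_comp, MonObj.one_comp]
  have hq2 : ((m ≫ avq) ≫ D.i) * ((m ≫ avq) ≫ D.i) = 1 := by
    rw [← MonObj.mul_comp, ← MonObj.mul_comp, hm, MonObj.one_comp, MonObj.one_comp]
  calc (wp * wq) ^ 3 = (wp * wq * wp) * (wq * wp * wq) := by rw [pow_succ, pow_two]; group
    _ = (wp * wq * wp) * (wp * wq * wp) := by rw [hb]
    _ = wp * ((wq * ((m ≫ avp) ≫ D.i) * wq⁻¹) * (wq * wq)) * wp := by rw [← sqp]; group
    _ = wp * (((m ≫ avp) ≫ D.i) * (((m ≫ avq) ≫ D.i) * ((m ≫ avq) ≫ D.i))) * wp := by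
      rw [hconj, sqq, MonObj.mul_comp]; group
    _ = ((m ≫ avp) ≫ D.i) * (wp * wp) := by rw [hq2, _root_.mul_one, hcomm, _root_.mul_assoc]
    _ = 1 := by rw [sqp, hp2]

end A2

section Orth

variable [Nonempty S] {D : Red.SplitRed G} {b : D.P.Base} {p q : D.idx} {avp avq : Red.Gm S ⟶ D.T}
  {wp wq : 𝟙_ (Over S) ⟶ G}

/-- The Weyl elements of orthogonal simple roots commute. -/
theorem commute_weyl (hp : p ∈ b.support) (hq : q ∈ b.support) (hne : p ≠ q) (hpq : D.P.pairing p q = 0)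
    (P : Pin D p avp wp) (Q : Pin D q avq wq) : Commute wp wq := by
  have hli := b.linearIndependent_pair_of_ne (i := ⟨p, hp⟩) (j := ⟨q, hq⟩) (fun e' => hne (congrArg Subtype.val e'))
  have h0 : D.P.root p + D.P.root q ≠ 0 := fun e =>
    one_ne_zero ((LinearIndependent.pair_iff.1 hli 1 1 (by rw [one_smul, one_smul]; exact e))).1
  have hr : D.P.root p + D.P.root q ∉ Set.range D.P.root := by
    rintro ⟨d, hd⟩
    have e : D.P.root (D.P.reflectionPerm q d) = (1 : ℤ) • D.P.root p + (-1 : ℤ) • D.P.root q := by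
      rw [RootPairing.root_reflectionPerm, hd, map_add, reflection_root, D.P.reflection_apply_self, hpq]
      module
    have := comb2_sign D b hp hq hne e
    omega
  have hs : D.P.root p - D.P.root q ∉ Set.range D.P.root := b.sub_notMem_range_root hp hq
  have hs' : D.P.root q - D.P.root p ∉ Set.range D.P.root := b.sub_notMem_range_root hq hp
  have hd : D.P.root p - D.P.root q ≠ 0 := fun e => hne (D.P.root.injective (sub_eq_zero.1 e))
  have c1 : ∀ x y : 𝟙_ (Over S) ⟶ Red.Ga S, Commute (x ≫ D.u p) (y ≫ D.u q) := commute_u h0 hr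
  have c2 : ∀ x y : 𝟙_ (Over S) ⟶ Red.Ga S, Commute (x ≫ D.u p) (y ≫ D.u (D.P.reflectionPerm q q)) :=
    commute_u (by rw [RootSubgrp.root_neg, ← sub_eq_add_neg]; exact hd)
      (by rw [RootSubgrp.root_neg, ← sub_eq_add_neg]; exact hs)
  have c3 : ∀ x y : 𝟙_ (Over S) ⟶ Red.Ga S, Commute (x ≫ D.u (D.P.reflectionPerm p p)) (y ≫ D.u q) :=
    commute_u (by rw [RootSubgrp.root_neg, neg_add_eq_sub]; exact fun e => hne (D.P.root.injective (sub_eq_zero.1 e)).symm)
      (by rw [RootSubgrp.root_neg, neg_add_eq_sub]; exact hs')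
  have c4 : ∀ x y : 𝟙_ (Over S) ⟶ Red.Ga S,
      Commute (x ≫ D.u (D.P.reflectionPerm p p)) (y ≫ D.u (D.P.reflectionPerm q q)) := by
    refine commute_u ?_ ?_
    · rw [RootSubgrp.root_neg, RootSubgrp.root_neg, ← neg_add, neg_ne_zero]; exact h0
    · rw [RootSubgrp.root_neg, RootSubgrp.root_neg, ← neg_add, D.P.neg_mem_range_root_iff]; exact hr
  rw [P.hw, Q.hw]
  exact ((((c1 _ _).mul_right (c2 _ _).inv_right).mul_right (c1 _ _)).mul_left
    ((((c3 _ _).mul_right (c4 _ _).inv_right).mul_right (c3 _ _)).inv_left)).mul_left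
    (((c1 _ _).mul_right (c2 _ _).inv_right).mul_right (c1 _ _))

theorem sq_weyl (hp : p ∈ b.support) (hq : q ∈ b.support) (hne : p ≠ q) (hpq : D.P.pairing p q = 0)
    (P : Pin D p avp wp) (Q : Pin D q avq wq) (m₁ : 𝟙_ (Over S) ⟶ Red.Gm S) (hm₁ : Red.gmFn m₁ = -1) :
    (wp * wq) ^ 2 = (m₁ ≫ avp ≫ D.i) * (m₁ ≫ avq ≫ D.i) ∧ (wq * wp) ^ 2 = (m₁ ≫ avp ≫ D.i) * (m₁ ≫ avq ≫ D.i) := by
  have hm : m₁ = GmPts.ptOfUnit (-1) := eq_ptOfUnit _ (hm₁.trans (by simp))
  have hc := commute_weyl hp hq hne hpq P Q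
  have e1 := P.w_sq (𝟙_ (Over S))
  have e2 := Q.w_sq (𝟙_ (Over S))
  rw [toUnit_unit, Category.id_comp, ← pow_two, ← hm] at e1 e2
  have e : (wp * wq) ^ 2 = (m₁ ≫ avp ≫ D.i) * (m₁ ≫ avq ≫ D.i) := by rw [hc.mul_pow, e1, e2]
  exact ⟨e, by rw [← hc.eq]; exact e⟩

end Orth

section Wrap

/-- Over the empty scheme all morphisms agree. -/
theorem over_hom_eq (h : ¬ Nonempty S) {X Y : Over S} (f g : X ⟶ Y) : f = g := by
  haveI : IsEmpty ↥X.left := ⟨fun x => h ⟨X.hom x⟩⟩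
  exact Over.OverMorphism.ext (isInitialOfIsEmpty.hom_ext _ _)

/-- The hypotheses of the pinned milestones give a pinned simple root. -/
theorem pin_of (D : Red.Pinning G) {e₁ : 𝟙_ (Over S) ⟶ Red.Ga S} (he₁ : Red.gaFn e₁ = 1)
    (avc : D.idx → (Red.Gm S ⟶ D.T))
    (havc : ∀ a, avc a = Red.DSmap S (D.P.coroot a).toAddMonoidHom ≫ D.split.inv.hom.hom)
    (hpair : ∀ a ∈ D.base.support, ∀ (X : Over S) (x y : X ⟶ Red.Ga S), IsUnit (1 + Red.gaFn x * Red.gaFn y) →
        ∃ (x' y' : X ⟶ Red.Ga S) (z : X ⟶ Red.Gm S), Red.gmFn z = 1 + Red.gaFn x * Red.gaFn y ∧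
          Red.gaFn x' * Red.gmFn z = Red.gaFn x ∧ Red.gaFn y' * Red.gmFn z = Red.gaFn y ∧
          (x ≫ D.u a) * (y ≫ D.u (D.P.reflectionPerm a a)) = (y' ≫ D.u (D.P.reflectionPerm a a)) * (z ≫ avc a ≫ D.i) * (x' ≫ D.u a))
    (w : D.idx → (𝟙_ (Over S) ⟶ G))
    (hw : ∀ a, w a = (e₁ ≫ D.u a) * (e₁ ≫ D.u (D.P.reflectionPerm a a))⁻¹ * (e₁ ≫ D.u a))
    {a : D.idx} (ha : a ∈ D.base.support) : Pin D.toSplitRed a (avc a) (w a) :=
  ⟨havc a, hpair a ha, by rw [hw, eq_ptOf e₁ he₁]⟩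

end Wrap

end Bruhat

end
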