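import Groth.Agent.BruhatLib.Moves

/-!
# The roots in the plane of two simple roots
-/

set_option autoImplicit false
set_option linter.style.haveILetI false
set_option linter.unusedSectionVars false
set_option backward.isDefEq.respectTransparency false
set_option maxHeartbeats 1000000
set_option synthInstance.maxHeartbeats 400000

universe u

open CategoryTheory CategoryTheory.Limits MonoidalCategory CartesianMonoidalCategory AlgebraicGeometry
open Groth.Agent.GaPts
open Groth.Agent
open Groth.Agent.RankOne (eq_ptOf eq_ptOfUnit comp_ptOf ptOf_add)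
open scoped MonObj

noncomputable section

attribute [-instance] CategoryTheory.Hom.commGroup

namespace Bruhat

open SplitCell SplitFib RootSubgrp

variable {S : Scheme.{u}} {G : Over S} [GrpObj G]

/-- The root is the combination with the given coefficients of two roots. -/
def IsComb (D : Red.SplitRed G) (p q : D.idx) (d : D.idx) (i j : ℤ) : Prop :=
  D.P.root d = i • D.P.root p + j • D.P.root q

/-- Two distinct simple roots. -/
structure SimplePair (D : Red.SplitRed G) (b : D.P.Base) (p q : D.idx) : Prop where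
  hp : p ∈ b.support
  hq : q ∈ b.support
  hne : p ≠ q

variable [Nonempty S] {D : Red.SplitRed G} {b : D.P.Base} {p q : D.idx}

omit [Nonempty S] in
theorem SimplePair.symm (h : SimplePair D b p q) : SimplePair D b q p := ⟨h.hq, h.hp, h.hne.symm⟩

omit [Nonempty S] in
theorem SimplePair.comb_eq_zero (h : SimplePair D b p q) {i j : ℤ} (e : i • D.P.root p + j • D.P.root q = 0) :
    i = 0 ∧ j = 0 := by
  have hli := b.linearIndependent_pair_of_ne (i := ⟨p, h.hp⟩) (j := ⟨q, h.hq⟩)
    (fun e' => h.hne (congrArg Subtype.val e'))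
  exact LinearIndependent.pair_iff.1 hli i j e

omit [Nonempty S] in
theorem SimplePair.comb_ext (h : SimplePair D b p q) {d : D.idx} {i j i' j' : ℤ} (e : IsComb D p q d i j)
    (e' : IsComb D p q d i' j') : i = i' ∧ j = j' := by
  have h0 : (i - i') • D.P.root p + (j - j') • D.P.root q = 0 := by
    have h1 : i • D.P.root p + j • D.P.root q - (i' • D.P.root p + j' • D.P.root q) = 0 := sub_eq_zero.2 (e.symm.trans e')
    rw [← h1]; module
  obtain ⟨h1, h2⟩ := h.comb_eq_zero h0
  omega

omit [Nonempty S] in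
theorem isComb_left : IsComb D p q p 1 0 := by simp [IsComb]

omit [Nonempty S] in
theorem isComb_right : IsComb D p q q 0 1 := by simp [IsComb]

theorem IsComb.neg {d : D.idx} {i j : ℤ} (h : IsComb D p q d i j) :
    IsComb D p q (D.P.reflectionPerm d d) (-i) (-j) := by
  rw [IsComb, root_neg, h]; module

omit [Nonempty S] in
theorem IsComb.refl {d : D.idx} {i j : ℤ} (h : IsComb D p q d i j) (c : D.idx) {k l : ℤ}
    (hc : IsComb D p q c k l) :
    IsComb D p q (D.P.reflectionPerm c d) (i - (i * D.P.pairing p c + j * D.P.pairing q c) * k)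
      (j - (i * D.P.pairing p c + j * D.P.pairing q c) * l) := by
  rw [IsComb, RootPairing.root_reflectionPerm, h, reflection_comb, hc]; module

theorem IsComb.left_eq_one {d : D.idx} {i : ℤ} (h : IsComb D p q d i 0) : i = 1 ∨ i = -1 := by
  rcases le_or_gt 1 i with hi | hi
  · exact Or.inl (eq_one_of_root_eq_smul (d := d) (e := p) hi (by rw [h]; module))
  · rcases eq_or_ne i 0 with rfl | hi0
    · exact absurd (show D.P.root d = 0 by rw [h]; module) (D.P.ne_zero d)
    · refine Or.inr ?_
      have := eq_one_of_root_eq_smul (d := D.P.reflectionPerm d d) (e := p) (m := -i) (by omega)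
        (by rw [root_neg, h]; module)
      omega

theorem IsComb.right_eq_one {d : D.idx} {j : ℤ} (h : IsComb D p q d 0 j) : j = 1 ∨ j = -1 :=
  IsComb.left_eq_one (p := q) (q := p) (show IsComb D q p d j 0 by rw [IsComb, h]; module)

omit [Nonempty S] in
theorem SimplePair.sign (h : SimplePair D b p q) {d : D.idx} {i j : ℤ} (e : IsComb D p q d i j) :
    (0 ≤ i ∧ 0 ≤ j) ∨ (i ≤ 0 ∧ j ≤ 0) :=
  comb2_sign D b h.hp h.hq h.hne e

omit [Nonempty S] in
/-- A root with non-negative coefficients is positive. -/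
theorem SimplePair.mem_pos (h : SimplePair D b p q) {d : D.idx} {i j : ℤ} (e : IsComb D p q d i j) (hi : 0 ≤ i)
    (hj : 0 ≤ j) : d ∈ (sidesOfBase D.P b).pos := by
  show D.P.root d ∈ AddSubmonoid.closure _
  rw [e, ← Int.toNat_of_nonneg hi, ← Int.toNat_of_nonneg hj, natCast_zsmul, natCast_zsmul]
  exact add_mem (nsmul_mem (AddSubmonoid.subset_closure (Set.mem_image_of_mem _ h.hp)) _)
    (nsmul_mem (AddSubmonoid.subset_closure (Set.mem_image_of_mem _ h.hq)) _)

/-- Two roots of the plane which are not proportional lie on one side of some ordering. -/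
theorem SimplePair.exists_sides (h : SimplePair D b p q) {d e : D.idx} {i j k l : ℤ} (hd : IsComb D p q d i j)
    (he : IsComb D p q e k l) (hdet : i * l - j * k ≠ 0) : ∃ σ : Sides D.P, d ∈ σ.pos ∧ e ∈ σ.pos := by
  refine exists_sides_pair D.P (LinearIndependent.pair_iff.2 fun s t hst => ?_)
  rw [hd, he] at hst
  obtain ⟨h1, h2⟩ := h.comb_eq_zero (i := s * i + t * k) (j := s * j + t * l) (by rw [← hst]; module)
  have hs : s * (i * l - j * k) = 0 := by linear_combination l * h1 - k * h2
  have ht : t * (i * l - j * k) = 0 := by linear_combination i * h2 - j * h1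
  exact ⟨(mul_eq_zero.1 hs).resolve_right hdet, (mul_eq_zero.1 ht).resolve_right hdet⟩

/-- Root groups of the plane whose coefficients do not add up to a root commute. -/
theorem SimplePair.commute (h : SimplePair D b p q) {d e : D.idx} {i j k l : ℤ} (hd : IsComb D p q d i j)
    (he : IsComb D p q e k l) (h0 : i + k ≠ 0 ∨ j + l ≠ 0) (hno : ∀ c, ¬ IsComb D p q c (i + k) (j + l))
    {X : Over S} (x y : X ⟶ Red.Ga S) : Commute (x ≫ D.u d) (y ≫ D.u e) := by
  have hsum : D.P.root d + D.P.root e = (i + k) • D.P.root p + (j + l) • D.P.root q := by rw [hd, he]; module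
  refine commute_u (fun e0 => ?_) ?_ x y
  · rw [hsum] at e0
    obtain ⟨h1, h2⟩ := h.comb_eq_zero e0
    omega
  · rintro ⟨c, hc⟩
    exact hno c (hc.trans hsum)

/-- A Weyl element fixes a root group of the plane strongly orthogonal to its root. -/
theorem SimplePair.moves_fix (h : SimplePair D b p q) {a d : D.idx} {av : Red.Gm S ⟶ D.T} {w : 𝟙_ (Over S) ⟶ G}
    (A : Pin D a av w) {i j k l : ℤ} (ha : IsComb D p q a i j) (hd : IsComb D p q d k l)
    (h0 : i + k ≠ 0 ∨ j + l ≠ 0) (h0' : -i + k ≠ 0 ∨ -j + l ≠ 0)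
    (h1 : ∀ c, ¬ IsComb D p q c (i + k) (j + l)) (h2 : ∀ c, ¬ IsComb D p q c (-i + k) (-j + l)) :
    Moves D w d d 1 :=
  A.moves_of_commute d (fun _ x z => h.commute ha hd h0 h1 x z) fun _ x z => h.commute ha.neg hd h0' h2 x z

omit [Nonempty S] in
theorem IsComb.pairing {d : D.idx} {i j : ℤ} (e : IsComb D p q d i j) (c : D.idx) :
    D.P.pairing d c = i * D.P.pairing p c + j * D.P.pairing q c := by
  rw [← coroot'_root D, e, map_add, map_zsmul, map_zsmul, coroot'_root D, coroot'_root D, smul_eq_mul, smul_eq_mul]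

section B2

variable (h : SimplePair D b p q) (hpq : D.P.pairing p q = -1) (hqp : D.P.pairing q p = -2)
include h hpq hqp

omit [Nonempty S] in
theorem SimplePair.refl_B2_left {d : D.idx} {i j : ℤ} (e : IsComb D p q d i j) :
    IsComb D p q (D.P.reflectionPerm p d) (2 * j - i) j := by
  have := e.refl p isComb_left
  rw [RootPairing.pairing_same, hqp] at this
  convert this using 1 <;> ring

omit [Nonempty S] in
theorem SimplePair.refl_B2_right {d : D.idx} {i j : ℤ} (e : IsComb D p q d i j) :
    IsComb D p q (D.P.reflectionPerm q d) i (i - j) := by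
  have := e.refl q isComb_right
  rw [RootPairing.pairing_same, hpq] at this
  convert this using 1 <;> ring

theorem SimplePair.roots_B2 {d : D.idx} {i j : ℤ} (hi : 1 ≤ i) (hj : 1 ≤ j) (e : IsComb D p q d i j) :
    j = 1 ∧ (i = 1 ∨ i = 2) := by
  have e1 := h.refl_B2_left hpq hqp e
  have e2 := h.refl_B2_right hpq hqp e
  have s1 := h.sign e1
  have s2 := h.sign e2
  have hcase : i = 2 * j ∨ i = j := by
    by_contra hc
    have s3 := h.sign (h.refl_B2_right hpq hqp e1)
    omega
  rcases hcase with rfl | rfl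
  · rw [sub_self] at e1
    have := e1.right_eq_one
    omega
  · rw [sub_self] at e2
    have := e2.left_eq_one
    omega

/-- No other combination is a root. -/
theorem SimplePair.not_root_B2 {d : D.idx} {i j : ℤ} (e : IsComb D p q d i j) :
    ((i = 1 ∨ i = -1) ∧ j = 0) ∨ (i = 0 ∧ (j = 1 ∨ j = -1)) ∨ (i = 1 ∧ j = 1) ∨ (i = 2 ∧ j = 1) ∨
      (i = -1 ∧ j = -1) ∨ (i = -2 ∧ j = -1) := by
  rcases eq_or_ne i 0 with rfl | hi
  · have := e.right_eq_one; omega
  rcases eq_or_ne j 0 with rfl | hj
  · have := e.left_eq_one; omega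
  rcases h.sign e with hs | hs
  · have := h.roots_B2 hpq hqp (by omega) (by omega) e; omega
  · have := h.roots_B2 hpq hqp (by omega) (by omega) e.neg; omega

end B2

section G2

variable (h : SimplePair D b p q) (hpq : D.P.pairing p q = -1) (hqp : D.P.pairing q p = -3)
include h hpq hqp

omit [Nonempty S] in
theorem SimplePair.refl_G2_left {d : D.idx} {i j : ℤ} (e : IsComb D p q d i j) :
    IsComb D p q (D.P.reflectionPerm p d) (3 * j - i) j := by
  have := e.refl p isComb_left
  rw [RootPairing.pairing_same, hqp] at this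
  convert this using 1 <;> ring

omit [Nonempty S] in
theorem SimplePair.refl_G2_right {d : D.idx} {i j : ℤ} (e : IsComb D p q d i j) :
    IsComb D p q (D.P.reflectionPerm q d) i (i - j) := by
  have := e.refl q isComb_right
  rw [RootPairing.pairing_same, hpq] at this
  convert this using 1 <;> ring

theorem SimplePair.bound_G2 {d : D.idx} {i j : ℤ} (hi : 1 ≤ i) (hj : 1 ≤ j) (e : IsComb D p q d i j) :
    j ≤ i ∧ i ≤ 3 * j := by
  have s1 := h.sign (h.refl_G2_left hpq hqp e)
  have s2 := h.sign (h.refl_G2_right hpq hqp e)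
  omega

theorem SimplePair.roots_G2 {d : D.idx} {i j : ℤ} (hi : 1 ≤ i) (hj : 1 ≤ j) (e : IsComb D p q d i j) :
    (j = 1 ∧ (i = 1 ∨ i = 2 ∨ i = 3)) ∨ (i = 3 ∧ j = 2) := by
  -- the extreme cases
  have htop : ∀ {d' : D.idx} {i' j' : ℤ}, IsComb D p q d' i' j' → i' = 3 * j' → j' = 1 ∨ j' = -1 := by
    intro d' i' j' e' he
    have e1 := h.refl_G2_left hpq hqp e'
    rw [show 3 * j' - i' = 0 by omega] at e1
    exact e1.right_eq_one
  have hlow : ∀ {d' : D.idx} {i' j' : ℤ}, IsComb D p q d' i' j' → i' = j' → i' = 1 ∨ i' = -1 := by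
    intro d' i' j' e' he
    have e1 := h.refl_G2_right hpq hqp e'
    rw [show i' - j' = 0 by omega] at e1
    exact e1.left_eq_one
  have hb := h.bound_G2 hpq hqp hi hj e
  by_cases h3 : i = 3 * j
  · have := htop e h3; omega
  by_cases h1 : i = j
  · have := hlow e h1; omega
  have e1 := h.refl_G2_left hpq hqp e
  have e2 := h.refl_G2_right hpq hqp e
  have b1 := h.bound_G2 hpq hqp (by omega) hj e1
  by_cases h2 : i = 2 * j
  · have := hlow e1 (by omega); omega
  have b2 := h.bound_G2 hpq hqp hi (by omega) e2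
  by_cases h4 : 2 * i = 3 * j
  · have := htop e2 (by omega); omega
  have e21 := h.refl_G2_left hpq hqp e2
  have b3 := h.bound_G2 hpq hqp (by omega) (by omega) e21
  omega

/-- No other combination is a root. -/
theorem SimplePair.not_root_G2 {d : D.idx} {i j : ℤ} (e : IsComb D p q d i j) :
    ((i = 1 ∨ i = -1) ∧ j = 0) ∨ (i = 0 ∧ (j = 1 ∨ j = -1)) ∨
      (1 ≤ i ∧ i ≤ 3 ∧ j = 1) ∨ (i = 3 ∧ j = 2) ∨
      (1 ≤ -i ∧ -i ≤ 3 ∧ j = -1) ∨ (i = -3 ∧ j = -2) := by
  rcases eq_or_ne i 0 with rfl | hi
  · have := e.right_eq_one; omega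
  rcases eq_or_ne j 0 with rfl | hj
  · have := e.left_eq_one; omega
  rcases h.sign e with hs | hs
  · have := h.roots_G2 hpq hqp (by omega) (by omega) e; omega
  · have := h.roots_G2 hpq hqp (by omega) (by omega) e.neg; omega

end G2

end Bruhat

end
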