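import Groth.Agent.BruhatLib.RadTorus
import Groth.Agent.BigCellLib.Torus

/-!
# The product of the central torus and the subtorus of the coroots
-/

set_option autoImplicit false
set_option linter.style.haveILetI false
set_option linter.unusedSectionVars false
set_option backward.isDefEq.respectTransparency false
set_option maxHeartbeats 1000000
set_option synthInstance.maxHeartbeats 400000

universe u

open CategoryTheory CategoryTheory.Limits MonoidalCategory CartesianMonoidalCategory AlgebraicGeometry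
open Groth.Agent.GaPts
open Groth.Agent
open scoped MonObj

noncomputable section

attribute [-instance] CategoryTheory.Hom.commGroup

namespace Bruhat

open SplitCell SplitFib RootSubgrp

/-- A map of diagonalisable groups dual to a map with finite cokernel is finite. -/
theorem isFinite_DSmap {S : Scheme.{u}} {M M' : Type} [AddCommGroup M] [AddCommGroup M'] [AddGroup.FG M'] (φ : M →+ M')
    (h : ∀ y : M', ∃ n : ℕ, n ≠ 0 ∧ n • y ∈ φ.range) : IsFinite (Red.DSmap S φ).left := by
  let θ := (MonoidAlgebra.mapDomainAlgHom (ULift.{u} ℤ) (ULift.{u} ℤ) φ.toMultiplicative).toRingHom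
  have hint : θ.IsIntegral := by
    letI := θ.toAlgebra
    intro p
    have hof : ∀ (m : Multiplicative M'), θ.IsIntegralElem (MonoidAlgebra.of (ULift.{u} ℤ) _ m) := fun m => by
      obtain ⟨n, hn, x, hx⟩ := h (Multiplicative.toAdd m)
      refine IsIntegral.of_pow (R := MonoidAlgebra (ULift.{u} ℤ) (Multiplicative M)) (Nat.pos_of_ne_zero hn) ?_
      have e : (MonoidAlgebra.of (ULift.{u} ℤ) (Multiplicative M') m) ^ n =
          algebraMap (MonoidAlgebra (ULift.{u} ℤ) (Multiplicative M)) _ (MonoidAlgebra.of (ULift.{u} ℤ) _ (Multiplicative.ofAdd x)) := by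
        rw [← map_pow]
        show _ = θ _
        simp only [θ, AlgHom.toRingHom_eq_coe, RingHom.coe_coe, MonoidAlgebra.of_apply,
          MonoidAlgebra.mapDomainAlgHom_apply, Finsupp.mapDomain_single]
        rw [MonoidAlgebra.mapDomain_single]
        congr 1
        apply Multiplicative.toAdd.injective
        simp [hx]
      rw [e]
      exact isIntegral_algebraMap
    induction p using MonoidAlgebra.induction_on with
    | of m => exact hof m
    | add a b ha hb => exact IsIntegral.add (R := MonoidAlgebra (ULift.{u} ℤ) (Multiplicative M)) ha hb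
    | smul c a ha =>
      have e : c • a = algebraMap (MonoidAlgebra (ULift.{u} ℤ) (Multiplicative M)) _
          (algebraMap (ULift.{u} ℤ) _ c) * a := by
        rw [Algebra.smul_def]
        congr 1
        exact ((MonoidAlgebra.mapDomainAlgHom (ULift.{u} ℤ) (ULift.{u} ℤ) φ.toMultiplicative).commutes c).symm
      rw [e]
      exact IsIntegral.mul (R := MonoidAlgebra (ULift.{u} ℤ) (Multiplicative M)) isIntegral_algebraMap ha
  have hfin : θ.Finite := RingHom.finite_iff_isIntegral_and_finiteType.2 ⟨hint, by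
    haveI : Algebra.FiniteType (ULift.{u} ℤ) (MonoidAlgebra (ULift.{u} ℤ) (Multiplicative M')) := inferInstance
    refine RingHom.FiniteType.of_comp_finiteType (f := algebraMap (ULift.{u} ℤ) _) ?_
    have e : θ.comp (algebraMap (ULift.{u} ℤ) (MonoidAlgebra (ULift.{u} ℤ) (Multiplicative M))) =
        algebraMap (ULift.{u} ℤ) (MonoidAlgebra (ULift.{u} ℤ) (Multiplicative M')) :=
      RingHom.ext (MonoidAlgebra.mapDomainAlgHom (ULift.{u} ℤ) (ULift.{u} ℤ) φ.toMultiplicative).commutes
    rw [e]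
    exact RingHom.finiteType_algebraMap.2 inferInstance⟩
  have gfin : IsFinite (Red.diagMap (ULift.{u} ℤ) φ).left := by
    show IsFinite (Spec.map (CommRingCat.ofHom θ))
    exact (IsFinite.SpecMap_iff _).2 hfin
  exact MorphismProperty.of_isPullback (KummerExactLib.isPullback_DSmap (S := S) φ) gfin

variable {S : Scheme.{u}} {G : Over S} [GrpObj G] (D : Red.SplitRed G) (N : AddSubgroup D.M)
  (hN : ∀ x : D.M, x ∈ N ↔ ∀ a, coF D a x = 0)

include hN in
/-- The characters orthogonal to the coroots and the roots span a subgroup of finite index. -/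
theorem exists_smul_mem (x : D.M) : ∃ (n : ℕ) (a : D.M) (b : D.M), n ≠ 0 ∧ a ∈ N ∧ b ∈ D.P.rootSpan ℤ ∧
    n • x = a + b := by
  by_contra hx
  push Not at hx
  obtain ⟨g, hg, hgx⟩ := exists_functional_of_not_torsion (AddSubgroup.toIntSubmodule N ⊔ D.P.rootSpan ℤ) x
    (fun k hk hmem => by
      obtain ⟨a, ha, b, hb, hab⟩ := Submodule.mem_sup.1 hmem
      rcases Int.natAbs_eq k with e | e
      · exact hx k.natAbs a b (Int.natAbs_ne_zero.2 hk) ha hb (by rw [← natCast_zsmul, ← e, hab])
      · exact hx k.natAbs (-a) (-b) (Int.natAbs_ne_zero.2 hk) (N.neg_mem ha) (neg_mem hb) (by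
          rw [← natCast_zsmul, show ((k.natAbs : ℕ) : ℤ) = -k by omega, neg_smul, ← hab, neg_add]))
  haveI := Fintype.ofFinite D.idx
  have hgroot : ∀ a, g (D.P.root a) = 0 := fun a => hg _ (Submodule.mem_sup_right (Submodule.subset_span ⟨a, rfl⟩))
  by_cases hc : ∃ k : ℤ, k ≠ 0 ∧ k • g ∈ D.P.corootSpan ℤ
  · obtain ⟨k, hk, hmem⟩ := hc
    have h0 : k • g = 0 := by
      refine (Submodule.disjoint_def.1 D.P.disjoint_corootSpan_ker_corootForm) _ hmem ?_
      refine LinearMap.mem_ker.2 (LinearMap.ext fun y => ?_)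
      rw [RootPairing.corootForm_apply_apply, LinearMap.zero_apply]
      refine Finset.sum_eq_zero fun c _ => ?_
      have : D.P.root' c (k • g) = 0 := by
        show D.P.toLinearMap (D.P.root c) (k • g) = 0
        rw [D.pairing_eq, Module.Dual.eval_apply, LinearMap.smul_apply, hgroot, smul_zero]
      rw [this, zero_mul]
    exact hgx (by
      have := LinearMap.congr_fun h0 x
      rw [LinearMap.smul_apply, LinearMap.zero_apply, smul_eq_mul] at this
      exact (mul_eq_zero.1 this).resolve_left hk)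
  · push Not at hc
    obtain ⟨ψ, hψ, hψg⟩ := exists_functional_of_not_torsion (D.P.corootSpan ℤ) g hc
    obtain ⟨y, rfl⟩ := (Module.bijective_dual_eval ℤ D.M).2 ψ
    refine hψg (hg y (Submodule.mem_sup_left ((hN y).2 fun a => ?_)))
    exact hψ (D.P.coroot a) (Submodule.subset_span ⟨a, rfl⟩)

variable [Nonempty S]

include hN in
/-- **The central torus times the subtorus of the coroots maps to the torus by an isogeny.** -/
theorem rad_mul_isogeny {Z R : Over S} [GrpObj Z] [GrpObj R] (j : Z ⟶ G) (hZ : Red.IsCentre j) (r : R ⟶ Z)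
    (hR : Red.IsMaximalTorus r) (r' : R ⟶ D.T) (hr' : r' ≫ D.i = r ≫ j) :
    Surjective ((r' ⊗ₘ iotN D N) ≫ μ[D.T]).left ∧ Flat ((r' ⊗ₘ iotN D N) ≫ μ[D.T]).left ∧
      IsFinite ((r' ⊗ₘ iotN D N) ≫ μ[D.T]).left := by
  obtain ⟨q, hq, rfl⟩ := exists_iso_rad D j hZ r hR r' hr'
  let R₀ := satRoots D
  let Θ : D.M →+ (D.M ⧸ R₀) × (D.M ⧸ N) := (QuotientAddGroup.mk' R₀).prod (QuotientAddGroup.mk' N)
  have hΘ : Function.Injective Θ := by
    rw [injective_iff_map_eq_zero]
    intro x hx
    obtain ⟨n, hn, hmem⟩ := (QuotientAddGroup.eq_zero_iff x).1 (congrArg Prod.fst hx)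
    have h0 : n • x = 0 := eq_zero_of_mem_rootSpan D N hN hmem
      (N.nsmul_mem ((QuotientAddGroup.eq_zero_iff x).1 (congrArg Prod.snd hx)) n)
    rw [← natCast_zsmul] at h0
    exact (smul_eq_zero.1 h0).resolve_left (Int.natCast_ne_zero.2 hn)
  have hcok : ∀ y : (D.M ⧸ R₀) × (D.M ⧸ N), ∃ n : ℕ, n ≠ 0 ∧ n • y ∈ Θ.range := by
    rintro ⟨y₁, y₂⟩
    obtain ⟨x₁, rfl⟩ := QuotientAddGroup.mk'_surjective R₀ y₁
    obtain ⟨x₂, rfl⟩ := QuotientAddGroup.mk'_surjective N y₂
    obtain ⟨n, a, b, hn, ha, hb, hab⟩ := exists_smul_mem D N hN (x₁ - x₂)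
    refine ⟨n, hn, n • x₂ + b + (a + b - (a + b)) + a - b, ?_⟩
    show (QuotientAddGroup.mk' R₀ _, QuotientAddGroup.mk' N _) = (n • QuotientAddGroup.mk' R₀ x₁, n • QuotientAddGroup.mk' N x₂)
    rw [← map_nsmul, ← map_nsmul]
    refine Prod.ext (QuotientAddGroup.eq_iff_sub_mem.2 ?_) (QuotientAddGroup.eq_iff_sub_mem.2 ?_)
    · have e : n • x₂ + b + (a + b - (a + b)) + a - b - n • x₁ = a - (n • x₁ - n • x₂) := by abel
      rw [e, ← nsmul_sub, hab, sub_add_cancel_left]
      exact R₀.neg_mem ⟨1, one_ne_zero, by rw [one_nsmul]; exact hb⟩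
    · have e : n • x₂ + b + (a + b - (a + b)) + a - b - n • x₂ = a := by abel
      rw [e]
      exact ha
  haveI : AddGroup.FG ((D.M ⧸ R₀) × (D.M ⧸ N)) := by
    haveI : AddGroup.FG D.M := Module.Finite.iff_addGroup_fg.1 inferInstance
    infer_instance
  obtain ⟨h1, h2⟩ := DSImg.flat_surjective_DSmap (S := S) hΘ
  have h3 := isFinite_DSmap (S := S) Θ hcok
  haveI := h1; haveI := h2; haveI := h3
  let e : Red.DS S ((D.M ⧸ R₀) × (D.M ⧸ N)) ⟶ R ⊗ Red.DS S (D.M ⧸ N) :=
    lift (Red.DSmap S (AddMonoidHom.inl _ _) ≫ inv q) (Red.DSmap S (AddMonoidHom.inr _ _))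
  let e' : R ⊗ Red.DS S (D.M ⧸ N) ⟶ Red.DS S ((D.M ⧸ R₀) × (D.M ⧸ N)) :=
    DSPtsLib.dsPt (AddMonoidHom.toMultiplicativeLeft ((MonoidHom.toAdditiveRight (MultSubLib.chars (fst _ _ ≫ q))).coprod
      (MonoidHom.toAdditiveRight (MultSubLib.chars (snd R (Red.DS S (D.M ⧸ N)))))))
  have he1 : e' ≫ Red.DSmap S (AddMonoidHom.inl _ _) = fst _ _ ≫ q := by
    refine MultSubLib.chars_injective (MonoidHom.ext fun y => ?_)
    obtain ⟨y, rfl⟩ := Multiplicative.ofAdd.surjective y
    rw [DSImg.chars_comp_DSmap, MultSubLib.chars_dsPt]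
    show MultSubLib.chars _ (Multiplicative.ofAdd _) * MultSubLib.chars _ (Multiplicative.ofAdd _) = _
    simp
    erw [map_one, _root_.mul_one]
  have he2 : e' ≫ Red.DSmap S (AddMonoidHom.inr _ _) = snd _ _ := by
    refine MultSubLib.chars_injective (MonoidHom.ext fun y => ?_)
    obtain ⟨y, rfl⟩ := Multiplicative.ofAdd.surjective y
    rw [DSImg.chars_comp_DSmap, MultSubLib.chars_dsPt]
    show MultSubLib.chars _ (Multiplicative.ofAdd _) * MultSubLib.chars _ (Multiplicative.ofAdd _) = _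
    simp
    erw [map_one, _root_.one_mul]
  have hmain : (q ≫ iotN D R₀) ⊗ₘ iotN D N ≫ 𝟙 _ = (q ≫ iotN D R₀) ⊗ₘ iotN D N := by rw [Category.comp_id]
  have hm : ((q ≫ iotN D R₀) ⊗ₘ iotN D N) ≫ μ[D.T] = e' ≫ Red.DSmap S Θ ≫ D.split.inv.hom.hom := by
    have e0 : D.split.inv.hom.hom ≫ D.split.hom.hom.hom = 𝟙 _ := congrArg (fun q => q.hom.hom) D.split.inv_hom_id
    refine torus_ext (MonoidHom.ext fun y => ?_)
    obtain ⟨y, rfl⟩ := Multiplicative.ofAdd.surjective y
    rw [MonObj.mul_eq_mul, MonObj.comp_mul, tensorHom_fst, tensorHom_snd, split_hom_mul, MultSubLib.chars_mul,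
      MonoidHom.mul_apply, Category.assoc, Category.assoc, Category.assoc, iotN_split, iotN_split, ← Category.assoc (fst _ _),
      ← he1, ← he2, Category.assoc e', Category.assoc e', DSImg.DSmap_comp, DSImg.DSmap_comp, Category.assoc e', Category.assoc (Red.DSmap S Θ), e0,
      Category.comp_id, DSImg.chars_comp_DSmap, DSImg.chars_comp_DSmap, DSImg.chars_comp_DSmap]
    simp only [MonoidHom.comp_apply]
    rw [← map_mul]
    congr 1
    show Multiplicative.ofAdd _ * Multiplicative.ofAdd _ = Multiplicative.ofAdd (Θ y)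
    rw [← ofAdd_add]
    congr 1
    show ((QuotientAddGroup.mk' R₀) y, (0 : D.M ⧸ N)) + ((0 : D.M ⧸ R₀), (QuotientAddGroup.mk' N) y) = Θ y
    simp [Θ]
  haveI : IsIso e' := ⟨e, by
      refine CartesianMonoidalCategory.hom_ext _ _ ?_ ?_
      · rw [Category.assoc, lift_fst, ← Category.assoc, he1, Category.assoc, IsIso.hom_inv_id, Category.comp_id, Category.id_comp]
      · rw [Category.assoc, lift_snd, he2, Category.id_comp], by
      refine MultSubLib.chars_injective (MonoidHom.ext fun y => ?_)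
      obtain ⟨⟨a, b⟩, rfl⟩ := Multiplicative.ofAdd.surjective y
      rw [show ((a, b) : (D.M ⧸ R₀) × (D.M ⧸ N)) = AddMonoidHom.inl _ _ a + AddMonoidHom.inr _ _ b by simp, ofAdd_add,
        map_mul, map_mul]
      have k1 : MultSubLib.chars (e ≫ e') (Multiplicative.ofAdd (AddMonoidHom.inl (D.M ⧸ R₀) (D.M ⧸ N) a)) =
          MultSubLib.chars ((e ≫ e') ≫ Red.DSmap S (AddMonoidHom.inl _ _)) (Multiplicative.ofAdd a) := by
        rw [DSImg.chars_comp_DSmap]; rfl
      have k2 : MultSubLib.chars (e ≫ e') (Multiplicative.ofAdd (AddMonoidHom.inr (D.M ⧸ R₀) (D.M ⧸ N) b)) =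
          MultSubLib.chars ((e ≫ e') ≫ Red.DSmap S (AddMonoidHom.inr _ _)) (Multiplicative.ofAdd b) := by
        rw [DSImg.chars_comp_DSmap]; rfl
      rw [k1, k2, Category.assoc, he1, Category.assoc, he2, lift_fst_assoc, lift_snd, Category.assoc, IsIso.inv_hom_id,
        Category.comp_id]
      have hh : ∀ {M M' : Type} [AddCommGroup M] [AddCommGroup M'] (φ : M →+ M') (x : M),
          MultSubLib.chars (Red.DSmap S φ) (Multiplicative.ofAdd x) =
            MultSubLib.chars (𝟙 (Red.DS S M')) (Multiplicative.ofAdd (φ x)) := fun φ x => by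
        conv_lhs => rw [← Category.id_comp (Red.DSmap S φ), DSImg.chars_comp_DSmap]
        rfl
      rw [hh, hh]⟩
  haveI : IsIso D.split.inv.hom.hom :=
    ⟨D.split.hom.hom.hom, congrArg (fun q => q.hom.hom) D.split.inv_hom_id, congrArg (fun q => q.hom.hom) D.split.hom_inv_id⟩
  haveI : IsIso e'.left := ((Over.forget S).mapIso (asIso e')).isIso_hom
  haveI : IsIso (D.split.inv.hom.hom).left := ((Over.forget S).mapIso (asIso D.split.inv.hom.hom)).isIso_hom
  rw [hm, Over.comp_left, Over.comp_left]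
  exact ⟨inferInstance, inferInstance, inferInstance⟩

end Bruhat

end
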