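import Groth.Agent.BruhatLib.DerSplit
import Groth.Agent.RedRankLib.CommRel
import Groth.Agent.RedRankLib.Max
import Groth.Agent.MultEqLib.Le
import Groth.Agent.RCentreLib.SelfCent

/-!
# The maximal central torus of a split group

A central subtorus is killed by the roots and by every character a multiple of which is a combination of roots, so the
maximal central torus is the group with characters modulo the saturation of the roots.
-/

set_option autoImplicit false
set_option linter.style.haveILetI false
set_option linter.unusedSectionVars false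
set_option backward.isDefEq.respectTransparency false
set_option maxHeartbeats 1000000
set_option synthInstance.maxHeartbeats 400000

universe u

open CategoryTheory CategoryTheory.Limits MonoidalCategory CartesianMonoidalCategory AlgebraicGeometry
open Groth.Agent.GaPts
open Groth.Agent
open Groth.Agent.HomRep (bcEquiv bcEquiv_mul bcEquiv_symm_mul)
open scoped MonObj

noncomputable section

attribute [-instance] CategoryTheory.Hom.commGroup

namespace Bruhat

open SplitCell SplitFib RootSubgrp

/-- A character of a torus with a trivial power is trivial. -/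
theorem eq_one_of_torus_pow {S : Scheme.{u}} {T : Over S} [GrpObj T] (hT : Red.IsTorus T) (χ : T ⟶ Red.Gm S)
    [IsMonHom χ] {n : ℕ} (hn : n ≠ 0)
    (h : ∀ (X : Over S) (t : X ⟶ T), Red.gmFn (t ≫ χ) ^ n = 1) : χ = 1 := by
  obtain ⟨I, P, p, hflat, hsurj, hj⟩ := BigCell.exists_split_cover hT
  refine BigCell.hom_ext_pieces p hflat hsurj fun i => ?_
  obtain ⟨r, j, hjm⟩ := hj i
  haveI := hjm
  obtain ⟨a, ha⟩ := BigCell.exists_tau (p i) j (BigCell.pieceMap (p i) T)
  let φ : (Fin r → ℤ) →+ (Fin r → ℤ) := DistribSMul.toAddMonoidHom _ n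
  have hφ : Function.Injective φ := fun x y hxy => funext fun k => by
    have := congrFun hxy k
    simpa [φ, hn] using this
  obtain ⟨h1, h2⟩ := DSImg.flat_surjective_DSmap (S := P i) hφ
  haveI := h1; haveI := h2
  let g := (Red.DSmap (P i) φ).left
  let Y' : Over (P i) := Over.mk (pullback.fst a.left g ≫ (BigCell.pieceOver (p i) T).hom)
  let π : Y' ⟶ BigCell.pieceOver (p i) T := Over.homMk (pullback.fst a.left g) rfl
  let b : Y' ⟶ Red.DS (P i) (Fin r → ℤ) := Over.homMk (pullback.snd a.left g) (by
    show pullback.snd a.left g ≫ _ = pullback.fst a.left g ≫ _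
    rw [← Over.w (Red.DSmap (P i) φ), ← pullback.condition_assoc, Over.w a])
  have hb : π ≫ a = b ≫ Red.DSmap (P i) φ := Over.OverMorphism.ext pullback.condition
  haveI : Flat π.left := inferInstanceAs (Flat (pullback.fst a.left g))
  haveI : Surjective π.left := inferInstanceAs (Surjective (pullback.fst a.left g))
  haveI : Flat ((Over.map (p i)).map π).left := inferInstanceAs (Flat π.left)
  haveI : Surjective ((Over.map (p i)).map π).left := inferInstanceAs (Surjective π.left)
  haveI := BigCell.epi_of_flat ((Over.map (p i)).map π)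
  have hpow : ∀ m : ℕ, BigCell.tau (p i) j.hom (b ^ m) = BigCell.tau (p i) j.hom b ^ m := fun m => by
    induction m with
    | zero =>
      rw [pow_zero, pow_zero, BigCell.tau, MonObj.one_comp]
      have := HomRep.bcEquiv_symm_mul (p i) T Y' 1 1
      rw [_root_.one_mul, left_eq_mul] at this
      exact this
    | succ m ih => rw [pow_succ, pow_succ, BigCell.tau_mul, ih]
  have hb' : b ≫ Red.DSmap (P i) φ = b ^ n := by
    refine MultSubLib.chars_injective (MonoidHom.ext fun y => ?_)
    obtain ⟨y, rfl⟩ := Multiplicative.ofAdd.surjective y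
    have hc : ∀ m : ℕ, MultSubLib.chars (b ^ m) (Multiplicative.ofAdd y) = MultSubLib.chars b (Multiplicative.ofAdd y) ^ m := fun m => by
      induction m with
      | zero => rw [pow_zero, pow_zero, MultSubLib.chars_one]; rfl
      | succ m ih => rw [pow_succ, pow_succ, MultSubLib.chars_mul, MonoidHom.mul_apply, ih]
    rw [hc, DSImg.chars_comp_DSmap]
    show MultSubLib.chars b (Multiplicative.ofAdd (n • y)) = _
    rw [ofAdd_nsmul, map_pow]
  rw [← cancel_epi ((Over.map (p i)).map π), ← ha, ← Category.assoc, ← BigCell.tau_comp, hb, hb', hpow,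
    MonObj.comp_one, MonObj.comp_one]
  refine GmPts.gmFn_injective ?_
  show Red.gmFn _ = Red.gmFn _
  rw [GmPts.gmFn_one]
  have hg : ∀ m : ℕ, Red.gmFn ((BigCell.tau (p i) j.hom b ^ m) ≫ χ) = Red.gmFn (BigCell.tau (p i) j.hom b ≫ χ) ^ m := fun m => by
    induction m with
    | zero => rw [pow_zero, pow_zero, MonObj.one_comp, GmPts.gmFn_one]
    | succ m ih => rw [pow_succ, pow_succ, MonObj.mul_comp, GmPts.gmFn_mul, ih]
  rw [hg, h]

variable {S : Scheme.{u}} {G : Over S} [GrpObj G] (D : Red.SplitRed G)

/-- The saturation of the roots. -/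
def satRoots : AddSubgroup D.M where
  carrier := {x | ∃ n : ℕ, n ≠ 0 ∧ n • x ∈ D.P.rootSpan ℤ}
  zero_mem' := ⟨1, one_ne_zero, by simp⟩
  add_mem' := fun {x y} ⟨n, hn, hx⟩ ⟨m, hm, hy⟩ => ⟨n * m, mul_ne_zero hn hm, by
    rw [nsmul_add]
    exact add_mem (by rw [mul_comm, mul_nsmul']; exact Submodule.smul_of_tower_mem _ m hx)
      (by rw [mul_nsmul']; exact Submodule.smul_of_tower_mem _ n hy)⟩
  neg_mem' := fun {x} ⟨n, hn, hx⟩ => ⟨n, hn, by rw [smul_neg]; exact neg_mem hx⟩

theorem root_mem_sat (a : D.idx) : D.P.root a ∈ satRoots D :=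
  ⟨1, one_ne_zero, by rw [one_nsmul]; exact Submodule.subset_span ⟨a, rfl⟩⟩

theorem free_satQuot : Module.Free ℤ (D.M ⧸ satRoots D) := by
  haveI : Module.IsTorsionFree ℤ (D.M ⧸ satRoots D) := by
    refine Module.IsTorsionFree.mk fun r hr => ?_
    intro x y hxy
    induction x using QuotientAddGroup.induction_on with
    | H x =>
      induction y using QuotientAddGroup.induction_on with
      | H y =>
        have h0 : r • (x - y) ∈ satRoots D := (QuotientAddGroup.eq_zero_iff _).1 (by
          show QuotientAddGroup.mk' (satRoots D) (r • (x - y)) = 0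
          rw [map_zsmul, map_sub, smul_sub]
          exact sub_eq_zero.2 hxy)
        obtain ⟨n, hn, hmem⟩ := h0
        have hr0 : r ≠ 0 := IsRegular.ne_zero hr
        refine QuotientAddGroup.eq_iff_sub_mem.2 ⟨n * r.natAbs, mul_ne_zero hn (Int.natAbs_ne_zero.2 hr0), ?_⟩
        rw [← natCast_zsmul, Nat.cast_mul, mul_smul, natCast_zsmul]
        rcases Int.natAbs_eq r with e | e
        · rwa [← e]
        · rw [show ((r.natAbs : ℕ) : ℤ) = -r by omega, neg_smul, smul_neg]
          exact neg_mem hmem
  haveI : Module.Finite ℤ (D.M ⧸ satRoots D) :=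
    Module.Finite.of_surjective (QuotientAddGroup.mk' (satRoots D)).toIntLinearMap (QuotientAddGroup.mk'_surjective _)
  exact Module.free_of_finite_type_torsion_free'

variable [Nonempty S] {Z R : Over S} [GrpObj Z] [GrpObj R]

/-- **The maximal torus of the centre is the torus with characters modulo the saturation of the roots.** -/
theorem exists_iso_rad (j : Z ⟶ G) (hZ : Red.IsCentre j) (r : R ⟶ Z) (hR : Red.IsMaximalTorus r) (r' : R ⟶ D.T)
    (hr' : r' ≫ D.i = r ≫ j) :
    ∃ q : R ⟶ Red.DS S (D.M ⧸ satRoots D), IsIso q ∧ r' = q ≫ iotN D (satRoots D) := by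
  haveI := isMonHom_i D
  haveI := mono_i D
  haveI := hZ.1; haveI := hZ.2.1
  haveI := hR.1; haveI := hR.2.1
  haveI := mono_iotN D (satRoots D)
  haveI := isMonHom_iotN D (satRoots D)
  haveI : IsMonHom r' := BigCell.isMonHom_of_mul' _ fun X a b => by
    rw [← cancel_mono D.i, Category.assoc, hr', MonObj.mul_comp, MonObj.mul_comp, Category.assoc, Category.assoc, hr']
  haveI hsplit : IsMonHom D.split.hom.hom.hom := D.split.hom.hom.isMonHom_hom
  obtain ⟨σ⟩ := exists_sides D.P
  -- roots kill the torus
  have hroot : ∀ a, r' ≫ D.split.hom.hom.hom ≫ Red.chi S (D.P.root a) = 1 := fun a => by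
    obtain ⟨t, ht, hk⟩ := (central_iff D R (r ≫ j)).1 fun X' x h => by
      have h1 := ((hZ.2.2 R (r ≫ j)).1 ⟨r, rfl⟩) X' x h
      rwa [Category.comp_id] at h1
    rw [show r' = t from (cancel_mono D.i).1 (hr'.trans ht.symm)]
    exact hk a
  -- the saturation kills the torus
  have hkill : (r' ≫ D.split.hom.hom.hom) ≫ Red.DSmap S (satRoots D).subtype = 1 := by
    refine MultSubLib.chars_injective (MonoidHom.ext fun y => ?_)
    obtain ⟨⟨y, n, hn, hy⟩, rfl⟩ := Multiplicative.ofAdd.surjective y
    rw [DSImg.chars_comp_DSmap, MultSubLib.chars_one]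
    show MultSubLib.chars (r' ≫ D.split.hom.hom.hom) (Multiplicative.ofAdd y) = 1
    haveI : IsMonHom (Red.chi S y) := Groth.Agent.DSImg.isMonHom_DSmap _
    have hχ : r' ≫ D.split.hom.hom.hom ≫ Red.chi S y = 1 := by
      refine eq_one_of_torus_pow hR.2.2.1 _ hn fun X t => ?_
      have hm : ∀ z ∈ D.P.rootSpan ℤ, MultSubLib.chars ((t ≫ r') ≫ D.split.hom.hom.hom) (Multiplicative.ofAdd z) = 1 := by
        intro z hz
        let L : AddSubgroup D.M :=
          { carrier := {z | MultSubLib.chars ((t ≫ r') ≫ D.split.hom.hom.hom) (Multiplicative.ofAdd z) = 1}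
            zero_mem' := by simp [ofAdd_zero]
            add_mem' := fun {a b} (ha : _ = _) (hb : _ = _) => by
              show MultSubLib.chars _ _ = 1
              rw [ofAdd_add, map_mul, ha, hb, _root_.one_mul]
            neg_mem' := fun {a} (ha : _ = _) => by
              show MultSubLib.chars _ _ = 1
              have h2 := map_mul (MultSubLib.chars ((t ≫ r') ≫ D.split.hom.hom.hom)) (Multiplicative.ofAdd a) (Multiplicative.ofAdd (-a))
              rw [← ofAdd_add, add_neg_cancel, ofAdd_zero, map_one, ha, _root_.one_mul] at h2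
              exact h2.symm }
        refine (show D.P.rootSpan ℤ ≤ AddSubgroup.toIntSubmodule L from Submodule.span_le.2 ?_) hz
        rintro _ ⟨a, rfl⟩
        show MultSubLib.chars _ _ = 1
        rw [← gmFn_chi, Category.assoc, Category.assoc, hroot, MonObj.comp_one, GmPts.gmFn_one]
      have := hm _ hy
      rw [ofAdd_nsmul, map_pow, ← gmFn_chi] at this
      simpa only [Category.assoc] using this
    have := congrArg Red.gmFn hχ
    rwa [GmPts.gmFn_one, ← Category.assoc, gmFn_chi] at this
  obtain ⟨q, hq⟩ := exists_lift_DSmap (satRoots D) _ hkill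
  have hqr : q ≫ iotN D (satRoots D) = r' := by
    have e0 : D.split.hom.hom.hom ≫ D.split.inv.hom.hom = 𝟙 _ := congrArg (fun q => q.hom.hom) D.split.hom_inv_id
    rw [iotN, ← Category.assoc, hq, Category.assoc, e0, Category.comp_id]
  haveI : IsMonHom q := BigCell.isMonHom_of_mul' _ fun X a b => by
    rw [← cancel_mono (iotN D (satRoots D)), Category.assoc, hqr, MonObj.mul_comp, MonObj.mul_comp, Category.assoc,
      Category.assoc, hqr]
  haveI : Mono (q ≫ iotN D (satRoots D)) := by
    rw [hqr]
    haveI : Mono (r' ≫ D.i) := by rw [hr']; infer_instance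
    exact mono_of_mono r' D.i
  haveI : Mono q := mono_of_mono q (iotN D (satRoots D))
  haveI := free_satQuot D
  haveI : Module.Finite ℤ (D.M ⧸ satRoots D) :=
    Module.Finite.of_surjective (QuotientAddGroup.mk' (satRoots D)).toIntLinearMap (QuotientAddGroup.mk'_surjective _)
  have hQ := isTorus_DS_free S (D.M ⧸ satRoots D)
  -- the central torus as a subgroup of the centre
  have hiZ : ∃ w, w ≫ j = iotN D (satRoots D) ≫ D.i := by
    refine (hZ.2.2 _ _).2 fun X' x h => ?_
    rw [Category.comp_id, ← Category.assoc x]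
    refine central_of_roots D σ (x ≫ iotN D (satRoots D)) (fun a => ?_) _
    refine GmPts.gmFn_injective ?_
    show Red.gmFn _ = Red.gmFn _
    rw [GmPts.gmFn_one, ← Category.assoc, gmFn_chi, Category.assoc, iotN_split, DSImg.chars_comp_DSmap]
    show MultSubLib.chars x (Multiplicative.ofAdd ((QuotientAddGroup.mk' (satRoots D)) (D.P.root a))) = 1
    rw [show (QuotientAddGroup.mk' (satRoots D)) (D.P.root a) = 0 from (QuotientAddGroup.eq_zero_iff _).2 (root_mem_sat D a),
      ofAdd_zero, map_one]
  obtain ⟨w, hw⟩ := hiZ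
  have hqw : q ≫ w = r := by rw [← cancel_mono j, Category.assoc, hw, ← Category.assoc, hqr, hr']
  haveI : IsMonHom w := BigCell.isMonHom_of_mul' _ fun X a b => by
    rw [← cancel_mono j, Category.assoc, hw, MonObj.mul_comp, MonObj.mul_comp, Category.assoc, Category.assoc, hw]
  haveI : Mono (w ≫ j) := by rw [hw]; infer_instance
  haveI : Mono w := mono_of_mono w j
  have hgeom : ∀ s : S, IsIso ((Over.pullback (Red.geomPt s)).map q) := fun s => by
    let κ := Red.geomPt s
    haveI : (Over.pullback κ).IsRightAdjoint := (Over.mapPullbackAdj κ).isRightAdjoint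
    haveI : IsMonHom (M := Red.geomFibre s (Red.DS S (D.M ⧸ satRoots D))) (N := Red.geomFibre s Z)
      ((Over.pullback κ).map w) := DiagRep.isMonHom_bc_map κ w
    exact hR.2.2.2 s _ ((Over.pullback κ).map w) ((Over.pullback κ).map q) (RedRank.isTorus_bc hQ κ)
      (by rw [← Functor.map_comp, hqw])
  haveI := MultEq.isAffineHom_DS S (D.M ⧸ satRoots D)
  haveI := MaxTorConj.smooth_of_isTorus hR.2.2.1
  haveI : IsClosedImmersion q.left :=
    Transporter.isClosedImmersion_of_mono (RedRank.locally_of_isTorus hR.2.2.1) inferInstance q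
  haveI : Smooth (Red.DS S (D.M ⧸ satRoots D)).hom := by
    haveI := smoothRel_DS S (D.M ⧸ satRoots D)
    exact SmoothOfRelativeDimension.smooth (Module.finrank ℤ (D.M ⧸ satRoots D)) _
  refine ⟨q, RCentre.isIso_of_le_fibres q fun s => ?_, hqr.symm⟩
  haveI := hgeom s
  rw [← RedRank.geomPt_apply s]
  refine (MultEq.le_field_iff (Red.geomPt s)).1 ?_
  refine RedRank.le_of_bc_factor (𝟙 _) q (Red.geomPt s) (inv ((Over.pullback (Red.geomPt s)).map q)) ?_
  rw [IsIso.inv_hom_id, CategoryTheory.Functor.map_id]

end Bruhat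

end
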