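import Groth.Agent.BruhatLib.Ux
import Groth.Agent.RootSubgrpLib.NormTorus
import Groth.Agent.SplitCellLib.Normal
import Groth.Agent.S5509

/-!
# Points over an algebraically closed field: rank one and generation

Squares of representatives of reflections lie in the torus, a non-trivial element of a root group is in the double
coset of the representative of the reflection, and the points over an algebraically closed field are generated by the
torus and the root groups.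
-/

set_option autoImplicit false
set_option linter.style.haveILetI false
set_option linter.unusedSectionVars false
set_option backward.isDefEq.respectTransparency false
set_option maxHeartbeats 1000000
set_option synthInstance.maxHeartbeats 400000

universe u

open CategoryTheory CategoryTheory.Limits MonoidalCategory CartesianMonoidalCategory AlgebraicGeometry
open Groth.Agent.GaPts
open Groth.Agent
open scoped MonObj
open CoactBr (sp)
open Groth.Agent.BorelLib

noncomputable section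

attribute [-instance] CategoryTheory.Hom.commGroup

namespace Bruhat

attribute [local instance] pTop pTopTensor

open SplitCell SplitFib RootSubgrp

variable {S : Scheme.{u}} {G : Over S} [GrpObj G] {D : Red.SplitRed G}

/-- The point normalises the torus after every base change. -/
def Normalises (D : Red.SplitRed G) {X : Over S} (g : X ⟶ G) : Prop :=
  ∀ (X' : Over S) (y : X' ⟶ X) (t : X' ⟶ D.T), ∃ t' : X' ⟶ D.T, (y ≫ g) * (t ≫ D.i) * (y ≫ g)⁻¹ = t' ≫ D.i

/-- **A point of the cell normalising the torus lies in the torus.** -/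
theorem mem_torus_of_cell (σ : Sides D.P) {X : Over S} {g : X ⟶ G} (hg : Normalises D g) {y c : X ⟶ G}
    (hy : y ∈ Ux D σ.neg X) (hc : c ∈ Ux D σ.pos X) (t : X ⟶ D.T) (h : g = y * ((t ≫ D.i) * c)) :
    g = t ≫ D.i := by
  obtain ⟨n, m, eneg, epos, hneg, hpos⟩ := exists_enum D σ
  obtain ⟨y₀, rfl⟩ := exists_rprod (flipSides σ) hneg hy
  obtain ⟨c₀, rfl⟩ := exists_rprod σ hpos hc
  have hx : lift y₀ (lift t c₀) ≫ RedSub.cellMap D eneg epos = g := by
    rw [h, RedSub.cellMap, MonObj.comp_mul, MonObj.comp_mul, lift_fst_assoc, lift_snd_assoc, lift_fst_assoc,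
      lift_snd_assoc, lift_snd_assoc]
  have e := factors_torus D σ hneg hpos X (lift y₀ (lift t c₀)) fun X' p s => by
    rw [hx]
    exact hg X' p s
  rw [hx, lift_snd_assoc, lift_fst] at e
  exact e

theorem IsRefl.normalises {a : D.idx} {n : 𝟙_ (Over S) ⟶ G} (hn : IsRefl D a n) (X : Over S) :
    Normalises D (toUnit X ≫ n) := fun X' y t =>
  ⟨tRefl a t, by rw [← Category.assoc, Subsingleton.elim (y ≫ toUnit X) (toUnit X'), hn.conj_torus]⟩

theorem Normalises.mul {X : Over S} {g g' : X ⟶ G} (h : Normalises D g) (h' : Normalises D g') :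
    Normalises D (g * g') := fun X' y t => by
  obtain ⟨t', ht'⟩ := h' X' y t
  obtain ⟨t'', ht''⟩ := h X' y t'
  refine ⟨t'', ?_⟩
  rw [← ht'', ← ht', MonObj.comp_mul]
  group

theorem normalises_torus {X : Over S} (s : X ⟶ D.T) : Normalises D (s ≫ D.i) := fun X' y t => ⟨t, by
  haveI := isMonHom_i D
  rw [← Category.assoc, ← MonObj.mul_comp, torus_comm, MonObj.mul_comp, mul_inv_cancel_right]⟩

section Geom

variable {K : Type u} [Field K] [IsAlgClosed K] (ξ : Spec (CommRingCat.of K) ⟶ S)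

theorem ga_cases (z : aP ξ K ⟶ Red.Ga S) : ∃ r : K, z = ptOf (cst ξ K r) := by
  obtain ⟨r, hr⟩ := (cst_bijective ξ).2 (Red.gaFn z)
  exact ⟨r, gaFn_injective (by show Red.gaFn _ = Red.gaFn _; rw [gaFn_ptOf, hr])⟩

theorem el_eq (k : D.idx) (r : K) : el ξ (D.u k) r = ptOf (cst ξ K r) ≫ D.u k := rfl

theorem el_mem {R : Set D.idx} {k : D.idx} (hk : k ∈ R) (r : K) : el ξ (D.u k) r ∈ Ux D R (aP ξ K) :=
  u_mem hk _

/-- A product supported on one root. -/
theorem pe_eq_single {l : ℕ} {e : Fin l → D.idx} (he : Function.Injective e) {k : D.idx} (c : Fin l → K)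
    (hc : ∀ i, c i ≠ 0 → e i = k) : ∃ r : K, pe ξ (fun i => D.u (e i)) c = el ξ (D.u k) r := by
  classical
  haveI : ∀ i, IsMonHom ((fun i => D.u (e i)) i) := fun i => isMonHom_u D _
  haveI := isMonHom_u D k
  by_cases h : ∃ i, c i ≠ 0
  · obtain ⟨i, hi⟩ := h
    refine ⟨c i, ?_⟩
    rw [show c = fun j => if j = i then c i else 0 from funext fun j => ?_, pe_single, hc i hi]
    · simp
    split_ifs with hj
    · rw [hj]
    · by_contra hne
      exact hj (he ((hc j hne).trans (hc i hi).symm))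
  · push Not at h
    exact ⟨0, by rw [show c = fun _ => 0 from funext h, pe_zero, el_zero]⟩

/-- The fibre of the group is irreducible on points. -/
theorem exists_pts (D : Red.SplitRed G) : IsAffine (Red.bc ξ G).left ∧ Smooth (Red.bc ξ G).hom ∧
    ∃ (A : Type u) (_ : CommRing A) (_ : HopfAlgebra K A) (v : sp K A ≅ Red.bc ξ G) (_ : IsMonHom v.hom),
      Algebra.FiniteType K A ∧ _root_.IsReduced A ∧ _root_.IsPreconnected (Set.univ : Set (Pt K A)) := by
  haveI := D.reductive.1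
  haveI := D.reductive.2.1
  haveI hsm : Smooth (Red.bc ξ G).hom := MorphismProperty.pullback_snd (P := @Smooth) _ _ inferInstance
  haveI := Groth.Agent.RedRank.isAffineHom_bc G ξ
  haveI hA : IsAffine (Red.bc ξ G).left := isAffine_of_isAffineHom (Red.bc ξ G).hom
  obtain ⟨A, _, _, v, hv, hft, hred⟩ := exists_setup (Red.bc ξ G)
  haveI := hv; haveI := hft; haveI := hred
  haveI : IrreducibleSpace ↥(Red.bc ξ G).left := (Groth.Agent.BigCell.conn_of_isReductive D.reductive).irreducible ξ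
  haveI : ConnectedSpace ↥(Red.bc ξ G).left := inferInstance
  exact ⟨hA, hsm, A, _, _, v, hv, hft, hred, isPreconnected_univ_of_connected v⟩

/-- **The points over an algebraically closed field are generated by the torus and the root groups.** -/
theorem eq_top (P : Subgroup (aP ξ K ⟶ G)) (hT : ∀ t : aP ξ K ⟶ D.T, t ≫ D.i ∈ P)
    (hU : ∀ (k : D.idx) (z : aP ξ K ⟶ Red.Ga S), z ≫ D.u k ∈ P) : P = ⊤ := by
  obtain ⟨hA, hsm, A, _, _, v, hv, hft, hred, hc⟩ := exists_pts ξ D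
  haveI := hA; haveI := hsm; haveI := hv; haveI := hft; haveI := hred
  obtain ⟨b⟩ := exists_sides D.P
  obtain ⟨n, m, eneg, epos, hneg, hpos⟩ := exists_enum D b
  have htc := SplitFib.isClosed_top (K := K) (A := A) hc
  have htp := SplitFib.isPreconnected_top'' (K := K) (A := A) hc
  have hpe : ∀ {l : ℕ} (e : Fin l → D.idx) (c : Fin l → K), pe ξ (fun i => D.u (e i)) c ∈ P := fun {l} e c => by
    refine Subgroup.list_prod_mem _ fun w hw => ?_
    obtain ⟨i, rfl⟩ := List.mem_ofFn.1 hw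
    exact hU _ _
  refine eq_top_iff.2 fun g _ => ?_
  have h : (⊤ : Subgroup (Pt K A)) ≤ P.map (ptG ξ v).toMonoidHom :=
    le_of_cell D ξ v htc le_top htp b hneg hpos fun x _ hx => by
      obtain ⟨y, t, c, rfl⟩ := hx
      exact ⟨_, P.mul_mem (hpe eneg y) (P.mul_mem (hT t) (hpe epos c)), by
        simp only [MulEquiv.coe_toMonoidHom, map_mul]; rfl⟩
  obtain ⟨g', hg', e⟩ := h (Subgroup.mem_top (ptG ξ v g))
  exact (ptG ξ v).injective e ▸ hg'

/-- A square root of the scaling of a root. -/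
theorem exists_torus_scale (k : D.idx) {r : K} (hr : r ≠ 0) : ∃ t : aP ξ K ⟶ D.T,
    ∀ x : K, (t ≫ D.i) * el ξ (D.u k) x * (t ≫ D.i)⁻¹ = el ξ (D.u k) (r * x) := by
  obtain ⟨f, hf⟩ : ∃ f : D.M →ₗ[ℤ] ℤ, f (D.P.root k) ≠ 0 := by
    obtain ⟨b⟩ := exists_sides D.P
    obtain ⟨f, hp, hn⟩ := b.regular
    rcases b.total k with hk | hk
    exacts [⟨f, (hp _ hk).ne'⟩, ⟨f, (hn _ hk).ne⟩]
  obtain ⟨z, hz⟩ := exists_units_pow_eq (Units.mk0 r hr) (n := (f (D.P.root k)).natAbs) (Int.natAbs_ne_zero.2 hf)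
  obtain ⟨w, hw⟩ : ∃ w : Kˣ, w ^ f (D.P.root k) = Units.mk0 r hr := by
    rcases Int.natAbs_eq (f (D.P.root k)) with e | e
    · exact ⟨z, by rw [e, zpow_natCast, hz]⟩
    · exact ⟨z⁻¹, by rw [e, zpow_neg, inv_zpow, inv_inv, zpow_natCast, hz]⟩
  refine ⟨tc D ξ f w, fun x => (conj_el D ξ (tc D ξ f w) k x).trans ?_⟩
  rw [ch_cochT, hw, Units.val_mk0]

variable {a : D.idx} {n : 𝟙_ (Over S) ⟶ G}

/-- **A non-trivial root element lies in the double coset of the reflection.** -/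
theorem exists_rank_one [Nonempty S] (hn : IsRefl D a n) {r : K} (hr : r ≠ 0) :
    ∃ (p q : K) (t : aP ξ K ⟶ D.T), el ξ (D.u (D.P.reflectionPerm a a)) r =
      el ξ (D.u a) p * (toUnit (aP ξ K) ≫ n) * (t ≫ D.i) * el ξ (D.u a) q := by
  classical
  set a' := D.P.reflectionPerm a a with ha'
  haveI := isMonHom_u D a
  haveI := isMonHom_u D a'
  haveI := SplitFib.isReduced_root D
  obtain ⟨L, hL⟩ := exists_line D a
  obtain ⟨LC⟩ := exists_lineCent D L
  haveI := LC.isMonHom; haveI := LC.closed; haveI := LC.smooth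
  haveI : Mono LC.c := (Over.forget S).mono_of_mono_map (inferInstanceAs (Mono LC.c.left))
  obtain ⟨hA, hsm, A, _, _, v, hv, hft, hred, H', hH, hTH, hmem, hroots, hprec⟩ :=
    exists_pts_setup D LC.c ξ LC.t LC.ht LC.connected
  haveI := hA; haveI := hsm; haveI := hv; haveI := hft; haveI := hred
  haveI : GeometricallyConnected LC.C.hom :=
    Groth.Agent.WeilRes.geometricallyConnected_of_geomPt LC.C.hom LC.connected
  have hHc := hprec (GeometricallyConnected.geometrically_connectedSpace (f := LC.C.hom) ξ _ _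
    (IsPullback.of_hasPullback LC.C.hom ξ))
  rw [LC.rootsAt_eq K ξ, roots_eq hL] at hroots
  obtain ⟨b, hb⟩ := exists_sides_mem D a
  have hnb : a' ∈ b.neg := neg_mem_neg b hb
  obtain ⟨n₀, m₀, eneg, epos, hneg, hpos, hsupp⟩ := exists_cell_supp D ξ v hH hTH b
  let N := ptG ξ v (toUnit (aP ξ K) ≫ n)
  have hN : N ∈ H' := by
    obtain ⟨z, hz⟩ := LC.exists_refl hL n hn
    exact (hmem _).2 ⟨toUnit _ ≫ z, by rw [Category.assoc, hz]⟩
  obtain ⟨x, hx, hx1, hx2⟩ := (isIrreducible_of_connected hH hHc).2 (cellPts D ξ v eneg epos)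
    ((fun y => N⁻¹ * y) ⁻¹' cellPts D ξ v eneg epos) (isOpen_cellPts D ξ v b hneg hpos)
    ((isOpen_cellPts D ξ v b hneg hpos).preimage (Groth.Agent.BorelLib.continuous_const_mul N⁻¹))
    ⟨1, H'.one_mem, one_mem_cellPts D ξ v⟩
    ⟨N, hN, by show N⁻¹ * N ∈ cellPts D ξ v eneg epos; rw [inv_mul_cancel]; exact one_mem_cellPts D ξ v⟩
  have hcoord : ∀ {g : aP ξ K ⟶ G}, ptG ξ v g ∈ H' → ptG ξ v g ∈ cellPts D ξ v eneg epos →
      ∃ (r c : K) (t : aP ξ K ⟶ D.T), g = el ξ (D.u a') r * ((t ≫ D.i) * el ξ (D.u a) c) := fun {g} h h' => by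
    obtain ⟨y, t, c, e, hy, hc⟩ := hsupp _ h h'
    rw [hroots] at hy hc
    obtain ⟨r', hr'⟩ := pe_eq_single ξ hneg.1 y fun i hi => by
      rcases hy i hi with e | e
      · exact absurd (e ▸ (hneg.2 ▸ ⟨i, rfl⟩ : eneg i ∈ b.neg)) (b.notMem_neg hb)
      · exact e
    obtain ⟨c', hc'⟩ := pe_eq_single ξ hpos.1 c fun i hi => by
      rcases hc i hi with e | e
      · exact e
      · exact absurd (show epos i ∈ b.neg by rw [show epos i = a' from e]; exact hnb)
          (b.notMem_neg (hpos.2 ▸ ⟨i, rfl⟩ : epos i ∈ b.pos))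
    refine ⟨r', c', t, (ptG ξ v).injective ?_⟩
    rw [e, map_mul, map_mul, ← hr', ← hc']
    rfl
  obtain ⟨g, rfl⟩ := (ptG ξ v).surjective x
  obtain ⟨r₁, c₁, t₁, e₁⟩ := hcoord hx hx1
  have hx' : ptG ξ v ((toUnit (aP ξ K) ≫ n)⁻¹ * g) = N⁻¹ * ptG ξ v g := by rw [map_mul, map_inv]
  obtain ⟨r₂, c₂, t₂, e₂⟩ := hcoord (hx'.symm ▸ H'.mul_mem (H'.inv_mem hN) hx) (hx'.symm ▸ hx2)
  obtain ⟨w, hw⟩ := hn.conj_u a' (X := aP ξ K) (ptOf (cst ξ K r₂))
  obtain ⟨p, rfl⟩ := ga_cases ξ w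
  rw [ha', perm_perm] at hw
  rw [e₁, inv_mul_eq_iff_eq_mul] at e₂
  have main : el ξ (D.u a') r₁ = el ξ (D.u a) p * (toUnit (aP ξ K) ≫ n) * (t₂ ≫ D.i) *
      el ξ (D.u a) c₂ * (el ξ (D.u a) c₁)⁻¹ * (t₁ ≫ D.i)⁻¹ := by
    have e3 : el ξ (D.u a) p = (toUnit (aP ξ K) ≫ n) * el ξ (D.u a') r₂ * (toUnit (aP ξ K) ≫ n)⁻¹ := by
      rw [el_eq, el_eq, hw]
    rw [e3, eq_mul_inv_iff_mul_eq, eq_mul_inv_iff_mul_eq, _root_.mul_assoc, e₂]
    group
  obtain ⟨q, hq⟩ : ∃ q : K, (t₁ ≫ D.i) * (el ξ (D.u a) c₂ * (el ξ (D.u a) c₁)⁻¹) * (t₁ ≫ D.i)⁻¹ =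
      el ξ (D.u a) q :=
    ⟨_, by rw [← el_neg, ← el_add]; exact conj_el D ξ t₁ a _⟩
  have main' : el ξ (D.u a') r₁ = el ξ (D.u a) p * (toUnit (aP ξ K) ≫ n) *
      ((t₁⁻¹ * t₂) ≫ D.i) * el ξ (D.u a) q := by
    haveI := isMonHom_i D
    rw [main, ← hq, MonObj.mul_comp, GrpObj.inv_comp, show (t₁ ≫ D.i)⁻¹ * (t₂ ≫ D.i) =
      (t₂ ≫ D.i) * (t₁ ≫ D.i)⁻¹ by rw [← GrpObj.inv_comp, ← MonObj.mul_comp, ← MonObj.mul_comp, torus_comm]]
    group
  have hne : r₁ ≠ 0 := by
    intro h0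
    rw [h0, el_zero] at main'
    set τ := t₁⁻¹ * t₂
    have h1 : (toUnit (aP ξ K) ≫ n) = (el ξ (D.u a) p)⁻¹ * (el ξ (D.u a) q)⁻¹ * (τ ≫ D.i)⁻¹ := by
      rw [show (el ξ (D.u a) p)⁻¹ = (toUnit (aP ξ K) ≫ n) * (τ ≫ D.i) * el ξ (D.u a) q from
        inv_eq_of_mul_eq_one_right (by rw [← _root_.mul_assoc, ← _root_.mul_assoc, ← main'])]
      group
    have hcu : (τ ≫ D.i) * ((el ξ (D.u a) p)⁻¹ * (el ξ (D.u a) q)⁻¹) * (τ ≫ D.i)⁻¹ ∈ Ux D b.pos (aP ξ K) :=
      conj_torus_mem τ (Subgroup.mul_mem _ (Subgroup.inv_mem _ (el_mem ξ hb p)) (Subgroup.inv_mem _ (el_mem ξ hb q)))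
    haveI := isMonHom_i D
    have h2 : (toUnit (aP ξ K) ≫ n) = τ⁻¹ ≫ D.i := mem_torus_of_cell b (hn.normalises _) (Subgroup.one_mem _) hcu τ⁻¹
      (by rw [h1, GrpObj.inv_comp]; group)
    obtain ⟨f, hf⟩ : ∃ f : D.M →ₗ[ℤ] ℤ, f (D.P.root a) ≠ 0 := by
      obtain ⟨f, hp, -⟩ := b.regular
      exact ⟨f, (hp _ hb).ne'⟩
    obtain ⟨z, hz⟩ := exists_units_zpow_ne_one K (show f (D.P.root a) + f (D.P.root a) ≠ 0 by omega)
    have h3 := hn.conj_torus (tc D ξ f z)
    rw [h2, ← GrpObj.inv_comp, ← MonObj.mul_comp, ← MonObj.mul_comp, torus_comm D τ⁻¹, mul_inv_cancel_right] at h3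
    haveI := mono_i D
    have h4 := congrArg (fun s : aP ξ K ⟶ D.T => MultSubLib.chars (s ≫ D.split.hom.hom.hom)
      (Multiplicative.ofAdd (D.P.root a))) ((cancel_mono D.i).1 h3)
    simp only [chars_tRefl, MonoidHom.comp_apply] at h4
    change _ = MultSubLib.chars _ (Multiplicative.ofAdd (D.P.reflection a (D.P.root a))) at h4
    rw [D.P.reflection_apply_self, ← gmFn_chi, ← gmFn_chi] at h4
    simp only [Category.assoc, ← cst_ch] at h4
    have h5 := Units.ext ((cst_bijective ξ).1 h4)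
    rw [ch_cochT, ch_cochT, map_neg, zpow_neg, eq_inv_iff_mul_eq_one, ← zpow_add] at h5
    exact hz h5
  obtain ⟨s, hs⟩ := exists_torus_scale ξ a' (D := D) (div_ne_zero hr hne)
  obtain ⟨p', hp'⟩ : ∃ p' : K, (s ≫ D.i) * el ξ (D.u a) p * (s ≫ D.i)⁻¹ = el ξ (D.u a) p' := ⟨_, conj_el D ξ s a p⟩
  obtain ⟨q', hq'⟩ : ∃ q' : K, (s ≫ D.i) * el ξ (D.u a) q * (s ≫ D.i)⁻¹ = el ξ (D.u a) q' := ⟨_, conj_el D ξ s a q⟩
  haveI := isMonHom_i D
  refine ⟨p', q', tRefl a s * (t₁⁻¹ * t₂) * s⁻¹, ?_⟩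
  have h := hs r₁
  rw [div_mul_cancel₀ r hne, main'] at h
  rw [← h, ← hp', ← hq']
  simp only [MonObj.mul_comp, GrpObj.inv_comp, ← hn.conj_torus' s]
  group

end Geom

/-- **The square of a representative of a reflection lies in the torus.** -/
theorem IsRefl.exists_sq {a : D.idx} {n : 𝟙_ (Over S) ⟶ G} (hn : IsRefl D a n) :
    ∃ t : 𝟙_ (Over S) ⟶ D.T, n * n = t ≫ D.i := by
  obtain ⟨b⟩ := exists_sides D.P
  obtain ⟨l, m, eneg, epos, hneg, hpos⟩ := exists_enum D b
  haveI := isOpenImmersion_cellMap D b hneg hpos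
  have hmem : ∀ s : S, (n * n : 𝟙_ (Over S) ⟶ G).left s ∈ Set.range (RedSub.cellMap D eneg epos).left := fun s => by
    obtain ⟨ha, hsm, A, _, _, v, hv, hA, hA', hc, hred, hT⟩ := exists_fibre D s
    haveI := ha; haveI := hsm; haveI := hv; haveI := hA; haveI := hA'
    let P := aP (Red.geomPt s) (AlgebraicClosure (S.residueField s))
    have hcomm : ∀ t : P ⟶ D.T, (toUnit P ≫ (n * n)) * (t ≫ D.i) = (t ≫ D.i) * (toUnit P ≫ (n * n)) := fun t => by
      have h := hn.conj_torus (tRefl a t)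
      rw [tRefl_tRefl, ← hn.conj_torus t] at h
      rw [MonObj.comp_mul]
      conv_rhs => rw [← h]
      group
    have hg : ptG (Red.geomPt s) v (toUnit P ≫ (n * n)) ∈ Tsub D (Red.geomPt s) v := by
      rw [← hred.centralizer_eq hc hT]
      refine Subgroup.mem_centralizer_iff.2 fun w hw => ?_
      obtain ⟨t, rfl⟩ := hw
      show ptG _ v (t ≫ D.i) * _ = _ * ptG _ v (t ≫ D.i)
      rw [← map_mul, ← map_mul, hcomm]
    obtain ⟨t₀, ht₀⟩ := hg
    have e : cpt D (Red.geomPt s) 0 t₀ 0 ≫ RedSub.cellMap D eneg epos = toUnit P ≫ (n * n) := by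
      haveI : ∀ k, IsMonHom ((fun k => D.u (eneg k)) k) := fun k => isMonHom_u D _
      haveI : ∀ k, IsMonHom ((fun k => D.u (epos k)) k) := fun k => isMonHom_u D _
      rw [cpt_cellMap, show (0 : Fin l → AlgebraicClosure (S.residueField s)) = fun _ => 0 from rfl,
        show (0 : Fin m → AlgebraicClosure (S.residueField s)) = fun _ => 0 from rfl, pe_zero, pe_zero,
        _root_.one_mul, _root_.mul_one]
      exact (ptG _ v).injective ht₀
    obtain ⟨z⟩ : Nonempty P.left := inferInstanceAs (Nonempty (Spec (CommRingCat.of (AlgebraicClosure (S.residueField s)))))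
    refine ⟨(cpt D (Red.geomPt s) 0 t₀ 0).left z, ?_⟩
    have e' := congrArg (fun q => q.left z) e
    simp only [Over.comp_left, Scheme.Hom.comp_apply] at e'
    rw [e']
    congr 1
    show (toUnit P).left z = s
    rw [show (toUnit P).left = P.hom from rfl]
    show (Spec.map _ ≫ Red.geomPt s) z = s
    exact (Scheme.Hom.comp_apply _ _ _).trans ((Scheme.Hom.comp_apply _ _ _).trans
      (Scheme.fromSpecResidueField_apply _ _))
  let x : 𝟙_ (Over S) ⟶ _ := Over.homMk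
    (IsOpenImmersion.lift (RedSub.cellMap D eneg epos).left (n * n : 𝟙_ (Over S) ⟶ G).left
      (by rintro _ ⟨s, rfl⟩; exact hmem s))
    (by rw [← Over.w (RedSub.cellMap D eneg epos), IsOpenImmersion.lift_fac_assoc]; exact Over.w _)
  have hx : x ≫ RedSub.cellMap D eneg epos = n * n :=
    Over.OverMorphism.ext (IsOpenImmersion.lift_fac _ _ _)
  have hN : Normalises D (toUnit (𝟙_ (Over S)) ≫ n) := hn.normalises _
  rw [show toUnit (𝟙_ (Over S)) = 𝟙 _ from Subsingleton.elim _ _, Category.id_comp] at hN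
  have e := factors_torus D b hneg hpos _ x fun X' y t => by rw [hx]; exact hN.mul hN X' y t
  exact ⟨_, hx.symm.trans e⟩

end Bruhat

end
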