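import Groth.Agent.BruhatLib.PinIsoData
import Groth.Agent.BruhatLib.Semisimple
import Groth.Agent.SplitCellLib.GermGen
import Groth.Agent.SplitCellLib.Center

/-!
# The homomorphism of a split group to the quotient of its torus by the coroots

For a character orthogonal to the coroots and a primitive cocharacter orthogonal to the roots there is an endomorphism of
the group which moves a point of the big cell by a central point of the torus; it follows that the torus coordinate of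
the cell composed with these characters is multiplicative, so it extends to a homomorphism.
-/

set_option autoImplicit false
set_option linter.style.haveILetI false
set_option linter.unusedSectionVars false
set_option backward.isDefEq.respectTransparency false
set_option maxHeartbeats 1000000
set_option synthInstance.maxHeartbeats 400000

universe u

open CategoryTheory CategoryTheory.Limits MonoidalCategory CartesianMonoidalCategory AlgebraicGeometry
open Groth.Agent.GaPts
open Groth.Agent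
open Groth.Agent.RankOne (eq_ptOf eq_ptOfUnit comp_ptOf ptOf_add)
open scoped MonObj

noncomputable section

attribute [-instance] CategoryTheory.Hom.commGroup

namespace Bruhat

open SplitCell SplitFib RootSubgrp

variable {S : Scheme.{u}} {G : Over S} [GrpObj G] (D : Red.SplitRed G) [Nonempty S]

/-- Either all characters orthogonal to the coroots vanish or there is a primitive central cocharacter. -/
theorem fullRank_or_exists_central :
    (∀ x : D.M, (∀ a, coF D a x = 0) → x = 0) ∨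
      ∃ (μ₀ : D.M →ₗ[ℤ] ℤ) (x₀ : D.M), (∀ a, μ₀ (D.P.root a) = 0) ∧ μ₀ x₀ = 1 := by
  by_cases h : FullRank D
  · exact Or.inl fun x hx => h.eq_zero (D := D) hx
  refine Or.inr ?_
  unfold FullRank at h
  push Not at h
  obtain ⟨m₀, hm₀⟩ := h
  obtain ⟨g, hg, hg₀⟩ := exists_functional_of_not_torsion (D.P.rootSpan ℤ) m₀ hm₀
  obtain ⟨d, hd⟩ := IsPrincipalIdealRing.principal (LinearMap.range g)
  have hd0 : d ≠ 0 := fun e => hg₀ (by
    have hmem : g m₀ ∈ LinearMap.range g := ⟨m₀, rfl⟩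
    rw [hd, e, Ideal.submodule_span_eq, Ideal.mem_span_singleton] at hmem
    exact zero_dvd_iff.1 hmem)
  have hdvd : ∀ x, d ∣ g x := fun x => by
    have hmem : g x ∈ LinearMap.range g := ⟨x, rfl⟩
    rwa [hd, Ideal.submodule_span_eq, Ideal.mem_span_singleton] at hmem
  obtain ⟨x₀, hx₀⟩ : d ∈ LinearMap.range g := by
    rw [hd]; exact Submodule.mem_span_singleton_self d
  refine ⟨{ toFun := fun x => g x / d
            map_add' := fun x y => by rw [map_add, Int.add_ediv_of_dvd_left (hdvd x)]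
            map_smul' := fun c x => by
              rw [map_smul, smul_eq_mul, Int.mul_ediv_assoc _ (hdvd x)]; rfl }, x₀, fun a => ?_, ?_⟩
  · show g (D.P.root a) / d = 0
    rw [hg _ (Submodule.subset_span ⟨a, rfl⟩), Int.zero_ediv]
  · show g x₀ / d = 1
    rw [hx₀, Int.ediv_self hd0]

/-- The torus endomorphism of a character and a cocharacter. -/
def iot (μ₀ : D.M →ₗ[ℤ] ℤ) (x : D.M) : D.T ⟶ D.T :=
  D.split.hom.hom.hom ≫ Red.DSmap S (μ₀.smulRight x).toAddMonoidHom ≫ D.split.inv.hom.hom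

omit [Nonempty S] in
theorem chars_iot (μ₀ : D.M →ₗ[ℤ] ℤ) (x : D.M) {X : Over S} (t : X ⟶ D.T) (y : D.M) :
    MultSubLib.chars (t ≫ iot D μ₀ x ≫ D.split.hom.hom.hom) (Multiplicative.ofAdd y) =
      MultSubLib.chars (t ≫ D.split.hom.hom.hom) (Multiplicative.ofAdd (μ₀ y • x)) := by
  have e0 : D.split.inv.hom.hom ≫ D.split.hom.hom.hom = 𝟙 _ := congrArg (fun q => q.hom.hom) D.split.inv_hom_id
  rw [iot, Category.assoc, Category.assoc, e0, Category.comp_id, ← Category.assoc, DSImg.chars_comp_DSmap]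
  rfl

variable (μ₀ : D.M →ₗ[ℤ] ℤ) (hμ : ∀ a, μ₀ (D.P.root a) = 0) (x₁ : D.M) (hx₁ : ∀ a, coF D a x₁ = 0)

include hμ in
/-- The image of the torus endomorphism is central. -/
theorem iot_central {X : Over S} (t : X ⟶ D.T) {n : ℕ} (e : Fin n → D.idx) (z : X ⟶ RedSub.pow (Red.Ga S) n) :
    Commute ((t ≫ iot D μ₀ x₁) ≫ D.i) (z ≫ RedSub.prodMap (Red.Ga S) n fun k => D.u (e k)) := by
  rw [prodMap_eq]
  refine Commute.list_prod_right _ _ fun g hg => ?_
  obtain ⟨k, rfl⟩ := List.mem_ofFn.1 hg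
  obtain ⟨y, hy, he⟩ := (D.rootHom (e k)).2.2 X (t ≫ iot D μ₀ x₁) (z ≫ prj S k)
  refine mul_inv_eq_iff_eq_mul.1 ?_
  rw [← Category.assoc z (prj S k)]
  rw [← hy]
  congr 1
  refine gaFn_injective (he.trans ?_)
  rw [← Category.assoc (t ≫ iot D μ₀ x₁), gmFn_chi, Category.assoc, chars_iot, hμ, zero_smul, ofAdd_zero, map_one,
    _root_.one_mul]

include hμ hx₁ in
/-- **The endomorphism moving the torus by a central cocharacter.** -/
theorem exists_shift (b : D.P.Base) : ∃ F : G ⟶ G, IsMonHom F ∧ D.i ≫ F = (𝟙 D.T * iot D μ₀ x₁) ≫ D.i ∧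
    ∀ (X : Over S) (k : D.idx) (z : X ⟶ Red.Ga S), (z ≫ D.u k) ≫ F = z ≫ D.u k := by
  classical
  obtain ⟨v, hv, nr, hs, -, hf⟩ := exists_pinned (⟨D, b⟩ : Red.Pinning G)
  let hM : D.M →ₗ[ℤ] D.M := LinearMap.id + μ₀.smulRight x₁
  let m : PMor (withU D v hv) (withU D v hv) b b (avcOf D) (avcOf D) nr nr :=
    ⟨hf, hf, fun _ => rfl, fun _ => rfl, hM, Equiv.refl _, 1, fun _ => 1, one_pos,
      fun X a c => by simp only [pow_one], fun _ => ⟨0, rfl⟩,
      fun a => by
        show D.P.root a + μ₀ (D.P.root a) • x₁ = ((1 : ℕ) : ℤ) • D.P.root a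
        rw [hμ, zero_smul, add_zero, Nat.cast_one, one_smul],
      fun a => LinearMap.ext fun y => by
        show coF D a (y + μ₀ y • x₁) = ((1 : ℕ) : ℤ) • coF D a y
        rw [map_add, map_smul, hx₁, smul_zero, add_zero, Nat.cast_one, one_smul],
      fun a => Iff.rfl⟩
  obtain ⟨F, hF, hT, hU⟩ := m.exists_hom
  haveI := hF
  have hphi : m.phi = 𝟙 D.T * iot D μ₀ x₁ := by
    refine torus_ext (MonoidHom.ext fun y => ?_)
    obtain ⟨y, rfl⟩ := Multiplicative.ofAdd.surjective y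
    have e0 : D.split.inv.hom.hom ≫ D.split.hom.hom.hom = 𝟙 _ := congrArg (fun q => q.hom.hom) D.split.inv_hom_id
    rw [PMor.phi, Category.assoc, Category.assoc, e0, Category.comp_id, DSImg.chars_comp_DSmap, split_hom_mul,
      MultSubLib.chars_mul, MonoidHom.mul_apply, ← Category.id_comp (iot D μ₀ x₁), Category.assoc, chars_iot,
      Category.id_comp]
    show MultSubLib.chars D.split.hom.hom.hom (Multiplicative.ofAdd (y + μ₀ y • x₁)) = _
    rw [ofAdd_add, map_mul]
  refine ⟨F, hF, hT.trans (by rw [hphi]), fun X k z => ?_⟩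
  let P : Subgroup (X ⟶ G) :=
    { carrier := {g | g ≫ F = g}
      one_mem' := MonObj.one_comp F
      mul_mem' := fun {x y} (hx : x ≫ F = x) (hy : y ≫ F = y) => show (x * y) ≫ F = x * y by
        rw [MonObj.mul_comp, hx, hy]
      inv_mem' := fun {x} (hx : x ≫ F = x) => show x⁻¹ ≫ F = x⁻¹ by rw [GrpObj.inv_comp, hx] }
  have hfix : ∀ a ∈ b.support, ∀ r : Γ(X.left, ⊤), ep (withU D v hv) a r ∈ P ∧
      ep (withU D v hv) (D.P.reflectionPerm a a) r ∈ P := fun a ha r => by
    refine ⟨(hU a ha X r).1.trans ?_, (hU a ha X r).2.trans ?_⟩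
    · show ep (withU D v hv) a (r ^ 1) = _
      rw [pow_one]
    · show ep (withU D v hv) (D.P.reflectionPerm a a) (r ^ 1) = _
      rw [pow_one]
  have hN : ∀ a ∈ b.support, (toUnit X ≫ nr a) ∈ P := fun a ha => by
    rw [(hf.pin a ha).hw]
    simp only [MonObj.comp_mul, GrpObj.comp_inv, ← Category.assoc, comp_ptOf, map_one]
    exact P.mul_mem (P.mul_mem (hfix a ha 1).1 (P.inv_mem (hfix a ha 1).2)) (hfix a ha 1).1
  exact roots_mem (D := D) b hf.refl P hN (fun a ha z => by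
    rw [← hs a ha, show z ≫ v a = ep (withU D v hv) a (Red.gaFn z) from ep_of (D := withU D v hv) a z]
    exact (hfix a ha _).1) k z

omit [Nonempty S] in
/-- The torus coordinate of a point of the cell. -/
def tcoord {n m : ℕ} {X : Over S} (z : X ⟶ RedSub.pow (Red.Ga S) n ⊗ (D.T ⊗ RedSub.pow (Red.Ga S) m)) : X ⟶ D.T :=
  z ≫ snd _ _ ≫ fst _ _

/-- **The characters orthogonal to the coroots are multiplicative on the big cell.** -/
theorem chars_mul_of_cell (b : D.P.Base) {n m : ℕ} (eneg : Fin n → D.idx) (epos : Fin m → D.idx)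
    {X : Over S} (z₁ z₂ z₃ : X ⟶ RedSub.pow (Red.Ga S) n ⊗ (D.T ⊗ RedSub.pow (Red.Ga S) m))
    (h : (z₁ ≫ RedSub.cellMap D eneg epos) * (z₂ ≫ RedSub.cellMap D eneg epos) = z₃ ≫ RedSub.cellMap D eneg epos)
    (x : D.M) (hx : ∀ a, coF D a x = 0) :
    MultSubLib.chars (tcoord D z₃ ≫ D.split.hom.hom.hom) (Multiplicative.ofAdd x) =
      MultSubLib.chars (tcoord D z₁ ≫ D.split.hom.hom.hom) (Multiplicative.ofAdd x) *
        MultSubLib.chars (tcoord D z₂ ≫ D.split.hom.hom.hom) (Multiplicative.ofAdd x) := by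
  rcases fullRank_or_exists_central D with h0 | ⟨cc, x₀, hμ, hx₀⟩
  · rw [h0 x hx, ofAdd_zero, map_one, map_one, map_one, _root_.one_mul]
  haveI := isMonHom_i D
  obtain ⟨F, hF, hT, hU⟩ := exists_shift D cc hμ x hx b
  haveI := hF
  have hcomm : ∀ (t : X ⟶ D.T) (z : X ⟶ RedSub.pow (Red.Ga S) n ⊗ (D.T ⊗ RedSub.pow (Red.Ga S) m)),
      Commute ((t ≫ iot D cc x) ≫ D.i) (z ≫ RedSub.cellMap D eneg epos) := fun t z => by
    rw [RedSub.cellMap, MonObj.comp_mul, MonObj.comp_mul]
    refine Commute.mul_right ?_ (Commute.mul_right ?_ ?_)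
    · rw [← Category.assoc]; exact iot_central D cc hμ x t eneg _
    · simp only [← Category.assoc]
      rw [Commute, SemiconjBy, ← MonObj.mul_comp, ← MonObj.mul_comp, torus_comm D]
    · simp only [← Category.assoc]; exact iot_central D cc hμ x t epos _
  have hshift : ∀ z : X ⟶ RedSub.pow (Red.Ga S) n ⊗ (D.T ⊗ RedSub.pow (Red.Ga S) m),
      (z ≫ RedSub.cellMap D eneg epos) ≫ F = (z ≫ RedSub.cellMap D eneg epos) * ((tcoord D z ≫ iot D cc x) ≫ D.i) := by
    intro z
    have hp : ∀ {l : ℕ} (e : Fin l → D.idx) (w : X ⟶ RedSub.pow (Red.Ga S) l),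
        (w ≫ RedSub.prodMap (Red.Ga S) l fun k => D.u (e k)) ≫ F = w ≫ RedSub.prodMap (Red.Ga S) l fun k => D.u (e k) := by
      intro l e w
      let P : Submonoid (X ⟶ G) :=
        { carrier := {g | g ≫ F = g}
          one_mem' := MonObj.one_comp F
          mul_mem' := fun {x y} (hx : x ≫ F = x) (hy : y ≫ F = y) => show (x * y) ≫ F = x * y by
            rw [MonObj.mul_comp, hx, hy] }
      rw [prodMap_eq]
      refine Submonoid.list_prod_mem P fun g hg => ?_
      obtain ⟨k, rfl⟩ := List.mem_ofFn.1 hg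
      rw [← Category.assoc]
      exact hU X (e k) _
    have ht : ∀ t : X ⟶ D.T, (t ≫ D.i) ≫ F = (t ≫ D.i) * ((t ≫ iot D cc x) ≫ D.i) := fun t => by
      rw [Category.assoc, hT, ← Category.assoc, MonObj.comp_mul, Category.comp_id, MonObj.mul_comp]
    rw [RedSub.cellMap, MonObj.comp_mul, MonObj.comp_mul, MonObj.mul_comp, MonObj.mul_comp]
    simp only [← Category.assoc]
    rw [hp, hp, ht]
    show _ = _ * ((((z ≫ snd _ _) ≫ fst _ _) ≫ D.i) * _) * ((tcoord D z ≫ iot D cc x) ≫ D.i)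
    rw [show tcoord D z = (z ≫ snd _ _) ≫ fst _ _ from (Category.assoc _ _ _).symm]
    have := (iot_central D cc hμ x ((z ≫ snd _ _) ≫ fst _ _) epos ((z ≫ snd _ _) ≫ snd _ _)).eq
    simp only [_root_.mul_assoc, this]
  have e := congrArg (fun g => g ≫ F) h
  simp only [MonObj.mul_comp, hshift] at e
  rw [← h] at e
  have key : (tcoord D z₁ * tcoord D z₂) ≫ iot D cc x = tcoord D z₃ ≫ iot D cc x := by
    haveI := mono_i D
    haveI : IsMonHom D.split.hom.hom.hom := D.split.hom.hom.isMonHom_hom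
    refine torus_ext (MonoidHom.ext fun y => ?_)
    obtain ⟨y, rfl⟩ := Multiplicative.ofAdd.surjective y
    have e2 : ((tcoord D z₁ ≫ iot D cc x) * (tcoord D z₂ ≫ iot D cc x)) ≫ D.i = (tcoord D z₃ ≫ iot D cc x) ≫ D.i := by
      rw [MonObj.mul_comp]
      refine mul_left_cancel (a := (z₁ ≫ RedSub.cellMap D eneg epos) * (z₂ ≫ RedSub.cellMap D eneg epos)) ?_
      rw [← e]
      have hc := (hcomm (tcoord D z₁) z₂).eq
      simp only [_root_.mul_assoc]
      rw [← _root_.mul_assoc ((tcoord D z₁ ≫ iot D cc x) ≫ D.i) (z₂ ≫ RedSub.cellMap D eneg epos), hc, _root_.mul_assoc]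
    rw [← (cancel_mono D.i).1 e2, split_hom_mul, MultSubLib.chars_mul, MonoidHom.mul_apply, Category.assoc,
      Category.assoc, Category.assoc, chars_iot, chars_iot, chars_iot, split_hom_mul, MultSubLib.chars_mul,
      MonoidHom.mul_apply]
  have k := congrArg (fun t => MultSubLib.chars (t ≫ D.split.hom.hom.hom) (Multiplicative.ofAdd x₀)) key
  simp only [Category.assoc, chars_iot, hx₀, one_smul, split_hom_mul, MultSubLib.chars_mul, MonoidHom.mul_apply] at k
  exact k.symm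

/-- The torus coordinate modulo the coroots. -/
def fQuot (N : AddSubgroup D.M) (n m : ℕ) : RedSub.pow (Red.Ga S) n ⊗ (D.T ⊗ RedSub.pow (Red.Ga S) m) ⟶ Red.DS S ↥N :=
  snd _ _ ≫ fst _ _ ≫ D.split.hom.hom.hom ≫ Red.DSmap S N.subtype

theorem fQuot_mul (b : D.P.Base) (N : AddSubgroup D.M) (hN : ∀ x ∈ N, ∀ a, coF D a x = 0) {n m : ℕ}
    (eneg : Fin n → D.idx) (epos : Fin m → D.idx)
    {X : Over S} (z₁ z₂ z₃ : X ⟶ RedSub.pow (Red.Ga S) n ⊗ (D.T ⊗ RedSub.pow (Red.Ga S) m))
    (h : (z₁ ≫ RedSub.cellMap D eneg epos) * (z₂ ≫ RedSub.cellMap D eneg epos) = z₃ ≫ RedSub.cellMap D eneg epos) :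
    z₃ ≫ fQuot D N n m = (z₁ ≫ fQuot D N n m) * (z₂ ≫ fQuot D N n m) := by
  refine MultSubLib.chars_injective (MonoidHom.ext fun y => ?_)
  obtain ⟨y, rfl⟩ := Multiplicative.ofAdd.surjective y
  have e : ∀ z : X ⟶ RedSub.pow (Red.Ga S) n ⊗ (D.T ⊗ RedSub.pow (Red.Ga S) m),
      MultSubLib.chars (z ≫ fQuot D N n m) (Multiplicative.ofAdd y) =
        MultSubLib.chars (tcoord D z ≫ D.split.hom.hom.hom) (Multiplicative.ofAdd (y : D.M)) := fun z => by
    rw [fQuot, tcoord]
    simp only [← Category.assoc]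
    rw [DSImg.chars_comp_DSmap]
    rfl
  rw [MultSubLib.chars_mul, MonoidHom.mul_apply, e, e, e]
  exact chars_mul_of_cell D b eneg epos z₁ z₂ z₃ h _ (hN _ y.2)

/-- **The homomorphism to the torus modulo the coroots.** -/
theorem exists_quotHom (b : D.P.Base) (N : AddSubgroup D.M) (hN : ∀ x ∈ N, ∀ a, coF D a x = 0) {n m : ℕ}
    {eneg : Fin n → D.idx} {epos : Fin m → D.idx} (hneg : RedSub.Enumerates (RedSub.negRoots D.P b) eneg)
    (hpos : RedSub.Enumerates (RedSub.posRoots D.P b) epos) :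
    ∃ f : G ⟶ Red.DS S ↥N, IsMonHom f ∧ RedSub.cellMap D eneg epos ≫ f = fQuot D N n m ∧
      D.i ≫ f = D.split.hom.hom.hom ≫ Red.DSmap S N.subtype := by
  have hc := isGerm_cell D (sidesOfBase D.P b) hneg hpos
  obtain ⟨f, ⟨hf, hcf⟩, -⟩ := existsUnique_extend' (f := fQuot D N n m) (fun X g v hgv => ⟨[g], fun X' π h w hh hcond => by
    obtain ⟨z₁, hz₁, hv⟩ := hgv.comp π
    obtain ⟨z₂, hz₂, hw⟩ := hh
    obtain ⟨z₃, hz₃⟩ := hcond g (List.mem_singleton_self g)
    refine ⟨z₃, hz₃, ?_⟩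
    rw [fQuot_mul D b N hN eneg epos z₁ z₂ z₃ (by rw [hz₁, hz₂, hz₃]), hv, hw]⟩) hc
  refine ⟨f, hf, hcf, ?_⟩
  haveI := isMonHom_i D
  have e : lift (tup fun _ : Fin n => (ptOf 0 : D.T ⟶ Red.Ga S)) (lift (𝟙 D.T) (tup fun _ : Fin m => (ptOf 0 : D.T ⟶ Red.Ga S))) ≫ RedSub.cellMap D eneg epos = D.i := by
    haveI : ∀ k, IsMonHom (D.u k) := isMonHom_u D
    rw [RedSub.cellMap, MonObj.comp_mul, MonObj.comp_mul, lift_fst_assoc, lift_snd_assoc, lift_fst_assoc,
      lift_snd_assoc, lift_snd_assoc, Category.id_comp, prodMap_eq, prodMap_eq]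
    have hone : ∀ {l : ℕ} (e : Fin l → D.idx),
        (List.ofFn fun k => (tup fun _ : Fin l => (ptOf 0 : D.T ⟶ Red.Ga S)) ≫ prj S k ≫ D.u (e k)).prod = 1 := fun {l} e => by
      refine List.prod_eq_one fun g hg => ?_
      obtain ⟨k, rfl⟩ := List.mem_ofFn.1 hg
      rw [← Category.assoc, tup_prj]
      exact ep_zero (e k)
    rw [hone, hone, _root_.one_mul, _root_.mul_one]
  rw [← e, Category.assoc, hcf, fQuot, lift_snd_assoc, lift_fst_assoc, Category.id_comp]

end Bruhat

end
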