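import Groth.Agent.BruhatLib.TorusQuot

/-!
# The big cell of the kernel of the homomorphism to the torus modulo the coroots
-/

set_option autoImplicit false
set_option linter.style.haveILetI false
set_option linter.unusedSectionVars false
set_option backward.isDefEq.respectTransparency false
set_option maxHeartbeats 1000000
set_option synthInstance.maxHeartbeats 400000

universe u

open CategoryTheory CategoryTheory.Limits MonoidalCategory CartesianMonoidalCategory AlgebraicGeometry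
open Groth.Agent.GaPts
open Groth.Agent
open scoped MonObj

noncomputable section

attribute [-instance] CategoryTheory.Hom.commGroup

namespace Bruhat

open SplitCell SplitFib RootSubgrp

variable {S : Scheme.{u}} {G : Over S} [GrpObj G] (D : Red.SplitRed G) (N : AddSubgroup D.M) {n m : ℕ}

/-- The restricted cell. -/
def cell' (eneg : Fin n → D.idx) (epos : Fin m → D.idx) :
    RedSub.pow (Red.Ga S) n ⊗ (Red.DS S (D.M ⧸ N) ⊗ RedSub.pow (Red.Ga S) m) ⟶ G :=
  (fst _ _ ≫ RedSub.prodMap (Red.Ga S) n (fun k => D.u (eneg k))) *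
    ((snd _ _ ≫ fst _ _ ≫ Red.DSmap S (QuotientAddGroup.mk' N) ≫ D.split.inv.hom.hom ≫ D.i) *
      (snd _ _ ≫ snd _ _ ≫ RedSub.prodMap (Red.Ga S) m (fun k => D.u (epos k))))

/-- The inclusion of the restricted cell into the cell. -/
def cellIncl {X : Over S} (g : X ⟶ RedSub.pow (Red.Ga S) n ⊗ (Red.DS S (D.M ⧸ N) ⊗ RedSub.pow (Red.Ga S) m)) :
    X ⟶ RedSub.pow (Red.Ga S) n ⊗ (D.T ⊗ RedSub.pow (Red.Ga S) m) :=
  lift (g ≫ fst _ _) (lift (g ≫ snd _ _ ≫ fst _ _ ≫ Red.DSmap S (QuotientAddGroup.mk' N) ≫ D.split.inv.hom.hom)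
    (g ≫ snd _ _ ≫ snd _ _))

theorem cellIncl_comp {X : Over S} (eneg : Fin n → D.idx) (epos : Fin m → D.idx)
    (g : X ⟶ RedSub.pow (Red.Ga S) n ⊗ (Red.DS S (D.M ⧸ N) ⊗ RedSub.pow (Red.Ga S) m)) :
    cellIncl D N g ≫ RedSub.cellMap D eneg epos = g ≫ cell' D N eneg epos := by
  rw [cellIncl, RedSub.cellMap, cell', MonObj.comp_mul, MonObj.comp_mul, MonObj.comp_mul, MonObj.comp_mul,
    lift_fst_assoc, lift_snd_assoc, lift_fst_assoc, lift_snd_assoc, lift_snd_assoc]
  simp only [Category.assoc]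

theorem cellIncl_fQuot {X : Over S}
    (g : X ⟶ RedSub.pow (Red.Ga S) n ⊗ (Red.DS S (D.M ⧸ N) ⊗ RedSub.pow (Red.Ga S) m)) :
    cellIncl D N g ≫ fQuot D N n m = 1 := by
  have e0 : D.split.inv.hom.hom ≫ D.split.hom.hom.hom = 𝟙 _ := congrArg (fun q => q.hom.hom) D.split.inv_hom_id
  rw [cellIncl, fQuot, lift_snd_assoc, lift_fst_assoc]
  simp only [Category.assoc]
  rw [← Category.assoc D.split.inv.hom.hom, e0, Category.id_comp, DSImg.DSmap_comp]
  refine MultSubLib.chars_injective (MonoidHom.ext fun y => ?_)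
  obtain ⟨y, rfl⟩ := Multiplicative.ofAdd.surjective y
  simp only [← Category.assoc]
  rw [DSImg.chars_comp_DSmap, MultSubLib.chars_one]
  show MultSubLib.chars _ (Multiplicative.ofAdd ((QuotientAddGroup.mk' N) (y : D.M))) = 1
  rw [show (QuotientAddGroup.mk' N) (y : D.M) = 0 from (QuotientAddGroup.eq_zero_iff _).2 y.2, ofAdd_zero, map_one]

/-- A point of a diagonalisable group killed on a subgroup of characters comes from the quotient. -/
theorem exists_lift_DSmap {M : Type} [AddCommGroup M] (N : AddSubgroup M) {X : Over S} (t : X ⟶ Red.DS S M)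
    (ht : t ≫ Red.DSmap S N.subtype = 1) : ∃ q, q ≫ Red.DSmap S (QuotientAddGroup.mk' N) = t := by
  have hker : N ≤ (MonoidHom.toAdditiveRight (MultSubLib.chars t)).ker := fun y hy => by
    have e := congrArg (fun q => MultSubLib.chars q (Multiplicative.ofAdd (⟨y, hy⟩ : N))) ht
    simp only [DSImg.chars_comp_DSmap, MultSubLib.chars_one] at e
    exact congrArg Additive.ofMul e
  refine ⟨DSPtsLib.dsPt (AddMonoidHom.toMultiplicativeLeft
    (QuotientAddGroup.lift N (MonoidHom.toAdditiveRight (MultSubLib.chars t)) hker)), MultSubLib.chars_injective ?_⟩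
  rw [DSImg.chars_comp_DSmap, MultSubLib.chars_dsPt]
  rfl

/-- **A point of the cell killed by the quotient map lies in the restricted cell.** -/
theorem exists_cell'_of_fQuot {X : Over S} (eneg : Fin n → D.idx) (epos : Fin m → D.idx)
    (z : X ⟶ RedSub.pow (Red.Ga S) n ⊗ (D.T ⊗ RedSub.pow (Red.Ga S) m)) (hz : z ≫ fQuot D N n m = 1) :
    ∃ g, z ≫ RedSub.cellMap D eneg epos = g ≫ cell' D N eneg epos := by
  obtain ⟨q, hq⟩ := exists_lift_DSmap N ((z ≫ snd _ _ ≫ fst _ _) ≫ D.split.hom.hom.hom) (by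
    rw [← hz, fQuot]; simp only [Category.assoc])
  refine ⟨lift (z ≫ fst _ _) (lift q (z ≫ snd _ _ ≫ snd _ _)), ?_⟩
  have e0 : D.split.hom.hom.hom ≫ D.split.inv.hom.hom = 𝟙 _ := congrArg (fun q => q.hom.hom) D.split.hom_inv_id
  have hT : q ≫ Red.DSmap S (QuotientAddGroup.mk' N) ≫ D.split.inv.hom.hom = z ≫ snd _ _ ≫ fst _ _ := by
    rw [← Category.assoc q, hq, Category.assoc, e0, Category.comp_id]
  have key : cellIncl D N (lift (z ≫ fst _ _) (lift q (z ≫ snd _ _ ≫ snd _ _))) = z := by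
    refine CartesianMonoidalCategory.hom_ext _ _ ((lift_fst _ _).trans (lift_fst _ _)) ?_
    refine (lift_snd _ _).trans (CartesianMonoidalCategory.hom_ext _ _ ((lift_fst _ _).trans ?_) ((lift_snd _ _).trans ?_))
    · rw [lift_snd_assoc, lift_fst_assoc, hT, Category.assoc]
    · rw [lift_snd_assoc, lift_snd, Category.assoc]
  exact ((congrArg (fun w => w ≫ RedSub.cellMap D eneg epos) key).symm.trans (cellIncl_comp D N eneg epos _))

variable [Nonempty S]

omit N in
/-- The quotient map kills the ordered products of roots of either side. -/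
theorem quot_prodMap {H : Over S} [GrpObj H] (f : G ⟶ H) [IsMonHom f]
    (hf : ∀ (k : D.idx), D.u k ≫ f = 1) {l : ℕ} (e : Fin l → D.idx) :
    (RedSub.prodMap (Red.Ga S) l fun k => D.u (e k)) ≫ f = 1 := by
  rw [← Category.id_comp (RedSub.prodMap (Red.Ga S) l fun k => D.u (e k)), prodMap_eq]
  let P : Submonoid (RedSub.pow (Red.Ga S) l ⟶ G) :=
    { carrier := {g | g ≫ f = 1}
      one_mem' := MonObj.one_comp f
      mul_mem' := fun {x y} (hx : x ≫ f = 1) (hy : y ≫ f = 1) => show (x * y) ≫ f = 1 by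
        rw [MonObj.mul_comp, hx, hy, _root_.one_mul] }
  refine Submonoid.list_prod_mem P fun g hg => ?_
  obtain ⟨k, rfl⟩ := List.mem_ofFn.1 hg
  show (𝟙 _ ≫ prj S k ≫ D.u (e k)) ≫ f = 1
  rw [Category.assoc, Category.assoc, hf, MonObj.comp_one, MonObj.comp_one]

theorem quot_roots (b : D.P.Base) {H : Over S} [GrpObj H] (f : G ⟶ H) [IsMonHom f]
    {eneg : Fin n → D.idx} {epos : Fin m → D.idx} (hneg : RedSub.Enumerates (RedSub.negRoots D.P b) eneg)
    (hpos : RedSub.Enumerates (RedSub.posRoots D.P b) epos)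
    (hcf : RedSub.cellMap D eneg epos ≫ f = snd _ _ ≫ fst _ _ ≫ D.i ≫ f) (k : D.idx) : D.u k ≫ f = 1 := by
  classical
  haveI := isMonHom_i D
  haveI : ∀ j, IsMonHom (D.u j) := isMonHom_u D
  have hz : ∀ (y : Red.Ga S ⟶ RedSub.pow (Red.Ga S) n) (x : Red.Ga S ⟶ RedSub.pow (Red.Ga S) m),
      ((y ≫ RedSub.prodMap (Red.Ga S) n fun i => D.u (eneg i)) * (x ≫ RedSub.prodMap (Red.Ga S) m fun i => D.u (epos i))) ≫ f = 1 := by
    intro y x
    have h := congrArg (fun q => lift y (lift (1 : Red.Ga S ⟶ D.T) x) ≫ q) hcf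
    simp only [RedSub.cellMap, ← Category.assoc, MonObj.comp_mul, lift_fst, lift_snd, MonObj.one_comp] at h
    simp only [lift_snd, lift_fst, MonObj.one_comp, _root_.one_mul] at h
    exact h
  have hone : ∀ {l : ℕ} (e : Fin l → D.idx) (i : Fin l),
      tup ((fun j => if j = i then 𝟙 (Red.Ga S) else 1)) ≫ (RedSub.prodMap (Red.Ga S) l fun j => D.u (e j)) = D.u (e i) := by
    intro l e i
    rw [prodMap_eq]
    simp only [← Category.assoc, tup_prj]
    rw [prod_ofFn_single _ i fun j hj => by rw [if_neg hj, MonObj.one_comp], if_pos rfl, Category.id_comp]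
  have hzero : ∀ {l : ℕ} (e : Fin l → D.idx),
      tup (fun _ : Fin l => (1 : Red.Ga S ⟶ Red.Ga S)) ≫ (RedSub.prodMap (Red.Ga S) l fun j => D.u (e j)) = 1 := by
    intro l e
    rw [prodMap_eq]
    refine List.prod_eq_one fun g hg => ?_
    obtain ⟨j, rfl⟩ := List.mem_ofFn.1 hg
    rw [← Category.assoc, tup_prj, MonObj.one_comp]
  rcases (sidesOfBase D.P b).total k with hk | hk
  · obtain ⟨i, rfl⟩ := hpos.2.symm.subset hk
    have := hz (tup fun _ => 1) (tup (fun j => if j = i then 𝟙 (Red.Ga S) else 1))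
    rwa [hzero, hone, _root_.one_mul] at this
  · obtain ⟨i, rfl⟩ := hneg.2.symm.subset hk
    have := hz (tup (fun j => if j = i then 𝟙 (Red.Ga S) else 1)) (tup fun _ => 1)
    rwa [hzero, hone, _root_.mul_one] at this

end Bruhat

end
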