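import Groth.Agent.BruhatLib.Weight

/-!
# Two splittings with conjugate tori over a geometric point
-/

set_option autoImplicit false
set_option linter.style.haveILetI false
set_option linter.unusedSectionVars false
set_option backward.isDefEq.respectTransparency false
set_option maxHeartbeats 1000000
set_option synthInstance.maxHeartbeats 400000

universe u

open CategoryTheory CategoryTheory.Limits MonoidalCategory CartesianMonoidalCategory AlgebraicGeometry
open Groth.Agent.GaPts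
open Groth.Agent
open scoped MonObj LaurentPolynomial
open Groth.Agent.BorelLib
open CoactBr (sp)

noncomputable section

attribute [-instance] CategoryTheory.Hom.commGroup

namespace Bruhat

attribute [local instance] pTop pTopTensor

open SplitCell SplitFib RootSubgrp

section Points

variable {S : Scheme.{u}} {G : Over S} [GrpObj G] {D : Red.SplitRed G} {K : Type u} [Field K] [IsAlgClosed K]
  (ξ : Spec (CommRingCat.of K) ⟶ S)

theorem ch_inv_apply (t : aP ξ K ⟶ D.T) (m : D.M) :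
    ch D ξ t⁻¹ (Multiplicative.ofAdd m) = (ch D ξ t (Multiplicative.ofAdd m))⁻¹ := by
  refine eq_inv_of_mul_eq_one_left ?_
  rw [← MonoidHom.mul_apply, ← ch_mul, inv_mul_cancel, ch_one, MonoidHom.one_apply]

/-- The point normalises the rational points of the torus. -/
def PtNorm (D : Red.SplitRed G) (x : aP ξ K ⟶ G) : Prop :=
  ∀ s : aP ξ K ⟶ D.T, ∃ s' : aP ξ K ⟶ D.T, x * (s ≫ D.i) * x⁻¹ = s' ≫ D.i

theorem PtNorm.mul {x y : aP ξ K ⟶ G} (hx : PtNorm ξ D x) (hy : PtNorm ξ D y) : PtNorm ξ D (x * y) := fun s => by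
  obtain ⟨s', hs'⟩ := hy s
  obtain ⟨s'', hs''⟩ := hx s'
  exact ⟨s'', by rw [← hs'', ← hs']; group⟩

/-- **A cell point normalising the rational torus lies in it.** -/
theorem mem_torus_of_cell_pts [Nonempty S] (σ : Sides D.P) {x : aP ξ K ⟶ G} (hx : PtNorm ξ D x) {y c : aP ξ K ⟶ G}
    (hy : y ∈ Ux D σ.neg (aP ξ K)) (hc : c ∈ Ux D σ.pos (aP ξ K)) (t : aP ξ K ⟶ D.T)
    (h : x = y * ((t ≫ D.i) * c)) : x = t ≫ D.i := by
  haveI := isMonHom_i D
  obtain ⟨n, m, eneg, epos, hneg, hpos⟩ := exists_enum D σ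
  obtain ⟨y₀, rfl⟩ := exists_rprod (flipSides σ) hneg hy
  obtain ⟨c₀, rfl⟩ := exists_rprod σ hpos hc
  obtain ⟨y₁, rfl⟩ := exists_pw ξ y₀
  obtain ⟨c₁, rfl⟩ := exists_pw ξ c₀
  rw [show rprod D eneg = RedSub.prodMap (Red.Ga S) n fun k => D.u (eneg k) from rfl,
    show rprod D epos = RedSub.prodMap (Red.Ga S) m fun k => D.u (epos k) from rfl, pw_prodMap, pw_prodMap] at h
  have key : ∀ (f : D.M →ₗ[ℤ] ℤ) (z : Kˣ),
      (∀ k, ((z ^ f (D.P.root (eneg k)) : Kˣ) : K) * y₁ k = y₁ k) ∧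
      (∀ k, ((z ^ f (D.P.root (epos k)) : Kˣ) : K) * c₁ k = c₁ k) := fun f z => by
    obtain ⟨s', hs'⟩ := hx (tc D ξ f z)
    set s := tc D ξ f z with hs
    have hp : ∀ {l : ℕ} (e : Fin l → D.idx) (r : Fin l → K) (τ : aP ξ K ⟶ D.T),
        (τ ≫ D.i) * pe ξ (fun k => D.u (e k)) r * (τ ≫ D.i)⁻¹ =
          pe ξ (fun k => D.u (e k)) fun k => (ch D ξ τ (Multiplicative.ofAdd (D.P.root (e k))) : K) * r k :=
      fun e r τ => by
        have hh := map_list_prod (MulAut.conj (τ ≫ D.i)).toMonoidHom (List.ofFn fun k => el ξ (D.u (e k)) (r k))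
        rw [MulEquiv.coe_toMonoidHom, List.map_ofFn] at hh
        refine (MulAut.conj_apply _ _).symm.trans (hh.trans ?_)
        rw [pe]
        exact congrArg List.prod (congrArg List.ofFn (funext fun k =>
          (MulAut.conj_apply _ _).trans (conj_el D ξ τ (e k) (r k))))
    have e1 : pe ξ (fun k => D.u (eneg k)) y₁ * (((t * s) ≫ D.i) *
          pe ξ (fun k => D.u (epos k)) fun k => (ch D ξ s⁻¹ (Multiplicative.ofAdd (D.P.root (epos k))) : K) * c₁ k) =
        pe ξ (fun k => D.u (eneg k)) (fun k => (ch D ξ s' (Multiplicative.ofAdd (D.P.root (eneg k))) : K) * y₁ k) *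
          (((s' * t) ≫ D.i) * pe ξ (fun k => D.u (epos k)) c₁) := by
      rw [← hp, ← hp, MonObj.mul_comp t, MonObj.mul_comp s', GrpObj.inv_comp, ← hs', h]
      group
    obtain ⟨ey, et, ec⟩ := cell_inj D σ ξ hneg hpos e1
    have hss : s' = s := mul_right_cancel (et.symm.trans (torus_comm D t s))
    subst hss
    refine ⟨fun k => ?_, fun k => ?_⟩
    · have := congrFun ey k
      rw [hs, tc, ch_cochT] at this
      exact this.symm
    · have := congrFun ec k
      rw [hs, tc, ch_inv_apply, ch_cochT] at this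
      calc _ = ((z ^ f (D.P.root (epos k)) : Kˣ) : K) *
            (((z ^ f (D.P.root (epos k)))⁻¹ : Kˣ) * c₁ k) := by rw [this]
        _ = _ := by rw [← _root_.mul_assoc, ← Units.val_mul, mul_inv_cancel, Units.val_one, _root_.one_mul]
  obtain ⟨f, hf₁, hf₂⟩ := σ.regular
  have hzero : ∀ (k : D.idx) (r : K), f (D.P.root k) ≠ 0 →
      (∀ z : Kˣ, ((z ^ f (D.P.root k) : Kˣ) : K) * r = r) → r = 0 := fun k r hk h => by
    obtain ⟨z, hz⟩ := exists_units_zpow_ne_one K hk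
    by_contra hr
    exact hz (Units.ext (mul_right_cancel₀ hr ((h z).trans (_root_.one_mul r).symm)))
  haveI : ∀ k, IsMonHom (D.u k) := isMonHom_u D
  haveI : ∀ i, IsMonHom ((fun i => D.u (eneg i)) i) := fun i => isMonHom_u D _
  haveI : ∀ i, IsMonHom ((fun i => D.u (epos i)) i) := fun i => isMonHom_u D _
  rw [show y₁ = fun _ => 0 from funext fun k => hzero _ _ (hf₂ _ (hneg.2.subset (Set.mem_range_self k))).ne
      fun z => (key f z).1 k,
    show c₁ = fun _ => 0 from funext fun k => hzero _ _ (hf₁ _ (hpos.2.subset (Set.mem_range_self k))).ne'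
      fun z => (key f z).2 k, pe_zero, pe_zero, _root_.one_mul, _root_.mul_one] at h
  exact h

/-- A point normalising the rational torus is a word times a point of the torus. -/
theorem exists_word_of_ptNorm [Nonempty S] {nr : D.idx → (𝟙_ (Over S) ⟶ G)} (hnr : ∀ a, IsRefl D a (nr a))
    (b : D.P.Base) {x : aP ξ K ⟶ G} (hx : PtNorm ξ D x) :
    ∃ (l : List D.idx) (t : aP ξ K ⟶ D.T), x = nX nr (aP ξ K) l * (t ≫ D.i) := by
  let σ := sidesOfBase D.P b
  obtain ⟨u, hu, l, t, c, hc, hgu⟩ := mem_cells hnr ξ (σ := flipSides σ) (σ' := σ) b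
    (fun a ha => ⟨_, Or.inr rfl, (isWall_of_mem_support b ha).flip⟩) x
  obtain ⟨u₁, hu₁, u₂, hu₂, hu12⟩ := exists_split_mem (flipSides σ)
    (fun k => (RedSub.wordPerm D.P l).symm k ∈ σ.neg) hu
  set N := nX nr (aP ξ K) l with hN
  have ha : N⁻¹ * u₁ * N ∈ Ux D σ.neg (aP ξ K) := conj_ux_word' hnr l (fun k hk => hk.2) hu₁
  have hb : N⁻¹ * u₂ * N ∈ Ux D σ.pos (aP ξ K) :=
    conj_ux_word' hnr l (fun k hk => (σ.total _).resolve_right hk.2) hu₂
  have hNi : PtNorm ξ D N⁻¹ := fun s => by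
    obtain ⟨s', hs'⟩ := conj_torus_word' hnr l s
    exact ⟨s', by rw [inv_inv]; exact hs'⟩
  refine ⟨l, t, eq_mul_of_inv_mul_eq ?_⟩
  refine mem_torus_of_cell_pts ξ σ (hNi.mul ξ hx) ha
    (c := (t ≫ D.i)⁻¹ * (N⁻¹ * u₂ * N) * (t ≫ D.i) * c)
    (Subgroup.mul_mem _ (conj_torus_mem' t hb) hc) t ?_
  rw [hgu, hu12]
  group

end Points

variable {S : Scheme.{u}} {G : Over S} [GrpObj G] (D D' : Red.SplitRed G) {K : Type u} [Field K] [IsAlgClosed K]
  (ξ : Spec (CommRingCat.of K) ⟶ S) {A : Type u} [CommRing A] [HopfAlgebra K A]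
  (v : sp K A ≅ Red.bc ξ G) [IsMonHom v.hom] [Algebra.FiniteType K A] [_root_.IsReduced A]
  [IsAffine (Red.bc ξ G).left] [Smooth (Red.bc ξ G).hom]

theorem eq_of_zpow {N N' : ℤ} (h : ∀ z : Kˣ, z ^ N = z ^ N') : N = N' := by
  by_contra hne
  obtain ⟨z, hz⟩ := exists_units_zpow_ne_one K (sub_ne_zero.2 hne)
  exact hz (by rw [zpow_sub, h, mul_inv_cancel])

theorem ch_tc (f : D.M →ₗ[ℤ] ℤ) (z : Kˣ) (m : D.M) :
    ch D ξ (tc D ξ f z) (Multiplicative.ofAdd m) = z ^ f m := ch_cochT D ξ f z m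

theorem tc_inj {f f' : D.M →ₗ[ℤ] ℤ} (h : ∀ z : Kˣ, tc D ξ f z = tc D ξ f' z) : f = f' :=
  LinearMap.ext fun m => eq_of_zpow fun z => by rw [← ch_tc D ξ, ← ch_tc D ξ, h z]

theorem eq_tc {f : D.M →ₗ[ℤ] ℤ} {z : Kˣ} {t : aP ξ K ⟶ D.T}
    (h : ∀ m, ch D ξ t (Multiplicative.ofAdd m) = z ^ f m) : t = tc D ξ f z :=
  ch_injective D ξ (MonoidHom.ext fun m => by
    obtain ⟨m, rfl⟩ := Multiplicative.ofAdd.surjective m
    rw [h, ch_tc])

/-- **The map of cocharacters of a conjugation of tori.** -/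
theorem exists_coweight (g : Pt K A) (h : ∀ s ∈ Tsub D ξ v, g * s * g⁻¹ ∈ Tsub D' ξ v) :
    ∃ ψ : (D.M →ₗ[ℤ] ℤ) →ₗ[ℤ] (D'.M →ₗ[ℤ] ℤ), ∀ (f : D.M →ₗ[ℤ] ℤ) (z : Kˣ),
      g * torusHom D ξ v (tc D ξ f z) * g⁻¹ = torusHom D' ξ v (tc D' ξ (ψ f) z) := by
  have hex : ∀ (f : D.M →ₗ[ℤ] ℤ) (m : D'.M), ∃ N : ℤ, ∀ (z : Kˣ) (t : aP ξ K ⟶ D'.T),
      g * torusHom D ξ v (tc D ξ f z) * g⁻¹ = torusHom D' ξ v t → ch D' ξ t (Multiplicative.ofAdd m) = z ^ N := by
    intro f m
    let P : aP ξ K[T;T⁻¹] ⟶ G := cfam ξ v g * cochFam D ξ f * (cfam ξ v g)⁻¹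
    have hP : ∀ z : Kˣ, fam ξ v P (gmPt z) = g * torusHom D ξ v (tc D ξ f z) * g⁻¹ := fun z => by
      simp only [P, fam_mul, fam_inv, fam_cfam, fam_cochFam]
    obtain ⟨τ, hτ⟩ := exists_torus_coord D' ξ v P fun x => by
      obtain ⟨z, rfl⟩ := exists_gmPt x
      rw [hP]
      exact h _ ⟨_, rfl⟩
    obtain ⟨N, hN⟩ := exists_zpow D' ξ τ m (by
      have h1 := (hτ (gmPt 1)).symm.trans (hP 1)
      rw [show torusHom D ξ v (tc D ξ f 1) = 1 from map_one (tcHom D ξ v f), _root_.mul_one, mul_inv_cancel,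
        ← map_one (torusHom D' ξ v)] at h1
      rw [torusHom_injective D' ξ v h1, ch_one, MonoidHom.one_apply])
    refine ⟨N, fun z t ht => ?_⟩
    rw [← hP z, hτ (gmPt z)] at ht
    rw [← torusHom_injective D' ξ v ht]
    exact hN z
  choose N hN using hex
  have hex' : ∀ (f : D.M →ₗ[ℤ] ℤ) (z : Kˣ), ∃ t : aP ξ K ⟶ D'.T,
      g * torusHom D ξ v (tc D ξ f z) * g⁻¹ = torusHom D' ξ v t := fun f z => by
    obtain ⟨t, ht⟩ := h _ ⟨tc D ξ f z, rfl⟩
    exact ⟨t, ht.symm⟩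
  choose θ hθ using hex'
  have hlin : ∀ f, ∀ m m' : D'.M, N f (m + m') = N f m + N f m' := fun f m m' => eq_of_zpow fun z => by
    rw [zpow_add, ← hN f _ z _ (hθ f z), ← hN f _ z _ (hθ f z), ← hN f _ z _ (hθ f z), ofAdd_add, map_mul]
  let ψ₀ : (D.M →ₗ[ℤ] ℤ) → (D'.M →ₗ[ℤ] ℤ) := fun f => (AddMonoidHom.mk' (N f) (hlin f)).toIntLinearMap
  have hψ₀ : ∀ f z, θ f z = tc D' ξ (ψ₀ f) z := fun f z => eq_tc D' ξ fun m => hN f m z _ (hθ f z)
  refine ⟨(AddMonoidHom.mk' ψ₀ fun f f' => LinearMap.ext fun m => eq_of_zpow (K := K) fun z => ?_).toIntLinearMap,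
    fun f z => by rw [hθ, hψ₀]; rfl⟩
  have e : tc D ξ (f + f') z = tc D ξ f z * tc D ξ f' z := (eq_tc D ξ fun m => by
    rw [ch_mul, MonoidHom.mul_apply, ch_tc, ch_tc, LinearMap.add_apply, zpow_add]).symm
  have e2 : torusHom D' ξ v (θ (f + f') z) = torusHom D' ξ v (θ f z * θ f' z) := by
    rw [map_mul, ← hθ, ← hθ, ← hθ, e, map_mul]
    group
  show z ^ ψ₀ (f + f') m = z ^ ((ψ₀ f + ψ₀ f') m)
  rw [LinearMap.add_apply, zpow_add, ← ch_tc D' ξ, ← ch_tc D' ξ, ← ch_tc D' ξ, ← hψ₀, ← hψ₀, ← hψ₀,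
    torusHom_injective D' ξ v e2, ch_mul, MonoidHom.mul_apply]

theorem ch_tRefl (k : D.idx) (t : aP ξ K ⟶ D.T) (m : D.M) :
    ch D ξ (tRefl k t) (Multiplicative.ofAdd m) = ch D ξ t (Multiplicative.ofAdd (D.P.reflection k m)) := by
  refine Units.ext ((cst_bijective ξ).1 ?_)
  rw [cst_ch, cst_ch, ← Category.assoc, ← Category.assoc, gmFn_chi, gmFn_chi, chars_tRefl]
  rfl

theorem ch_tWord (l : List D.idx) (t : aP ξ K ⟶ D.T) (m : D.M) :
    ch D ξ (tWord l t) (Multiplicative.ofAdd m) = ch D ξ t (Multiplicative.ofAdd (wordLin D l m)) := by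
  refine Units.ext ((cst_bijective ξ).1 ?_)
  rw [cst_ch, cst_ch, ← Category.assoc, ← Category.assoc, gmFn_chi, gmFn_chi, chars_tWord]
  rfl

/-- A conjugation of tori sends roots to divisors of roots. -/
theorem exists_root_divides (g : Pt K A) (e : D.M →ₗ[ℤ] D'.M) (he : Function.Injective e)
    (ψ' : (D'.M →ₗ[ℤ] ℤ) →ₗ[ℤ] (D.M →ₗ[ℤ] ℤ)) (heψ : ∀ f' m, f' (e m) = ψ' f' m)
    (hψ' : ∀ (f : D'.M →ₗ[ℤ] ℤ) (z : Kˣ),
      g⁻¹ * torusHom D' ξ v (tc D' ξ f z) * g = torusHom D ξ v (tc D ξ (ψ' f) z)) (k : D.idx) :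
    ∃ (k' : D'.idx) (n : ℕ), 0 < n ∧ D'.P.root k' = (n : ℤ) • e (D.P.root k) := by
  haveI := isMonHom_u D k
  haveI := mono_u D k
  let P : aP ξ (Polynomial K) ⟶ G :=
    cfam ξ v g * el ξ (D.u k) (Polynomial.X : Polynomial K) * (cfam ξ v g)⁻¹
  have hP : ∀ r : K, fam ξ v P (linePt r) = g * uEl D ξ v k r * g⁻¹ := fun r => by
    simp only [P, fam_mul, fam_inv, fam_cfam, fam_el]
    simp [linePt]
  refine exists_root_of_weight D' ξ v P (e (D.P.root k)) (fun h => D.P.ne_zero k (he (h.trans (map_zero e).symm)))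
    (by rw [hP, uEl_zero, _root_.mul_one, mul_inv_cancel]) (fun r r' h => ?_) (fun f z r => ?_)
  · simp only [hP, mul_left_inj, mul_right_inj] at h
    exact el_injective ξ (D.u k) ((ptG ξ v).injective h)
  · rw [hP, hP]
    have h1 := conj_uEl D ξ v k (tc D ξ (ψ' f) z) r
    rw [ch_tc, ← hψ', ← heψ] at h1
    rw [← h1]
    group

/-- **Splittings whose tori are conjugate at a geometric point have isomorphic root data.** -/
theorem nonempty_equiv [Nonempty S] (g : Pt K A) (h : ∀ s ∈ Tsub D ξ v, g * s * g⁻¹ ∈ Tsub D' ξ v)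
    (h' : ∀ s ∈ Tsub D' ξ v, g⁻¹ * s * g ∈ Tsub D ξ v) : Nonempty (RootPairing.Equiv D.P D'.P) := by
  classical
  haveI := SplitFib.isReduced_root D
  haveI := SplitFib.isReduced_root D'
  obtain ⟨ψ, hψ⟩ := exists_coweight D D' ξ v g h
  obtain ⟨ψ', hψ'₀⟩ := exists_coweight D' D ξ v g⁻¹ fun s hs => by rw [inv_inv]; exact h' s hs
  have hψ' : ∀ (f : D'.M →ₗ[ℤ] ℤ) (z : Kˣ),
      g⁻¹ * torusHom D' ξ v (tc D' ξ f z) * g = torusHom D ξ v (tc D ξ (ψ' f) z) := fun f z => by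
    rw [← hψ'₀, inv_inv]
  have hinv : ∀ f, ψ' (ψ f) = f := fun f => tc_inj D ξ fun z => torusHom_injective D ξ v (by
    rw [← hψ', ← hψ]; group)
  have hinv' : ∀ f, ψ (ψ' f) = f := fun f => tc_inj D' ξ fun z => torusHom_injective D' ξ v (by
    rw [← hψ, ← hψ']; group)
  let e : D.M →ₗ[ℤ] D'.M :=
    (Module.evalEquiv ℤ D'.M).symm.toLinearMap ∘ₗ ψ'.dualMap ∘ₗ Module.Dual.eval ℤ D.M
  let e' : D'.M →ₗ[ℤ] D.M :=
    (Module.evalEquiv ℤ D.M).symm.toLinearMap ∘ₗ ψ.dualMap ∘ₗ Module.Dual.eval ℤ D'.M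
  have heψ : ∀ (f' : D'.M →ₗ[ℤ] ℤ) m, f' (e m) = ψ' f' m := fun f' m =>
    Module.apply_evalEquiv_symm_apply ℤ D'.M f' _
  have heψ' : ∀ (f : D.M →ₗ[ℤ] ℤ) m, f (e' m) = ψ f m := fun f m =>
    Module.apply_evalEquiv_symm_apply ℤ D.M f _
  have hee : ∀ m, e' (e m) = m := fun m => sub_eq_zero.1 ((Module.forall_dual_apply_eq_zero_iff ℤ _).1 fun f => by
    rw [map_sub, heψ', heψ, hinv, sub_self])
  have hee' : ∀ m, e (e' m) = m := fun m => sub_eq_zero.1 ((Module.forall_dual_apply_eq_zero_iff ℤ _).1 fun f => by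
    rw [map_sub, heψ, heψ', hinv', sub_self])
  have hroot : ∀ k, ∃ k' : D'.idx, D'.P.root k' = e (D.P.root k) := fun k => by
    obtain ⟨k', n, hn, hk'⟩ := exists_root_divides D D' ξ v g e (Function.LeftInverse.injective hee) ψ' heψ hψ' k
    obtain ⟨k'', m, hm, hk''⟩ := exists_root_divides D' D ξ v g⁻¹ e' (Function.LeftInverse.injective hee') ψ heψ'
      (fun f z => by rw [inv_inv]; exact hψ f z) k'
    rw [hk', map_zsmul, hee, smul_smul] at hk''
    have hmn : (m : ℤ) * n = 1 := by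
      have hnli : ¬ LinearIndependent ℤ ![D.P.root k'', D.P.root k] := fun hli => by
        have := (LinearIndependent.pair_iff.1 hli 1 (-((m : ℤ) * n)) (by
          rw [one_smul, neg_smul, hk'', add_neg_cancel])).1
        exact one_ne_zero this
      rcases RootPairing.IsReduced.eq_or_eq_neg (P := D.P) k'' k hnli with h1 | h1
      · rw [hk''] at h1
        refine smul_left_injective ℤ (D.P.ne_zero k) ?_
        show ((m : ℤ) * n) • D.P.root k = (1 : ℤ) • D.P.root k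
        rw [one_smul, h1]
      · rw [hk''] at h1
        have h2 : (m : ℤ) * n = -1 := by
          refine smul_left_injective ℤ (D.P.ne_zero k) ?_
          show ((m : ℤ) * n) • D.P.root k = (-1 : ℤ) • D.P.root k
          rw [neg_one_smul, h1]
        have : (0 : ℤ) < (m : ℤ) * n := mul_pos (by exact_mod_cast hm) (by exact_mod_cast hn)
        omega
    have hn1 : n = 1 := by
      have : m * n = 1 := by exact_mod_cast hmn
      exact Nat.eq_one_of_mul_eq_one_left this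
    exact ⟨k', by rw [hk', hn1, Nat.cast_one, one_smul]⟩
  have hroot' : ∀ k', ∃ k : D.idx, D'.P.root k' = e (D.P.root k) := fun k' => by
    obtain ⟨k, n, hn, hk⟩ := exists_root_divides D' D ξ v g⁻¹ e' (Function.LeftInverse.injective hee') ψ heψ'
      (fun f z => by rw [inv_inv]; exact hψ f z) k'
    obtain ⟨k'', hk''⟩ := hroot k
    rw [hk, map_zsmul, hee'] at hk''
    have hn1 : n = 1 := by
      have hnli : ¬ LinearIndependent ℤ ![D'.P.root k'', D'.P.root k'] := fun hli => by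
        have := (LinearIndependent.pair_iff.1 hli 1 (-(n : ℤ)) (by
          rw [one_smul, neg_smul, hk'', add_neg_cancel])).1
        exact one_ne_zero this
      rcases RootPairing.IsReduced.eq_or_eq_neg (P := D'.P) k'' k' hnli with h1 | h1
      · rw [hk''] at h1
        have h2 : (n : ℤ) = 1 := by
          refine smul_left_injective ℤ (D'.P.ne_zero k') ?_
          show (n : ℤ) • D'.P.root k' = (1 : ℤ) • D'.P.root k'
          rw [one_smul, h1]
        omega
      · rw [hk''] at h1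
        have h2 : (n : ℤ) = -1 := by
          refine smul_left_injective ℤ (D'.P.ne_zero k') ?_
          show (n : ℤ) • D'.P.root k' = (-1 : ℤ) • D'.P.root k'
          rw [neg_one_smul, h1]
        omega
    rw [hn1, Nat.cast_one, one_smul] at hk
    exact ⟨k, by rw [hk, hee']⟩
  choose σ₀ hσ₀ using hroot
  have hbij : Function.Bijective σ₀ := ⟨fun k j hkj => D.P.root.injective
      (Function.LeftInverse.injective hee ((hσ₀ k).symm.trans ((congrArg D'.P.root hkj).trans (hσ₀ j)))),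
    fun k' => by
      obtain ⟨k, hk⟩ := hroot' k'
      exact ⟨k, D'.P.root.injective ((hσ₀ k).trans hk.symm)⟩⟩
  let σ := Equiv.ofBijective σ₀ hbij
  obtain ⟨nr, hnr⟩ := exists_nr D'
  obtain ⟨σs⟩ := exists_sides D'.P
  obtain ⟨b', -⟩ := exists_base_of_sides D' σs
  -- the coroots correspond
  have hco : ∀ k, (coF D k).comp e' = coF D' (σ k) := fun k => by
    obtain ⟨n, hn⟩ := D.refl k
    let g₀ : aP ξ K ⟶ G := (ptG ξ v).symm g
    have hg₀ : ptG ξ v g₀ = g := (ptG ξ v).apply_symm_apply g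
    let x : aP ξ K ⟶ G := g₀ * (toUnit _ ≫ n) * g₀⁻¹
    have hconj : ∀ t : aP ξ K ⟶ D'.T, ∃ t₁ : aP ξ K ⟶ D.T, g₀⁻¹ * (t ≫ D'.i) * g₀ = t₁ ≫ D.i := fun t => by
      obtain ⟨t₁, ht₁⟩ := h' _ ⟨t, rfl⟩
      refine ⟨t₁, (ptG ξ v).injective ?_⟩
      rw [map_mul, map_mul, map_inv, hg₀]
      exact ht₁.symm
    have hxn : PtNorm ξ D' x := fun t => by
      obtain ⟨t₁, ht₁⟩ := hconj t
      obtain ⟨t₂, ht₂⟩ := h _ ⟨tRefl k t₁, rfl⟩
      refine ⟨t₂, (ptG ξ v).injective ?_⟩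
      have h1 : x * (t ≫ D'.i) * x⁻¹ = g₀ * (tRefl k t₁ ≫ D.i) * g₀⁻¹ := by
        rw [← IsRefl.conj_torus (show IsRefl D k n from hn), ← ht₁]
        simp only [x]
        group
      rw [h1, map_mul, map_mul, map_inv, hg₀]
      exact ht₂.symm
    obtain ⟨l, τ, hl⟩ := exists_word_of_ptNorm ξ hnr b' hxn
    have hact : ∀ m, wordLin D' l m = e (D.P.reflection k (e' m)) := fun m =>
      sub_eq_zero.1 ((Module.forall_dual_apply_eq_zero_iff ℤ _).1 fun f => by
        rw [map_sub, sub_eq_zero]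
        refine eq_of_zpow (K := K) fun z => ?_
        have e1 : torusHom D' ξ v (tWord l (tc D' ξ f z)) =
            torusHom D' ξ v (tc D' ξ (ψ ((ψ' f).comp (D.P.reflection k).toLinearMap)) z) := by
          have e2 : tRefl k (tc D ξ (ψ' f) z) = tc D ξ ((ψ' f).comp (D.P.reflection k).toLinearMap) z :=
            eq_tc D ξ fun m => by rw [ch_tRefl, ch_tc]; rfl
          rw [← hψ, ← e2]
          show ptG ξ v (tWord l (tc D' ξ f z) ≫ D'.i) = g * ptG ξ v (tRefl k (tc D ξ (ψ' f) z) ≫ D.i) * g⁻¹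
          rw [← hg₀, ← map_inv, ← map_mul, ← map_mul]
          congr 1
          haveI := isMonHom_i D'
          rw [← conj_torus_word_eq hnr l, ← IsRefl.conj_torus (show IsRefl D k n from hn),
            show tc D ξ (ψ' f) z ≫ D.i = g₀⁻¹ * (tc D' ξ f z ≫ D'.i) * g₀ from (ptG ξ v).injective (by
              rw [map_mul, map_mul, map_inv, hg₀]; exact (hψ' f z).symm)]
          calc nX nr _ l * (tc D' ξ f z ≫ D'.i) * (nX nr _ l)⁻¹
              = nX nr _ l * ((τ ≫ D'.i) * (tc D' ξ f z ≫ D'.i) * (τ ≫ D'.i)⁻¹) * (nX nr _ l)⁻¹ := by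
                rw [← GrpObj.inv_comp, ← MonObj.mul_comp, ← MonObj.mul_comp, torus_comm D' τ, mul_inv_cancel_right]
            _ = x * (tc D' ξ f z ≫ D'.i) * x⁻¹ := by rw [hl]; group
            _ = _ := by simp only [x]; group
        have e3 := congrArg (fun t => ch D' ξ t (Multiplicative.ofAdd m)) (torusHom_injective D' ξ v e1)
        simp only [ch_tWord, ch_tc] at e3
        rw [e3, ← heψ', LinearMap.comp_apply, ← heψ]
        rfl)
    set f := (coF D k).comp e' with hf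
    have hpre : ∀ m, Module.preReflection (D'.P.root (σ k)) f m = wordLin D' l m := fun m => by
      rw [hact, Module.preReflection_apply, reflection_eq, map_sub, map_zsmul, hee']
      show m - f m • D'.P.root (σ₀ k) = _
      rw [hσ₀]
      rfl
    have hf2 : f (D'.P.root (σ k)) = 2 := by
      show coF D k (e' (D'.P.root (σ₀ k))) = 2
      rw [hσ₀, hee, coF_root]
    have hmaps : Set.MapsTo (Module.preReflection (D'.P.root (σ k)) f) (Set.range D'.P.root) (Set.range D'.P.root) := by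
      rintro _ ⟨j, rfl⟩
      rw [hpre, wordLin_root]
      exact ⟨_, rfl⟩
    have hmaps' : Set.MapsTo (Module.preReflection (D'.P.root (σ k)) (coF D' (σ k))) (Set.range D'.P.root)
        (Set.range D'.P.root) := by
      rintro _ ⟨j, rfl⟩
      exact ⟨D'.P.reflectionPerm (σ k) j, by
        rw [RootPairing.root_reflectionPerm, reflection_eq, Module.preReflection_apply]⟩
    have heq := Module.Dual.eq_of_preReflection_mapsTo' (Set.finite_range D'.P.root)
      (Submodule.subset_span ⟨σ k, rfl⟩) hf2 hmaps (coF_root (D := D') (σ k)) hmaps'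
    have hperm : RedSub.wordPerm D'.P l = RedSub.wordPerm D'.P [σ k] := by
      refine Equiv.symm_bijective.injective (Equiv.ext fun j => D'.P.root.injective ?_)
      rw [← wordLin_root, ← wordLin_root, ← hpre, wordLin_cons, wordLin_nil, reflection_eq,
        Module.preReflection_apply, show f (D'.P.root j) = coF D' (σ k) (D'.P.root j) from
          LinearMap.congr_fun heq ⟨D'.P.root j, Submodule.subset_span ⟨j, rfl⟩⟩]
    refine LinearMap.ext fun m => ?_
    have h1 := hpre m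
    rw [wordLin_congr D' hperm, wordLin_cons, wordLin_nil, reflection_eq, Module.preReflection_apply] at h1
    exact smul_left_injective ℤ (D'.P.ne_zero (σ k)) (sub_right_injective h1)
  refine ⟨{
    weightMap := e
    coweightMap := ψ'
    indexEquiv := σ
    weight_coweight_transpose := LinearMap.ext fun f => LinearMap.ext fun m => ?_
    root_weightMap := funext fun k => (hσ₀ k).symm
    coroot_coweightMap := funext fun k' => ?_
    bijective_weightMap := Function.bijective_iff_has_inverse.2 ⟨e', hee, hee'⟩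
    bijective_coweightMap := Function.bijective_iff_has_inverse.2 ⟨ψ, hinv', hinv⟩ }⟩
  · show D'.P.flip.toPerfPair f (e m) = D.P.flip.toPerfPair (ψ' f) m
    rw [show D'.P.flip.toPerfPair f (e m) = f (e m) by show D'.P.toLinearMap (e m) f = _; rw [D'.pairing_eq]; rfl,
      show D.P.flip.toPerfPair (ψ' f) m = ψ' f m by show D.P.toLinearMap m (ψ' f) = _; rw [D.pairing_eq]; rfl, heψ]
  · obtain ⟨k, rfl⟩ := σ.surjective k'
    show ψ' (coF D' (σ k)) = coF D (σ.symm (σ k))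
    rw [σ.symm_apply_apply, ← hco k]
    exact LinearMap.ext fun m => by rw [← heψ, LinearMap.comp_apply, hee]

omit [IsAlgClosed K] in
/-- The rational points of the torus of a splitting form a maximal torus of every geometric fibre. -/
theorem isMaxTor_Tsub (s : S) {A : Type u} [CommRing A] [HopfAlgebra (AlgebraicClosure (S.residueField s)) A]
    (v : sp (AlgebraicClosure (S.residueField s)) A ≅ Red.bc (Red.geomPt s) G) [IsMonHom v.hom]
    [Algebra.FiniteType (AlgebraicClosure (S.residueField s)) A] [_root_.IsReduced A]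
    [IsAffine (Red.bc (Red.geomPt s) G).left] [Smooth (Red.bc (Red.geomPt s) G).hom] :
    IsMaxTor ⊤ (Tsub D (Red.geomPt s) v) := by
  haveI := isMonHom_i D
  haveI := mono_i D
  haveI := Groth.Agent.DiagRep.isMonHom_bc_map (Red.geomPt s) D.i
  haveI := mono_bc (Red.geomPt s) D.i
  rw [← ptsSub_i]
  exact isMaxTor_ptsSub v ⟨inferInstance, inferInstance, Groth.Agent.RedRank.isTorus_bc D.maximalTorus.2.2.1 _,
    fun T' _ j _ _ f hT' hf => D.maximalTorus.2.2.2 s T' j f hT' hf⟩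

/-- Splittings over a base with tori conjugate by a section have isomorphic root data. -/
theorem nonempty_equiv_of_section (s : S) (g : 𝟙_ (Over S) ⟶ G)
    (hg : ∀ t : aP (Red.geomPt s) (AlgebraicClosure (S.residueField s)) ⟶ D.T,
      ∃ t' : aP (Red.geomPt s) (AlgebraicClosure (S.residueField s)) ⟶ D'.T,
        (toUnit _ ≫ g) * (t ≫ D.i) * (toUnit _ ≫ g)⁻¹ = t' ≫ D'.i) :
    Nonempty (RootPairing.Equiv D.P D'.P) := by
  haveI : Nonempty S := ⟨s⟩
  obtain ⟨ha, hsm, A, _, _, v, hv, hA, hA', hc, hred, hT⟩ := exists_fibre D s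
  haveI := ha; haveI := hsm; haveI := hv; haveI := hA; haveI := hA'
  let gp := ptG (Red.geomPt s) v (toUnit _ ≫ g)
  have hle : conjSub gp (Tsub D (Red.geomPt s) v) ≤ Tsub D' (Red.geomPt s) v := by
    rintro _ ⟨_, ⟨t, rfl⟩, rfl⟩
    obtain ⟨t', ht'⟩ := hg t
    refine ⟨t', ?_⟩
    show ptG _ v (t' ≫ D'.i) = gp * ptG _ v (t ≫ D.i) * gp⁻¹
    rw [← map_inv, ← map_mul, ← map_mul, ht']
  have hT' := isMaxTor_Tsub D' s v
  have hle' : Tsub D (Red.geomPt s) v ≤ conjSub gp⁻¹ (Tsub D' (Red.geomPt s) v) := fun x hx =>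
    ⟨gp * x * gp⁻¹, hle ⟨x, hx, rfl⟩, by
      show gp⁻¹ * (gp * x * gp⁻¹) * gp⁻¹⁻¹ = x
      group⟩
  have heq := hT.maximal _ le_top (hT'.tor.conjSub gp⁻¹) hle'
  refine nonempty_equiv D D' (Red.geomPt s) v gp (fun x hx => hle ⟨x, hx, rfl⟩) fun x hx => ?_
  rw [← heq]
  exact ⟨x, hx, by show gp⁻¹ * x * gp⁻¹⁻¹ = _; rw [inv_inv]⟩


end Bruhat

end
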