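import Groth.Agent.RootSubgrpLib.Generated
import Groth.Agent.RootSubgrpLib.UnipNorm
import Groth.Agent.S5563

/-!
# Subgroups of points generated by root groups

For a scheme over the base, the subgroup of its points generated by a set of root groups, its conjugates by the torus,
by representatives of reflections and by root elements, and its ordered factorisations when the set is one side.
-/

set_option autoImplicit false
set_option linter.style.haveILetI false
set_option linter.unusedSectionVars false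
set_option backward.isDefEq.respectTransparency false
set_option maxHeartbeats 1000000
set_option synthInstance.maxHeartbeats 400000

universe u

open CategoryTheory CategoryTheory.Limits MonoidalCategory CartesianMonoidalCategory AlgebraicGeometry
open Groth.Agent.GaPts
open Groth.Agent
open scoped MonObj

noncomputable section

attribute [-instance] CategoryTheory.Hom.commGroup

namespace Bruhat

open SplitCell SplitFib RootSubgrp

variable {S : Scheme.{u}} {G : Over S} [GrpObj G] (D : Red.SplitRed G) {X : Over S}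

/-- The points generated by a set of root groups. -/
def Ux (R : Set D.idx) (X : Over S) : Subgroup (X ⟶ G) :=
  Subgroup.closure {g | ∃ k ∈ R, ∃ z : X ⟶ Red.Ga S, g = z ≫ D.u k}

variable {D}

theorem u_mem {R : Set D.idx} {k : D.idx} (hk : k ∈ R) (z : X ⟶ Red.Ga S) : z ≫ D.u k ∈ Ux D R X :=
  Subgroup.subset_closure ⟨k, hk, z, rfl⟩

theorem ux_le {R : Set D.idx} {P : Subgroup (X ⟶ G)} (h : ∀ k ∈ R, ∀ z : X ⟶ Red.Ga S, z ≫ D.u k ∈ P) :
    Ux D R X ≤ P :=
  (Subgroup.closure_le _).2 (by rintro _ ⟨k, hk, z, rfl⟩; exact h k hk z)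

theorem ux_mono {R R' : Set D.idx} (h : R ⊆ R') : Ux D R X ≤ Ux D R' X := ux_le fun _ hk z => u_mem (h hk) z

theorem conj_mem {R : Set D.idx} {P : Subgroup (X ⟶ G)} {g : X ⟶ G}
    (hg : ∀ k ∈ R, ∀ z : X ⟶ Red.Ga S, g * (z ≫ D.u k) * g⁻¹ ∈ P) {h : X ⟶ G} (hh : h ∈ Ux D R X) :
    g * h * g⁻¹ ∈ P :=
  ux_le (P := P.comap (MulAut.conj g).toMonoidHom) hg hh

theorem rprod_mem {R : Set D.idx} {l : ℕ} (e : Fin l → D.idx) (he : ∀ i, e i ∈ R)
    (x : X ⟶ RedSub.pow (Red.Ga S) l) : x ≫ rprod D e ∈ Ux D R X := by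
  rw [prodMap_eq]
  refine Subgroup.list_prod_mem _ fun w hw => ?_
  obtain ⟨k, rfl⟩ := List.mem_ofFn.1 hw
  rw [← Category.assoc]
  exact u_mem (he k) _

/-- The torus normalises the root groups. -/
theorem conj_torus_mem {R : Set D.idx} (t : X ⟶ D.T) {g : X ⟶ G} (hg : g ∈ Ux D R X) :
    (t ≫ D.i) * g * (t ≫ D.i)⁻¹ ∈ Ux D R X :=
  conj_mem (fun k hk z => by
    obtain ⟨y, hy, -⟩ := (D.rootHom k).2.2 X t z
    rw [← hy]
    exact u_mem hk y) hg

theorem conj_torus_mem' {R : Set D.idx} (t : X ⟶ D.T) {g : X ⟶ G} (hg : g ∈ Ux D R X) :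
    (t ≫ D.i)⁻¹ * g * (t ≫ D.i) ∈ Ux D R X := by
  haveI := isMonHom_i D
  have h := conj_torus_mem t⁻¹ hg
  rwa [GrpObj.inv_comp, inv_inv] at h

/-- **Every point of a side is a product in any order.** -/
theorem exists_rprod (σ : Sides D.P) {l : ℕ} {e : Fin l → D.idx} (he : RedSub.Enumerates σ.pos e) {g : X ⟶ G}
    (hg : g ∈ Ux D σ.pos X) : ∃ x : X ⟶ RedSub.pow (Red.Ga S) l, g = x ≫ rprod D e := by
  obtain ⟨grp, hhom⟩ := SplitCell.exists_grpObj σ (isSatur_pos D σ he) he.1
    fun k => he.2.subset (Set.mem_range_self k)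
  letI := grp
  haveI := hhom
  let P : Subgroup (X ⟶ G) :=
    { carrier := {g | ∃ x : X ⟶ RedSub.pow (Red.Ga S) l, g = x ≫ rprod D e}
      one_mem' := ⟨1, (MonObj.one_comp _).symm⟩
      mul_mem' := by rintro _ _ ⟨x, rfl⟩ ⟨y, rfl⟩; exact ⟨x * y, (MonObj.mul_comp _ _ _).symm⟩
      inv_mem' := by rintro _ ⟨x, rfl⟩; exact ⟨x⁻¹, (GrpObj.inv_comp _ _).symm⟩ }
  refine ux_le (P := P) (fun k hk z => ?_) hg
  obtain ⟨i, rfl⟩ := he.2.symm.subset hk
  obtain ⟨w, hw⟩ := exists_u_rprod D (e := e) i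
  exact ⟨z ≫ w, by rw [Category.assoc, hw]⟩

/-- **Factorisation of a side along a partition.** -/
theorem exists_split (σ : Sides D.P) {s s' : Set D.idx} (hs : s ∪ s' = σ.pos) (hd : Disjoint s s')
    {l l' : ℕ} {e : Fin l → D.idx} {e' : Fin l' → D.idx} (he : RedSub.Enumerates s e) (he' : RedSub.Enumerates s' e')
    {g : X ⟶ G} (hg : g ∈ Ux D σ.pos X) :
    ∃ (x : X ⟶ RedSub.pow (Red.Ga S) l) (x' : X ⟶ RedSub.pow (Red.Ga S) l'),
      g = (x ≫ rprod D e) * (x' ≫ rprod D e') := by
  obtain ⟨y, hy⟩ := exists_rprod σ (e := Fin.append e e') (hs ▸ enumerates_append he he' hd) hg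
  exact ⟨_, _, hy.trans (rprod_append e e' y)⟩

theorem exists_split_mem (σ : Sides D.P) (p : D.idx → Prop) {g : X ⟶ G} (hg : g ∈ Ux D σ.pos X) :
    ∃ g₁ ∈ Ux D {k | k ∈ σ.pos ∧ p k} X, ∃ g₂ ∈ Ux D {k | k ∈ σ.pos ∧ ¬ p k} X, g = g₁ * g₂ := by
  obtain ⟨l, e, he⟩ := SplitFib.exists_enumerates {k | k ∈ σ.pos ∧ p k}
  obtain ⟨l', e', he'⟩ := SplitFib.exists_enumerates {k | k ∈ σ.pos ∧ ¬ p k}
  obtain ⟨x, x', h⟩ := exists_split σ (s := {k | k ∈ σ.pos ∧ p k}) (s' := {k | k ∈ σ.pos ∧ ¬ p k})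
    (by ext k; simp only [Set.mem_union, Set.mem_setOf_eq]; tauto)
    (Set.disjoint_left.2 fun k h h' => h'.2 h.2) he he' hg
  exact ⟨_, rprod_mem e (fun i => he.2.subset (Set.mem_range_self i)) x, _,
    rprod_mem e' (fun i => he'.2.subset (Set.mem_range_self i)) x', h⟩

/-! ## Representatives of reflections -/

/-- The point acts on the torus as the reflection. -/
def IsRefl (D : Red.SplitRed G) (a : D.idx) (n : 𝟙_ (Over S) ⟶ G) : Prop :=
  ∀ (X : Over S) (t : X ⟶ D.T), (toUnit X ≫ n) * (t ≫ D.i) * (toUnit X ≫ n)⁻¹ =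
    t ≫ D.split.hom.hom.hom ≫ Red.DSmap S (D.P.reflection a).toLinearMap.toAddMonoidHom ≫ D.split.inv.hom.hom ≫ D.i

variable {a : D.idx} {n : 𝟙_ (Over S) ⟶ G}

/-- The torus point moved by a reflection. -/
def tRefl (a : D.idx) (t : X ⟶ D.T) : X ⟶ D.T :=
  t ≫ D.split.hom.hom.hom ≫ Red.DSmap S (D.P.reflection a).toLinearMap.toAddMonoidHom ≫ D.split.inv.hom.hom

theorem IsRefl.conj_torus (hn : IsRefl D a n) (t : X ⟶ D.T) :
    (toUnit X ≫ n) * (t ≫ D.i) * (toUnit X ≫ n)⁻¹ = tRefl a t ≫ D.i := by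
  rw [hn]
  simp only [tRefl, Category.assoc]

theorem chars_tRefl (a : D.idx) (t : X ⟶ D.T) :
    MultSubLib.chars (tRefl a t ≫ D.split.hom.hom.hom) =
      (MultSubLib.chars (t ≫ D.split.hom.hom.hom)).comp (D.P.reflection a).toLinearMap.toAddMonoidHom.toMultiplicative := by
  rw [← Groth.Agent.DSImg.chars_comp_DSmap]
  congr 1
  simp only [tRefl, Category.assoc]
  rw [show D.split.inv.hom.hom ≫ D.split.hom.hom.hom = 𝟙 _ from by
    change (D.split.inv ≫ D.split.hom).hom.hom = _
    rw [D.split.inv_hom_id]; rfl]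
  simp

theorem torus_ext {t t' : X ⟶ D.T}
    (h : MultSubLib.chars (t ≫ D.split.hom.hom.hom) = MultSubLib.chars (t' ≫ D.split.hom.hom.hom)) : t = t' := by
  have e := congrArg (fun q => q ≫ D.split.inv.hom.hom) (MultSubLib.chars_injective h)
  have e0 : D.split.hom.hom.hom ≫ D.split.inv.hom.hom = 𝟙 _ := by
    change (D.split.hom ≫ D.split.inv).hom.hom = _
    rw [D.split.hom_inv_id]; rfl
  simpa [Category.assoc, e0] using e

theorem tRefl_tRefl (a : D.idx) (t : X ⟶ D.T) : tRefl a (tRefl a t) = t := by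
  refine torus_ext ?_
  rw [chars_tRefl, chars_tRefl]
  refine MonoidHom.ext fun m => ?_
  obtain ⟨m, rfl⟩ := Multiplicative.ofAdd.surjective m
  show MultSubLib.chars _ (Multiplicative.ofAdd (D.P.reflection a (D.P.reflection a m))) = _
  rw [D.P.reflection_same]

theorem IsRefl.conj_torus' (hn : IsRefl D a n) (t : X ⟶ D.T) :
    (toUnit X ≫ n)⁻¹ * (t ≫ D.i) * (toUnit X ≫ n) = tRefl a t ≫ D.i := by
  have h := hn.conj_torus (tRefl a t)
  rw [tRefl_tRefl] at h
  rw [← h]
  group

theorem IsRefl.inv (hn : IsRefl D a n) : IsRefl D a n⁻¹ := fun X t => by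
  rw [GrpObj.comp_inv, inv_inv, hn.conj_torus']
  simp only [tRefl, Category.assoc]

theorem reflectionPerm_neg (a : D.idx) : D.P.reflection (D.P.reflectionPerm a a) = D.P.reflection a := by
  ext m
  rw [RootPairing.reflection_apply, RootPairing.reflection_apply, RootPairing.root_reflectionPerm,
    D.P.reflection_apply_self, show D.P.coroot' (D.P.reflectionPerm a a) m = -(D.P.coroot' a m) by
      simp only [RootPairing.coroot', RootPairing.coroot_reflectionPerm, RootPairing.coreflection_apply_self, map_neg,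
        LinearMap.neg_apply]]
  simp

theorem IsRefl.neg (hn : IsRefl D a n) : IsRefl D (D.P.reflectionPerm a a) n := fun X t => by
  rw [hn X t, reflectionPerm_neg]

theorem perm_perm (a k : D.idx) : D.P.reflectionPerm a (D.P.reflectionPerm a k) = k :=
  D.P.reflectionPerm_self a k

variable [Nonempty S]

/-- **A representative of a reflection permutes the root groups.** -/
theorem IsRefl.conj_u (hn : IsRefl D a n) (k : D.idx) (z : X ⟶ Red.Ga S) :
    ∃ z' : X ⟶ Red.Ga S, (toUnit X ≫ n) * (z ≫ D.u k) * (toUnit X ≫ n)⁻¹ = z' ≫ D.u (D.P.reflectionPerm a k) := by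
  obtain ⟨w, hw⟩ := exists_conj_scale a (D.P.reflectionPerm a k) n⁻¹ hn.inv
  rw [perm_perm] at hw
  refine ⟨z ≫ w, ?_⟩
  rw [hw]
  simp only [MonObj.comp_mul, GrpObj.comp_inv, inv_inv, ← Category.assoc,
    Subsingleton.elim (z ≫ w ≫ toUnit _) (toUnit X), Subsingleton.elim ((z ≫ w) ≫ toUnit _) (toUnit X)]
  group

theorem IsRefl.conj_ux (hn : IsRefl D a n) {R R' : Set D.idx} (h : ∀ k ∈ R, D.P.reflectionPerm a k ∈ R')
    {g : X ⟶ G} (hg : g ∈ Ux D R X) : (toUnit X ≫ n) * g * (toUnit X ≫ n)⁻¹ ∈ Ux D R' X :=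
  conj_mem (fun k hk z => by
    obtain ⟨z', hz'⟩ := hn.conj_u k z
    rw [hz']
    exact u_mem (h k hk) z') hg

theorem IsRefl.conj_ux' (hn : IsRefl D a n) {R R' : Set D.idx} (h : ∀ k ∈ R, D.P.reflectionPerm a k ∈ R')
    {g : X ⟶ G} (hg : g ∈ Ux D R X) : (toUnit X ≫ n)⁻¹ * g * (toUnit X ≫ n) ∈ Ux D R' X := by
  have := hn.inv.conj_ux h hg
  rwa [GrpObj.comp_inv, inv_inv] at this

variable (D) in
/-- A root at the wall of a side. -/
def IsWall (σ : Sides D.P) (a : D.idx) : Prop :=
  a ∈ σ.pos ∧ ∀ k ∈ σ.pos, k ≠ a → D.P.reflectionPerm a k ∈ σ.pos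

theorem neg_mem_neg (σ : Sides D.P) {k : D.idx} (hk : k ∈ σ.pos) : D.P.reflectionPerm k k ∈ σ.neg := by
  obtain ⟨f, hp, -⟩ := σ.regular
  refine (σ.total _).resolve_left fun h => ?_
  have h1 := hp _ hk
  have h2 := hp _ h
  rw [root_neg, map_neg] at h2
  omega

theorem neg_mem_pos (σ : Sides D.P) {k : D.idx} (hk : k ∈ σ.neg) : D.P.reflectionPerm k k ∈ σ.pos :=
  neg_mem_neg (flipSides σ) hk

theorem perm_neg (a k : D.idx) : D.P.reflectionPerm a (D.P.reflectionPerm k k) =
    D.P.reflectionPerm (D.P.reflectionPerm a k) (D.P.reflectionPerm a k) :=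
  D.P.root.injective (by
    rw [RootPairing.root_reflectionPerm, root_neg, root_neg, RootPairing.root_reflectionPerm, map_neg])

theorem neg_neg' (k : D.idx) : D.P.reflectionPerm (D.P.reflectionPerm k k) (D.P.reflectionPerm k k) = k :=
  D.P.root.injective (by rw [root_neg, root_neg, neg_neg])

theorem IsWall.flip {σ : Sides D.P} (h : IsWall D σ a) : IsWall D (flipSides σ) (D.P.reflectionPerm a a) := by
  refine ⟨neg_mem_neg σ h.1, fun k hk hne => ?_⟩
  have e : D.P.reflectionPerm (D.P.reflectionPerm a a) k = D.P.reflectionPerm a k := D.P.root.injective (by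
    rw [RootPairing.root_reflectionPerm, RootPairing.root_reflectionPerm, reflectionPerm_neg])
  rw [e]
  have h1 := h.2 _ (neg_mem_pos σ hk) fun e' => hne (by rw [← e', neg_neg'])
  rw [perm_neg] at h1
  have h2 := neg_mem_neg σ h1
  rwa [neg_neg'] at h2

/-- **Root elements of a wall normalise the rest of the side.** -/
theorem IsWall.conj_u {σ : Sides D.P} (h : IsWall D σ a) {β : D.idx} (hβ : β = a ∨ β = D.P.reflectionPerm a a)
    (y : X ⟶ Red.Ga S) {g : X ⟶ G} (hg : g ∈ Ux D {k | k ∈ σ.pos ∧ k ≠ a} X) :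
    (y ≫ D.u β) * g * (y ≫ D.u β)⁻¹ ∈ Ux D {k | k ∈ σ.pos ∧ k ≠ a} X := by
  haveI := SplitFib.isReduced_root D
  obtain ⟨f, hp, hn⟩ := σ.regular
  have hs : ∀ {k}, k ∈ σ.pos → k ≠ a → 0 < f (D.P.reflection a (D.P.root k)) := fun {k} hk hne => by
    have := hp _ (h.2 k hk hne)
    rwa [RootPairing.root_reflectionPerm] at this
  have hadd : ∀ {p q c : D.idx}, p ∈ σ.pos → q ∈ σ.pos → D.P.root p + D.P.root q = D.P.root c → c ∈ σ.pos := by
    intro p q c hp' hq' e
    refine (σ.total c).resolve_right fun hc => ?_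
    have h1 := hp p hp'
    have h2 := hp q hq'
    have h3 := hn c hc
    rw [← e, map_add] at h3
    omega
  have hfa := hp a h.1
  refine conj_mem (fun k hk z => ?_) hg
  refine conj_u_mem D (R := {k | k ∈ σ.pos ∧ k ≠ a}) ?_ hk ?_ ?_ _ (fun j hj x => u_mem hj x) z y
  · intro p q c hp' hq' e
    refine ⟨hadd hp'.1 hq'.1 e, fun hca => ?_⟩
    have h1 := hs hp'.1 hp'.2
    have h2 := hs hq'.1 hq'.2
    have h3 := congrArg (fun m => f (D.P.reflection a m)) e
    simp only [hca, map_add, D.P.reflection_apply_self, map_neg] at h3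
    omega
  · intro p c hp' e
    rcases hβ with rfl | rfl
    · exact ⟨hadd hp'.1 h.1 e, fun hca => D.P.ne_zero p (by rw [hca] at e; simpa using e)⟩
    · rw [root_neg, ← sub_eq_add_neg] at e
      refine ⟨(σ.total c).resolve_right fun hc => ?_, fun hca => ?_⟩
      · have h1 := hs hp'.1 hp'.2
        have h3 := congrArg (fun m => f (D.P.reflection a m)) e
        simp only [map_sub, D.P.reflection_apply_self, map_neg] at h3
        rw [← RootPairing.root_reflectionPerm] at h3
        by_cases hca : D.P.reflectionPerm c c = a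
        · have h4 := congrArg D.P.root hca
          rw [root_neg] at h4
          refine D.P.ne_zero p ?_
          rw [← sub_add_cancel (D.P.root p) (D.P.root a), e, ← h4, add_neg_cancel]
        · have h5 := hp _ (h.2 _ (neg_mem_pos σ hc) hca)
          rw [perm_neg, root_neg, map_neg] at h5
          rw [RootPairing.root_reflectionPerm] at h3 h5
          omega
      · subst hca
        have h4 : D.P.root p = (2 : ℤ) • D.P.root c := by rw [eq_add_of_sub_eq e, two_smul]
        have hd : D.P.root p ≠ -D.P.root c := fun e' => by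
          rw [h4, eq_neg_iff_add_eq_zero, ← add_one_zsmul] at e'
          rcases smul_eq_zero.1 e' with h0 | h0
          · omega
          · exact D.P.ne_zero c h0
        exact one_ne_zero (LinearIndependent.pair_iff.1
          (RootPairing.IsReduced.linearIndependent (P := D.P) hp'.2 hd) 1 (-2)
          (by rw [one_smul, neg_smul, h4, add_neg_cancel])).1
  · intro e
    rcases hβ with rfl | rfl
    · have h1 := neg_mem_neg σ hk.1
      rw [← e] at h1
      exact σ.notMem_neg h.1 h1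
    · have h1 := congrArg D.P.root e
      rw [root_neg, root_neg, neg_inj] at h1
      exact hk.2 (D.P.root.injective h1).symm

/-- A simple root is a wall of its positive side. -/
theorem isWall_of_mem_support (b : D.P.Base) (ha : a ∈ b.support) : IsWall D (sidesOfBase D.P b) a := by
  haveI := SplitFib.isReduced_root D
  have key : ∀ k, k ∈ RedSub.posRoots D.P b → 0 < b.height k := fun k hk =>
    Groth.Agent.S5563.height_pos b hk
  refine ⟨AddSubmonoid.subset_closure ⟨a, ha, rfl⟩, fun k hk hne => ?_⟩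
  have h1 : b.IsPos k := key k hk
  have h2 : b.IsPos (D.P.reflectionPerm a k) := h1.reflectionPerm ha hne
  refine (pos_or_neg D.P b _).resolve_right fun hneg => ?_
  have hc : D.P.reflectionPerm (D.P.reflectionPerm a k) (D.P.reflectionPerm a k) ∈ RedSub.posRoots D.P b := by
    show D.P.root _ ∈ AddSubmonoid.closure _
    rw [root_neg]
    exact hneg
  exact (RootPairing.Base.IsPos.neg_iff_not b _).1 (key _ hc) h2

end Bruhat

end
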