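import Groth.Agent.BruhatLib.Weyl

/-!
# The weights of the unipotent one-parameter subgroups normalised by the torus
-/

set_option autoImplicit false
set_option linter.style.haveILetI false
set_option linter.unusedSectionVars false
set_option backward.isDefEq.respectTransparency false
set_option maxHeartbeats 1000000
set_option synthInstance.maxHeartbeats 400000

universe u

open CategoryTheory CategoryTheory.Limits MonoidalCategory CartesianMonoidalCategory AlgebraicGeometry
open Groth.Agent.GaPts
open Groth.Agent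
open scoped MonObj
open Groth.Agent.BorelLib
open CoactBr (sp)

noncomputable section

attribute [-instance] CategoryTheory.Hom.commGroup

namespace Bruhat

attribute [local instance] pTop pTopTensor

open SplitCell SplitFib RootSubgrp

variable {S : Scheme.{u}} {G : Over S} [GrpObj G] (D : Red.SplitRed G) {K : Type u} [Field K] [IsAlgClosed K]
  (a : Spec (CommRingCat.of K) ⟶ S) {A : Type u} [CommRing A] [HopfAlgebra K A]
  (v : sp K A ≅ Red.bc a G) [IsMonHom v.hom] [Algebra.FiniteType K A] [_root_.IsReduced A]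
  [IsAffine (Red.bc a G).left] [Smooth (Red.bc a G).hom]

omit [_root_.IsReduced A] in
/-- A polynomial scaled by characters is scaled by a multiple of the exponent. -/
theorem exponent_eq {p : Polynomial K} (hp : p ≠ 0) {d j : ℤ}
    (h : ∀ (z : Kˣ) (r : K), p.eval (((z ^ d : Kˣ) : K) * r) = ((z ^ j : Kˣ) : K) * p.eval r) :
    j = p.natDegree * d := by
  haveI : Infinite K := IsAlgClosed.instInfinite
  by_contra hne
  obtain ⟨z, hz⟩ := exists_units_zpow_ne_one K (sub_ne_zero.2 hne)
  have e : p.comp (Polynomial.C ((z ^ d : Kˣ) : K) * Polynomial.X) = Polynomial.C ((z ^ j : Kˣ) : K) * p :=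
    Polynomial.funext fun r => by
      simp only [Polynomial.eval_comp, Polynomial.eval_mul, Polynomial.eval_C, Polynomial.eval_X]
      exact h z r
  have e' := congrArg (fun q => Polynomial.coeff q p.natDegree) e
  simp only [Polynomial.comp_C_mul_X_coeff, Polynomial.coeff_C_mul, Polynomial.coeff_natDegree] at e'
  rw [_root_.mul_comm] at e'
  have e'' := mul_right_cancel₀ (Polynomial.leadingCoeff_ne_zero.2 hp) e'
  rw [← Units.val_pow_eq_pow_val, Units.val_inj, ← zpow_natCast, ← zpow_mul] at e''
  exact hz (by rw [zpow_sub, ← e'', _root_.mul_comm d, mul_inv_cancel])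

/-- **The weight of a one-parameter unipotent subgroup divides a root.** -/
theorem exists_root_of_weight (P : aP a (Polynomial K) ⟶ G) (χ : D.M) (hχ : χ ≠ 0)
    (hP0 : fam a v P (linePt 0) = 1) (hinj : Function.Injective fun r : K => fam a v P (linePt r))
    (heq : ∀ (f : D.M →ₗ[ℤ] ℤ) (z : Kˣ) (r : K), torusHom D a v (tc D a f z) * fam a v P (linePt r) *
      (torusHom D a v (tc D a f z))⁻¹ = fam a v P (linePt (((z ^ f χ : Kˣ) : K) * r))) :
    ∃ (k : D.idx) (n : ℕ), 0 < n ∧ D.P.root k = (n : ℤ) • χ := by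
  classical
  obtain ⟨f₀, hf₀⟩ : ∃ f : D.M →ₗ[ℤ] ℤ, f χ ≠ 0 := by
    by_contra h
    push Not at h
    exact hχ ((Module.forall_dual_apply_eq_zero_iff ℤ χ).1 h)
  obtain ⟨b⟩ := exists_sides D.P
  obtain ⟨l, m, eneg, epos, hneg, hpos⟩ := exists_enum D b
  have hline : ∀ x : Pt K (Polynomial K), x = linePt (lineCoord x) := fun x =>
    WithConv.ext (Polynomial.algHom_ext (by simp [linePt, lineCoord]))
  have hscale : ∀ (f : D.M →ₗ[ℤ] ℤ) (z : Kˣ) (r : K), fam a v P (linePt r) ∈ cellPts D a v eneg epos →
      fam a v P (linePt (((z ^ f χ : Kˣ) : K) * r)) ∈ cellPts D a v eneg epos := by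
    rintro f z r ⟨y, t, c, hr⟩
    refine ⟨fun k => (ch D a (tc D a f z) (Multiplicative.ofAdd (D.P.root (eneg k))) : K) * y k, t,
      fun k => (ch D a (tc D a f z) (Multiplicative.ofAdd (D.P.root (epos k))) : K) * c k, ?_⟩
    rw [← conj_uPe, ← conj_uPe, ← heq, hr]
    have hcomm : torusHom D a v (tc D a f z) * torusHom D a v t = torusHom D a v t * torusHom D a v (tc D a f z) := by
      rw [← map_mul, ← map_mul]
      congr 1
      exact ch_injective D a (by rw [ch_mul, ch_mul]; exact _root_.mul_comm (ch D a (tc D a f z)) (ch D a t))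
    calc torusHom D a v (tc D a f z) * (uPe D a v eneg y * (torusHom D a v t * uPe D a v epos c)) *
          (torusHom D a v (tc D a f z))⁻¹
        = torusHom D a v (tc D a f z) * uPe D a v eneg y * (torusHom D a v (tc D a f z))⁻¹ *
          ((torusHom D a v (tc D a f z) * torusHom D a v t) * uPe D a v epos c *
            (torusHom D a v (tc D a f z))⁻¹) := by group
      _ = _ := by rw [hcomm]; group
  have hall : ∀ x, fam a v P x ∈ cellPts D a v eneg epos := by
    let Y := (fam a v P ⁻¹' cellPts D a v eneg epos)ᶜ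
    have hY : IsClosed Y :=
      ((isOpen_cellPts D a v b hneg hpos).preimage (isMor_fam a v P).continuous).isClosed_compl
    have h0 : linePt (0 : K) ∉ Y := fun h => h (by
      show fam a v P (linePt 0) ∈ cellPts D a v eneg epos
      rw [hP0]; exact one_mem_cellPts D a v)
    obtain ⟨z₀, hz₀⟩ : ∃ z : Kˣ, fam a v P (linePt (z : K)) ∈ cellPts D a v eneg epos := by
      by_contra h
      push Not at h
      exact h0 (mem_of_units hY h _)
    intro x
    rw [hline x]
    by_cases hx : lineCoord x = 0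
    · rw [hx, hP0]; exact one_mem_cellPts D a v
    obtain ⟨z, hz⟩ := exists_units_pow_eq (Units.mk0 _ hx * z₀⁻¹) (n := (f₀ χ).natAbs) (by omega)
    obtain ⟨z', hz'⟩ : ∃ z' : Kˣ, z' ^ f₀ χ = Units.mk0 _ hx * z₀⁻¹ := by
      rcases Int.natAbs_eq (f₀ χ) with e | e
      · exact ⟨z, by rw [e, zpow_natCast, hz]⟩
      · exact ⟨z⁻¹, by rw [e, inv_zpow', neg_neg, zpow_natCast, hz]⟩
    have := hscale f₀ z' _ hz₀
    rwa [← Units.val_mul, hz', inv_mul_cancel_right, Units.val_mk0] at this
  obtain ⟨y, τ, c, hc⟩ := exists_coords D a v b hneg hpos P hall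
  have hev : ∀ (r : K) (p : Polynomial K), (linePt r : Pt K (Polynomial K)).ofConv p = p.eval r := fun r p => by
    simp [linePt, Polynomial.coe_aeval_eq_eval]
  -- the coordinates scale
  have key : ∀ (f : D.M →ₗ[ℤ] ℤ) (z : Kˣ) (r : K),
      (∀ k, (y k).eval (((z ^ f χ : Kˣ) : K) * r) = ((z ^ f (D.P.root (eneg k)) : Kˣ) : K) * (y k).eval r) ∧
      (∀ k, (c k).eval (((z ^ f χ : Kˣ) : K) * r) = ((z ^ f (D.P.root (epos k)) : Kˣ) : K) * (c k).eval r) := by
    intro f z r
    have h := heq f z r
    rw [hc, hc] at h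
    have hcomm : ∀ t, torusHom D a v (tc D a f z) * torusHom D a v t =
        torusHom D a v t * torusHom D a v (tc D a f z) := fun t => by
      rw [← map_mul, ← map_mul]
      congr 1
      exact ch_injective D a (by rw [ch_mul, ch_mul]; exact _root_.mul_comm (ch D a (tc D a f z)) (ch D a t))
    have e := cellPts_inj D a v b hneg hpos (t := aM a (linePt r : Pt K (Polynomial K)).ofConv ≫ τ) (y := fun k => (ch D a (tc D a f z)
        (Multiplicative.ofAdd (D.P.root (eneg k))) : K) * (linePt r : Pt K (Polynomial K)).ofConv (y k))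
      (c := fun k => (ch D a (tc D a f z)
        (Multiplicative.ofAdd (D.P.root (epos k))) : K) * (linePt r : Pt K (Polynomial K)).ofConv (c k))
      (Eq.trans (by
        rw [← conj_uPe, ← conj_uPe]
        have hh := hcomm (aM a (linePt r : Pt K (Polynomial K)).ofConv ≫ τ)
        generalize torusHom D a v (aM a (linePt r : Pt K (Polynomial K)).ofConv ≫ τ) = M at hh ⊢
        generalize torusHom D a v (tc D a f z) = T at hh ⊢
        generalize (uPe D a v eneg fun k => (linePt r : Pt K (Polynomial K)).ofConv (y k)) = E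
        generalize (uPe D a v epos fun k => (linePt r : Pt K (Polynomial K)).ofConv (c k)) = C
        calc T * E * T⁻¹ * (M * (T * C * T⁻¹)) = T * E * T⁻¹ * ((M * T) * C * T⁻¹) := by group
          _ = T * E * T⁻¹ * ((T * M) * C * T⁻¹) := by rw [hh]
          _ = T * (E * (M * C)) * T⁻¹ := by group) h)
    refine ⟨fun k => ?_, fun k => ?_⟩
    · have := congrFun e.1 k
      rw [hev, hev] at this
      rw [← this, tc, ch_cochT]
    · have := congrFun e.2.2 k
      rw [hev, hev] at this
      rw [← this, tc, ch_cochT]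
  -- some coordinate is not zero
  obtain ⟨k, p, hp, hk⟩ : ∃ (k : D.idx) (p : Polynomial K), p ≠ 0 ∧ ∀ (f : D.M →ₗ[ℤ] ℤ) (z : Kˣ) (r : K),
      p.eval (((z ^ f χ : Kˣ) : K) * r) = ((z ^ f (D.P.root k) : Kˣ) : K) * p.eval r := by
    by_cases hy : ∃ k, y k ≠ 0
    · obtain ⟨k, hk⟩ := hy
      exact ⟨_, _, hk, fun f z r => (key f z r).1 k⟩
    by_cases hc' : ∃ k, c k ≠ 0
    · obtain ⟨k, hk⟩ := hc'
      exact ⟨_, _, hk, fun f z r => (key f z r).2 k⟩
    exfalso
    push Not at hy hc'
    have htor : ∀ r : K, ∃ t, fam a v P (linePt r) = torusHom D a v t := fun r =>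
      ⟨aM a (linePt r : Pt K (Polynomial K)).ofConv ≫ τ, by
      rw [hc, show (fun k => (linePt r : Pt K (Polynomial K)).ofConv (y k)) = 0 from funext fun k => by simp [hy k],
        show (fun k => (linePt r : Pt K (Polynomial K)).ofConv (c k)) = 0 from funext fun k => by simp [hc' k],
        uPe_zero, uPe_zero, _root_.one_mul, _root_.mul_one]⟩
    obtain ⟨z, hz⟩ := exists_units_zpow_ne_one K hf₀
    obtain ⟨t, ht⟩ := htor 1
    have h := heq f₀ z 1
    rw [ht, ← map_mul, ← map_inv, ← map_mul,
      show tc D a f₀ z * t * (tc D a f₀ z)⁻¹ = t by rw [torus_comm D (tc D a f₀ z) t, mul_inv_cancel_right], ← ht,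
      _root_.mul_one] at h
    exact hz (Units.ext (hinj h).symm)
  have hn : ∀ f : D.M →ₗ[ℤ] ℤ, f (D.P.root k) = p.natDegree * f χ := fun f => exponent_eq hp (hk f)
  have e : D.P.root k = (p.natDegree : ℤ) • χ := sub_eq_zero.1
    ((Module.forall_dual_apply_eq_zero_iff ℤ _).1 fun f => by rw [map_sub, map_zsmul, hn, smul_eq_mul, sub_self])
  refine ⟨k, p.natDegree, Nat.pos_of_ne_zero fun h => D.P.ne_zero k ?_, e⟩
  rw [e, h, Nat.cast_zero, zero_smul]

end Bruhat

end
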