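import Groth.Agent.BruhatLib.WordSign

/-!
# The presentation of the Weyl group by words in simple reflections
-/

set_option autoImplicit false
set_option linter.style.haveILetI false
set_option linter.unusedSectionVars false
set_option backward.isDefEq.respectTransparency false
set_option maxHeartbeats 1000000
set_option synthInstance.maxHeartbeats 400000

universe u

open CategoryTheory CategoryTheory.Limits MonoidalCategory CartesianMonoidalCategory AlgebraicGeometry
open Groth.Agent
open scoped MonObj

noncomputable section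

attribute [-instance] CategoryTheory.Hom.commGroup

namespace Bruhat

open SplitCell SplitFib RootSubgrp

variable {S : Scheme.{u}} {G : Over S} [GrpObj G] [Nonempty S] {D : Red.SplitRed G} {b : D.P.Base}

/-- The word alternating between two letters. -/
def alt (a c : D.idx) : ℕ → List D.idx
  | 0 => []
  | n + 1 => a :: c :: alt a c n

omit [Nonempty S] in
theorem alt_add (a c : D.idx) : ∀ m n, alt (D := D) a c (m + n) = alt a c m ++ alt a c n
  | 0, n => by simp [alt]
  | m + 1, n => by rw [Nat.succ_add]; simp [alt, alt_add a c m n]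

omit [Nonempty S] in
theorem inS_alt {a c : D.idx} (ha : a ∈ b.support) (hc : c ∈ b.support) : ∀ n, InS D b (alt a c n)
  | 0 => fun x hx => by simp [alt] at hx
  | n + 1 => fun x hx => by
    simp only [alt, List.mem_cons] at hx
    rcases hx with rfl | rfl | hx
    exacts [ha, hc, inS_alt ha hc n x hx]

omit [Nonempty S] in
theorem perm_alt (a c : D.idx) : ∀ n, RedSub.wordPerm D.P (alt a c n) = (D.P.reflectionPerm a * D.P.reflectionPerm c) ^ n
  | 0 => by simp [alt, RedSub.wordPerm]
  | n + 1 => by rw [alt, wordPerm_cons, wordPerm_cons, perm_alt a c n, pow_succ', _root_.mul_assoc]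

/-- The pairings attached to an order. -/
def OrderCases (D : Red.SplitRed G) (a c : D.idx) (m : ℕ) : Prop :=
  m = 2 ∧ D.P.pairing a c = 0 ∧ D.P.pairing c a = 0 ∨
    m = 3 ∧ D.P.pairing a c = -1 ∧ D.P.pairing c a = -1 ∨
    m = 4 ∧ D.P.pairing a c = -1 ∧ D.P.pairing c a = -2 ∨ m = 4 ∧ D.P.pairing a c = -2 ∧ D.P.pairing c a = -1 ∨
    m = 6 ∧ D.P.pairing a c = -1 ∧ D.P.pairing c a = -3 ∨ m = 6 ∧ D.P.pairing a c = -3 ∧ D.P.pairing c a = -1

variable (D b) in
/-- A congruence of words refining the equality of permutations and containing the dihedral relations. -/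
structure WRel (R : List D.idx → List D.idx → Prop) : Prop where
  perm : ∀ {l l'}, R l l' → RedSub.wordPerm D.P l = RedSub.wordPerm D.P l'
  refl : ∀ l, R l l
  symm : ∀ {l l'}, InS D b l → InS D b l' → R l l' → R l' l
  trans : ∀ {l l' l''}, R l l' → R l' l'' → R l l''
  app_right : ∀ {l l'} r, R l l' → R (l ++ r) (l' ++ r)
  app_left : ∀ {l l'} u, InS D b u → R l l' → R (u ++ l) (u ++ l')
  sq : ∀ {d}, d ∈ b.support → R [d, d] []
  dihedral : ∀ {a c}, a ∈ b.support → c ∈ b.support → a ≠ c → ∀ m : ℕ, OrderCases D a c m → R (alt a c m) []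

section Orders

omit [Nonempty S] in
/-- The action of a simple reflection on a translate of a vector. -/
theorem reflection_shift (a c : D.idx) (v : D.M) (x y : ℤ) :
    D.P.reflection a (v + x • D.P.root a + y • D.P.root c) =
      v + (x - (D.P.coroot' a v + 2 * x + y * D.P.pairing c a)) • D.P.root a + y • D.P.root c := by
  rw [RootPairing.reflection_apply, map_add, map_add, map_zsmul, map_zsmul, coroot'_root D, coroot'_root D,
    D.P.pairing_same, smul_eq_mul, smul_eq_mul]
  module

omit [Nonempty S] in
theorem OrderCases.symm {a c : D.idx} {m : ℕ} (h : OrderCases D a c m) : OrderCases D c a m := by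
  unfold OrderCases at h ⊢
  omega

omit [Nonempty S] in
theorem iterate_reflection {a c : D.idx} {m : ℕ} (h : OrderCases D a c m) (w : D.M) :
    (fun v => D.P.reflection a (D.P.reflection c v))^[m] w = w := by
  set F : D.M → D.M := fun v => D.P.reflection a (D.P.reflection c v)
  have hF : ∀ v x y, F (v + x • D.P.root a + y • D.P.root c) =
      v + (x - (D.P.coroot' a v + 2 * x + (y - (D.P.coroot' c v + 2 * y + x * D.P.pairing a c)) * D.P.pairing c a))
        • D.P.root a + (y - (D.P.coroot' c v + 2 * y + x * D.P.pairing a c)) • D.P.root c := by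
    intro v x y
    show D.P.reflection a (D.P.reflection c _) = _
    rw [add_right_comm, reflection_shift c a, add_right_comm, reflection_shift a c]
  conv_lhs => rw [show w = w + (0 : ℤ) • D.P.root a + (0 : ℤ) • D.P.root c by module]
  rcases h with ⟨rfl, e1, e2⟩ | ⟨rfl, e1, e2⟩ | ⟨rfl, e1, e2⟩ | ⟨rfl, e1, e2⟩ | ⟨rfl, e1, e2⟩ | ⟨rfl, e1, e2⟩ <;>
    · simp only [Function.iterate_succ_apply', Function.iterate_zero_apply, hF, e1, e2]
      ring_nf
      module

omit [Nonempty S] in
theorem root_pow_perm (a c : D.idx) (n : ℕ) (k : D.idx) :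
    D.P.root (((D.P.reflectionPerm a * D.P.reflectionPerm c) ^ n) k) =
      ((D.P.reflection a * D.P.reflection c) ^ n) (D.P.root k) := by
  induction n generalizing k with
  | zero => rfl
  | succ n ih =>
    rw [pow_succ', pow_succ', Equiv.Perm.mul_apply, Equiv.Perm.mul_apply, LinearEquiv.mul_apply,
      LinearEquiv.mul_apply, RootPairing.root_reflectionPerm, RootPairing.root_reflectionPerm, ih]

omit [Nonempty S] in
theorem pow_lin_eq_one {a c : D.idx} {m : ℕ} (h : OrderCases D a c m) :
    (D.P.reflection a * D.P.reflection c) ^ m = 1 := by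
  refine LinearEquiv.ext fun w => ?_
  have e : ∀ (n : ℕ) w, ((D.P.reflection a * D.P.reflection c) ^ n) w =
      (fun v => D.P.reflection a (D.P.reflection c v))^[n] w := by
    intro n
    induction n with
    | zero => intro w; rfl
    | succ n ih =>
      intro w
      rw [pow_succ', LinearEquiv.mul_apply, LinearEquiv.mul_apply, Function.iterate_succ_apply', ih]
  rw [e, iterate_reflection h]
  rfl

omit [Nonempty S] in
/-- The order of the product of two simple reflections. -/
theorem pow_perm_eq_one {a c : D.idx} {m : ℕ} (h : OrderCases D a c m) :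
    (D.P.reflectionPerm a * D.P.reflectionPerm c) ^ m = 1 :=
  Equiv.ext fun k => D.P.root.injective (by rw [root_pow_perm, pow_lin_eq_one h]; rfl)

end Orders

section Rules

variable {R : List D.idx → List D.idx → Prop} (hR : WRel D b R)
include hR

theorem WRel.cancel_right {l l' : List D.idx} {c : D.idx} (hl : InS D b l) (hl' : InS D b l') (hc : c ∈ b.support)
    (h : R (l ++ [c]) (l' ++ [c])) : R l l' := by
  have e : ∀ l, InS D b l → R ((l ++ [c]) ++ [c]) l := fun l hl => by
    simpa [List.append_assoc] using hR.app_left l hl (hR.sq hc)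
  have hin : InS D b ((l ++ [c]) ++ [c]) := fun x hx => by
    simp only [List.mem_append, List.mem_cons, List.not_mem_nil, or_false] at hx
    rcases hx with (hx | rfl) | rfl
    exacts [hl x hx, hc, hc]
  exact hR.trans (hR.symm hin hl (e l hl)) (hR.trans (hR.app_right [c] h) (e l' hl'))

/-- The relation between the alternating words of lengths equal to the order. -/
theorem WRel.flip_word {u w : List D.idx} (hu : InS D b u) (hw : InS D b w) (h : R (u ++ w.reverse) []) :
    R u w := by
  induction w using List.reverseRecOn generalizing u with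
  | nil => simpa using h
  | append_singleton w c ih =>
    have hc : c ∈ b.support := hw c (by simp)
    have hw' : InS D b w := fun x hx => hw x (by simp [hx])
    have huc : InS D b (u ++ [c]) := fun x hx => by
      simp only [List.mem_append, List.mem_cons, List.not_mem_nil, or_false] at hx
      rcases hx with hx | rfl
      exacts [hu x hx, hc]
    have e := ih huc hw' (by simpa [List.append_assoc] using h)
    have e1 : R ((u ++ [c]) ++ [c]) u := by simpa [List.append_assoc] using hR.app_left u hu (hR.sq hc)
    have hin : InS D b ((u ++ [c]) ++ [c]) := fun x hx => by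
      simp only [List.mem_append, List.mem_cons, List.not_mem_nil, or_false] at hx
      rcases hx with (hx | hx) | rfl
      exacts [hu x hx, hx ▸ hc, hc]
    exact hR.trans (hR.symm hin hu e1) (hR.app_right [c] e)

/-- The relation holds for all words of the same permutation below the length. -/
def RuleBelow (_hR : WRel D b R) (n : ℕ) : Prop :=
  ∀ l : List D.idx, l.length < n → InS D b l → ∀ a ∈ b.support, ∀ a₀ ∈ b.support,
    RedSub.wordPerm D.P l a = a₀ → R (a₀ :: l) (l ++ [a])

/-- **The exchange property.** -/
theorem WRel.exchange {n : ℕ} (hP : RuleBelow hR n) : ∀ (l : List D.idx), l.length ≤ n → InS D b l →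
    ∀ c ∈ b.support, RedSub.wordPerm D.P l c ∈ (sidesOfBase D.P b).neg →
      ∃ l', l'.length + 1 ≤ l.length ∧ InS D b l' ∧ R l (l' ++ [c]) := by
  intro l
  induction l with
  | nil => exact fun _ _ c hc h => absurd h (not_pos_and_neg (simple_mem_pos hc))
  | cons d rest ih =>
    intro hlen hin c hc h
    have hin' : InS D b rest := fun x hx => hin x (List.mem_cons_of_mem _ hx)
    have hd : d ∈ b.support := hin d List.mem_cons_self
    simp only [List.length_cons] at hlen ⊢
    by_cases hr : RedSub.wordPerm D.P rest c ∈ (sidesOfBase D.P b).neg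
    · obtain ⟨l', hl', hins, he⟩ := ih (by omega) hin' c hc hr
      refine ⟨d :: l', by simp only [List.length_cons]; omega, fun x hx => ?_, ?_⟩
      · rcases List.mem_cons.1 hx with rfl | hx
        · exact hd
        · exact hins x hx
      · exact hR.app_left [d] (fun x hx => List.mem_singleton.1 hx ▸ hd) he
    · have hpos := ((sidesOfBase D.P b).total _).resolve_right hr
      rw [wordPerm_cons, Equiv.Perm.mul_apply] at h
      exact ⟨rest, le_rfl, hin', hP rest (by omega) hin' c hc d hd (eq_of_flip hd hpos h)⟩

/-- One step of the descent in a plane. -/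
theorem WRel.step {n : ℕ} (hP : RuleBelow hR n) {v : List D.idx} (hlen : v.length ≤ n) (hin : InS D b v)
    {x y r a₀ : D.idx} (hy : y ∈ b.support) (ha₀ : a₀ ∈ b.support) {i j : ℤ} (hr : IsComb D x y r i j)
    (hi : 1 ≤ i) (hj : 1 ≤ j) (hvr : RedSub.wordPerm D.P v r = a₀)
    (hx : RedSub.wordPerm D.P v x ∈ (sidesOfBase D.P b).pos) :
    ∃ v', v'.length + 1 ≤ v.length ∧ InS D b v' ∧ R v (v' ++ [y]) ∧
      RedSub.wordPerm D.P v' y ∈ (sidesOfBase D.P b).pos ∧
      RedSub.wordPerm D.P v' (D.P.reflectionPerm y r) = a₀ := by
  have hneg := neg_of_comb hr hi hj (hvr ▸ ha₀) hx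
  obtain ⟨v', hl, hin', he⟩ := hR.exchange hP v hlen hin y hy hneg
  have hk : ∀ k, RedSub.wordPerm D.P v k = RedSub.wordPerm D.P v' (D.P.reflectionPerm y k) := fun k => by
    rw [hR.perm he]; simp [RedSub.wordPerm]
  refine ⟨v', hl, hin', he, ?_, by rw [← hk, hvr]⟩
  have e : RedSub.wordPerm D.P v (D.P.reflectionPerm y y) = RedSub.wordPerm D.P v' y := by rw [hk, perm_perm]
  rw [← e, wordPerm_neg]
  exact neg_mem_pos (sidesOfBase D.P b) hneg

/-- Combine a descent with the rule of the plane. -/
theorem WRel.finish {n : ℕ} (hP : RuleBelow hR n) {l v L : List D.idx} (he : R l (v ++ L)) (hl : InS D b l)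
    (hlen : v.length < n) (hin : InS D b v) (hinL : InS D b L) {a a' a₀ : D.idx} (ha : a ∈ b.support)
    (ha' : a' ∈ b.support) (ha₀ : a₀ ∈ b.support) (hv : RedSub.wordPerm D.P v a' = a₀)
    (hL : R (a' :: L) (L ++ [a])) : R (a₀ :: l) (l ++ [a]) := by
  have hvL : InS D b (v ++ L) := fun x hx => (List.mem_append.1 hx).elim (hin x) (hinL x)
  have e1 : R (a₀ :: l) ([a₀] ++ (v ++ L)) := hR.app_left [a₀] (fun x hx => List.mem_singleton.1 hx ▸ ha₀) he
  have e2 : R (([a₀] ++ v) ++ L) ((v ++ [a']) ++ L) := hR.app_right L (hP v hlen hin a' ha' a₀ ha₀ hv)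
  have e3 : R (v ++ (a' :: L)) (v ++ (L ++ [a])) := hR.app_left v hin hL
  have e4 : R ((v ++ L) ++ [a]) (l ++ [a]) := hR.app_right [a] (hR.symm hl hvL he)
  rw [← List.append_assoc] at e1 e3
  simp only [List.append_assoc, List.cons_append, List.nil_append] at e1 e2 e3 e4 ⊢
  exact hR.trans e1 (hR.trans e2 (hR.trans e3 e4))

/-- The rule of a plane from the dihedral relation. -/
theorem WRel.rule {a c : D.idx} (ha : a ∈ b.support) (hc : c ∈ b.support) (hne : a ≠ c) {m : ℕ}
    (h : OrderCases D a c m) {a' : D.idx} {L : List D.idx} (ha' : a' ∈ b.support) (hL : InS D b L)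
    (heq : a' :: L ++ (L ++ [a]).reverse = alt a c m ∨ a' :: L ++ (L ++ [a]).reverse = alt c a m) :
    R (a' :: L) (L ++ [a]) := by
  have hu : InS D b (a' :: L) := fun x hx => (List.mem_cons.1 hx).elim (fun e => e ▸ ha') (hL x)
  have hw : InS D b (L ++ [a]) := fun x hx =>
    (List.mem_append.1 hx).elim (hL x) (fun e => List.mem_singleton.1 e ▸ ha)
  refine hR.flip_word hu hw ?_
  rcases heq with e | e <;> rw [e]
  · exact hR.dihedral ha hc hne m h
  · exact hR.dihedral hc ha (Ne.symm hne) m h.symm

omit hR in
theorem inS_snoc {l : List D.idx} {c : D.idx} (hl : InS D b l) (hc : c ∈ b.support) : InS D b (l ++ [c]) :=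
  fun x hx => (List.mem_append.1 hx).elim (hl x) (fun e => List.mem_singleton.1 e ▸ hc)

theorem WRel.ruleBelow : ∀ n : ℕ, RuleBelow hR n := by
  intro n
  induction n with
  | zero => exact fun l hl => absurd hl (Nat.not_lt_zero _)
  | succ n hP =>
    intro l hl hin a ha a₀ ha₀ hla
    rcases List.eq_nil_or_concat l with rfl | ⟨l₁, c, rfl⟩
    · have e : a = a₀ := by simpa [RedSub.wordPerm] using hla
      subst e
      exact hR.refl _
    rw [List.concat_eq_append] at hl hin hla ⊢
    rw [List.length_append, List.length_singleton] at hl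
    have hc : c ∈ b.support := hin c (List.mem_append_right _ List.mem_cons_self)
    have hin₁ : InS D b l₁ := fun x hx => hin x (List.mem_append_left _ hx)
    have hlast : ∀ k, RedSub.wordPerm D.P (l₁ ++ [c]) k = RedSub.wordPerm D.P l₁ (D.P.reflectionPerm c k) :=
      fun k => by simp [RedSub.wordPerm]
    by_cases hcase : RedSub.wordPerm D.P l₁ c ∈ (sidesOfBase D.P b).neg
    · obtain ⟨l₂, hl₂, hin₂, he⟩ := hR.exchange hP l₁ (by omega) hin₁ c hc hcase
      have he' : R (l₁ ++ [c]) l₂ := by
        refine hR.trans (hR.app_right [c] he) ?_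
        simpa [List.append_assoc] using hR.app_left l₂ hin₂ (hR.sq hc)
      have e := hP l₂ (by omega) hin₂ a ha a₀ ha₀ (by rw [← hla, hR.perm he'])
      refine hR.trans (hR.app_left [a₀] (fun x hx => List.mem_singleton.1 hx ▸ ha₀) he') (hR.trans e ?_)
      exact hR.app_right [a] (hR.symm (inS_snoc hin₁ hc) hin₂ he')
    · have hpos := ((sidesOfBase D.P b).total _).resolve_right hcase
      rw [hlast] at hla
      have hne : a ≠ c := by
        rintro rfl
        rw [wordPerm_neg] at hla
        exact not_pos_and_neg (hla ▸ simple_mem_pos ha₀) (neg_mem_neg (sidesOfBase D.P b) hpos)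
      have hsp : SimplePair D b a c := ⟨ha, hc, hne⟩
      have hl₁ : InS D b (l₁ ++ [c]) := inS_snoc hin₁ hc
      have iS : ∀ {L : List D.idx}, (∀ x ∈ L, x = a ∨ x = c) → InS D b L := fun h x hx =>
        (h x hx).elim (fun e => e ▸ ha) (fun e => e ▸ hc)
      have swap : ∀ {d : D.idx} {i j : ℤ}, IsComb D a c d i j → IsComb D c a d j i := fun {d i j} e => by
        rw [IsComb] at e ⊢; rw [e]; module
      rcases pairing_cases ha hc hne with ⟨h1, h2⟩ | ⟨h1, h2⟩ | ⟨h1, h2⟩ | ⟨h1, h2⟩ | ⟨h1, h2⟩ | ⟨h1, h2⟩
      · have e : D.P.reflectionPerm c a = a := D.P.root.injective (by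
          rw [RootPairing.root_reflectionPerm, reflection_root, h1, zero_smul, sub_zero])
        rw [e] at hla
        exact hR.finish hP (hR.refl _) hl₁ (by omega) hin₁ (iS (by simp)) ha ha ha₀ hla
          (hR.rule ha hc hne (m := 2) (Or.inl ⟨rfl, h1, h2⟩) ha (iS (by simp)) (Or.inl rfl))
      · -- A₂
        have hr : IsComb D c a (D.P.reflectionPerm c a) 1 1 := by
          rw [IsComb, RootPairing.root_reflectionPerm, reflection_root, h1]; module
        obtain ⟨v, hlv, hinv, hev, hpv, hv⟩ := hR.step hP (v := l₁) (by omega) hin₁ ha ha₀ hr le_rfl le_rfl hla hpos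
        have e : D.P.reflectionPerm a (D.P.reflectionPerm c a) = c := by
          refine D.P.root.injective ?_
          rw [RootPairing.root_reflectionPerm, RootPairing.root_reflectionPerm, reflection_root, map_sub, map_zsmul,
            D.P.reflection_apply_self, reflection_root, h1, h2]
          module
        rw [e] at hv
        refine hR.finish hP (hR.trans (hR.app_right [c] hev) ?_) hl₁ (L := [a, c]) (by omega) hinv (iS (by simp))
          ha hc ha₀ hv (hR.rule ha hc hne (m := 3) (by unfold OrderCases; omega) hc (iS (by simp)) (Or.inr rfl))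
        rw [List.append_assoc]; exact hR.refl _
      · -- B₂, short
        have hab : IsComb D a c (D.P.reflectionPerm c a) 1 1 := by
          simpa using hsp.refl_B2_right h1 h2 (isComb_left (D := D) (p := a) (q := c))
        obtain ⟨v, hlv, hinv, hev, hpv, hv⟩ := hR.step hP (v := l₁) (by omega) hin₁ ha ha₀ (swap hab) le_rfl le_rfl
          hla hpos
        have e : D.P.reflectionPerm a (D.P.reflectionPerm c a) = D.P.reflectionPerm c a := by
          refine D.P.root.injective ?_
          rw [hsp.refl_B2_left h1 h2 hab, hab]; norm_num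
        rw [e] at hv
        obtain ⟨v', hlv', hinv', hev', -, hv'⟩ := hR.step hP (v := v) (by omega) hinv hc ha₀
          (x := a) (y := c) hab le_rfl le_rfl hv hpv
        rw [perm_perm] at hv'
        refine hR.finish hP (hR.trans (hR.app_right [c] hev) ?_) hl₁ (L := [c, a, c]) (by omega) hinv' (iS (by simp))
          ha ha ha₀ hv' (hR.rule ha hc hne (m := 4) (by unfold OrderCases; omega) ha (iS (by simp)) (Or.inl rfl))
        simpa [List.append_assoc] using hR.app_right [a, c] hev'
      · -- B₂, long
        have hsp' : SimplePair D b c a := hsp.symm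
        have haab : IsComb D c a (D.P.reflectionPerm c a) 2 1 := by
          simpa using hsp'.refl_B2_left h2 h1 (isComb_right (D := D) (p := c) (q := a))
        obtain ⟨v, hlv, hinv, hev, hpv, hv⟩ := hR.step hP (v := l₁) (by omega) hin₁ ha ha₀
          (x := c) (y := a) haab (by norm_num) le_rfl hla hpos
        have e : D.P.reflectionPerm a (D.P.reflectionPerm c a) = D.P.reflectionPerm c a := by
          refine D.P.root.injective ?_
          rw [hsp'.refl_B2_right h2 h1 haab, haab]; norm_num
        rw [e] at hv
        have hr' : IsComb D a c (D.P.reflectionPerm c a) 1 2 := by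
          rw [IsComb] at haab ⊢; rw [haab]; module
        obtain ⟨v', hlv', hinv', hev', -, hv'⟩ := hR.step hP (v := v) (by omega) hinv hc ha₀ hr' le_rfl (by norm_num) hv hpv
        rw [perm_perm] at hv'
        refine hR.finish hP (hR.trans (hR.app_right [c] hev) ?_) hl₁ (L := [c, a, c]) (by omega) hinv' (iS (by simp))
          ha ha ha₀ hv' (hR.rule ha hc hne (m := 4) (by unfold OrderCases; omega) ha (iS (by simp)) (Or.inl rfl))
        simpa [List.append_assoc] using hR.app_right [a, c] hev'
      · -- G₂, short
        have c11 : IsComb D a c (D.P.reflectionPerm c a) 1 1 := by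
          simpa using hsp.refl_G2_right h1 h2 (isComb_left (D := D) (p := a) (q := c))
        have c21 : IsComb D a c (D.P.reflectionPerm a (D.P.reflectionPerm c a)) 2 1 := by
          simpa using hsp.refl_G2_left h1 h2 c11
        obtain ⟨v1, hl1, hin1, he1, hp1, hv1⟩ := hR.step hP (v := l₁) (by omega) hin₁ ha ha₀
          (swap c11) le_rfl le_rfl hla hpos
        obtain ⟨v2, hl2, hin2, he2, hp2, hv2⟩ := hR.step hP (v := v1) (by omega) hin1 hc ha₀
          (x := a) (y := c) c21 (by norm_num) le_rfl hv1 hp1
        have e : D.P.reflectionPerm c (D.P.reflectionPerm a (D.P.reflectionPerm c a)) =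
            D.P.reflectionPerm a (D.P.reflectionPerm c a) := by
          refine D.P.root.injective ?_
          rw [hsp.refl_G2_right h1 h2 c21, c21]; norm_num
        rw [e] at hv2
        obtain ⟨v3, hl3, hin3, he3, hp3, hv3⟩ := hR.step hP (v := v2) (by omega) hin2 ha ha₀
          (swap c21) le_rfl (by norm_num) hv2 hp2
        rw [perm_perm] at hv3
        obtain ⟨v4, hl4, hin4, he4, -, hv4⟩ := hR.step hP (v := v3) (by omega) hin3 hc ha₀
          (x := a) (y := c) c11 le_rfl le_rfl hv3 hp3
        rw [perm_perm] at hv4
        refine hR.finish hP (hR.trans (hR.app_right [c] (hR.trans he1 (hR.app_right [a] (hR.trans he2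
            (hR.app_right [c] (hR.trans he3 (hR.app_right [a] he4))))))) ?_) hl₁ (L := [c, a, c, a, c]) (by omega)
          hin4 (iS (by simp)) ha ha ha₀ hv4 (hR.rule ha hc hne (m := 6) (by unfold OrderCases; omega) ha (iS (by simp)) (Or.inl rfl))
        simp only [List.append_assoc, List.cons_append, List.nil_append]; exact hR.refl _
      · -- G₂, long
        have hsp' : SimplePair D b c a := hsp.symm
        have c31 : IsComb D c a (D.P.reflectionPerm c a) 3 1 := by
          simpa using hsp'.refl_G2_left h2 h1 (isComb_right (D := D) (p := c) (q := a))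
        have c32 : IsComb D c a (D.P.reflectionPerm a (D.P.reflectionPerm c a)) 3 2 := by
          simpa using hsp'.refl_G2_right h2 h1 c31
        have swap' : ∀ {d : D.idx} {i j : ℤ}, IsComb D c a d i j → IsComb D a c d j i := fun {d i j} e => by
          rw [IsComb] at e ⊢; rw [e]; module
        obtain ⟨v1, hl1, hin1, he1, hp1, hv1⟩ := hR.step hP (v := l₁) (by omega) hin₁ ha ha₀
          (x := c) (y := a) c31 (by norm_num) le_rfl hla hpos
        obtain ⟨v2, hl2, hin2, he2, hp2, hv2⟩ := hR.step hP (v := v1) (by omega) hin1 hc ha₀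
          (swap' c32) (by norm_num) (by norm_num) hv1 hp1
        have e : D.P.reflectionPerm c (D.P.reflectionPerm a (D.P.reflectionPerm c a)) =
            D.P.reflectionPerm a (D.P.reflectionPerm c a) := by
          refine D.P.root.injective ?_
          rw [hsp'.refl_G2_left h2 h1 c32, c32]; norm_num
        rw [e] at hv2
        obtain ⟨v3, hl3, hin3, he3, hp3, hv3⟩ := hR.step hP (v := v2) (by omega) hin2 ha ha₀
          (x := c) (y := a) c32 (by norm_num) (by norm_num) hv2 hp2
        rw [perm_perm] at hv3
        obtain ⟨v4, hl4, hin4, he4, -, hv4⟩ := hR.step hP (v := v3) (by omega) hin3 hc ha₀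
          (swap' c31) le_rfl (by norm_num) hv3 hp3
        rw [perm_perm] at hv4
        refine hR.finish hP (hR.trans (hR.app_right [c] (hR.trans he1 (hR.app_right [a] (hR.trans he2
            (hR.app_right [c] (hR.trans he3 (hR.app_right [a] he4))))))) ?_) hl₁ (L := [c, a, c, a, c]) (by omega)
          hin4 (iS (by simp)) ha ha ha₀ hv4 (hR.rule ha hc hne (m := 6) (by unfold OrderCases; omega) ha (iS (by simp)) (Or.inl rfl))
        simp only [List.append_assoc, List.cons_append, List.nil_append]; exact hR.refl _

/-- **A word acting trivially is related to the empty word.** -/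
theorem WRel.nil_of_perm : ∀ (n : ℕ) (l : List D.idx), l.length = n → InS D b l →
    RedSub.wordPerm D.P l = 1 → R l [] := by
  intro n
  induction n using Nat.strong_induction_on with
  | _ n ih =>
    intro l hn hin hp
    rcases List.eq_nil_or_concat l with rfl | ⟨l₁, c, rfl⟩
    · exact hR.refl _
    rw [List.concat_eq_append] at hn hin hp ⊢
    rw [List.length_append, List.length_singleton] at hn
    have hc : c ∈ b.support := hin c (List.mem_append_right _ List.mem_cons_self)
    have hin₁ : InS D b l₁ := fun x hx => hin x (List.mem_append_left _ hx)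
    have e : RedSub.wordPerm D.P l₁ c = D.P.reflectionPerm c c := by
      have h1 := congrArg (fun σ : Equiv.Perm D.idx => σ (D.P.reflectionPerm c c)) hp
      simp [RedSub.wordPerm, perm_perm] at h1 ⊢
      exact h1
    obtain ⟨l₂, hl₂, hin₂, he⟩ := hR.exchange (hR.ruleBelow l₁.length) l₁ le_rfl hin₁ c hc
      (e ▸ neg_mem_neg (sidesOfBase D.P b) (simple_mem_pos hc))
    have he' : R (l₁ ++ [c]) l₂ := by
      refine hR.trans (hR.app_right [c] he) ?_
      simpa [List.append_assoc] using hR.app_left l₂ hin₂ (hR.sq hc)
    exact hR.trans he' (ih l₂.length (by omega) l₂ rfl hin₂ (by rw [← hR.perm he', hp]))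

/-- **Words with the same action are related.** -/
theorem WRel.of_perm {l l' : List D.idx} (hl : InS D b l) (hl' : InS D b l')
    (h : RedSub.wordPerm D.P l = RedSub.wordPerm D.P l') : R l l' := by
  have hin : InS D b (l ++ l'.reverse) := fun x hx =>
    (List.mem_append.1 hx).elim (hl x) (fun e => hl' x (List.mem_reverse.1 e))
  have hrev : ∀ w : List D.idx, RedSub.wordPerm D.P (w ++ w.reverse) = 1 := fun w => by
    induction w with
    | nil => simp [RedSub.wordPerm]
    | cons d w ihw =>
      simp only [RedSub.wordPerm, List.map_append, List.prod_append, List.map_reverse, List.map_cons, List.prod_cons,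
        List.reverse_cons, List.map_nil, List.prod_nil, _root_.mul_one] at ihw ⊢
      rw [← _root_.mul_assoc, _root_.mul_assoc (D.P.reflectionPerm d), ihw, _root_.mul_one]
      exact Equiv.ext fun k => perm_perm d k
  refine hR.flip_word hl hl' (hR.nil_of_perm _ _ rfl hin ?_)
  have := hrev l'
  simp only [RedSub.wordPerm, List.map_append, List.prod_append] at this h ⊢
  rw [h, this]

end Rules

end Bruhat

end
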