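import Groth.Agent.BruhatLib.B2
import Groth.Agent.BruhatLib.G2
import Groth.Agent.BruhatLib.Words
import Groth.Agent.BruhatLib.Weyl
import Groth.Agent.BruhatLib.Cover
import Groth.Agent.BigCellLib.Extend

/-!
# Words in the pinned Weyl elements move simple root groups up to a sign
-/

set_option autoImplicit false
set_option linter.style.haveILetI false
set_option linter.unusedSectionVars false
set_option backward.isDefEq.respectTransparency false
set_option maxHeartbeats 1000000
set_option synthInstance.maxHeartbeats 400000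

universe u

open CategoryTheory CategoryTheory.Limits MonoidalCategory CartesianMonoidalCategory AlgebraicGeometry
open Groth.Agent.GaPts
open Groth.Agent
open Groth.Agent.RankOne (eq_ptOf eq_ptOfUnit comp_ptOf ptOf_add)
open scoped MonObj

noncomputable section

attribute [-instance] CategoryTheory.Hom.commGroup

namespace Bruhat

open SplitCell SplitFib RootSubgrp

variable {S : Scheme.{u}} {G : Over S} [GrpObj G] (D : Red.SplitRed G)

/-- A section of the torus with all character values plus or minus one. -/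
def IsSgn (z : 𝟙_ (Over S) ⟶ G) : Prop :=
  ∃ t : 𝟙_ (Over S) ⟶ D.T, z = t ≫ D.i ∧ ∀ m : D.M,
    MultSubLib.chars (t ≫ D.split.hom.hom.hom) (Multiplicative.ofAdd m) = 1 ∨
      MultSubLib.chars (t ≫ D.split.hom.hom.hom) (Multiplicative.ofAdd m) = -1

/-- The section of a word. -/
abbrev pr (nr : D.idx → (𝟙_ (Over S) ⟶ G)) (l : List D.idx) : 𝟙_ (Over S) ⟶ G := (l.map nr).prod

/-- The letters of the word are simple. -/
def InS (b : D.P.Base) (l : List D.idx) : Prop := ∀ c ∈ l, c ∈ b.support

/-- A pinned family of representatives of the reflections. -/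
structure PinFam (b : D.P.Base) (av : D.idx → (Red.Gm S ⟶ D.T)) (nr : D.idx → (𝟙_ (Over S) ⟶ G)) : Prop where
  refl : ∀ a, IsRefl D a (nr a)
  pin : ∀ a ∈ b.support, Pin D a (av a) (nr a)

/-- Words with the same permutation and the same section up to signs. -/
def Eqv (nr : D.idx → (𝟙_ (Over S) ⟶ G)) (l l' : List D.idx) : Prop :=
  RedSub.wordPerm D.P l = RedSub.wordPerm D.P l' ∧ ∃ z, IsSgn D z ∧ pr D nr l = z * pr D nr l'

variable {D} [Nonempty S] {b : D.P.Base} {av : D.idx → (Red.Gm S ⟶ D.T)} {nr : D.idx → (𝟙_ (Over S) ⟶ G)}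

section Sgn

omit [Nonempty S] in
theorem isSgn_one : IsSgn D (1 : 𝟙_ (Over S) ⟶ G) := by
  haveI := isMonHom_i D
  haveI : IsMonHom D.split.hom.hom.hom := D.split.hom.hom.isMonHom_hom
  exact ⟨1, (MonObj.one_comp _).symm, fun m => Or.inl (by rw [MonObj.one_comp, MultSubLib.chars_one]; rfl)⟩

omit [Nonempty S] in
theorem IsSgn.mul {z z' : 𝟙_ (Over S) ⟶ G} (h : IsSgn D z) (h' : IsSgn D z') : IsSgn D (z * z') := by
  haveI := isMonHom_i D
  haveI : IsMonHom D.split.hom.hom.hom := D.split.hom.hom.isMonHom_hom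
  obtain ⟨t, rfl, ht⟩ := h
  obtain ⟨t', rfl, ht'⟩ := h'
  refine ⟨t * t', (MonObj.mul_comp _ _ _).symm, fun m => ?_⟩
  rw [MonObj.mul_comp, MultSubLib.chars_mul, MonoidHom.mul_apply]
  rcases ht m with e | e <;> rcases ht' m with e' | e' <;> rw [e, e'] <;> norm_num

theorem IsSgn.moves {z : 𝟙_ (Over S) ⟶ G} (h : IsSgn D z) (k : D.idx) :
    ∃ ε : ℤ, (ε = 1 ∨ ε = -1) ∧ Moves D z k k ε := by
  obtain ⟨t, rfl, ht⟩ := h
  have hval : ∀ (X : Over S), Red.gmFn ((toUnit X ≫ t) ≫ D.split.hom.hom.hom ≫ Red.chi S (D.P.root k)) =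
      (toUnit X).left.appTop (MultSubLib.chars (t ≫ D.split.hom.hom.hom) (Multiplicative.ofAdd (D.P.root k))) := by
    intro X
    rw [← Category.assoc, gmFn_chi, Category.assoc, MultSubLib.chars_comp]
    rfl
  rcases ht (D.P.root k) with e | e
  · refine ⟨1, Or.inl rfl, fun X x => ?_⟩
    obtain ⟨y, hy, he⟩ := (D.rootHom k).2.2 X (toUnit X ≫ t) x
    rw [hval, e, map_one, _root_.one_mul] at he
    rw [zpow_one, ← Category.assoc, ← hy, gaFn_injective he]
  · refine ⟨-1, Or.inr rfl, fun X x => ?_⟩
    obtain ⟨y, hy, he⟩ := (D.rootHom k).2.2 X (toUnit X ≫ t) x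
    rw [hval, e, map_neg, map_one, neg_one_mul] at he
    rw [zpow_neg_one, ← Category.assoc, ← hy, ep_of k y, he, ep_neg, ← ep_of]

theorem IsRefl.conj_sgn {a : D.idx} {n : 𝟙_ (Over S) ⟶ G} (hn : IsRefl D a n) {z : 𝟙_ (Over S) ⟶ G}
    (h : IsSgn D z) : IsSgn D (n * z * n⁻¹) := by
  obtain ⟨t, rfl, ht⟩ := h
  refine ⟨tRefl a t, ?_, fun m => ?_⟩
  · have e := hn.conj_torus t
    rwa [toUnit_unit, Category.id_comp] at e
  · rw [chars_tRefl]
    exact ht (D.P.reflection a m)

theorem Pin.isSgn_sq {a : D.idx} {va : Red.Gm S ⟶ D.T} {w : 𝟙_ (Over S) ⟶ G} (h : Pin D a va w) :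
    IsSgn D (w * w) := by
  refine ⟨_, h.sq_eq, fun m => ?_⟩
  rw [← gmFn_chi, Category.assoc, gmFn_avc h.hav, GmPts.unitOfPt_ptOfUnit]
  rcases Int.even_or_odd (coF D a m) with hp | hp
  · exact Or.inl (by rw [hp.neg_one_zpow, Units.val_one])
  · exact Or.inr (by rw [hp.neg_one_zpow, Units.val_neg, Units.val_one])

variable (hf : PinFam D b av nr)
include hf

theorem PinFam.conj_sgn (l : List D.idx) {z : 𝟙_ (Over S) ⟶ G} (h : IsSgn D z) :
    IsSgn D (pr D nr l * z * (pr D nr l)⁻¹) := by
  induction l with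
  | nil => simpa [pr] using h
  | cons a l ih =>
    have e := (hf.refl a).conj_sgn ih
    rw [show nr a * (pr D nr l * z * (pr D nr l)⁻¹) * (nr a)⁻¹ =
      pr D nr (a :: l) * z * (pr D nr (a :: l))⁻¹ by simp only [pr, List.map_cons, List.prod_cons]; group] at e
    exact e

theorem PinFam.perms (l : List D.idx) : Perms D (pr D nr l) (RedSub.wordPerm D.P l) := by
  induction l with
  | nil => exact ⟨fun X t => ⟨t, by simp [pr]⟩, fun k X z => ⟨z, by simp [pr, RedSub.wordPerm]⟩, fun k => rfl⟩
  | cons a l ih =>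
    rw [wordPerm_cons]
    exact (hf.refl a).perms.mul ih

omit hf in
theorem Eqv.refl (l : List D.idx) : Eqv D nr l l := ⟨rfl, 1, isSgn_one, (_root_.one_mul _).symm⟩

omit hf in
theorem Eqv.trans {l l' l'' : List D.idx} (h : Eqv D nr l l') (h' : Eqv D nr l' l'') : Eqv D nr l l'' := by
  obtain ⟨hp, z, hz, e⟩ := h
  obtain ⟨hp', z', hz', e'⟩ := h'
  exact ⟨hp.trans hp', z * z', hz.mul hz', by rw [e, e', _root_.mul_assoc]⟩

omit hf in
theorem Eqv.append_right {l l' : List D.idx} (h : Eqv D nr l l') (r : List D.idx) :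
    Eqv D nr (l ++ r) (l' ++ r) := by
  obtain ⟨hp, z, hz, e⟩ := h
  refine ⟨?_, z, hz, ?_⟩
  · simp only [RedSub.wordPerm, List.map_append, List.prod_append] at hp ⊢
    rw [hp]
  · simp only [pr, List.map_append, List.prod_append] at e ⊢
    rw [e, _root_.mul_assoc]

theorem Eqv.append_left {l l' : List D.idx} (h : Eqv D nr l l') (u : List D.idx) :
    Eqv D nr (u ++ l) (u ++ l') := by
  obtain ⟨hp, z, hz, e⟩ := h
  refine ⟨?_, pr D nr u * z * (pr D nr u)⁻¹, hf.conj_sgn u hz, ?_⟩
  · simp only [RedSub.wordPerm, List.map_append, List.prod_append] at hp ⊢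
    rw [hp]
  · simp only [pr, List.map_append, List.prod_append] at e ⊢
    rw [e]
    group

theorem PinFam.eqv_sq {d : D.idx} (hd : d ∈ b.support) : Eqv D nr [d, d] [] := by
  refine ⟨?_, nr d * nr d, (hf.pin d hd).isSgn_sq, by simp [pr]⟩
  refine Equiv.ext fun k => ?_
  simp [RedSub.wordPerm, perm_perm]

theorem Eqv.moves {l l' : List D.idx} (h : Eqv D nr l l') {k m : D.idx} {ε : ℤ} (hε : ε = 1 ∨ ε = -1)
    (hm : Moves D (pr D nr l') k m ε) : ∃ ε' : ℤ, (ε' = 1 ∨ ε' = -1) ∧ Moves D (pr D nr l) k m ε' := by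
  obtain ⟨-, z, hz, e⟩ := h
  obtain ⟨δ, hδ, hzm⟩ := hz.moves m
  refine ⟨δ * ε, ?_, e ▸ hm.trans hzm⟩
  rcases hε with rfl | rfl <;> rcases hδ with rfl | rfl <;> norm_num

end Sgn

section Combinatorics

theorem mem_neg_of_not_pos {k : D.idx} (h : k ∉ (sidesOfBase D.P b).pos) : k ∈ (sidesOfBase D.P b).neg :=
  ((sidesOfBase D.P b).total k).resolve_left h

theorem not_pos_and_neg {k : D.idx} (h : k ∈ (sidesOfBase D.P b).pos) : k ∉ (sidesOfBase D.P b).neg := fun h' => by
  obtain ⟨f, hp, hn⟩ := (sidesOfBase D.P b).regular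
  have := hp k h
  have := hn k h'
  omega

theorem simple_mem_pos {a : D.idx} (ha : a ∈ b.support) : a ∈ (sidesOfBase D.P b).pos :=
  (isWall_of_mem_support b ha).1

/-- The only positive root sent to a negative one by a simple reflection is that simple root. -/
theorem eq_of_flip {d k : D.idx} (hd : d ∈ b.support) (hk : k ∈ (sidesOfBase D.P b).pos)
    (h : D.P.reflectionPerm d k ∈ (sidesOfBase D.P b).neg) : k = d := by
  by_contra hne
  exact not_pos_and_neg ((isWall_of_mem_support b hd).2 k hk hne) h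

theorem wordPerm_neg : ∀ (l : List D.idx) (k : D.idx), RedSub.wordPerm D.P l (D.P.reflectionPerm k k) =
    D.P.reflectionPerm (RedSub.wordPerm D.P l k) (RedSub.wordPerm D.P l k) := fun l => by
  induction l with
  | nil => exact fun k => rfl
  | cons a l ih => exact fun k => by rw [wordPerm_cons, Equiv.Perm.mul_apply, Equiv.Perm.mul_apply, ih, perm_neg]

theorem refl_conj (a c : D.idx) :
    D.P.reflectionPerm (D.P.reflectionPerm a c) = D.P.reflectionPerm a * D.P.reflectionPerm c * D.P.reflectionPerm a := by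
  refine Equiv.ext fun k => D.P.root.injective ?_
  rw [RootPairing.root_reflectionPerm, RootPairing.reflection_reflectionPerm, Equiv.Perm.mul_apply,
    Equiv.Perm.mul_apply, RootPairing.root_reflectionPerm, RootPairing.root_reflectionPerm,
    RootPairing.root_reflectionPerm]
  rfl

theorem wordPerm_conj : ∀ (l : List D.idx) (c : D.idx),
    D.P.reflectionPerm (RedSub.wordPerm D.P l c) * RedSub.wordPerm D.P l =
      RedSub.wordPerm D.P l * D.P.reflectionPerm c := fun l => by
  induction l with
  | nil => intro c; simp [RedSub.wordPerm]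
  | cons a l ih =>
    intro c
    rw [wordPerm_cons, Equiv.Perm.mul_apply, refl_conj]
    have hsq : D.P.reflectionPerm a * D.P.reflectionPerm a = 1 := Equiv.ext fun k => perm_perm a k
    calc _ = D.P.reflectionPerm a * D.P.reflectionPerm (RedSub.wordPerm D.P l c) *
          (D.P.reflectionPerm a * D.P.reflectionPerm a) * RedSub.wordPerm D.P l := by
          simp only [_root_.mul_assoc]
      _ = D.P.reflectionPerm a * (D.P.reflectionPerm (RedSub.wordPerm D.P l c) * RedSub.wordPerm D.P l) := by
          rw [hsq, _root_.mul_one, _root_.mul_assoc]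
      _ = _ := by rw [ih, ← _root_.mul_assoc]

/-- A combination of two positive roots with positive coefficients is not simple. -/
theorem neg_of_comb {x y r : D.idx} {i j : ℤ} (hr : IsComb D x y r i j) (hi : 1 ≤ i) (hj : 1 ≤ j) {v : List D.idx}
    (h0 : RedSub.wordPerm D.P v r ∈ b.support) (hx : RedSub.wordPerm D.P v x ∈ (sidesOfBase D.P b).pos) :
    RedSub.wordPerm D.P v y ∈ (sidesOfBase D.P b).neg := by
  refine mem_neg_of_not_pos fun hy => ?_
  have hL : ∀ k, (wordLin D v).symm (D.P.root k) = D.P.root (RedSub.wordPerm D.P v k) := fun k => by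
    rw [LinearEquiv.symm_apply_eq, wordLin_root, Equiv.symm_apply_apply]
  have e : D.P.root (RedSub.wordPerm D.P v r) =
      i • D.P.root (RedSub.wordPerm D.P v x) + j • D.P.root (RedSub.wordPerm D.P v y) := by
    rw [← hL, ← hL, ← hL, hr, map_add, map_zsmul, map_zsmul]
  obtain ⟨f, -, -, hf⟩ := b.exists_root_eq_sum_int (RedSub.wordPerm D.P v x)
  obtain ⟨g, -, -, hg⟩ := b.exists_root_eq_sum_int (RedSub.wordPerm D.P v y)
  have hsum : D.P.root (RedSub.wordPerm D.P v r) = ∑ k ∈ b.support, (i * f k + j * g k) • D.P.root k := by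
    rw [e, hf, hg, Finset.smul_sum, Finset.smul_sum, ← Finset.sum_add_distrib]
    exact Finset.sum_congr rfl fun k _ => by module
  have h1 := RootPairing.Base.height_eq_sum hsum
  rw [RootPairing.Base.height_one_of_mem_support h0, Finset.sum_add_distrib, ← Finset.mul_sum, ← Finset.mul_sum,
    ← RootPairing.Base.height_eq_sum hf, ← RootPairing.Base.height_eq_sum hg] at h1
  have hx' : 0 < b.height (RedSub.wordPerm D.P v x) := Groth.Agent.S5563.height_pos b hx
  have hy' : 0 < b.height (RedSub.wordPerm D.P v y) := Groth.Agent.S5563.height_pos b hy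
  nlinarith

/-- The possible pairings of two simple roots. -/
theorem pairing_cases {a c : D.idx} (ha : a ∈ b.support) (hc : c ∈ b.support) (hne : a ≠ c) :
    (D.P.pairing a c = 0 ∧ D.P.pairing c a = 0) ∨ (D.P.pairing a c = -1 ∧ D.P.pairing c a = -1) ∨
      (D.P.pairing a c = -1 ∧ D.P.pairing c a = -2) ∨ (D.P.pairing a c = -2 ∧ D.P.pairing c a = -1) ∨
      (D.P.pairing a c = -1 ∧ D.P.pairing c a = -3) ∨ (D.P.pairing a c = -3 ∧ D.P.pairing c a = -1) := by
  haveI := SplitFib.isReduced_root D
  have hpi : ∀ i k, D.P.pairingIn ℤ i k = D.P.pairing i k := fun i k => by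
    simpa using D.P.algebraMap_pairingIn ℤ i k
  have hle : D.P.pairingIn ℤ a c ≤ 0 := b.pairingIn_le_zero_of_ne hne ha hc
  have hne1 : D.P.root a ≠ D.P.root c := fun e => hne (D.P.root.injective e)
  have hne2 : D.P.root a ≠ -D.P.root c := fun e => by
    have hli := b.linearIndependent_pair_of_ne (i := ⟨a, ha⟩) (j := ⟨c, hc⟩) (fun e' => hne (congrArg Subtype.val e'))
    exact one_ne_zero (LinearIndependent.pair_iff.1 hli 1 1 (by rw [one_smul, one_smul, e, neg_add_cancel])).1
  have h := D.P.pairingIn_pairingIn_mem_set_of_isCrystal_of_isRed' (i := a) (j := c) hne1 hne2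
  rw [hpi, hpi] at h
  rw [hpi] at hle
  simp only [Set.mem_insert_iff, Set.mem_singleton_iff, Prod.mk.injEq] at h
  omega

theorem not_root_A1 {p q : D.idx} (h : SimplePair D b p q) (hpq : D.P.pairing p q = 0)
    {d : D.idx} {i j : ℤ} (e : IsComb D p q d i j) : i = 0 ∨ j = 0 := by
  have e' := e.refl q isComb_right
  rw [RootPairing.pairing_same, hpq] at e'
  have h1 := h.sign e
  have h2 := h.sign e'
  omega

end Combinatorics

section Main

variable (hf : PinFam D b av nr)
include hf

/-- The statement for words shorter than the bound. -/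
def SignBelow (_hf : PinFam D b av nr) (n : ℕ) : Prop :=
  ∀ l : List D.idx, l.length < n → InS D b l → ∀ a ∈ b.support, ∀ a₀ ∈ b.support,
    RedSub.wordPerm D.P l a = a₀ → ∃ ε : ℤ, (ε = 1 ∨ ε = -1) ∧ Moves D (pr D nr l) a a₀ ε

/-- **The exchange property.** -/
theorem PinFam.exchange {n : ℕ} (hP : SignBelow hf n) : ∀ (l : List D.idx), l.length ≤ n → InS D b l →
    ∀ c ∈ b.support, RedSub.wordPerm D.P l c ∈ (sidesOfBase D.P b).neg →
      ∃ l', l'.length + 1 ≤ l.length ∧ InS D b l' ∧ Eqv D nr l (l' ++ [c]) := by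
  intro l
  induction l with
  | nil => exact fun _ _ c hc h => absurd h (not_pos_and_neg (simple_mem_pos hc))
  | cons d rest ih =>
    intro hlen hin c hc h
    have hin' : InS D b rest := fun x hx => hin x (List.mem_cons_of_mem _ hx)
    have hd : d ∈ b.support := hin d List.mem_cons_self
    simp only [List.length_cons] at hlen ⊢
    by_cases hr : RedSub.wordPerm D.P rest c ∈ (sidesOfBase D.P b).neg
    · obtain ⟨l', hl', hins, he⟩ := ih (by omega) hin' c hc hr
      refine ⟨d :: l', by simp only [List.length_cons]; omega, fun x hx => ?_, ?_⟩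
      · rcases List.mem_cons.1 hx with rfl | hx
        · exact hd
        · exact hins x hx
      · exact Eqv.append_left hf he [d]
    · have hpos := ((sidesOfBase D.P b).total _).resolve_right hr
      rw [wordPerm_cons, Equiv.Perm.mul_apply] at h
      have hcd := eq_of_flip hd hpos h
      obtain ⟨ε, hε, hm⟩ := hP rest (by omega) hin' c hc d hd hcd
      have hw := hm.conj_weyl (hf.pin c hc) (hf.pin d hd) (hf.perms rest) hε hcd
      refine ⟨rest, le_rfl, hin', ?_, ?_⟩
      · rw [wordPerm_cons, ← hcd, wordPerm_conj]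
        simp [RedSub.wordPerm]
      · rw [mul_inv_eq_iff_eq_mul] at hw
        have hp : pr D nr (d :: rest) = nr d * pr D nr rest := by simp [pr]
        have hp' : pr D nr (rest ++ [c]) = pr D nr rest * nr c := by simp [pr]
        rw [hp, hp', hw]
        rcases hε with rfl | rfl
        · exact ⟨1, isSgn_one, by rw [zpow_one, _root_.one_mul]⟩
        · exact ⟨nr d * nr d, (hf.pin d hd).isSgn_sq, by rw [zpow_neg_one]; group⟩

/-- One step of the descent in a plane. -/
theorem PinFam.step {n : ℕ} (hP : SignBelow hf n) {v : List D.idx} (hlen : v.length ≤ n) (hin : InS D b v)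
    {x y r a₀ : D.idx} (hy : y ∈ b.support) (ha₀ : a₀ ∈ b.support) {i j : ℤ} (hr : IsComb D x y r i j)
    (hi : 1 ≤ i) (hj : 1 ≤ j) (hvr : RedSub.wordPerm D.P v r = a₀)
    (hx : RedSub.wordPerm D.P v x ∈ (sidesOfBase D.P b).pos) :
    ∃ v', v'.length + 1 ≤ v.length ∧ InS D b v' ∧ Eqv D nr v (v' ++ [y]) ∧
      RedSub.wordPerm D.P v' y ∈ (sidesOfBase D.P b).pos ∧
      RedSub.wordPerm D.P v' (D.P.reflectionPerm y r) = a₀ := by
  have hneg := neg_of_comb hr hi hj (hvr ▸ ha₀) hx
  obtain ⟨v', hl, hin', he⟩ := hf.exchange hP v hlen hin y hy hneg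
  have hk : ∀ k, RedSub.wordPerm D.P v k = RedSub.wordPerm D.P v' (D.P.reflectionPerm y k) := fun k => by
    rw [he.1]; simp [RedSub.wordPerm]
  refine ⟨v', hl, hin', he, ?_, by rw [← hk, hvr]⟩
  have e : RedSub.wordPerm D.P v (D.P.reflectionPerm y y) = RedSub.wordPerm D.P v' y := by rw [hk, perm_perm]
  rw [← e, wordPerm_neg]
  exact neg_mem_pos (sidesOfBase D.P b) hneg

/-- Combine a descent with the movement of the root group along it. -/
theorem PinFam.finish {n : ℕ} (hP : SignBelow hf n) {l v L : List D.idx} (he : Eqv D nr l (v ++ L))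
    (hlen : v.length < n) (hin : InS D b v) {a a' a₀ : D.idx} (ha' : a' ∈ b.support) (ha₀ : a₀ ∈ b.support)
    (hv : RedSub.wordPerm D.P v a' = a₀) {δ : ℤ} (hδ : δ = 1 ∨ δ = -1) (hL : Moves D (pr D nr L) a a' δ) :
    ∃ ε : ℤ, (ε = 1 ∨ ε = -1) ∧ Moves D (pr D nr l) a a₀ ε := by
  obtain ⟨ε, hε, hm⟩ := hP v hlen hin a' ha' a₀ ha₀ hv
  refine he.moves hf (ε := ε * δ) ?_ ?_
  · rcases hε with rfl | rfl <;> rcases hδ with rfl | rfl <;> norm_num
  · have e := hL.trans hm
    simp only [pr, List.map_append, List.prod_append]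
    exact e

theorem PinFam.signBelow : ∀ n : ℕ, SignBelow hf n := by
  intro n
  induction n with
  | zero => exact fun l hl => absurd hl (Nat.not_lt_zero _)
  | succ n hP =>
    intro l hl hin a ha a₀ ha₀ hla
    rcases List.eq_nil_or_concat l with rfl | ⟨l₁, c, rfl⟩
    · have e : a = a₀ := by simpa [RedSub.wordPerm] using hla
      subst e
      exact ⟨1, Or.inl rfl, by simpa [pr] using Moves.refl (D := D) a⟩
    rw [List.concat_eq_append] at hl hin hla ⊢
    rw [List.length_append, List.length_singleton] at hl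
    have hc : c ∈ b.support := hin c (List.mem_append_right _ List.mem_cons_self)
    have hin₁ : InS D b l₁ := fun x hx => hin x (List.mem_append_left _ hx)
    have hlast : ∀ k, RedSub.wordPerm D.P (l₁ ++ [c]) k = RedSub.wordPerm D.P l₁ (D.P.reflectionPerm c k) :=
      fun k => by simp [RedSub.wordPerm]
    by_cases hcase : RedSub.wordPerm D.P l₁ c ∈ (sidesOfBase D.P b).neg
    · obtain ⟨l₂, hl₂, hin₂, he⟩ := hf.exchange hP l₁ (by omega) hin₁ c hc hcase
      have he' : Eqv D nr (l₁ ++ [c]) l₂ := by
        refine (he.append_right [c]).trans ?_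
        have := Eqv.append_left hf (hf.eqv_sq hc) l₂
        simpa [List.append_assoc] using this
      obtain ⟨ε, hε, hm⟩ := hP l₂ (by omega) hin₂ a ha a₀ ha₀ (by rw [← hla, he'.1])
      exact he'.moves hf hε hm
    · have hpos := ((sidesOfBase D.P b).total _).resolve_right hcase
      rw [hlast] at hla
      have hne : a ≠ c := by
        rintro rfl
        rw [wordPerm_neg] at hla
        exact not_pos_and_neg (hla ▸ simple_mem_pos ha₀) (neg_mem_neg (sidesOfBase D.P b) hpos)
      have A := hf.pin a ha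
      have C := hf.pin c hc
      rcases pairing_cases ha hc hne with ⟨h1, h2⟩ | ⟨h1, h2⟩ | ⟨h1, h2⟩ | ⟨h1, h2⟩ | ⟨h1, h2⟩ | ⟨h1, h2⟩
      · have hsp : SimplePair D b a c := ⟨ha, hc, hne⟩
        have hfix : Moves D (nr c) a a 1 := hsp.moves_fix C isComb_right isComb_left (by omega) (by omega)
          (fun d ed => by have := not_root_A1 hsp h1 ed; omega) (fun d ed => by have := not_root_A1 hsp h1 ed; omega)
        have e : D.P.reflectionPerm c a = a := D.P.root.injective (by
          rw [RootPairing.root_reflectionPerm, reflection_root, h1, zero_smul, sub_zero])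
        rw [e] at hla
        exact hf.finish hP (Eqv.refl _) (by omega) hin₁ ha ha₀ hla (Or.inl rfl) (by simpa [pr] using hfix)
      · -- A₂
        have hsp : SimplePair D b a c := ⟨ha, hc, hne⟩
        have hA : PairA2 D b a c (av a) (av c) (nr a) (nr c) := ⟨ha, hc, hne, h1, h2, A, C⟩
        have hr : IsComb D c a (D.P.reflectionPerm c a) 1 1 := by
          rw [IsComb, hA.root_sum]; module
        obtain ⟨v, hlv, hinv, hev, hpv, hv⟩ := hf.step hP (v := l₁) (by omega) hin₁ ha ha₀ hr le_rfl le_rfl hla hpos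
        have e : D.P.reflectionPerm a (D.P.reflectionPerm c a) = c := by
          rw [← hA.perm_eq, perm_perm]
        rw [e] at hv
        refine hf.finish hP ((hev.append_right [c]).trans ?_) (L := [a, c]) (by omega) hinv hc ha₀ hv (Or.inl rfl) ?_
        · rw [List.append_assoc]; exact Eqv.refl _
        · intro X x
          have := hA.conj_conj x
          simp only [pr, List.map_cons, List.map_nil, List.prod_cons, List.prod_nil, _root_.mul_one, zpow_one]
          rw [← this, MonObj.comp_mul]
          group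
      · -- B₂, short
        have hB : PairB2 D b a c (av a) (av c) (nr a) (nr c) := ⟨⟨ha, hc, hne⟩, h1, h2, A, C⟩
        have hr : IsComb D c a (D.P.reflectionPerm c a) 1 1 := by
          have := hB.comb_ab; rw [IsComb] at this ⊢; rw [this]; module
        obtain ⟨v, hlv, hinv, hev, hpv, hv⟩ := hf.step hP (v := l₁) (by omega) hin₁ ha ha₀ hr le_rfl le_rfl hla hpos
        have e : D.P.reflectionPerm a (D.P.reflectionPerm c a) = D.P.reflectionPerm c a := by
          refine D.P.root.injective ?_
          rw [hB.base.refl_B2_left h1 h2 hB.comb_ab, hB.comb_ab]; norm_num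
        rw [e] at hv
        obtain ⟨v', hlv', hinv', hev', -, hv'⟩ := hf.step hP (v := v) (by omega) hinv hc ha₀
          (x := a) (y := c) hB.comb_ab le_rfl le_rfl hv hpv
        rw [perm_perm] at hv'
        refine hf.finish hP ((hev.append_right [c]).trans ?_) (L := [c, a, c]) (by omega) hinv' ha ha₀ hv' (Or.inl rfl) ?_
        · have := hev'.append_right [a, c]
          simpa [List.append_assoc] using this
        · simpa [pr, _root_.mul_assoc] using hB.moves_short
      · -- B₂, long
        have hB : PairB2 D b c a (av c) (av a) (nr c) (nr a) := ⟨⟨hc, ha, Ne.symm hne⟩, h2, h1, C, A⟩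
        obtain ⟨v, hlv, hinv, hev, hpv, hv⟩ := hf.step hP (v := l₁) (by omega) hin₁ ha ha₀
          (x := c) (y := a) hB.comb_aab (by norm_num) le_rfl hla hpos
        have e : D.P.reflectionPerm a (D.P.reflectionPerm c a) = D.P.reflectionPerm c a := by
          refine D.P.root.injective ?_
          rw [hB.base.refl_B2_right h2 h1 hB.comb_aab, hB.comb_aab]; norm_num
        rw [e] at hv
        have hr' : IsComb D a c (D.P.reflectionPerm c a) 1 2 := by
          have := hB.comb_aab; rw [IsComb] at this ⊢; rw [this]; module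
        obtain ⟨v', hlv', hinv', hev', -, hv'⟩ := hf.step hP (v := v) (by omega) hinv hc ha₀ hr' le_rfl (by norm_num) hv hpv
        rw [perm_perm] at hv'
        refine hf.finish hP ((hev.append_right [c]).trans ?_) (L := [c, a, c]) (by omega) hinv' ha ha₀ hv' (Or.inl rfl) ?_
        · have := hev'.append_right [a, c]
          simpa [List.append_assoc] using this
        · simpa [pr, _root_.mul_assoc] using hB.moves_long
      · -- G₂, short
        have hG : PairG2 D b a c (av a) (av c) (nr a) (nr c) := ⟨⟨ha, hc, hne⟩, h1, h2, A, C⟩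
        have swap : ∀ {d : D.idx} {i j : ℤ}, IsComb D a c d i j → IsComb D c a d j i := fun {d i j} e => by
          rw [IsComb] at e ⊢; rw [e]; module
        obtain ⟨v1, hl1, hin1, he1, hp1, hv1⟩ := hf.step hP (v := l₁) (by omega) hin₁ ha ha₀
          (swap hG.comb11) le_rfl le_rfl hla hpos
        obtain ⟨v2, hl2, hin2, he2, hp2, hv2⟩ := hf.step hP (v := v1) (by omega) hin1 hc ha₀
          (x := a) (y := c) hG.comb21 (by norm_num) le_rfl hv1 hp1
        have e : D.P.reflectionPerm c (D.P.reflectionPerm a (D.P.reflectionPerm c a)) =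
            D.P.reflectionPerm a (D.P.reflectionPerm c a) := by
          refine D.P.root.injective ?_
          rw [hG.base.refl_G2_right h1 h2 hG.comb21, hG.comb21]; norm_num
        rw [e] at hv2
        obtain ⟨v3, hl3, hin3, he3, hp3, hv3⟩ := hf.step hP (v := v2) (by omega) hin2 ha ha₀
          (swap hG.comb21) le_rfl (by norm_num) hv2 hp2
        rw [perm_perm] at hv3
        obtain ⟨v4, hl4, hin4, he4, -, hv4⟩ := hf.step hP (v := v3) (by omega) hin3 hc ha₀
          (x := a) (y := c) hG.comb11 le_rfl le_rfl hv3 hp3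
        rw [perm_perm] at hv4
        refine hf.finish hP (((he1.trans ((he2.trans ((he3.trans ((he4.append_right [a]))).append_right [c])).append_right
          [a])).append_right [c]).trans ?_) (L := [c, a, c, a, c]) (by omega) hin4 ha ha₀ hv4 (Or.inl rfl) ?_
        · simp only [List.append_assoc, List.cons_append, List.nil_append]; exact Eqv.refl _
        · simpa [pr, _root_.mul_assoc] using hG.moves_short
      · -- G₂, long
        have hG : PairG2 D b c a (av c) (av a) (nr c) (nr a) := ⟨⟨hc, ha, Ne.symm hne⟩, h2, h1, C, A⟩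
        have swap : ∀ {d : D.idx} {i j : ℤ}, IsComb D c a d i j → IsComb D a c d j i := fun {d i j} e => by
          rw [IsComb] at e ⊢; rw [e]; module
        obtain ⟨v1, hl1, hin1, he1, hp1, hv1⟩ := hf.step hP (v := l₁) (by omega) hin₁ ha ha₀
          (x := c) (y := a) hG.comb31 (by norm_num) le_rfl hla hpos
        obtain ⟨v2, hl2, hin2, he2, hp2, hv2⟩ := hf.step hP (v := v1) (by omega) hin1 hc ha₀
          (swap hG.comb32) (by norm_num) (by norm_num) hv1 hp1
        have e : D.P.reflectionPerm c (D.P.reflectionPerm a (D.P.reflectionPerm c a)) =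
            D.P.reflectionPerm a (D.P.reflectionPerm c a) := by
          refine D.P.root.injective ?_
          rw [hG.base.refl_G2_left h2 h1 hG.comb32, hG.comb32]; norm_num
        rw [e] at hv2
        obtain ⟨v3, hl3, hin3, he3, hp3, hv3⟩ := hf.step hP (v := v2) (by omega) hin2 ha ha₀
          (x := c) (y := a) hG.comb32 (by norm_num) (by norm_num) hv2 hp2
        rw [perm_perm] at hv3
        obtain ⟨v4, hl4, hin4, he4, -, hv4⟩ := hf.step hP (v := v3) (by omega) hin3 hc ha₀
          (swap hG.comb31) le_rfl (by norm_num) hv3 hp3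
        rw [perm_perm] at hv4
        refine hf.finish hP (((he1.trans ((he2.trans ((he3.trans ((he4.append_right [a]))).append_right [c])).append_right
          [a])).append_right [c]).trans ?_) (L := [c, a, c, a, c]) (by omega) hin4 ha ha₀ hv4 (Or.inl rfl) ?_
        · simp only [List.append_assoc, List.cons_append, List.nil_append]; exact Eqv.refl _
        · simpa [pr, _root_.mul_assoc] using hG.moves_long

/-- **A word carrying a simple root to a simple root moves the root group by a sign.** -/
theorem PinFam.exists_sign {l : List D.idx} (hl : InS D b l) {a a₀ : D.idx} (ha : a ∈ b.support) (ha₀ : a₀ ∈ b.support)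
    (h : RedSub.wordPerm D.P l a = a₀) : ∃ ε : ℤ, (ε = 1 ∨ ε = -1) ∧ Moves D (pr D nr l) a a₀ ε :=
  hf.signBelow _ l (Nat.lt_succ_self _) hl a ha a₀ ha₀ h

end Main

end Bruhat

end
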